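import Groth.Agent.LC.Depth

/-!
# `Ext^n(F, M) = Hom(F, H^n_I(M))` when `Ext^{n-1}` vanishes on torsion modules
-/

universe u

open CategoryTheory Limits

namespace Groth.Agent.LC

variable {R : Type u} [CommRing R] (I : Ideal R)

/-- The map `R/I^m → F` sending `1` to `f`. -/
noncomputable def qLift (m : ℕ) (F : Type u) [AddCommGroup F] [Module R F]
    (hF : ∀ a ∈ I ^ m, ∀ z : F, a • z = 0) : F →ₗ[R] (qObj I m ⟶ ModuleCat.of R F) where
  toFun f := ModuleCat.ofHom ((I ^ m).liftQ (LinearMap.toSpanSingleton R F f) fun a ha => hF a ha f)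
  map_add' a b := by
    refine ModuleCat.hom_ext (Submodule.linearMap_qext _ (LinearMap.ext fun r => ?_))
    exact smul_add r a b
  map_smul' c a := by
    refine ModuleCat.hom_ext (Submodule.linearMap_qext _ (LinearMap.ext fun r => ?_))
    exact smul_comm r c a

theorem qLift_mk (m : ℕ) (F : Type u) [AddCommGroup F] [Module R F]
    (hF : ∀ a ∈ I ^ m, ∀ z : F, a • z = 0) (f : F) (r : R) :
    (qLift I m F hF f).hom (Ideal.Quotient.mk (I ^ m) r) = r • f := rfl

theorem qObj_hom_ext' {m : ℕ} {N : ModuleCat.{u} R} {g h : qObj I m ⟶ N}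
    (w : g.hom (Ideal.Quotient.mk (I ^ m) 1) = h.hom (Ideal.Quotient.mk (I ^ m) 1)) : g = h := by
  refine ModuleCat.hom_ext (Submodule.linearMap_qext _ (LinearMap.ext_ring ?_))
  exact w

theorem qObj_kill (m : ℕ) : ∀ a ∈ I ^ m, ∀ z : qObj I m, a • z = 0 := fun a ha z => by
  rw [← Submodule.mem_bot R, ← smul_qObj_eq_bot I m]
  exact Submodule.smul_mem_smul ha trivial

variable (n : ℕ) (M : ModuleCat.{u} R)

/-- `Ext^{n-1}` of finite torsion modules vanishes. -/
def PrevVanish : Prop :=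
  ∀ (F : Type u) [AddCommGroup F] [Module R F], Module.Finite R F → LocCoh.IsPowerTorsion I F →
    ∀ i : ℕ, i + 1 = n → Subsingleton (Abelian.Ext (ModuleCat.of R F) M i)

variable {I n M}

theorem precomp_injective (hM : PrevVanish I n M) {S : ShortComplex (ModuleCat.{u} R)} (hS : S.ShortExact)
    [Module.Finite R S.X₁] (h1 : LocCoh.IsPowerTorsion I S.X₁) (x : Abelian.Ext S.X₃ M n)
    (hx : (Abelian.Ext.mk₀ S.g).comp x (zero_add n) = 0) : x = 0 := by
  rcases n with _ | k
  · obtain ⟨f, rfl⟩ := Abelian.Ext.addEquiv₀.symm.surjective x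
    change (Abelian.Ext.mk₀ S.g).comp (Abelian.Ext.mk₀ f) (zero_add 0) = 0 at hx
    rw [Abelian.Ext.mk₀_comp_mk₀] at hx
    have h := (Abelian.Ext.mk₀_bijective S.X₂ M).1 (hx.trans (Abelian.Ext.mk₀_zero S.X₂ M).symm)
    have : Epi S.g := hS.epi_g
    rw [show f = 0 from (cancel_epi S.g).1 (h.trans comp_zero.symm), map_zero]
  · obtain ⟨y, rfl⟩ := Abelian.Ext.contravariant_sequence_exact₃ hS M x hx (add_comm 1 k)
    have := hM S.X₁ inferInstance h1 k rfl
    rw [show y = 0 from Subsingleton.elim (α := Abelian.Ext (ModuleCat.of R S.X₁) M k) _ _,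
      Abelian.Ext.comp_zero]

variable [IsNoetherianRing R]

theorem res_injective (hM : PrevVanish I n M) {a b : ℕ} (h : a ≤ b) :
    Function.Injective (res I h n M) := by
  let K := LinearMap.ker (qMap I h).hom
  let S : ShortComplex (ModuleCat.{u} R) := ShortComplex.mk (X₁ := ModuleCat.of R K) (X₂ := qObj I b)
    (X₃ := qObj I a) (ModuleCat.ofHom K.subtype) (qMap I h)
    (ModuleCat.hom_ext (LinearMap.ext fun z => z.2))
  have hsurj : Function.Surjective (qMap I h).hom := fun q => by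
    obtain ⟨r, rfl⟩ := Ideal.Quotient.mk_surjective q
    exact ⟨Ideal.Quotient.mk _ r, qMap_mk I h r⟩
  have hS : S.ShortExact :=
    { exact := (ShortComplex.ShortExact.moduleCat_exact_iff_function_exact _).2
        (LinearMap.exact_subtype_ker_map (qMap I h).hom)
      mono_f := (ModuleCat.mono_iff_injective _).2 Subtype.val_injective
      epi_g := (ModuleCat.epi_iff_surjective _).2 hsurj }
  have : Module.Finite R S.X₁ := inferInstanceAs (Module.Finite R K)
  refine (injective_iff_map_eq_zero _).2 fun x hx => precomp_injective hM hS (fun z => ⟨b, fun c hc => ?_⟩) x hx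
  exact Subtype.ext (qObj_kill I b c hc (Subtype.val z))

theorem toH_injective (hM : PrevVanish I n M) (m : ℕ) : Function.Injective (toH I n M m) :=
  (injective_iff_map_eq_zero _).2 fun x hx => by
    obtain ⟨b, h, hb⟩ := (toH_eq_zero_iff I n x).1 hx
    exact res_injective hM h (hb.trans (map_zero _).symm)

variable (I n M) in
/-- `x ↦ (f ↦ f^* x)`. -/
noncomputable def extToHom (m : ℕ) (F : Type u) [AddCommGroup F] [Module R F]
    (hF : ∀ a ∈ I ^ m, ∀ z : F, a • z = 0) :
    Abelian.Ext (ModuleCat.of R F) M n →ₗ[R] (F →ₗ[R] (localCohomology I n).obj M) :=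
  LinearMap.mk₂ R (fun x f => toH I n M m ((Abelian.Ext.mk₀ (qLift I m F hF f)).comp x (zero_add n)))
    (fun a b f => by rw [Abelian.Ext.comp_add, map_add])
    (fun c a f => by rw [Abelian.Ext.comp_smul, map_smul])
    (fun a f g => by rw [map_add, Abelian.Ext.mk₀_add, Abelian.Ext.add_comp, map_add])
    (fun c a f => by rw [map_smul, Abelian.Ext.mk₀_smul, Abelian.Ext.smul_comp, map_smul])

theorem extToHom_apply (m : ℕ) (F : Type u) [AddCommGroup F] [Module R F]
    (hF : ∀ a ∈ I ^ m, ∀ z : F, a • z = 0) (x : Abelian.Ext (ModuleCat.of R F) M n) (f : F) :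
    extToHom I n M m F hF x f = toH I n M m ((Abelian.Ext.mk₀ (qLift I m F hF f)).comp x (zero_add n)) := rfl

theorem precomp_sum {ι : Type*} (s : Finset ι) {X Y : ModuleCat.{u} R} (φ : ι → (X ⟶ Y))
    (x : Abelian.Ext Y M n) :
    (Abelian.Ext.mk₀ (∑ j ∈ s, φ j)).comp x (zero_add n) =
      ∑ j ∈ s, (Abelian.Ext.mk₀ (φ j)).comp x (zero_add n) := by
  induction s using Finset.cons_induction with
  | empty => simp
  | cons a s ha ih => rw [Finset.sum_cons, Finset.sum_cons, Abelian.Ext.mk₀_add, Abelian.Ext.add_comp, ih]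

theorem exists_presentation (m : ℕ) (F : Type u) [AddCommGroup F] [Module R F] [Module.Finite R F]
    (hF : ∀ a ∈ I ^ m, ∀ z : F, a • z = 0) :
    ∃ (k : ℕ) (f : Fin k → F) (π : (Fin k → R ⧸ I ^ m) →ₗ[R] F),
      Function.Surjective π ∧ ∀ v, π v = ∑ j, (qLift I m F hF (f j)).hom (v j) := by
  obtain ⟨k, f, hf⟩ := Module.Finite.exists_fin (R := R) (M := F)
  let π : (Fin k → R ⧸ I ^ m) →ₗ[R] F := ∑ j, (qLift I m F hF (f j)).hom ∘ₗ LinearMap.proj j
  have hπ : ∀ v, π v = ∑ j, (qLift I m F hF (f j)).hom (v j) := fun v => by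
    simp [π, LinearMap.sum_apply]
  refine ⟨k, f, π, ?_, hπ⟩
  rw [← LinearMap.range_eq_top, eq_top_iff, ← hf, Submodule.span_le]
  rintro _ ⟨j, rfl⟩
  refine ⟨Pi.single j (Ideal.Quotient.mk _ 1), ?_⟩
  rw [hπ, Finset.sum_eq_single j]
  · rw [Pi.single_eq_same, qLift_mk, one_smul]
  · intro b _ hb; rw [Pi.single_eq_of_ne hb, map_zero]
  · intro h; exact absurd (Finset.mem_univ j) h

theorem pi_kill (m k : ℕ) : ∀ a ∈ I ^ m, ∀ v : Fin k → R ⧸ I ^ m, a • v = 0 :=
  fun a ha v => funext fun j => qObj_kill I m a ha (v j)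

theorem extToHom_injective (hM : PrevVanish I n M) (m : ℕ) (F : Type u) [AddCommGroup F] [Module R F]
    [Module.Finite R F] (hF : ∀ a ∈ I ^ m, ∀ z : F, a • z = 0) :
    Function.Injective (extToHom I n M m F hF) := by
  refine (injective_iff_map_eq_zero _).2 fun x hx => ?_
  obtain ⟨k, f, π, hπ, hπf⟩ := exists_presentation m F hF
  let S : ShortComplex (ModuleCat.{u} R) := ShortComplex.mk (X₁ := ModuleCat.of R (LinearMap.ker π))
    (X₂ := ModuleCat.of R (Fin k → R ⧸ I ^ m)) (X₃ := ModuleCat.of R F)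
    (ModuleCat.ofHom (LinearMap.ker π).subtype) (ModuleCat.ofHom π)
    (ModuleCat.hom_ext (LinearMap.ext fun z => z.2))
  have hS : S.ShortExact :=
    { exact := (ShortComplex.ShortExact.moduleCat_exact_iff_function_exact _).2
        (LinearMap.exact_subtype_ker_map π)
      mono_f := (ModuleCat.mono_iff_injective _).2 Subtype.val_injective
      epi_g := (ModuleCat.epi_iff_surjective _).2 hπ }
  have : Module.Finite R S.X₁ := inferInstanceAs (Module.Finite R (LinearMap.ker π))
  refine precomp_injective hM hS (fun z => ⟨m, fun a ha => Subtype.ext (pi_kill m k a ha (Subtype.val z))⟩) x ?_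
  have hsum : S.g = ∑ j, (ModuleCat.ofHom (LinearMap.proj j) : S.X₂ ⟶ qObj I m) ≫ qLift I m F hF (f j) := by
    refine ModuleCat.hom_ext (LinearMap.ext fun v => ?_)
    rw [ModuleCat.hom_sum, LinearMap.sum_apply]
    exact hπf v
  rw [hsum, precomp_sum]
  refine Finset.sum_eq_zero fun j _ => ?_
  rw [← Abelian.Ext.mk₀_comp_mk₀, Abelian.Ext.comp_assoc _ _ _ (zero_add 0) (zero_add n) (by omega),
    show (Abelian.Ext.mk₀ (qLift I m F hF (f j))).comp x (zero_add n) = 0 from
      toH_injective hM m ((LinearMap.congr_fun hx (f j)).trans (map_zero _).symm),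
    Abelian.Ext.comp_zero]

theorem exists_toH_of_kill (hM : PrevVanish I n M) (m : ℕ) (z : (localCohomology I n).obj M)
    (hz : ∀ a ∈ I ^ m, a • z = 0) : ∃ y, toH I n M m y = z := by
  obtain ⟨b, h, y, rfl⟩ := exists_toH_of_le I n z m
  let K := LinearMap.ker (qMap I h).hom
  let S : ShortComplex (ModuleCat.{u} R) := ShortComplex.mk (X₁ := ModuleCat.of R K) (X₂ := qObj I b)
    (X₃ := qObj I m) (ModuleCat.ofHom K.subtype) (qMap I h)
    (ModuleCat.hom_ext (LinearMap.ext fun z => z.2))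
  have hS : S.ShortExact :=
    { exact := (ShortComplex.ShortExact.moduleCat_exact_iff_function_exact _).2
        (LinearMap.exact_subtype_ker_map (qMap I h).hom)
      mono_f := (ModuleCat.mono_iff_injective _).2 Subtype.val_injective
      epi_g := (ModuleCat.epi_iff_surjective _).2 (fun q => by
        obtain ⟨r, rfl⟩ := Ideal.Quotient.mk_surjective q
        exact ⟨Ideal.Quotient.mk _ r, qMap_mk I h r⟩) }
  have hK : ∀ c ∈ I ^ b, ∀ w : K, c • w = 0 := fun c hc w => Subtype.ext (qObj_kill I b c hc w.1)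
  have hy : (Abelian.Ext.mk₀ S.f).comp y (zero_add n) = 0 := by
    refine extToHom_injective hM b K hK ?_
    rw [map_zero]
    refine LinearMap.ext fun w => ?_
    obtain ⟨r, hr⟩ := Ideal.Quotient.mk_surjective (w.1 : R ⧸ I ^ b)
    have hrm : r ∈ I ^ m := by
      rw [← Ideal.Quotient.eq_zero_iff_mem, ← qMap_mk I h, hr]
      exact w.2
    have hc : qLift I b K hK w ≫ S.f = r • 𝟙 (qObj I b) := qObj_hom_ext' I (by
      show (1 : R) • (w.1 : R ⧸ I ^ b) = r • Ideal.Quotient.mk (I ^ b) 1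
      rw [one_smul, ← hr, Algebra.smul_def, Ideal.Quotient.algebraMap_eq, ← map_mul, mul_one])
    rw [extToHom_apply, LinearMap.zero_apply,
      ← Abelian.Ext.comp_assoc _ _ _ (zero_add 0) (zero_add n) (by omega), Abelian.Ext.mk₀_comp_mk₀, hc,
      Abelian.Ext.mk₀_smul, Abelian.Ext.smul_comp, Abelian.Ext.mk₀_id_comp, map_smul]
    exact hz r hrm
  obtain ⟨y', hy'⟩ := Abelian.Ext.contravariant_sequence_exact₂ hS M y hy
  exact ⟨y', by rw [← toH_res I n h y', res_apply]; exact congrArg _ hy'⟩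

theorem extToHom_surjective (hM : PrevVanish I n M) (m : ℕ) (F : Type u) [AddCommGroup F] [Module R F]
    [Module.Finite R F] (hF : ∀ a ∈ I ^ m, ∀ z : F, a • z = 0) :
    Function.Surjective (extToHom I n M m F hF) := by
  intro g
  obtain ⟨k, f, π, hπ, hπf⟩ := exists_presentation m F hF
  choose y hy using fun j => exists_toH_of_kill hM m (g (f j)) fun a ha => by rw [← map_smul, hF a ha, map_zero]
  let P : ModuleCat.{u} R := ModuleCat.of R (Fin k → R ⧸ I ^ m)
  let pr : Fin k → (P ⟶ qObj I m) := fun j => ModuleCat.ofHom (LinearMap.proj j)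
  let Y : Abelian.Ext P M n := ∑ j, (Abelian.Ext.mk₀ (pr j)).comp (y j) (zero_add n)
  let S : ShortComplex (ModuleCat.{u} R) := ShortComplex.mk (X₁ := ModuleCat.of R (LinearMap.ker π))
    (X₂ := P) (X₃ := ModuleCat.of R F)
    (ModuleCat.ofHom (LinearMap.ker π).subtype) (ModuleCat.ofHom π)
    (ModuleCat.hom_ext (LinearMap.ext fun z => z.2))
  have hS : S.ShortExact :=
    { exact := (ShortComplex.ShortExact.moduleCat_exact_iff_function_exact _).2
        (LinearMap.exact_subtype_ker_map π)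
      mono_f := (ModuleCat.mono_iff_injective _).2 Subtype.val_injective
      epi_g := (ModuleCat.epi_iff_surjective _).2 hπ }
  have hcomp : ∀ (l : qObj I m ⟶ P), toH I n M m ((Abelian.Ext.mk₀ l).comp Y (zero_add n)) =
      ∑ j, toH I n M m ((Abelian.Ext.mk₀ (l ≫ pr j)).comp (y j) (zero_add n)) := by
    intro l
    have : (Abelian.Ext.mk₀ l).comp Y (zero_add n) =
        ∑ j, (Abelian.Ext.mk₀ (l ≫ pr j)).comp (y j) (zero_add n) := by
      refine (map_sum ((Abelian.Ext.mk₀ l).precompOfLinear R M (zero_add n)) _ _).trans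
        (Finset.sum_congr rfl fun j _ => ?_)
      rw [← Abelian.Ext.mk₀_comp_mk₀, Abelian.Ext.comp_assoc _ _ _ (zero_add 0) (zero_add n) (by omega)]
      rfl
    rw [this, map_sum]
  have hL : ∀ a ∈ I ^ m, ∀ w : LinearMap.ker π, a • w = 0 := fun a ha w => Subtype.ext (pi_kill m k a ha w.1)
  have hY : (Abelian.Ext.mk₀ S.f).comp Y (zero_add n) = 0 := by
    refine extToHom_injective hM m (LinearMap.ker π) hL ?_
    rw [map_zero]
    refine LinearMap.ext fun w => ?_
    rw [extToHom_apply, LinearMap.zero_apply,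
      ← Abelian.Ext.comp_assoc _ _ _ (zero_add 0) (zero_add n) (by omega), Abelian.Ext.mk₀_comp_mk₀, hcomp]
    have hj : ∀ j, toH I n M m ((Abelian.Ext.mk₀ ((qLift I m _ hL w ≫ S.f) ≫ pr j)).comp (y j) (zero_add n)) =
        g ((qLift I m F hF (f j)).hom (w.1 j)) := by
      intro j
      obtain ⟨r, hr⟩ := Ideal.Quotient.mk_surjective (w.1 j)
      have hc : (qLift I m _ hL w ≫ S.f) ≫ pr j = r • 𝟙 (qObj I m) := qObj_hom_ext' I (by
        show (1 : R) • w.1 j = r • Ideal.Quotient.mk (I ^ m) 1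
        rw [one_smul, ← hr, Algebra.smul_def, Ideal.Quotient.algebraMap_eq, ← map_mul, mul_one])
      rw [hc, Abelian.Ext.mk₀_smul, Abelian.Ext.smul_comp, Abelian.Ext.mk₀_id_comp, map_smul, hy,
        ← map_smul g, ← hr, qLift_mk]
    rw [Finset.sum_congr rfl fun j _ => hj j, ← map_sum g, ← hπf, LinearMap.mem_ker.1 w.2, map_zero]
  obtain ⟨x, hx⟩ := Abelian.Ext.contravariant_sequence_exact₂ hS M Y hY
  refine ⟨x, ?_⟩
  have hgen : ∀ v : Fin k → R ⧸ I ^ m, extToHom I n M m F hF x (π v) = g (π v) := by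
    intro v
    have hl : qLift I m F hF (π v) = qLift I m _ (pi_kill m k) v ≫ S.g := qObj_hom_ext' I (by
      show (1 : R) • π v = π ((1 : R) • v)
      rw [one_smul, one_smul])
    rw [extToHom_apply, hl, ← Abelian.Ext.mk₀_comp_mk₀,
      Abelian.Ext.comp_assoc _ _ _ (zero_add 0) (zero_add n) (by omega), hx, hcomp, hπf, map_sum]
    refine Finset.sum_congr rfl fun j _ => ?_
    obtain ⟨r, hr⟩ := Ideal.Quotient.mk_surjective (v j)
    have hc : qLift I m _ (pi_kill m k) v ≫ pr j = r • 𝟙 (qObj I m) := qObj_hom_ext' I (by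
      show (1 : R) • v j = r • Ideal.Quotient.mk (I ^ m) 1
      rw [one_smul, ← hr, Algebra.smul_def, Ideal.Quotient.algebraMap_eq, ← map_mul, mul_one])
    rw [hc, Abelian.Ext.mk₀_smul, Abelian.Ext.smul_comp, Abelian.Ext.mk₀_id_comp, map_smul, hy,
      ← map_smul g, ← hr, qLift_mk]
  refine LinearMap.ext fun z => ?_
  obtain ⟨v, rfl⟩ := hπ z
  exact hgen v

theorem exists_kill (F : Type u) [AddCommGroup F] [Module R F] [Module.Finite R F]
    (hF : LocCoh.IsPowerTorsion I F) : ∃ m, ∀ a ∈ I ^ m, ∀ z : F, a • z = 0 := by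
  obtain ⟨k, f, hf⟩ := Module.Finite.exists_fin (R := R) (M := F)
  choose e he using fun j => hF (f j)
  refine ⟨Finset.univ.sup e, fun a ha z => ?_⟩
  have hz : z ∈ (⊤ : Submodule R F) := trivial
  rw [← hf] at hz
  induction hz using Submodule.span_induction with
  | mem z hz =>
    obtain ⟨j, rfl⟩ := hz
    exact he j a (Ideal.pow_le_pow_right (Finset.le_sup (Finset.mem_univ j)) ha)
  | zero => rw [smul_zero]
  | add x y _ _ hx hy => rw [smul_add, hx, hy, add_zero]
  | smul r y _ hy => rw [smul_comm, hy, smul_zero]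

/-- `Ext^n(F, M) ≅ Hom(F, H^n_I(M))`. -/
theorem nonempty_ext_linearEquiv_hom (hM : PrevVanish I n M) (F : Type u) [AddCommGroup F] [Module R F]
    [Module.Finite R F] (hF : LocCoh.IsPowerTorsion I F) :
    Nonempty (Abelian.Ext (ModuleCat.of R F) M n ≃ₗ[R] (F →ₗ[R] (localCohomology I n).obj M)) := by
  obtain ⟨m, hm⟩ := exists_kill F hF
  exact ⟨LinearEquiv.ofBijective _ ⟨extToHom_injective hM m F hm, extToHom_surjective hM m F hm⟩⟩

omit [IsNoetherianRing R] in
theorem prevVanish_of_H (h : ∀ j < n, Subsingleton ((localCohomology I j).obj M)) : PrevVanish I n M :=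
  fun F _ _ _ hF i hi => ext_subsingleton_of_H I n M h (ModuleCat.of R F) hF i (by omega)

end Groth.Agent.LC
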