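import Groth.Agent.LC.CohTorsion
import Groth.Agent.Alg6.AssDepth
import Groth.Agent.S5150
import Groth.Agent.S5163
import Groth.Agent.S7038

/-!
# Depth, `Ext` and local cohomology
-/

universe u

open CategoryTheory Limits Opposite

namespace Groth.Agent.LC

variable {R : Type u} [CommRing R] (I : Ideal R)

theorem smul_qObj_eq_bot (n : ℕ) : I ^ n • (⊤ : Submodule R (R ⧸ I ^ n)) = ⊥ := by
  rw [eq_bot_iff]
  refine Submodule.smul_le.2 fun a ha q _ => ?_
  obtain ⟨q, rfl⟩ := Ideal.Quotient.mk_surjective q
  rw [Submodule.mem_bot, Algebra.smul_def, Ideal.Quotient.algebraMap_eq, ← map_mul,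
    Ideal.Quotient.eq_zero_iff_mem]
  exact Ideal.mul_mem_right _ _ ha

theorem isPowerTorsion_qObj (n : ℕ) : LocCoh.IsPowerTorsion I (R ⧸ I ^ n) := fun q =>
  ⟨n, fun a ha => by
    rw [← Submodule.mem_bot R, ← smul_qObj_eq_bot I n]
    exact Submodule.smul_mem_smul ha trivial⟩

theorem subsingleton_H0_iff (M : ModuleCat.{u} R) :
    Subsingleton ((localCohomology I 0).obj M) ↔ DRing.torsionSub I M = ⊥ :=
  (H0Equiv I M).toEquiv.subsingleton_congr.trans (by
    rw [Submodule.subsingleton_iff_eq_bot])

theorem torsion_eq_bot_of_essential {M E : Type u} [AddCommGroup M] [Module R M] [AddCommGroup E]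
    [Module R E] {f : M →ₗ[R] E} (hf : InjHull.IsEssentialInj f) (h : DRing.torsionSub I M = ⊥) :
    DRing.torsionSub I E = ⊥ := by
  rw [Submodule.eq_bot_iff]
  intro x hx
  by_contra hx0
  obtain ⟨r, m, hm0, hm⟩ := isEssentialInj_exists hf hx0
  obtain ⟨n, hn⟩ := hx
  refine hm0 ((Submodule.eq_bot_iff _).1 h m ⟨n, fun a ha => hf.injective ?_⟩)
  rw [map_smul, hm, map_zero, smul_comm, hn a ha, smul_zero]

theorem hom_eq_zero_of_torsion {M F : ModuleCat.{u} R} (hF : LocCoh.IsPowerTorsion I F)
    (h : DRing.torsionSub I M = ⊥) (f : F ⟶ M) : f = 0 := by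
  ext x
  obtain ⟨n, hn⟩ := hF x
  exact (Submodule.eq_bot_iff _).1 h _ ⟨n, fun a ha => by rw [← map_smul, hn a ha, map_zero]⟩

/-- An embedding into an injective without `I`-torsion, when `M` has none. -/
theorem exists_torsionFree_seq (M : ModuleCat.{u} R) (h : DRing.torsionSub I M = ⊥) :
    ∃ S : ShortComplex (ModuleCat.{u} R), S.ShortExact ∧ S.X₁ = M ∧ Injective S.X₂ ∧
      DRing.torsionSub I S.X₂ = ⊥ := by
  obtain ⟨E, _, _, f, hf⟩ := exists_injectiveHull R M
  have : Module.Injective R E := hf.isInjective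
  refine ⟨ShortComplex.mk (X₁ := M) (X₂ := ModuleCat.of R E) (X₃ := ModuleCat.of R (E ⧸ LinearMap.range f))
    (ModuleCat.ofHom f) (ModuleCat.ofHom (LinearMap.range f).mkQ)
    (ModuleCat.hom_ext (LinearMap.ext fun x => (Submodule.Quotient.mk_eq_zero _).2 ⟨x, rfl⟩)), ?_, rfl,
    Module.injective_object_of_injective_module (R := R) (M := E),
    torsion_eq_bot_of_essential I hf.toIsEssentialInj h⟩
  exact
    { exact := (ShortComplex.ShortExact.moduleCat_exact_iff_function_exact _).2 (LinearMap.exact_map_mkQ_range f)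
      mono_f := (ModuleCat.mono_iff_injective _).2 hf.injective
      epi_g := (ModuleCat.epi_iff_surjective _).2 (Submodule.mkQ_surjective _) }

theorem ext_zero_subsingleton {X Y : ModuleCat.{u} R} (h : ∀ f : X ⟶ Y, f = 0) :
    Subsingleton (Abelian.Ext X Y 0) :=
  have : Subsingleton (X ⟶ Y) := subsingleton_of_forall_eq 0 h
  Abelian.Ext.addEquiv₀.subsingleton

/-- Vanishing of local cohomology gives vanishing of `Ext` out of torsion modules. -/
theorem ext_subsingleton_of_H (n : ℕ) :
    ∀ (M : ModuleCat.{u} R), (∀ i < n, Subsingleton ((localCohomology I i).obj M)) →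
      ∀ (F : ModuleCat.{u} R), LocCoh.IsPowerTorsion I F → ∀ i < n, Subsingleton (Abelian.Ext F M i) := by
  induction n with
  | zero => intro M _ F _ i hi; omega
  | succ n ih =>
    intro M hM F hF i hi
    have h0 : DRing.torsionSub I M = ⊥ := (subsingleton_H0_iff I M).1 (hM 0 (by omega))
    obtain ⟨S, hS, rfl, hinj, hE⟩ := exists_torsionFree_seq I M h0
    rcases i with _ | j
    · exact ext_zero_subsingleton (hom_eq_zero_of_torsion I hF h0)
    · have hC : ∀ k < n, Subsingleton ((localCohomology I k).obj S.X₃) := by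
        intro k hk
        have := hM (k + 1) (by omega)
        refine subsingleton_of_forall_eq 0 fun z => ?_
        obtain ⟨w, rfl⟩ := (exact₃ I k hS (k + 1) rfl z).1 (Subsingleton.elim _ _)
        rcases k with _ | k
        · have := (subsingleton_H0_iff I S.X₂).2 hE
          rw [Subsingleton.elim w 0, map_zero]
        · have := subsingleton_of_injective I S.X₂ k
          rw [Subsingleton.elim w 0, map_zero]
      have := ih S.X₃ hC F hF j (by omega)
      refine subsingleton_of_forall_eq 0 fun x => ?_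
      obtain ⟨y, rfl⟩ := Abelian.Ext.covariant_sequence_exact₁ F hS x
        (Abelian.Ext.eq_zero_of_injective _) (n₀ := j) rfl
      rw [Subsingleton.elim y 0, Abelian.Ext.zero_comp]

theorem H_subsingleton_of_qObj (i : ℕ) (M : ModuleCat.{u} R)
    (h : ∀ m, Subsingleton (Abelian.Ext (qObj I m) M i)) : Subsingleton ((localCohomology I i).obj M) :=
  subsingleton_of_forall_eq 0 fun z => by
    obtain ⟨m, x, rfl⟩ := exists_toH I i z
    have := h m
    rw [Subsingleton.elim x 0, map_zero]

theorem H_vanishing_iff_ext_torsion (n : ℕ) (M : ModuleCat.{u} R) :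
    (∀ i < n, Subsingleton ((localCohomology I i).obj M)) ↔
      ∀ (F : ModuleCat.{u} R), LocCoh.IsPowerTorsion I F → ∀ i < n, Subsingleton (Abelian.Ext F M i) :=
  ⟨fun h => ext_subsingleton_of_H I n M h, fun h i hi =>
    H_subsingleton_of_qObj I i M fun m => h _ (isPowerTorsion_qObj I m) i hi⟩

theorem H_vanishing_of_ext [IsNoetherianRing R] (F : ModuleCat.{u} R) [Module.Finite R F]
    (hF : Module.support R F = PrimeSpectrum.zeroLocus (I : Set R)) (n : ℕ) :
    ∀ (M : ModuleCat.{u} R), (∀ i < n, Subsingleton (Abelian.Ext F M i)) →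
      ∀ i < n, Subsingleton ((localCohomology I i).obj M) := by
  induction n with
  | zero => intro M _ i hi; omega
  | succ n ih =>
    intro M hM i hi
    have hFt : LocCoh.IsPowerTorsion I F :=
      (Groth.Agent.S7038.result I F).2 (IsNoetherian.noetherian I) hF.subset
    have h0 : DRing.torsionSub I M = ⊥ := by
      have hsub : Module.support R (DRing.torsionSub I M) ⊆ Module.support R F := by
        rw [hF]; exact (Groth.Agent.S7038.result I _).1 (isPowerTorsion_torsionSub I M)
      have hhom : Subsingleton (F →ₗ[R] DRing.torsionSub I M) := subsingleton_of_forall_eq 0 fun φ => by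
        have := hM 0 (by omega)
        have h := Abelian.Ext.addEquiv₀.symm.subsingleton (α := F ⟶ M)
        have h2 : ModuleCat.ofHom ((DRing.torsionSub I M).subtype ∘ₗ φ) = 0 := Subsingleton.elim _ _
        exact LinearMap.ext fun x => Subtype.ext (ConcreteCategory.congr_hom h2 x)
      have := Groth.Agent.S5163.result R F (DRing.torsionSub I M) hsub hhom
      exact Submodule.subsingleton_iff_eq_bot.1 this
    rcases i with _ | j
    · exact (subsingleton_H0_iff I M).2 h0
    · obtain ⟨S, hS, rfl, hinj, hE⟩ := exists_torsionFree_seq I M h0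
      have hC : ∀ k < n, Subsingleton (Abelian.Ext F S.X₃ k) := by
        intro k hk
        have := hM (k + 1) (by omega)
        refine subsingleton_of_forall_eq 0 fun x => ?_
        obtain ⟨y, rfl⟩ := Abelian.Ext.covariant_sequence_exact₃ F hS x rfl (Subsingleton.elim _ _)
        rcases k with _ | k
        · have := ext_zero_subsingleton (hom_eq_zero_of_torsion I hFt hE)
          rw [Subsingleton.elim y 0, Abelian.Ext.zero_comp]
        · rw [Abelian.Ext.eq_zero_of_injective y, Abelian.Ext.zero_comp]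
      have := ih S.X₃ hC j (by omega)
      have := subsingleton_of_injective I S.X₂ j
      refine subsingleton_of_forall_eq 0 fun z => ?_
      obtain ⟨w, rfl⟩ := (exact₁ I j hS (j + 1) rfl z).1 (Subsingleton.elim _ _)
      rw [Subsingleton.elim w 0, map_zero]

theorem support_quot_self : Module.support R (R ⧸ I) = PrimeSpectrum.zeroLocus (I : Set R) := by
  rw [Module.support_eq_zeroLocus, Ideal.annihilator_quotient]

theorem H_vanishing_iff_ext_quot [IsNoetherianRing R] (n : ℕ) (M : ModuleCat.{u} R) :
    (∀ i < n, Subsingleton ((localCohomology I i).obj M)) ↔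
      ∀ i < n, Subsingleton (Abelian.Ext (ModuleCat.of R (R ⧸ I)) M i) :=
  ⟨fun h => ext_subsingleton_of_H I n M h _
      ((Groth.Agent.S7038.result I _).2 (IsNoetherian.noetherian I) (support_quot_self I).subset),
    fun h => H_vanishing_of_ext I _ (support_quot_self I) n M h⟩

theorem le_idealDepth_iff_ext [IsNoetherianRing R] (M : Type u) [AddCommGroup M] [Module R M]
    [Module.Finite R M] (n : ℕ) :
    (n : ℕ∞) ≤ LocCoh.idealDepth I M ↔
      ∀ i < n, Subsingleton (Abelian.Ext (ModuleCat.of R (R ⧸ I)) (ModuleCat.of R M) i) := by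
  by_cases hIM : I • (⊤ : Submodule R M) = ⊤
  · refine iff_of_true ?_ fun i _ => ?_
    · rw [LocCoh.idealDepth, if_pos hIM]; exact le_top
    · obtain ⟨r, hr, hr0⟩ := Submodule.exists_sub_one_mem_and_smul_eq_zero_of_fg_of_le_smul I
        (⊤ : Submodule R M) Module.Finite.fg_top hIM.ge
      refine subsingleton_of_forall_eq 0 fun x => ?_
      have h1 : r • x = 0 := by
        rw [Abelian.Ext.smul_eq_comp_mk₀,
          show r • 𝟙 (ModuleCat.of R M) = 0 from ModuleCat.hom_ext (LinearMap.ext fun m => hr0 m trivial),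
          Abelian.Ext.mk₀_zero, Abelian.Ext.comp_zero]
      have h2 : (r - 1) • x = 0 := by
        have h0 : (r - 1) • 𝟙 (ModuleCat.of R (R ⧸ I)) = 0 := by
          refine ModuleCat.hom_ext (LinearMap.ext fun q => ?_)
          obtain ⟨q, rfl⟩ := Ideal.Quotient.mk_surjective q
          show (r - 1) • Ideal.Quotient.mk I q = 0
          rw [Algebra.smul_def, Ideal.Quotient.algebraMap_eq, ← map_mul,
            Ideal.Quotient.eq_zero_iff_mem.2 (Ideal.mul_mem_right _ _ hr)]
        rw [show (r - 1) • x = (Abelian.Ext.mk₀ ((r - 1) • 𝟙 (ModuleCat.of R (R ⧸ I)))).comp x (zero_add i) by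
            rw [Abelian.Ext.mk₀_smul, Abelian.Ext.smul_comp, Abelian.Ext.mk₀_id_comp],
          h0, Abelian.Ext.mk₀_zero, Abelian.Ext.zero_comp]
      rw [sub_smul, h1, one_smul, zero_sub, neg_eq_zero] at h2
      exact h2
  · constructor
    · intro h i hi
      obtain ⟨rs, hreg, hmem, hlen⟩ := Groth.Agent.Alg6.exists_length_ge_of_le_idealDepth hIM h
      exact Groth.Agent.S5150.result R I M (R ⧸ I) rs hreg hmem 1 (by
        rw [eq_bot_iff, pow_one]
        refine Submodule.smul_le.2 fun a ha q _ => ?_
        obtain ⟨q, rfl⟩ := Ideal.Quotient.mk_surjective q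
        rw [Submodule.mem_bot, Algebra.smul_def, Ideal.Quotient.algebraMap_eq, ← map_mul,
          Ideal.Quotient.eq_zero_iff_mem]
        exact Ideal.mul_mem_right _ _ ha) i (by omega)
    · intro h
      have htfae := ModuleCat.exists_isRegular_tfae I n (ModuleCat.of R M) (Ne.lt_top hIM)
      have h34 := htfae.out 2 3
      obtain ⟨rs, hlen, hmem, hreg⟩ : ∃ rs : List R, rs.length = n ∧ (∀ r ∈ rs, r ∈ I) ∧
          RingTheory.Sequence.IsRegular (ModuleCat.of R M) rs := by
        refine h34.1 ?_
        refine ⟨ModuleCat.of R (R ⧸ I), ?_, ?_, ?_, h⟩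
        · exact Submodule.Quotient.nontrivial_iff.2 (fun hI => hIM (by
            rw [hI]; exact Submodule.top_smul _))
        · exact (inferInstance : Module.Finite R (R ⧸ I))
        · exact support_quot_self I
      rw [← hlen]
      exact Groth.Agent.Alg6.length_le_idealDepth hreg.toIsWeaklyRegular hmem

theorem le_idealDepth_iff_H [IsNoetherianRing R] (M : Type u) [AddCommGroup M] [Module R M]
    [Module.Finite R M] (n : ℕ) :
    (n : ℕ∞) ≤ LocCoh.idealDepth I M ↔
      ∀ i < n, Subsingleton ((localCohomology I i).obj (ModuleCat.of R M)) :=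
  (le_idealDepth_iff_ext I M n).trans (H_vanishing_iff_ext_quot I n _).symm

theorem idealDepth_eq_nat_iff [IsNoetherianRing R] (M : Type u) [AddCommGroup M] [Module R M]
    [Module.Finite R M] (n : ℕ) :
    LocCoh.idealDepth I M = n ↔
      (∀ i < n, Subsingleton ((localCohomology I i).obj (ModuleCat.of R M))) ∧
        Nontrivial ((localCohomology I n).obj (ModuleCat.of R M)) := by
  rw [← not_subsingleton_iff_nontrivial, ← le_idealDepth_iff_H, le_antisymm_iff, and_comm]
  refine and_congr_right fun hle => ?_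
  have h1 : LocCoh.idealDepth I M ≤ n ↔ ¬ (((n + 1 : ℕ) : ℕ∞) ≤ LocCoh.idealDepth I M) := by
    rw [not_le, Nat.cast_add, Nat.cast_one, ENat.lt_add_one_iff (ENat.natCast_ne_top n)]
  rw [h1, le_idealDepth_iff_H]
  refine not_congr ⟨fun h => h n (by omega), fun h i hi => ?_⟩
  rcases Nat.lt_succ_iff_lt_or_eq.1 hi with hi | rfl
  · exact (le_idealDepth_iff_H I M n).1 hle i hi
  · exact h

/-- Two modules with the same vanishing degrees below every bound have the same depth. -/
theorem enat_eq_of_nat_le_iff {a b : ℕ∞} (h : ∀ n : ℕ, (n : ℕ∞) ≤ a ↔ (n : ℕ∞) ≤ b) : a = b :=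
  le_antisymm (ENat.forall_natCast_le_iff_le.1 fun n hn => (h n).1 hn)
    (ENat.forall_natCast_le_iff_le.1 fun n hn => (h n).2 hn)

end Groth.Agent.LC
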