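import Groth.Agent.LC.CdDim
import Groth.Agent.LC.Depth
import Mathlib.RingTheory.Localization.BaseChange
import Mathlib.RingTheory.LocalProperties.Submodule

/-!
# Cohomological dimension: base change, locality and sums of ideals
-/

universe u

open CategoryTheory Limits TensorProduct

namespace Groth.Agent.LC

variable {R : Type u} [CommRing R] [IsNoetherianRing R] (I : Ideal R)

theorem cdLE_map (R' : Type u) [CommRing R'] [IsNoetherianRing R'] [Algebra R R'] {d : ℕ}
    (h : LocCoh.CdLE R I d) : LocCoh.CdLE R' (I.map (algebraMap R R')) d := by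
  intro M _ _ i hi
  let : Module R M := Module.compHom M (algebraMap R R')
  have : IsScalarTower R R' M := IsScalarTower.of_algebraMap_smul fun _ _ => rfl
  obtain ⟨φ, -⟩ := exists_indep (R' := R') I i M
  have := h M i hi
  exact φ.toEquiv.subsingleton

theorem cdLE_of_faithfullyFlat (R' : Type u) [CommRing R'] [IsNoetherianRing R'] [Algebra R R']
    [Module.FaithfullyFlat R R'] {d : ℕ} (h : LocCoh.CdLE R' (I.map (algebraMap R R')) d) :
    LocCoh.CdLE R I d := by
  intro M _ _ i hi
  obtain ⟨e⟩ := exists_baseChange (R' := R') I i M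
  have := h (R' ⊗[R] M) i hi
  have := e.toEquiv.subsingleton
  exact (Module.FaithfullyFlat.subsingleton_tensorProduct_iff_right R R').1 this

theorem cdLE_of_localizations {d : ℕ}
    (h : ∀ (p : Ideal R) [p.IsPrime],
      LocCoh.CdLE (Localization.AtPrime p) (I.map (algebraMap R (Localization.AtPrime p))) d) :
    LocCoh.CdLE R I d := by
  intro M _ _ i hi
  refine Module.subsingleton_of_localization_maximal (R := R)
    (fun P _ => LocalizedModule P.primeCompl ((localCohomology I i).obj (ModuleCat.of R M)))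
    (fun P _ => LocalizedModule.mkLinearMap P.primeCompl _) (fun P _ => ?_)
  obtain ⟨e⟩ := exists_baseChange (R' := Localization.AtPrime P) I i M
  have := h P (Localization.AtPrime P ⊗[R] M) i hi
  have := e.toEquiv.subsingleton
  exact (LocalizedModule.equivTensorProduct P.primeCompl _).toEquiv.subsingleton

/-! ### Sums -/

variable (J : Ideal R)

omit [IsNoetherianRing R] in
theorem mem_torsionSub_sup_iff {N : Type u} [AddCommGroup N] [Module R N]
    (hN : LocCoh.IsPowerTorsion J N) (x : N) :
    x ∈ DRing.torsionSub (I ⊔ J) N ↔ x ∈ DRing.torsionSub I N := by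
  refine ⟨fun ⟨n, hn⟩ => ⟨n, fun a ha => hn a (Ideal.pow_right_mono le_sup_left n ha)⟩,
    fun ⟨n, hn⟩ => ?_⟩
  obtain ⟨m, hm⟩ := hN x
  refine ⟨n + m, fun a ha => ?_⟩
  obtain ⟨b, hb, c, hc, rfl⟩ := Submodule.mem_sup.1 (Ideal.sup_pow_add_le_pow_sup_pow ha)
  rw [add_smul, hn b hb, hm c hc, zero_add]

/-- For `J`-torsion modules, vanishing of `H^i_I` implies that of `H^i_{I + J}`. -/
theorem subsingleton_H_sup_of_torsion (i : ℕ) :
    ∀ (N : ModuleCat.{u} R), LocCoh.IsPowerTorsion J N → Subsingleton ((localCohomology I i).obj N) →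
      Subsingleton ((localCohomology (I ⊔ J) i).obj N) := by
  induction i with
  | zero =>
    intro N hN h
    refine (subsingleton_H0_iff (I ⊔ J) N).2 ((Submodule.eq_bot_iff _).2 fun x hx => ?_)
    exact (Submodule.eq_bot_iff _).1 ((subsingleton_H0_iff I N).1 h) x
      ((mem_torsionSub_sup_iff I J hN x).1 hx)
  | succ i ih =>
    intro N hN h
    obtain ⟨E, f, hE, hf, hEt⟩ := exists_torsion_embedding J N hN
    let C := E ⧸ LinearMap.range f.hom
    let S : ShortComplex (ModuleCat.{u} R) := ShortComplex.mk (X₁ := ModuleCat.of R N) (X₂ := E)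
      (X₃ := ModuleCat.of R C) f (ModuleCat.ofHom (LinearMap.range f.hom).mkQ)
      (ModuleCat.hom_ext (LinearMap.ext fun x => (Submodule.Quotient.mk_eq_zero _).2 ⟨x, rfl⟩))
    have hS : S.ShortExact :=
      { exact := (ShortComplex.ShortExact.moduleCat_exact_iff_function_exact _).2
          (LinearMap.exact_map_mkQ_range f.hom)
        mono_f := hf
        epi_g := (ModuleCat.epi_iff_surjective _).2 (Submodule.mkQ_surjective _) }
    have hCt : LocCoh.IsPowerTorsion J C := fun y => by
      obtain ⟨e, rfl⟩ := Submodule.Quotient.mk_surjective _ y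
      obtain ⟨n, hn⟩ := hEt e
      exact ⟨n, fun a ha => by rw [← Submodule.Quotient.mk_smul, hn a ha, Submodule.Quotient.mk_zero]⟩
    rcases i with _ | i
    · refine subsingleton_of_forall_eq 0 fun z => ?_
      have hX : ∀ j, Subsingleton ((localCohomology (I ⊔ J) (j + 1)).obj S.X₂) := fun j =>
        subsingleton_of_injective _ E j
      obtain ⟨y, rfl⟩ := coker₁_surjective (I ⊔ J) hS hX z
      rw [coker₁_eq_zero_iff]
      have hy : y.1 ∈ DRing.torsionSub I C := (mem_torsionSub_sup_iff I J hCt y.1).1 y.2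
      obtain ⟨x, hx, hxy⟩ := (coker₁_eq_zero_iff I hS ⟨y.1, hy⟩).1 (by
        exact Subsingleton.elim (α := (localCohomology I 1).obj (ModuleCat.of R N)) _ _)
      exact ⟨x, (mem_torsionSub_sup_iff I J hEt x).2 hx, hxy⟩
    · have hC : Subsingleton ((localCohomology I (i + 1)).obj (ModuleCat.of R C)) :=
        (shiftEquiv I hS (fun j => subsingleton_of_injective _ E j) i).toEquiv.subsingleton
      have := ih (ModuleCat.of R C) hCt hC
      exact (shiftEquiv (I ⊔ J) hS (fun j => subsingleton_of_injective _ E j) i).symm.toEquiv.subsingleton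

theorem subsingleton_H_sup (a : ℕ) (hI : LocCoh.CdLE R I a) :
    ∀ (b : ℕ) (M : ModuleCat.{u} R), (∀ j, b < j → Subsingleton ((localCohomology J j).obj M)) →
      ∀ i, a + b < i → Subsingleton ((localCohomology (I ⊔ J) i).obj M) := by
  intro b
  induction b using Nat.strong_induction_on with
  | _ b ih =>
  intro M hM i hi
  obtain ⟨k, rfl⟩ : ∃ k, i = k + 1 := ⟨i - 1, by omega⟩
  let Γ := DRing.torsionSub J M
  have hΓ : LocCoh.IsPowerTorsion J Γ := isPowerTorsion_torsionSub J M
  have hGI : Subsingleton ((localCohomology I (k + 1)).obj (ModuleCat.of R Γ)) := hI Γ (k + 1) (by omega)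
  have hG := subsingleton_H_sup_of_torsion I J (k + 1) (ModuleCat.of R Γ) hΓ hGI
  have hS := torsionSeq_shortExact J M
  let M' : ModuleCat.{u} R := ModuleCat.of R (M ⧸ Γ)
  suffices hM'i : Subsingleton ((localCohomology (I ⊔ J) (k + 1)).obj M') from
    subsingleton_H_of_shortExact (I ⊔ J) hS (k + 1) hG hM'i
  have hM' : ∀ j, b < j → Subsingleton ((localCohomology J j).obj M') := fun j hj => by
    obtain ⟨l, rfl⟩ : ∃ l, j = l + 1 := ⟨j - 1, by omega⟩
    have := hM (l + 1) hj
    exact (map_mkQ_bijective J M l).2.subsingleton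
  have hM'0 : DRing.torsionSub J M' = ⊥ := by
    rw [Submodule.eq_bot_iff]
    intro y hy
    obtain ⟨x, rfl⟩ := Submodule.Quotient.mk_surjective _ y
    obtain ⟨n, hn⟩ := hy
    obtain ⟨l, v, hv⟩ := Submodule.fg_iff_exists_fin_generating_family.1 (IsNoetherian.noetherian (J ^ n))
    have hmem : ∀ t : Fin l, ∃ q, ∀ a ∈ J ^ q, a • v t • x = 0 := fun t => by
      have := hn (v t) (hv ▸ Submodule.subset_span ⟨t, rfl⟩)
      rw [← Submodule.Quotient.mk_smul, Submodule.Quotient.mk_eq_zero] at this
      exact this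
    choose q hq using hmem
    refine (Submodule.Quotient.mk_eq_zero _).2 ⟨n + Finset.univ.sup q, fun a ha => ?_⟩
    rw [pow_add] at ha
    refine Submodule.mul_induction_on ha (fun b hb c hc => ?_) fun y z hy hz => by
      rw [add_smul, hy, hz, add_zero]
    rw [← hv] at hb
    induction hb using Submodule.span_induction with
    | mem b hb =>
      obtain ⟨t, rfl⟩ := hb
      rw [mul_comm, mul_smul]
      exact hq t c (Ideal.pow_le_pow_right (Finset.le_sup (Finset.mem_univ t)) hc)
    | zero => rw [zero_mul, zero_smul]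
    | add y z _ _ hy hz => rw [add_mul, add_smul, hy, hz, add_zero]
    | smul r y _ hy => rw [smul_eq_mul, mul_assoc, mul_smul, hy, smul_zero]
  rcases b with _ | b
  · have hall : ∀ j, Subsingleton ((localCohomology J j).obj M') := fun j => by
      rcases j with _ | j
      · exact (subsingleton_H0_iff J M').2 hM'0
      · exact hM' (j + 1) (by omega)
    refine H_subsingleton_of_qObj (I ⊔ J) (k + 1) M' fun m => ?_
    refine ext_subsingleton_of_H J (k + 2) M' (fun j _ => hall j) _ (fun q => ⟨m, fun c hc => ?_⟩)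
      (k + 1) (by omega)
    rw [← Submodule.mem_bot R, ← smul_qObj_eq_bot (I ⊔ J) m]
    exact Submodule.smul_mem_smul (Ideal.pow_right_mono le_sup_right m hc) trivial
  obtain ⟨T, hT, hT1, hinj, hE⟩ := exists_torsionFree_seq J M' hM'0
  have hC : ∀ j, b < j → Subsingleton ((localCohomology J j).obj T.X₃) := fun j hj => by
    obtain ⟨l, rfl⟩ : ∃ l, j = l + 1 := ⟨j - 1, by omega⟩
    have : Subsingleton ((localCohomology J (l + 2)).obj T.X₁) := by rw [hT1]; exact hM' (l + 2) (by omega)
    exact (shiftEquiv J hT (fun j => subsingleton_of_injective _ T.X₂ j) l).toEquiv.subsingleton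
  obtain ⟨j, rfl⟩ : ∃ j, k = j + 1 := ⟨k - 1, by omega⟩
  have := ih b (by omega) T.X₃ hC (j + 1) (by omega)
  rw [← hT1]
  exact (shiftEquiv (I ⊔ J) hT (fun j => subsingleton_of_injective _ T.X₂ j) j).symm.toEquiv.subsingleton

theorem cdLE_sup {a b : ℕ} (hI : LocCoh.CdLE R I a) (hJ : LocCoh.CdLE R J b) :
    LocCoh.CdLE R (I ⊔ J) (a + b) :=
  fun M _ _ i hi => subsingleton_H_sup I J a hI b (ModuleCat.of R M) (fun j hj => hJ M j hj) i hi

end Groth.Agent.LC
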