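import Groth.Agent.LC.TopDim
import Groth.Agent.LC.CdBase

/-!
# Finiteness of local cohomology
-/

universe u

open CategoryTheory Limits

namespace Groth.Agent.LC

variable {R : Type u} [CommRing R] [IsNoetherianRing R] (I : Ideal R)

theorem torsionSub_quot_eq_bot (M : Type u) [AddCommGroup M] [Module R M] :
    DRing.torsionSub I (M ⧸ DRing.torsionSub I M) = ⊥ := by
  rw [Submodule.eq_bot_iff]
  intro y hy
  obtain ⟨x, rfl⟩ := Submodule.Quotient.mk_surjective _ y
  obtain ⟨n, hn⟩ := hy
  obtain ⟨l, v, hv⟩ := Submodule.fg_iff_exists_fin_generating_family.1 (IsNoetherian.noetherian (I ^ n))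
  have hmem : ∀ t : Fin l, ∃ q, ∀ a ∈ I ^ q, a • v t • x = 0 := fun t => by
    have := hn (v t) (hv ▸ Submodule.subset_span ⟨t, rfl⟩)
    rw [← Submodule.Quotient.mk_smul, Submodule.Quotient.mk_eq_zero] at this
    exact this
  choose q hq using hmem
  refine (Submodule.Quotient.mk_eq_zero _).2 ⟨n + Finset.univ.sup q, fun a ha => ?_⟩
  rw [pow_add] at ha
  refine Submodule.mul_induction_on ha (fun b hb c hc => ?_) fun y z hy hz => by
    rw [add_smul, hy, hz, add_zero]
  rw [← hv] at hb
  induction hb using Submodule.span_induction with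
  | mem b hb =>
    obtain ⟨t, rfl⟩ := hb
    rw [mul_comm, mul_smul]
    exact hq t c (Ideal.pow_le_pow_right (Finset.le_sup (Finset.mem_univ t)) hc)
  | zero => rw [zero_mul, zero_smul]
  | add y z _ _ hy hz => rw [add_mul, add_smul, hy, hz, add_zero]
  | smul r y _ hy => rw [smul_eq_mul, mul_assoc, mul_smul, hy, smul_zero]

theorem exists_regular_of_torsionFree (M : Type u) [AddCommGroup M] [Module R M] [Module.Finite R M]
    (h : DRing.torsionSub I M = ⊥) : ∃ x ∈ I, IsSMulRegular M x := by
  rw [Groth.Agent.Alg6.exists_isSMulRegular_mem_iff]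
  intro p hp hle
  obtain ⟨hpp, z, hz⟩ := Groth.Agent.Alg6.mem_ass_iff.1 hp
  have hz0 : z = 0 := (Submodule.eq_bot_iff _).1 h z ⟨1, fun a ha => (hz a).1 (hle (by simpa using ha))⟩
  exact hpp.ne_top ((Ideal.eq_top_iff_one p).2 ((hz 1).2 (by rw [hz0, smul_zero])))

theorem finite_H0 (M : Type u) [AddCommGroup M] [Module R M] [Module.Finite R M] :
    Module.Finite R ((localCohomology I 0).obj (ModuleCat.of R M)) :=
  Module.Finite.equiv (H0Equiv I (ModuleCat.of R M)).symm

omit [IsNoetherianRing R] in
theorem exists_pow_smul_eq_zero_of_finite (H : Type u) [AddCommGroup H] [Module R H] [Module.Finite R H]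
    (hH : LocCoh.IsPowerTorsion I H) : ∃ m, ∀ a ∈ I ^ m, ∀ z : H, a • z = 0 := by
  obtain ⟨k, f, hf⟩ := Module.Finite.exists_fin (R := R) (M := H)
  choose e he using fun j => hH (f j)
  refine ⟨Finset.univ.sup e, fun a ha z => ?_⟩
  have hz : z ∈ (⊤ : Submodule R H) := trivial
  rw [← hf] at hz
  induction hz using Submodule.span_induction with
  | mem z hz =>
    obtain ⟨j, rfl⟩ := hz
    exact he j a (Ideal.pow_le_pow_right (Finset.le_sup (Finset.mem_univ j)) ha)
  | zero => rw [smul_zero]
  | add x y _ _ hx hy => rw [smul_add, hx, hy, add_zero]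
  | smul r y _ hy => rw [smul_comm, hy, smul_zero]

theorem finite_of_exact {A B C : Type u} [AddCommGroup A] [Module R A] [AddCommGroup B] [Module R B]
    [AddCommGroup C] [Module R C] (f : A →ₗ[R] B) (g : B →ₗ[R] C) (h : Function.Exact f g)
    [Module.Finite R A] (hC : Module.Finite R (LinearMap.range g)) : Module.Finite R B := by
  rw [Module.Finite.iff_fg] at hC
  refine ⟨Submodule.fg_of_fg_map_of_fg_inf_ker g (by rwa [Submodule.map_top]) ?_⟩
  rw [top_inf_eq, h.linearMap_ker_eq]
  exact LinearMap.range_eq_map f ▸ Submodule.FG.map f Module.Finite.fg_top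

/-- Finiteness follows from annihilation by an ideal containing a power of `I`. -/
theorem finite_H_of_kill (n : ℕ) :
    ∀ (M : Type u) [AddCommGroup M] [Module R M] [Module.Finite R M] (J : Ideal R), I ≤ J.radical →
      (∀ i ≤ n, ∀ a ∈ J, ∀ z : (localCohomology I i).obj (ModuleCat.of R M), a • z = 0) →
      ∀ i ≤ n, Module.Finite R ((localCohomology I i).obj (ModuleCat.of R M)) := by
  induction n with
  | zero =>
    intro M _ _ _ J _ _ i hi
    obtain rfl : i = 0 := by omega
    exact finite_H0 I M
  | succ n ih =>
    intro M _ _ _ J hJ hk i hi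
    rcases i with _ | j
    · exact finite_H0 I M
    let M' := M ⧸ DRing.torsionSub I M
    let e := fun l => LinearEquiv.ofBijective _ (map_mkQ_bijective I M l)
    suffices Module.Finite R ((localCohomology I (j + 1)).obj (ModuleCat.of R M')) from
      Module.Finite.equiv (e j).symm
    have hk' : ∀ l ≤ n + 1, ∀ a ∈ J, ∀ z : (localCohomology I l).obj (ModuleCat.of R M'), a • z = 0 := by
      intro l hl a ha z
      rcases l with _ | l
      · have := (subsingleton_H0_iff I (ModuleCat.of R M')).2 (torsionSub_quot_eq_bot I M)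
        exact Subsingleton.elim _ _
      · obtain ⟨w, rfl⟩ := (e l).surjective z
        rw [← map_smul, hk (l + 1) hl a ha w, map_zero]
    obtain ⟨x, hx, hreg⟩ := exists_regular_of_torsionFree I M' (torsionSub_quot_eq_bot I M)
    obtain ⟨k, hk0⟩ := hJ hx
    obtain ⟨δ, hδ, -⟩ := exact_smul I (hreg.pow k) j
    have hfin : Module.Finite R ((localCohomology I j).obj (ModuleCat.of R (QuotSMulTop (x ^ k) M'))) := by
      refine ih (QuotSMulTop (x ^ k) M') (J * J) ?_ ?_ j (by omega)
      · rw [← pow_two, J.radical_pow two_ne_zero]; exact hJ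
      intro l hl
      obtain ⟨δ', -, π', hπ', -⟩ := exact_smul I (hreg.pow k) l
      intro a ha z
      refine Submodule.mul_induction_on ha (fun b hb c hc => ?_) fun u v hu hv => by
        rw [add_smul, hu, hv, add_zero]
      have h1 : δ' (c • z) = 0 := by rw [map_smul]; exact hk' (l + 1) (by omega) c hc _
      obtain ⟨w, hw⟩ := (hπ' _).1 h1
      rw [mul_smul, ← hw, ← map_smul, hk' l (by omega) b hb w, map_zero]
    refine Module.Finite.of_surjective δ fun z => (hδ z).1 ?_
    exact hk' (j + 1) hi _ hk0 z

/-- Local finiteness implies finiteness. -/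
theorem finite_H_of_locally (n : ℕ) :
    ∀ (M : Type u) [AddCommGroup M] [Module R M] [Module.Finite R M],
      (∀ (p : Ideal R) [p.IsPrime], ∀ i ≤ n, Module.Finite (Localization.AtPrime p)
        (LocalizedModule p.primeCompl ((localCohomology I i).obj (ModuleCat.of R M)))) →
      ∀ i ≤ n, Module.Finite R ((localCohomology I i).obj (ModuleCat.of R M)) := by
  induction n with
  | zero =>
    intro M _ _ _ _ i hi
    obtain rfl : i = 0 := by omega
    exact finite_H0 I M
  | succ n ih =>
    intro M _ _ _ hloc i hi
    rcases i with _ | j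
    · exact finite_H0 I M
    rcases Nat.lt_or_ge j n with hjn | hjn
    · exact ih M (fun p _ l hl => hloc p l (by omega)) (j + 1) hjn
    obtain rfl : j = n := by omega
    let M' := M ⧸ DRing.torsionSub I M
    let e := fun l => LinearEquiv.ofBijective _ (map_mkQ_bijective I M l)
    suffices Module.Finite R ((localCohomology I (j + 1)).obj (ModuleCat.of R M')) from
      Module.Finite.equiv (e j).symm
    -- finiteness and local finiteness for `M'`
    have hfin' : ∀ l ≤ j, Module.Finite R ((localCohomology I l).obj (ModuleCat.of R M')) := by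
      intro l hl
      rcases l with _ | l
      · exact finite_H0 I M'
      · have := ih M (fun p _ l hl => hloc p l (by omega)) (l + 1) hl
        exact Module.Finite.equiv (e l)
    let H := (localCohomology I (j + 1)).obj (ModuleCat.of R M')
    have hlocH : ∀ (p : Ideal R) [p.IsPrime], Module.Finite (Localization.AtPrime p)
        (LocalizedModule p.primeCompl H) := fun p _ => by
      have := hloc p (j + 1) le_rfl
      exact Module.Finite.of_surjective (LocalizedModule.map p.primeCompl (e j).toLinearMap)
        (LocalizedModule.map_surjective _ _ (e j).surjective)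
    obtain ⟨x, hx, hreg⟩ := exists_regular_of_torsionFree I M' (torsionSub_quot_eq_bot I M)
    obtain ⟨δ, hδ, π, hπ, -⟩ := exact_smul I hreg j
    -- step A: `H^j(M'/x^k M')` is finite
    have hA : ∀ k : ℕ, Module.Finite R ((localCohomology I j).obj (ModuleCat.of R (QuotSMulTop (x ^ k) M'))) := by
      intro k
      refine ih (QuotSMulTop (x ^ k) M') (fun p _ l hl => ?_) j le_rfl
      obtain ⟨δ', hδ', π', hπ', -⟩ := exact_smul I (hreg.pow k) l
      have := hfin' l hl
      let A := Localization.AtPrime p
      have : IsNoetherianRing A := IsLocalization.isNoetherianRing p.primeCompl A inferInstance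
      have hB : Module.Finite A (LocalizedModule p.primeCompl
          ((localCohomology I (l + 1)).obj (ModuleCat.of R M'))) := by
        rcases Nat.lt_or_ge l j with hlj | hlj
        · have := hfin' (l + 1) hlj
          exact Module.Finite.of_isLocalizedModule p.primeCompl (LocalizedModule.mkLinearMap _ _)
        · obtain rfl : l = j := by omega
          exact hlocH p
      have : Module.Finite A (LocalizedModule p.primeCompl ((localCohomology I l).obj (ModuleCat.of R M'))) :=
        Module.Finite.of_isLocalizedModule p.primeCompl (LocalizedModule.mkLinearMap _ _)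
      exact finite_of_exact (LocalizedModule.map p.primeCompl π') (LocalizedModule.map p.primeCompl δ')
        (LocalizedModule.map_exact p.primeCompl π' δ' hπ') inferInstance
    -- step B: a power of `x` kills `H`
    have hAss : (associatedPrimes R H).Finite := by
      have h1 : Module.Finite R ((localCohomology I j).obj (ModuleCat.of R (QuotSMulTop x M'))) := by
        have key : ∀ y : R, y = x → Module.Finite R ((localCohomology I j).obj (ModuleCat.of R (QuotSMulTop y M'))) →
            Module.Finite R ((localCohomology I j).obj (ModuleCat.of R (QuotSMulTop x M'))) := by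
          rintro _ rfl h; exact h
        exact key _ (pow_one x) (hA 1)
      have h2 : Module.Finite R (LinearMap.range δ) := Module.Finite.range δ
      refine (associatedPrimes.finite R (LinearMap.range δ)).subset fun p hp => ?_
      obtain ⟨hpp, z, hz⟩ := Groth.Agent.Alg6.mem_ass_iff.1 hp
      obtain ⟨m, hm⟩ := isPowerTorsion_obj I (j + 1) _ z
      have hxp : x ∈ p := hpp.mem_of_pow_mem m ((hz _).2 (hm _ (Ideal.pow_mem_pow hx m)))
      refine Groth.Agent.Alg6.mem_ass_iff.2 ⟨hpp, ⟨z, (hδ z).1 ((hz x).1 hxp)⟩, fun a => ?_⟩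
      rw [hz a]
      exact ⟨fun h => Subtype.ext h, fun h => congrArg Subtype.val h⟩
    have hkp : ∀ p ∈ associatedPrimes R H, ∃ k : ℕ, ∀ z : H, ∃ t ∉ p, t • x ^ k • z = 0 := by
      intro p hp
      have := (Groth.Agent.Alg6.mem_ass_iff.1 hp).1
      have := hlocH p
      let A := Localization.AtPrime p
      have htor : LocCoh.IsPowerTorsion (Ideal.span {algebraMap R A x}) (LocalizedModule p.primeCompl H) := by
        intro q
        induction q using LocalizedModule.induction_on with
        | h z s =>
          obtain ⟨m, hm⟩ := isPowerTorsion_obj I (j + 1) _ z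
          refine ⟨m, fun a ha => ?_⟩
          rw [Ideal.span_singleton_pow, Ideal.mem_span_singleton'] at ha
          obtain ⟨c, rfl⟩ := ha
          rw [mul_smul, ← map_pow, algebraMap_smul, LocalizedModule.smul'_mk,
            hm _ (Ideal.pow_mem_pow hx m), LocalizedModule.zero_mk, smul_zero]
      obtain ⟨k, hk⟩ := exists_pow_smul_eq_zero_of_finite (R := A) _ _ htor
      refine ⟨k, fun z => ?_⟩
      have h0 := hk _ (Ideal.pow_mem_pow (Ideal.mem_span_singleton_self (algebraMap R A x)) k)
        (LocalizedModule.mkLinearMap p.primeCompl H z)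
      rw [← map_pow, algebraMap_smul, ← map_smul] at h0
      obtain ⟨t, ht⟩ := (IsLocalizedModule.eq_zero_iff p.primeCompl (LocalizedModule.mkLinearMap p.primeCompl H)).1 h0
      exact ⟨t, t.2, ht⟩
    choose K hK using hkp
    let k := hAss.toFinset.attach.sup fun p => K p.1 (hAss.mem_toFinset.1 p.2)
    have hkill : ∀ z : H, x ^ k • z = 0 := by
      intro z
      by_contra hz
      obtain ⟨p, hp, hle⟩ := Groth.Agent.Alg6.exists_ass_ge (R := R) hz
      obtain ⟨t, ht, hzero⟩ := hK p hp z
      refine ht (hle t ?_)
      obtain ⟨q, hq⟩ := Nat.exists_eq_add_of_le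
        (Finset.le_sup (f := fun p : hAss.toFinset => K p.1 (hAss.mem_toFinset.1 p.2))
          (Finset.mem_attach _ ⟨p, hAss.mem_toFinset.2 hp⟩))
      show t • x ^ k • z = 0
      rw [show k = K p hp + q from hq, pow_add, mul_comm, mul_smul, smul_comm t, hzero, smul_zero]
    obtain ⟨δ', hδ', -⟩ := exact_smul I (hreg.pow k) j
    have := hA k
    exact Module.Finite.of_surjective δ' fun z => (hδ' z).1 (hkill z)

end Groth.Agent.LC
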