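import Groth.Prelude.Def_Wider
import Mathlib.Algebra.Category.ModuleCat.EnoughInjectives
import Mathlib.Algebra.Category.ModuleCat.Injective
import Mathlib.RingTheory.Filtration
import Mathlib.RingTheory.Ideal.AssociatedPrime.Basic
import Mathlib.RingTheory.LocalRing.ResidueField.Ideal
import Mathlib.LinearAlgebra.Projection

/-!
Basic theory of essential injections and injective hulls.
-/

universe u v w

open CategoryTheory InjHull

namespace Groth.Agent.LC

variable {R : Type u} [CommRing R]

section Essential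

variable {M : Type v} {E : Type v} [AddCommGroup M] [Module R M] [AddCommGroup E] [Module R E]

theorem isEssentialInj_iff {f : M →ₗ[R] E} :
    IsEssentialInj f ↔ Function.Injective f ∧
      ∀ x : E, x ≠ 0 → ∃ r : R, r • x ∈ LinearMap.range f ∧ r • x ≠ 0 := by
  constructor
  · intro h
    refine ⟨h.injective, fun x hx => ?_⟩
    have := h.essential (R ∙ x) (by simpa using hx)
    obtain ⟨y, hy, hy0⟩ := (Submodule.ne_bot_iff _).1 this
    obtain ⟨r, rfl⟩ := Submodule.mem_span_singleton.1 hy.1
    exact ⟨r, hy.2, hy0⟩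
  · rintro ⟨h1, h2⟩
    refine ⟨h1, fun N hN => ?_⟩
    obtain ⟨x, hx, hx0⟩ := (Submodule.ne_bot_iff _).1 hN
    obtain ⟨r, hr, hr0⟩ := h2 x hx0
    exact (Submodule.ne_bot_iff _).2 ⟨r • x, ⟨N.smul_mem r hx, hr⟩, hr0⟩

theorem isEssentialInj_exists {f : M →ₗ[R] E} (hf : IsEssentialInj f) {x : E} (hx : x ≠ 0) :
    ∃ (r : R) (m : M), m ≠ 0 ∧ f m = r • x := by
  obtain ⟨r, ⟨m, hm⟩, hr0⟩ := (isEssentialInj_iff.1 hf).2 x hx
  exact ⟨r, m, fun h => hr0 (by rw [← hm, h, map_zero]), hm⟩

theorem isEssentialInj_injective_of_comp {X : Type w} [AddCommGroup X] [Module R X]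
    {f : M →ₗ[R] E} (hf : IsEssentialInj f) (g : E →ₗ[R] X) (hg : Function.Injective (g ∘ₗ f)) :
    Function.Injective g := by
  rw [injective_iff_map_eq_zero]
  intro x hx
  by_contra h
  obtain ⟨r, m, hm0, hm⟩ := isEssentialInj_exists hf h
  apply hm0
  apply hg
  simp [hm, hx]

theorem isEssentialInj_comp {X : Type v} [AddCommGroup X] [Module R X]
    {f : M →ₗ[R] E} (hf : IsEssentialInj f) {g : E →ₗ[R] X} (hg : IsEssentialInj g) :
    IsEssentialInj (g ∘ₗ f) := by
  refine isEssentialInj_iff.2 ⟨hg.injective.comp hf.injective, fun x hx => ?_⟩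
  obtain ⟨r, y, hy0, hy⟩ := isEssentialInj_exists hg hx
  obtain ⟨s, m, hm0, hm⟩ := isEssentialInj_exists hf hy0
  have : g (f m) = (s * r) • x := by rw [hm, map_smul, hy, smul_smul]
  refine ⟨s * r, ⟨m, this⟩, ?_⟩
  rw [← this]
  intro h
  exact hm0 ((hg.injective.comp hf.injective) (by simpa using h))

theorem isEssentialInj_of_comp_right {X : Type v} [AddCommGroup X] [Module R X]
    {f : M →ₗ[R] E} {g : E →ₗ[R] X} (hg : Function.Injective g) (h : IsEssentialInj (g ∘ₗ f)) :
    IsEssentialInj f := by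
  refine isEssentialInj_iff.2 ⟨Function.Injective.of_comp h.injective, fun x hx => ?_⟩
  obtain ⟨r, m, hm0, hm⟩ := isEssentialInj_exists h (x := g x)
    (by simpa using hg.ne hx)
  have : f m = r • x := hg (by simpa using hm)
  refine ⟨r, ⟨m, this⟩, ?_⟩
  rw [← this]
  intro h'
  exact hm0 (h.injective (by simp [h']))

theorem isEssentialInj_of_comp_left {X : Type v} [AddCommGroup X] [Module R X]
    {f : M →ₗ[R] E} {g : E →ₗ[R] X} (hg : Function.Injective g) (h : IsEssentialInj (g ∘ₗ f)) :
    IsEssentialInj g := by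
  refine isEssentialInj_iff.2 ⟨hg, fun x hx => ?_⟩
  obtain ⟨r, ⟨m, hm⟩, hr0⟩ := (isEssentialInj_iff.1 h).2 x hx
  exact ⟨r, ⟨f m, hm⟩, hr0⟩

theorem isEssentialInj_linearEquiv (e : M ≃ₗ[R] E) : IsEssentialInj e.toLinearMap := by
  refine isEssentialInj_iff.2 ⟨e.injective, fun x hx => ⟨1, ?_, by simpa⟩⟩
  exact ⟨e.symm (1 • x), by simp⟩

theorem isEssentialInj_subtype_iff (N : Submodule R E) :
    IsEssentialInj N.subtype ↔ ∀ x : E, x ≠ 0 → ∃ r : R, r • x ∈ N ∧ r • x ≠ 0 := by
  simp [isEssentialInj_iff, Submodule.injective_subtype]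

end Essential

section Injective

theorem injective_of_retract {I : Type u} [AddCommGroup I] [Module R I]
    {E : Type u} [AddCommGroup E] [Module R E] [Module.Injective R I]
    (i : E →ₗ[R] I) (p : I →ₗ[R] E) (h : p ∘ₗ i = LinearMap.id) : Module.Injective R E := by
  refine ⟨fun X Y _ _ _ _ f hf g => ?_⟩
  obtain ⟨k, hk⟩ := Module.Injective.out f hf (i ∘ₗ g)
  refine ⟨p ∘ₗ k, fun x => ?_⟩
  simp only [LinearMap.comp_apply, hk]
  exact LinearMap.congr_fun h (g x)

theorem injective_of_isCompl {I : Type u} [AddCommGroup I] [Module R I] [Module.Injective R I]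
    {E C : Submodule R I} (h : IsCompl E C) : Module.Injective R E :=
  injective_of_retract E.subtype (E.projectionOnto C h) (LinearMap.ext fun x => by simp)

theorem injective_of_linearEquiv {I : Type u} [AddCommGroup I] [Module R I] [Module.Injective R I]
    {E : Type u} [AddCommGroup E] [Module R E] (e : I ≃ₗ[R] E) : Module.Injective R E :=
  injective_of_retract e.symm.toLinearMap e.toLinearMap (by ext; simp)

theorem exists_extension {A B : Type u} [AddCommGroup A] [Module R A] [AddCommGroup B] [Module R B]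
    {I : Type u} [AddCommGroup I] [Module R I] [Module.Injective R I]
    (i : A →ₗ[R] B) (hi : Function.Injective i) (g : A →ₗ[R] I) :
    ∃ h : B →ₗ[R] I, h ∘ₗ i = g := by
  obtain ⟨h, hh⟩ := Module.Injective.out i hi g
  exact ⟨h, LinearMap.ext hh⟩

/-- An essential extension of an injective module is trivial. -/
theorem surjective_of_isEssentialInj {E : Type u} [AddCommGroup E] [Module R E]
    [Module.Injective R E] {X : Type u} [AddCommGroup X] [Module R X] {f : E →ₗ[R] X}
    (hf : IsEssentialInj f) : Function.Surjective f := by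
  obtain ⟨p, hp⟩ := exists_extension f hf.injective (LinearMap.id (R := R) (M := E))
  intro x
  refine ⟨p x, isEssentialInj_injective_of_comp hf p ?_ ?_⟩
  · rw [hp]; exact Function.injective_id
  · exact LinearMap.congr_fun hp (p x)

/-- A submodule of an injective module without proper essential extension inside it is a direct
summand. -/
theorem exists_isCompl_of_forall_essential {I : Type u} [AddCommGroup I] [Module R I]
    [Module.Injective R I] (E : Submodule R I)
    (hE : ∀ E' : Submodule R I, E ≤ E' →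
      (∀ x ∈ E', x ≠ 0 → ∃ r : R, r • x ∈ E ∧ r • x ≠ 0) → E' = E) :
    ∃ C : Submodule R I, IsCompl E C := by
  obtain ⟨C, hC, hmax⟩ : ∃ C : Submodule R I, Disjoint E C ∧
      ∀ D, Disjoint E D → C ≤ D → D = C := by
    obtain ⟨C, -, hC⟩ := zorn_le_nonempty₀ {C : Submodule R I | Disjoint E C}
      (fun c hc hchain y hy => ⟨sSup c,
        hchain.directedOn.disjoint_sSup_right.2 fun z hz => hc hz,
        fun z hz => le_sSup hz⟩) ⊥ disjoint_bot_right
    exact ⟨C, hC.prop, fun D hD hle => (hC.eq_of_le hD hle).symm⟩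
  have hq : Function.Injective (C.mkQ ∘ₗ E.subtype) := by
    rw [injective_iff_map_eq_zero]
    rintro ⟨x, hx⟩ h0
    simp only [LinearMap.coe_comp, Function.comp_apply, Submodule.subtype_apply,
      Submodule.mkQ_apply, Submodule.Quotient.mk_eq_zero] at h0
    exact Subtype.ext (Submodule.disjoint_def.1 hC x hx h0)
  obtain ⟨α, hα⟩ := exists_extension _ hq E.subtype
  have hess : IsEssentialInj (C.mkQ ∘ₗ E.subtype) := by
    refine isEssentialInj_iff.2 ⟨hq, fun y hy => ?_⟩
    obtain ⟨x, rfl⟩ := Submodule.mkQ_surjective C y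
    have hxC : x ∉ C := fun h => hy (by simpa using h)
    have : ¬ Disjoint E (C ⊔ R ∙ x) := fun h => hxC (by
      rw [← hmax _ h le_sup_left]
      exact Submodule.mem_sup_right (Submodule.mem_span_singleton_self x))
    rw [Submodule.disjoint_def] at this
    push Not at this
    obtain ⟨e, he, hec, he0⟩ := this
    obtain ⟨c, hc, _, hrx, hsum⟩ := Submodule.mem_sup.1 hec
    obtain ⟨r, rfl⟩ := Submodule.mem_span_singleton.1 hrx
    have hcq : C.mkQ e = r • C.mkQ x := by
      rw [← hsum, map_add, map_smul, show C.mkQ c = 0 by simpa using hc, zero_add]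
    refine ⟨r, ⟨⟨e, he⟩, by simpa using hcq⟩, ?_⟩
    rw [← hcq]
    simpa using fun h => he0 (Submodule.disjoint_def.1 hC e he h)
  have hαinj : Function.Injective α :=
    isEssentialInj_injective_of_comp hess α (by rw [hα]; exact E.injective_subtype)
  have hle : E ≤ LinearMap.range α := fun x hx => ⟨_, LinearMap.congr_fun hα ⟨x, hx⟩⟩
  have hrange : LinearMap.range α = E := by
    refine hE _ hle ?_
    rintro _ ⟨y, rfl⟩ hy0
    obtain ⟨r, ⟨e, he⟩, hr0⟩ := (isEssentialInj_iff.1 hess).2 y (fun h => hy0 (by simp [h]))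
    have h1 : r • α y = (e : I) := by
      rw [← map_smul, ← he]; exact LinearMap.congr_fun hα e
    refine ⟨r, h1 ▸ e.2, fun h => hr0 (hαinj ?_)⟩
    rw [map_smul, h, map_zero]
  refine ⟨C, hC, ?_⟩
  rw [codisjoint_iff, Submodule.eq_top_iff']
  intro x
  have he : α (C.mkQ x) ∈ E := hrange ▸ LinearMap.mem_range_self α _
  have h1 : C.mkQ (α (C.mkQ x)) = C.mkQ x := hαinj (LinearMap.congr_fun hα ⟨_, he⟩)
  exact Submodule.mem_sup.2 ⟨_, he, x - α (C.mkQ x),
    (Submodule.Quotient.eq C).1 h1.symm, by abel⟩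

/-- Inside an injective module, every submodule has a maximal essential extension, and this is
an injective module. -/
theorem exists_hull_submodule {I : Type u} [AddCommGroup I] [Module R I] [Module.Injective R I]
    (N : Submodule R I) :
    ∃ E : Submodule R I, N ≤ E ∧ (∀ x ∈ E, x ≠ 0 → ∃ r : R, r • x ∈ N ∧ r • x ≠ 0) ∧
      Module.Injective R E ∧ ∃ C : Submodule R I, IsCompl E C := by
  obtain ⟨E, hNE, hE⟩ := zorn_le_nonempty₀
    {E : Submodule R I | N ≤ E ∧ ∀ x ∈ E, x ≠ 0 → ∃ r : R, r • x ∈ N ∧ r • x ≠ 0}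
    (fun c hc hchain y hy => ⟨sSup c, ⟨(hc hy).1.trans (le_sSup hy), fun x hx hx0 => by
        obtain ⟨z, hz, hxz⟩ := (Submodule.mem_sSup_of_directed ⟨y, hy⟩ hchain.directedOn).1 hx
        exact (hc hz).2 x hxz hx0⟩,
      fun z hz => le_sSup hz⟩) N ⟨le_rfl, fun x hx hx0 => ⟨1, by simpa using hx, by simpa⟩⟩
  obtain ⟨C, hC⟩ := exists_isCompl_of_forall_essential E fun E' hle h' =>
    (hE.eq_of_le ⟨hE.prop.1.trans hle, fun x hx hx0 => by
      obtain ⟨r, hr, hr0⟩ := h' x hx hx0
      obtain ⟨s, hs, hs0⟩ := hE.prop.2 _ hr hr0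
      rw [smul_smul] at hs hs0
      exact ⟨s * r, hs, hs0⟩⟩ hle).symm
  exact ⟨E, hNE, hE.prop.2, injective_of_isCompl hC, C, hC⟩

/-- The hull of a submodule of an injective module, as an injective hull inside it. -/
theorem exists_hull_of_injective {M I : Type u} [AddCommGroup M] [Module R M] [AddCommGroup I]
    [Module R I] [Module.Injective R I] (i : M →ₗ[R] I) (hi : Function.Injective i) :
    ∃ (E : Submodule R I) (f : M →ₗ[R] E), IsInjectiveHull f ∧ E.subtype ∘ₗ f = i ∧
      ∃ C : Submodule R I, IsCompl E C := by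
  obtain ⟨E, hle, hess, hinj, hC⟩ := exists_hull_submodule (LinearMap.range i)
  have hmem : ∀ x, i x ∈ E := fun x => hle (LinearMap.mem_range_self i x)
  refine ⟨E, i.codRestrict E hmem, ⟨?_, hinj⟩, by ext; rfl, hC⟩
  refine isEssentialInj_iff.2 ⟨fun a b h => hi (congrArg Subtype.val h), fun x hx => ?_⟩
  obtain ⟨r, ⟨m, hm⟩, hr0⟩ := hess x.1 x.2 (by simpa using hx)
  exact ⟨r, ⟨m, Subtype.ext (by simpa using hm)⟩, fun h => hr0 (by simpa using congrArg Subtype.val h)⟩

theorem exists_injective_embedding (R : Type u) [CommRing R] (M : Type u) [AddCommGroup M]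
    [Module R M] : ∃ (I : Type u) (_ : AddCommGroup I) (_ : Module R I) (_ : Module.Injective R I)
      (i : M →ₗ[R] I), Function.Injective i := by
  obtain ⟨P⟩ := EnoughInjectives.presentation (ModuleCat.of R M)
  haveI : CategoryTheory.Injective (ModuleCat.of R P.J) := P.injective
  exact ⟨P.J, inferInstance, inferInstance, Module.injective_module_of_injective_object R P.J,
    P.f.hom, (ModuleCat.mono_iff_injective P.f).1 P.mono⟩

theorem exists_injectiveHull (R : Type u) [CommRing R] (M : Type u) [AddCommGroup M] [Module R M] :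
    ∃ (E : Type u) (_ : AddCommGroup E) (_ : Module R E) (f : M →ₗ[R] E), IsInjectiveHull f := by
  obtain ⟨I, _, _, _, i, hi⟩ := exists_injective_embedding R M
  obtain ⟨E, f, hf, -⟩ := exists_hull_of_injective i hi
  exact ⟨E, inferInstance, inferInstance, f, hf⟩

/-- A hull embeds as a direct summand in any injective module containing `M`. -/
theorem hull_embeds {M E I : Type u} [AddCommGroup M] [Module R M] [AddCommGroup E] [Module R E]
    [AddCommGroup I] [Module R I] [Module.Injective R I] {f : M →ₗ[R] E} (hf : IsInjectiveHull f)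
    (i : M →ₗ[R] I) (hi : Function.Injective i) :
    ∃ α : E →ₗ[R] I, Function.Injective α ∧ α ∘ₗ f = i ∧
      ∃ C : Submodule R I, IsCompl (LinearMap.range α) C := by
  have := hf.isInjective
  obtain ⟨α, hα⟩ := exists_extension f hf.injective i
  have hinj : Function.Injective α :=
    isEssentialInj_injective_of_comp hf.toIsEssentialInj α (by rw [hα]; exact hi)
  obtain ⟨p, hp⟩ := exists_extension α hinj (LinearMap.id (R := R) (M := E))
  refine ⟨α, hinj, hα, LinearMap.ker p, ?_, ?_⟩
  · rw [Submodule.disjoint_def]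
    rintro _ ⟨e, rfl⟩ h
    have h1 : p (α e) = e := LinearMap.congr_fun hp e
    rw [LinearMap.mem_ker, h1] at h
    rw [h, map_zero]
  · rw [codisjoint_iff, Submodule.eq_top_iff']
    intro x
    refine Submodule.mem_sup.2 ⟨α (p x), LinearMap.mem_range_self _ _, x - α (p x), ?_, by abel⟩
    have h1 : p (α (p x)) = p x := LinearMap.congr_fun hp (p x)
    simp [h1]

theorem hull_unique {M E E' : Type u} [AddCommGroup M] [Module R M] [AddCommGroup E] [Module R E]
    [AddCommGroup E'] [Module R E'] {f : M →ₗ[R] E} (hf : IsInjectiveHull f)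
    {g : M →ₗ[R] E'} (hg : IsInjectiveHull g) :
    ∃ e : E ≃ₗ[R] E', e.toLinearMap ∘ₗ f = g := by
  have := hg.isInjective
  have := hf.isInjective
  obtain ⟨α, hinj, hα, -⟩ := hull_embeds hf g hg.injective
  have hess : IsEssentialInj α :=
    isEssentialInj_of_comp_left hinj (by rw [hα]; exact hg.toIsEssentialInj)
  exact ⟨LinearEquiv.ofBijective α ⟨hinj, surjective_of_isEssentialInj hess⟩, hα⟩

theorem hull_of_linearEquiv {M M' E E' : Type v} [AddCommGroup M] [Module R M] [AddCommGroup E]
    [Module R E] [AddCommGroup M'] [Module R M'] [AddCommGroup E'] [Module R E']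
    {f : M →ₗ[R] E} (hf : IsEssentialInj f) (a : M' ≃ₗ[R] M) (b : E ≃ₗ[R] E') :
    IsEssentialInj (b.toLinearMap ∘ₗ f ∘ₗ a.toLinearMap) :=
  isEssentialInj_comp (isEssentialInj_comp (isEssentialInj_linearEquiv a) hf)
    (isEssentialInj_linearEquiv b)

end Injective

section Torsion

/-- An essential extension of a power torsion module over a Noetherian ring is power torsion. -/
theorem isPowerTorsion_of_isEssentialInj [IsNoetherianRing R] (J : Ideal R) {M E : Type v}
    [AddCommGroup M] [Module R M] [AddCommGroup E] [Module R E] (hM : LocCoh.IsPowerTorsion J M)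
    {f : M →ₗ[R] E} (hf : IsEssentialInj f) : LocCoh.IsPowerTorsion J E := by
  intro x
  let X : Submodule R E := R ∙ x
  let N : Submodule R X := (LinearMap.range f).comap X.subtype
  obtain ⟨s, hs⟩ : N.FG := IsNoetherian.noetherian N
  have : ∀ y : X, y ∈ N → ∃ k : ℕ, ∀ a ∈ J ^ k, a • y = 0 := by
    intro y hy
    obtain ⟨m, hm⟩ := hy
    obtain ⟨k, hk⟩ := hM m
    exact ⟨k, fun a ha => Subtype.ext (by
      simp only [Submodule.coe_smul, ZeroMemClass.coe_zero]
      rw [show (y : E) = f m from hm.symm, ← map_smul, hk a ha, map_zero])⟩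
  choose! k hk using this
  obtain ⟨K, hK⟩ : ∃ K, ∀ y ∈ s, k y ≤ K := ⟨s.sup k, fun y hy => Finset.le_sup hy⟩
  have hkill : J ^ K • N = ⊥ := by
    rw [eq_bot_iff, Submodule.smul_le]
    intro a ha y hy
    rw [Submodule.mem_bot]
    rw [← hs] at hy
    induction hy using Submodule.span_induction with
    | mem y hy => exact hk y (hs ▸ Submodule.subset_span hy) a (Ideal.pow_le_pow_right (hK y hy) ha)
    | zero => simp
    | add u v _ _ hu hv => rw [smul_add, hu, hv, add_zero]
    | smul r u _ hu => rw [smul_comm, hu, smul_zero]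
  obtain ⟨c, hc⟩ := J.exists_pow_inf_eq_pow_smul N
  have h0 : J ^ (K + c) • (⊤ : Submodule R X) ⊓ N = ⊥ := by
    rw [hc (K + c) (by omega), Nat.add_sub_cancel, ← le_bot_iff, ← hkill]
    exact Submodule.smul_mono le_rfl inf_le_right
  refine ⟨K + c, fun a ha => ?_⟩
  by_contra hne
  obtain ⟨r, ⟨m, hm⟩, hr0⟩ := (isEssentialInj_iff.1 hf).2 _ hne
  let z : X := ⟨r • a • x, X.smul_mem _ (X.smul_mem _ (Submodule.mem_span_singleton_self x))⟩
  have : z ∈ J ^ (K + c) • (⊤ : Submodule R X) ⊓ N := by
    refine ⟨?_, ⟨m, hm⟩⟩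
    have : z = (r * a) • (⟨x, Submodule.mem_span_singleton_self x⟩ : X) :=
      Subtype.ext (by simp [z, smul_smul])
    rw [this]
    exact Submodule.smul_mem_smul (Ideal.mul_mem_left _ r ha) Submodule.mem_top
  rw [h0, Submodule.mem_bot] at this
  exact hr0 (congrArg Subtype.val this)

/-- The power torsion part of a module, as a submodule. -/
theorem mem_iSup_torsionBySet {M : Type v} [AddCommGroup M] [Module R M] (J : Ideal R) (x : M) :
    x ∈ (⨆ n : ℕ, Submodule.torsionBySet R M ((J ^ n : Ideal R) : Set R)) ↔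
      ∃ n : ℕ, ∀ a ∈ J ^ n, a • x = 0 := by
  rw [Submodule.mem_iSup_of_directed]
  · simp [Submodule.mem_torsionBySet_iff]
  · refine Monotone.directed_le fun m n hmn y hy => ?_
    rw [Submodule.mem_torsionBySet_iff] at hy ⊢
    exact fun a => hy ⟨a.1, Ideal.pow_le_pow_right hmn a.2⟩

/-- The power torsion part of an injective module over a Noetherian ring is injective. -/
theorem injective_torsion [IsNoetherianRing R] {I : Type u} [AddCommGroup I] [Module R I]
    [Module.Injective R I] (J : Ideal R) :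
    Module.Injective R ↥(⨆ n : ℕ, Submodule.torsionBySet R I ((J ^ n : Ideal R) : Set R)) := by
  obtain ⟨E, hle, hess, hinj, -⟩ :=
    exists_hull_submodule (⨆ n : ℕ, Submodule.torsionBySet R I ((J ^ n : Ideal R) : Set R))
  have hMt : LocCoh.IsPowerTorsion J
      ↥(⨆ n : ℕ, Submodule.torsionBySet R I ((J ^ n : Ideal R) : Set R)) := by
    rintro ⟨m, hm⟩
    obtain ⟨n, hn⟩ := (mem_iSup_torsionBySet J m).1 hm
    exact ⟨n, fun a ha => Subtype.ext (hn a ha)⟩
  have hE : IsEssentialInj (Submodule.inclusion hle) := by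
    refine isEssentialInj_iff.2 ⟨Submodule.inclusion_injective _, fun x hx => ?_⟩
    obtain ⟨r, hr, hr0⟩ := hess x.1 x.2 (by simpa using hx)
    exact ⟨r, ⟨⟨_, hr⟩, rfl⟩, fun h => hr0 (congrArg Subtype.val h)⟩
  have heq : E = ⨆ n : ℕ, Submodule.torsionBySet R I ((J ^ n : Ideal R) : Set R) := by
    refine le_antisymm (fun x hx => ?_) hle
    obtain ⟨n, hn⟩ := isPowerTorsion_of_isEssentialInj J hMt hE ⟨x, hx⟩
    exact (mem_iSup_torsionBySet J x).2 ⟨n, fun a ha => congrArg Subtype.val (hn a ha)⟩
  rw [← heq]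
  exact hinj

end Torsion

end Groth.Agent.LC
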