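import Groth.Agent.LC.CohLoc

/-!
# An acyclicity criterion, independence of the base and flat base change
-/

universe u

open CategoryTheory Limits Opposite TensorProduct

namespace Groth.Agent.LC

variable {R : Type u} [CommRing R]

/-- `Γ_a M → (Γ_a M)_b` is surjective for every ideal `a` and every `b`. -/
def HasDiv (R : Type u) [CommRing R] (M : Type u) [AddCommGroup M] [Module R M] : Prop :=
  ∀ (a : Ideal R) (b : R), ∀ x ∈ DRing.torsionSub a M, ∀ m : ℕ,
    ∃ w ∈ DRing.torsionSub a M, ∃ t : ℕ, b ^ (t + m) • w = b ^ t • x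

theorem exists_pow_smul_mem_torsionSub [IsNoetherianRing R] {M : Type u} [AddCommGroup M] [Module R M]
    (a : Ideal R) (b : R) {y : M}
    (hy : LocalizedModule.mkLinearMap (Submonoid.powers b) M y ∈
      DRing.torsionSub a (LocalizedModule (Submonoid.powers b) M)) :
    ∃ L : ℕ, b ^ L • y ∈ DRing.torsionSub a M := by
  obtain ⟨n, hn⟩ := hy
  obtain ⟨s, hs⟩ := (IsNoetherian.noetherian (a ^ n) : (a ^ n).FG)
  have hkill : ∀ c ∈ a ^ n, ∃ l, b ^ l • c • y = 0 := by
    intro c hc
    obtain ⟨⟨_, l, rfl⟩, hl⟩ := (IsLocalizedModule.eq_zero_iff (Submonoid.powers b)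
      (LocalizedModule.mkLinearMap (Submonoid.powers b) M)).1 ((map_smul _ c y).trans (hn c hc))
    exact ⟨l, hl⟩
  choose l hl using hkill
  refine ⟨s.attach.sup fun c => l c.1 (hs ▸ Submodule.subset_span c.2), n, fun c hc => ?_⟩
  rw [← hs] at hc
  refine Submodule.span_induction ?_ ?_ ?_ ?_ hc
  · intro c hc
    have hle : l c (hs ▸ Submodule.subset_span hc) ≤ s.attach.sup fun c => l c.1 (hs ▸ Submodule.subset_span c.2) :=
      Finset.le_sup (f := fun c : s => l c.1 (hs ▸ Submodule.subset_span c.2)) (Finset.mem_attach s ⟨c, hc⟩)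
    rw [← Nat.sub_add_cancel hle, pow_add, mul_smul, smul_comm c (b ^ (_ - _)), smul_comm c, hl, smul_zero]
  · rw [zero_smul]
  · intro u v _ _ hu hv; rw [add_smul, hu, hv, add_zero]
  · intro r u _ hu; rw [smul_assoc, hu, smul_zero]

theorem exists_lift_of_hasDiv [IsNoetherianRing R] {M : Type u} [AddCommGroup M] [Module R M]
    (hM : HasDiv R M) (a : Ideal R) (b : R) {z : LocalizedModule (Submonoid.powers b) M}
    (hz : z ∈ DRing.torsionSub a (LocalizedModule (Submonoid.powers b) M)) :
    ∃ w ∈ DRing.torsionSub a M, LocalizedModule.mkLinearMap (Submonoid.powers b) M w = z := by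
  obtain ⟨⟨y, ⟨_, k, rfl⟩⟩, hy⟩ := IsLocalizedModule.surj (Submonoid.powers b)
    (LocalizedModule.mkLinearMap (Submonoid.powers b) M) z
  simp only [Submonoid.smul_def] at hy
  obtain ⟨L, hL⟩ := exists_pow_smul_mem_torsionSub a b (y := y) (hy ▸ Submodule.smul_mem _ _ hz)
  obtain ⟨w, hw, t, ht⟩ := hM a b _ hL (L + k)
  refine ⟨w, hw, ((Module.End.isUnit_iff _).1 (IsLocalizedModule.map_units
    (LocalizedModule.mkLinearMap (Submonoid.powers b) M)
    ⟨b ^ (t + (L + k)), Submonoid.pow_mem _ (Submonoid.mem_powers b) _⟩)).1 ?_⟩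
  show b ^ (t + (L + k)) • LocalizedModule.mkLinearMap (Submonoid.powers b) M w = b ^ (t + (L + k)) • z
  rw [← map_smul, ht, map_smul, map_smul, ← hy, pow_add, pow_add, mul_smul, mul_smul]

theorem hasDiv_loc [IsNoetherianRing R] {M : Type u} [AddCommGroup M] [Module R M] (hM : HasDiv R M)
    (c : R) : HasDiv R (LocalizedModule (Submonoid.powers c) M) := by
  intro a b x hx m
  obtain ⟨w₀, hw₀, rfl⟩ := exists_lift_of_hasDiv hM a c hx
  obtain ⟨w, ⟨n, hn⟩, t, ht⟩ := hM a b w₀ hw₀ m
  exact ⟨LocalizedModule.mkLinearMap _ _ w, ⟨n, fun s hs => by rw [← map_smul, hn s hs, map_zero]⟩, t,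
    by rw [← map_smul, ht, map_smul]⟩

theorem hasDiv_of_injective [IsNoetherianRing R] (M : Type u) [AddCommGroup M] [Module R M]
    [Module.Injective R M] : HasDiv R M := by
  intro a b x hx m
  have : Module.Injective R (DRing.torsionSub a M) := by
    rw [torsionSub_eq_iSup]; exact injective_torsion a
  obtain ⟨w, hw⟩ := surjective_mkLinearMap_of_injective (DRing.torsionSub a M) b
    (LocalizedModule.mk ⟨x, hx⟩ ⟨b ^ m, Submonoid.pow_mem _ (Submonoid.mem_powers b) _⟩)
  rw [LocalizedModule.mkLinearMap_apply, LocalizedModule.mk_eq] at hw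
  obtain ⟨⟨_, t, rfl⟩, ht⟩ := hw
  simp only [Submonoid.smul_def, one_smul] at ht
  refine ⟨w, w.2, t, ?_⟩
  rw [pow_add, mul_smul]
  exact congrArg Subtype.val ht

theorem subsingleton_of_hasDiv [IsNoetherianRing R] (I : Ideal R) :
    ∀ (M : ModuleCat.{u} R), HasDiv R M → ∀ i, Subsingleton ((localCohomology I (i + 1)).obj M) := by
  obtain ⟨s, rfl⟩ := (IsNoetherian.noetherian I : I.FG)
  classical
  induction s using Finset.induction with
  | empty =>
    intro M _ i
    refine subsingleton_of_torsion _ i M fun m => ⟨1, fun c hc => ?_⟩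
    rw [pow_one, Finset.coe_empty, Submodule.span_empty, Submodule.mem_bot] at hc
    rw [hc, zero_smul]
  | insert b s hb ih =>
    have hsup : Submodule.span R (↑(insert b s) : Set R) = Submodule.span R (s : Set R) ⊔ Ideal.span {b} := by
      rw [Finset.coe_insert, Submodule.span_insert, sup_comm]
    rw [hsup]
    intro M hM i
    set a : Ideal R := Submodule.span R (s : Set R)
    have h1 : Subsingleton ((localCohomology a (i + 1)).obj M) := ih M hM i
    obtain ⟨δ, hδ1, hδ2⟩ := exists_δloc b a i M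
    have hsurj : Function.Surjective (locH b a i M) := by
      rcases i with _ | j
      · intro z
        obtain ⟨w, hw, hwz⟩ := exists_lift_of_hasDiv hM a b (H0Equiv a ((locF b).obj M) z).2
        refine ⟨(H0Equiv a M).symm ⟨w, hw⟩, (H0Equiv a _).injective (Subtype.ext ?_)⟩
        refine (H0Equiv_natural a ((locNat b).app M) _).trans ?_
        refine Eq.trans ?_ hwz
        exact congrArg (LocalizedModule.mkLinearMap (Submonoid.powers b) M)
          (congrArg Subtype.val ((H0Equiv a M).apply_symm_apply ⟨w, hw⟩))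
      · have := ih ((locF b).obj M) (hasDiv_loc hM b) j
        exact fun z => ⟨0, Subsingleton.elim _ _⟩
    refine subsingleton_of_forall_eq 0 fun z => ?_
    obtain ⟨w, rfl⟩ := (hδ2 z).1 (Subsingleton.elim _ _)
    obtain ⟨v, rfl⟩ := hsurj w
    exact hδ1.apply_apply_eq_zero v

section Shift

variable (I : Ideal R) {S : ShortComplex (ModuleCat.{u} R)} (hS : S.ShortExact)
  (hX : ∀ i, Subsingleton ((localCohomology I (i + 1)).obj S.X₂))

include hS hX

/-- Dimension shifting. -/
noncomputable def shiftEquiv (i : ℕ) :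
    (localCohomology I (i + 1)).obj S.X₃ ≃ₗ[R] (localCohomology I (i + 2)).obj S.X₁ :=
  LinearEquiv.ofBijective (δH I (i + 1) hS (i + 2) rfl) ⟨by
    rw [injective_iff_map_eq_zero]
    intro z hz
    obtain ⟨w, rfl⟩ := (exact₃ I (i + 1) hS (i + 2) rfl z).1 hz
    have := hX i
    rw [Subsingleton.elim w 0, map_zero], fun z =>
    (exact₁ I (i + 1) hS (i + 2) rfl z).1 (by have := hX (i + 1); exact Subsingleton.elim _ _)⟩

omit hX in
/-- `Γ_I X₃ → H^1_I(X₁)`. -/
noncomputable def coker₁ : DRing.torsionSub I S.X₃ →ₗ[R] (localCohomology I 1).obj S.X₁ :=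
  δH I 0 hS 1 rfl ∘ₗ (H0Equiv I S.X₃).symm.toLinearMap

theorem coker₁_surjective : Function.Surjective (coker₁ I hS) := fun z => by
  obtain ⟨w, rfl⟩ := (exact₁ I 0 hS 1 rfl z).1 (by have := hX 0; exact Subsingleton.elim _ _)
  exact ⟨H0Equiv I S.X₃ w, congrArg _ ((H0Equiv I S.X₃).symm_apply_apply w)⟩

omit hX in
theorem coker₁_eq_zero_iff (y : DRing.torsionSub I S.X₃) :
    coker₁ I hS y = 0 ↔ ∃ x ∈ DRing.torsionSub I S.X₂, S.g.hom x = y.1 := by
  show δH I 0 hS 1 rfl ((H0Equiv I S.X₃).symm y) = 0 ↔ _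
  rw [exact₃ I 0 hS 1 rfl]
  constructor
  · rintro ⟨w, hw⟩
    refine ⟨(H0Equiv I S.X₂ w).1, (H0Equiv I S.X₂ w).2, ?_⟩
    rw [← H0Equiv_natural, hw, LinearEquiv.apply_symm_apply]
  · rintro ⟨x, hx, hxy⟩
    refine ⟨(H0Equiv I S.X₂).symm ⟨x, hx⟩, (H0Equiv I S.X₃).injective (Subtype.ext ?_)⟩
    rw [H0Equiv_natural, LinearEquiv.apply_symm_apply, LinearEquiv.apply_symm_apply]
    exact hxy

end Shift

theorem exists_addEquiv_of_surjective {A B H H' : Type*} [AddCommGroup A] [AddCommGroup B]
    [AddCommGroup H] [AddCommGroup H'] (e : A ≃+ B) (p : A →+ H) (q : B →+ H')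
    (hp : Function.Surjective p) (hq : Function.Surjective q) (h : ∀ a, p a = 0 ↔ q (e a) = 0) :
    ∃ φ : H ≃+ H', ∀ a, φ (p a) = q (e a) := by
  choose σ hσ using hp
  have key : ∀ a, q (e (σ (p a))) = q (e a) := fun a => by
    rw [← sub_eq_zero, ← map_sub, ← map_sub, ← h, map_sub, hσ, sub_self]
  let φ : H →+ H' :=
    AddMonoidHom.mk' (fun x => q (e (σ x))) fun x y => by
      rw [← hσ x, ← hσ y, ← map_add p, key, key, key, map_add, map_add]
  refine ⟨AddEquiv.ofBijective φ ⟨?_, fun y => ?_⟩, key⟩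
  · rw [injective_iff_map_eq_zero]
    intro x hx
    rw [← hσ x, h]
    exact hx
  · obtain ⟨b, rfl⟩ := hq y
    exact ⟨p (e.symm b), (key _).trans (by rw [AddEquiv.apply_symm_apply])⟩

section Indep

variable {R' : Type u} [CommRing R'] [Algebra R R'] (I : Ideal R)

theorem map_pow_smul_eq_zero_iff {M : Type u} [AddCommGroup M] [Module R' M] [Module R M]
    [IsScalarTower R R' M] (n : ℕ) (x : M) :
    (∀ c ∈ (I.map (algebraMap R R')) ^ n, c • x = 0) ↔ ∀ c ∈ I ^ n, c • x = 0 := by
  rw [← Ideal.map_pow]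
  refine ⟨fun h c hc => by rw [← algebraMap_smul R']; exact h _ (Ideal.mem_map_of_mem _ hc),
    fun h c hc => ?_⟩
  refine Submodule.span_induction ?_ ?_ ?_ ?_ hc
  · rintro _ ⟨d, hd, rfl⟩; rw [algebraMap_smul]; exact h d hd
  · rw [zero_smul]
  · intro u v _ _ hu hv; rw [add_smul, hu, hv, add_zero]
  · intro r u _ hu; rw [smul_assoc, hu, smul_zero]

theorem mem_torsionSub_map_iff {M : Type u} [AddCommGroup M] [Module R' M] [Module R M]
    [IsScalarTower R R' M] (x : M) :
    x ∈ DRing.torsionSub (I.map (algebraMap R R')) M ↔ x ∈ DRing.torsionSub I M :=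
  exists_congr fun n => map_pow_smul_eq_zero_iff I n x

theorem hasDiv_restrict [IsNoetherianRing R'] (M : Type u) [AddCommGroup M] [Module R' M] [Module R M]
    [IsScalarTower R R' M] [Module.Injective R' M] : HasDiv R M := by
  intro a b x hx m
  obtain ⟨w, hw, t, ht⟩ := hasDiv_of_injective (R := R') M (a.map (algebraMap R R')) (algebraMap R R' b) x
    ((mem_torsionSub_map_iff a x).2 hx) m
  refine ⟨w, (mem_torsionSub_map_iff a w).1 hw, t, ?_⟩
  rwa [← map_pow, ← map_pow, algebraMap_smul, algebraMap_smul] at ht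

theorem shortExact_restrict {M E : Type u} [AddCommGroup M] [Module R M] [Module R' M]
    [IsScalarTower R R' M] [AddCommGroup E] [Module R E] [Module R' E] [IsScalarTower R R' E]
    (f : M →ₗ[R'] E) (hf : Function.Injective f)
    {w : ModuleCat.ofHom (f.restrictScalars R) ≫ ModuleCat.ofHom ((LinearMap.range f).mkQ.restrictScalars R) = 0} :
    (ShortComplex.mk (ModuleCat.ofHom (f.restrictScalars R))
      (ModuleCat.ofHom ((LinearMap.range f).mkQ.restrictScalars R)) w).ShortExact where
  exact := (ShortComplex.ShortExact.moduleCat_exact_iff_function_exact _).2 fun y =>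
    LinearMap.exact_map_mkQ_range f y
  mono_f := (ModuleCat.mono_iff_injective _).2 fun _ _ h => hf h
  epi_g := (ModuleCat.epi_iff_surjective _).2 fun y => Submodule.mkQ_surjective (LinearMap.range f) y

variable [IsNoetherianRing R] [IsNoetherianRing R']

theorem exists_indep (i : ℕ) :
    ∀ (M : Type u) [AddCommGroup M] [Module R' M] [Module R M] [IsScalarTower R R' M],
      ∃ φ : (localCohomology (I.map (algebraMap R R')) i).obj (ModuleCat.of R' M) ≃+
          (localCohomology I i).obj (ModuleCat.of R M),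
        ∀ (r : R) x, φ (algebraMap R R' r • x) = r • φ x := by
  induction i using Nat.twoStepInduction with
  | zero =>
    intro M _ _ _ _
    let e : DRing.torsionSub (I.map (algebraMap R R')) M ≃+ DRing.torsionSub I M :=
      { toFun := fun x => ⟨x.1, (mem_torsionSub_map_iff I x.1).1 x.2⟩
        invFun := fun x => ⟨x.1, (mem_torsionSub_map_iff I x.1).2 x.2⟩
        left_inv := fun _ => rfl
        right_inv := fun _ => rfl
        map_add' := fun _ _ => rfl }
    refine ⟨(H0Equiv _ (ModuleCat.of R' M)).toAddEquiv.trans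
      (e.trans (H0Equiv I (ModuleCat.of R M)).symm.toAddEquiv), fun r x => ?_⟩
    show (H0Equiv I (ModuleCat.of R M)).symm (e (H0Equiv _ (ModuleCat.of R' M) (algebraMap R R' r • x))) =
      r • (H0Equiv I (ModuleCat.of R M)).symm (e (H0Equiv _ (ModuleCat.of R' M) x))
    rw [← map_smul (H0Equiv I (ModuleCat.of R M)).symm, map_smul]
    congr 1
    exact Subtype.ext (algebraMap_smul R' r _)
  | one =>
    intro M _ _ _ _
    obtain ⟨E, _, _, _, f, hf⟩ := exists_injective_embedding R' M
    letI : Module R E := Module.compHom E (algebraMap R R')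
    haveI : IsScalarTower R R' E := IsScalarTower.of_algebraMap_smul fun _ _ => rfl
    let S' : ShortComplex (ModuleCat.{u} R') := ShortComplex.mk (ModuleCat.ofHom f)
      (ModuleCat.ofHom (LinearMap.range f).mkQ) (by ext x; exact (Submodule.Quotient.mk_eq_zero _).2 ⟨x, rfl⟩)
    let S : ShortComplex (ModuleCat.{u} R) := ShortComplex.mk (ModuleCat.ofHom (f.restrictScalars R))
      (ModuleCat.ofHom ((LinearMap.range f).mkQ.restrictScalars R))
      (by ext x; exact (Submodule.Quotient.mk_eq_zero _).2 ⟨x, rfl⟩)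
    have hex : Function.Exact f (LinearMap.range f).mkQ := LinearMap.exact_map_mkQ_range f
    have hS' : S'.ShortExact :=
      { exact := (ShortComplex.ShortExact.moduleCat_exact_iff_function_exact _).2 hex
        mono_f := (ModuleCat.mono_iff_injective _).2 hf
        epi_g := (ModuleCat.epi_iff_surjective _).2 (Submodule.mkQ_surjective _) }
    have hS : S.ShortExact := shortExact_restrict f hf
    have hX' := subsingleton_of_hasDiv (I.map (algebraMap R R')) S'.X₂ (hasDiv_of_injective E)
    have hX := subsingleton_of_hasDiv I S.X₂ (hasDiv_restrict (R' := R') E)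
    let Q := E ⧸ LinearMap.range f
    let e : DRing.torsionSub (I.map (algebraMap R R')) Q ≃+ DRing.torsionSub I Q :=
      { toFun := fun x => ⟨x.1, (mem_torsionSub_map_iff I x.1).1 x.2⟩
        invFun := fun x => ⟨x.1, (mem_torsionSub_map_iff I x.1).2 x.2⟩
        left_inv := fun _ => rfl
        right_inv := fun _ => rfl
        map_add' := fun _ _ => rfl }
    obtain ⟨φ, hφ⟩ := exists_addEquiv_of_surjective e (coker₁ _ hS').toAddMonoidHom
      (coker₁ I hS).toAddMonoidHom (coker₁_surjective _ hS' hX') (coker₁_surjective I hS hX) fun y => by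
        show coker₁ _ hS' y = 0 ↔ coker₁ I hS (e y) = 0
        rw [coker₁_eq_zero_iff, coker₁_eq_zero_iff]
        exact exists_congr fun x => and_congr_left' (mem_torsionSub_map_iff I x)
    refine ⟨φ, fun r x => ?_⟩
    obtain ⟨y, rfl⟩ := coker₁_surjective _ hS' hX' x
    have h1 : coker₁ I hS (e y) = φ (coker₁ _ hS' y) := (hφ y).symm
    rw [← map_smul (coker₁ _ hS'), ← h1, ← map_smul (coker₁ I hS)]
    refine (hφ _).trans (congrArg _ (Subtype.ext ?_))
    exact algebraMap_smul R' r _
  | more i _ ih =>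
    intro M _ _ _ _
    obtain ⟨E, _, _, _, f, hf⟩ := exists_injective_embedding R' M
    letI : Module R E := Module.compHom E (algebraMap R R')
    haveI : IsScalarTower R R' E := IsScalarTower.of_algebraMap_smul fun _ _ => rfl
    let S' : ShortComplex (ModuleCat.{u} R') := ShortComplex.mk (ModuleCat.ofHom f)
      (ModuleCat.ofHom (LinearMap.range f).mkQ) (by ext x; exact (Submodule.Quotient.mk_eq_zero _).2 ⟨x, rfl⟩)
    let S : ShortComplex (ModuleCat.{u} R) := ShortComplex.mk (ModuleCat.ofHom (f.restrictScalars R))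
      (ModuleCat.ofHom ((LinearMap.range f).mkQ.restrictScalars R))
      (by ext x; exact (Submodule.Quotient.mk_eq_zero _).2 ⟨x, rfl⟩)
    have hex : Function.Exact f (LinearMap.range f).mkQ := LinearMap.exact_map_mkQ_range f
    have hS' : S'.ShortExact :=
      { exact := (ShortComplex.ShortExact.moduleCat_exact_iff_function_exact _).2 hex
        mono_f := (ModuleCat.mono_iff_injective _).2 hf
        epi_g := (ModuleCat.epi_iff_surjective _).2 (Submodule.mkQ_surjective _) }
    have hS : S.ShortExact := shortExact_restrict f hf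
    have hX' := subsingleton_of_hasDiv (I.map (algebraMap R R')) S'.X₂ (hasDiv_of_injective E)
    have hX := subsingleton_of_hasDiv I S.X₂ (hasDiv_restrict (R' := R') E)
    obtain ⟨φ, hφ⟩ := ih (E ⧸ LinearMap.range f)
    refine ⟨(shiftEquiv _ hS' hX' i).symm.toAddEquiv.trans (φ.trans (shiftEquiv I hS hX i).toAddEquiv),
      fun r x => ?_⟩
    show shiftEquiv I hS hX i (φ ((shiftEquiv _ hS' hX' i).symm (algebraMap R R' r • x))) =
      r • shiftEquiv I hS hX i (φ ((shiftEquiv _ hS' hX' i).symm x))
    rw [map_smul, ← map_smul (shiftEquiv I hS hX i)]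
    exact congrArg _ (hφ r _)

end Indep

section Flat

variable {R' : Type u} [CommRing R'] [Algebra R R'] [Module.Flat R R'] [IsNoetherianRing R] (I : Ideal R)
  (M : Type u) [AddCommGroup M] [Module R M]

theorem exists_preimage_of_torsion {y : R' ⊗[R] M} (hy : y ∈ DRing.torsionSub I (R' ⊗[R] M)) :
    ∃ v : R' ⊗[R] DRing.torsionSub I M, (DRing.torsionSub I M).subtype.lTensor R' v = y := by
  obtain ⟨n, hn⟩ := hy
  obtain ⟨k, c, hc⟩ := Submodule.fg_iff_exists_fin_generating_family.1
    (IsNoetherian.noetherian (I ^ n) : (I ^ n).FG)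
  let g : M →ₗ[R] (Fin k → M) := LinearMap.pi fun j => c j • LinearMap.id
  have hy0 : g.lTensor R' y = 0 := by
    apply (TensorProduct.piRight R R R' (fun _ : Fin k => M)).injective
    rw [map_zero]
    funext j
    have h1 : ∀ w : R' ⊗[R] M, TensorProduct.piRight R R R' (fun _ : Fin k => M) (g.lTensor R' w) j = c j • w := by
      intro w
      induction w with
      | zero => simp
      | add u v hu hv => rw [map_add, map_add, Pi.add_apply, hu, hv, smul_add]
      | tmul r m => simp [g, TensorProduct.piRight_apply, TensorProduct.tmul_smul]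
    rw [h1]
    exact hn _ (hc ▸ Submodule.subset_span ⟨j, rfl⟩)
  obtain ⟨v, rfl⟩ := ((Module.Flat.lTensor_exact R' (LinearMap.exact_subtype_ker_map g)) y).1 hy0
  have hle : LinearMap.ker g ≤ DRing.torsionSub I M := by
    intro m hm
    refine ⟨n, fun d hd => ?_⟩
    rw [← hc] at hd
    refine Submodule.span_induction ?_ ?_ ?_ ?_ hd
    · rintro _ ⟨j, rfl⟩
      exact congrFun (LinearMap.mem_ker.1 hm) j
    · rw [zero_smul]
    · intro a b _ _ ha hb; rw [add_smul, ha, hb, add_zero]
    · intro r a _ ha; rw [smul_assoc, ha, smul_zero]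
  refine ⟨(Submodule.inclusion hle).lTensor R' v, ?_⟩
  rw [← LinearMap.comp_apply, ← LinearMap.lTensor_comp, Submodule.subtype_comp_inclusion]

omit [Module.Flat R R'] [IsNoetherianRing R] in
theorem lTensor_subtype_mem (v : R' ⊗[R] DRing.torsionSub I M) :
    (DRing.torsionSub I M).subtype.lTensor R' v ∈ DRing.torsionSub I (R' ⊗[R] M) := by
  induction v with
  | zero => rw [map_zero]; exact zero_mem _
  | add u v hu hv => rw [map_add]; exact add_mem hu hv
  | tmul r m =>
    obtain ⟨n, hn⟩ := m.2
    exact ⟨n, fun d hd => by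
      rw [LinearMap.lTensor_tmul, ← TensorProduct.tmul_smul, Submodule.subtype_apply, hn d hd, TensorProduct.tmul_zero]⟩

theorem hasDiv_tensor [Module.Injective R M] : HasDiv R (R' ⊗[R] M) := by
  intro a b x hx m
  obtain ⟨v, rfl⟩ := exists_preimage_of_torsion a M hx
  clear hx
  induction v with
  | zero => exact ⟨0, zero_mem _, 0, by simp⟩
  | add u v hu hv =>
    obtain ⟨w₁, hw₁, t₁, ht₁⟩ := hu
    obtain ⟨w₂, hw₂, t₂, ht₂⟩ := hv
    refine ⟨w₁ + w₂, add_mem hw₁ hw₂, t₁ + t₂, ?_⟩
    rw [map_add, smul_add, smul_add]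
    congr 1
    · rw [show t₁ + t₂ + m = t₂ + (t₁ + m) by omega, pow_add, mul_smul, ht₁, ← mul_smul, ← pow_add, add_comm t₂]
    · rw [show t₁ + t₂ + m = t₁ + (t₂ + m) by omega, pow_add, mul_smul, ht₂, ← mul_smul, ← pow_add]
  | tmul r y =>
    obtain ⟨w, hw, t, ht⟩ := hasDiv_of_injective M a b y.1 y.2 m
    refine ⟨_, lTensor_subtype_mem a M (r ⊗ₜ ⟨w, hw⟩), t, ?_⟩
    simp only [LinearMap.lTensor_tmul, Submodule.subtype_apply, ← TensorProduct.tmul_smul, ht]

variable [IsNoetherianRing R']

theorem subsingleton_tensor [Module.Injective R M] (i : ℕ) :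
    Subsingleton ((localCohomology (I.map (algebraMap R R')) (i + 1)).obj (ModuleCat.of R' (R' ⊗[R] M))) := by
  obtain ⟨φ, -⟩ := exists_indep (R' := R') I (i + 1) (R' ⊗[R] M)
  have := subsingleton_of_hasDiv I (ModuleCat.of R (R' ⊗[R] M)) (hasDiv_tensor M) i
  exact φ.toEquiv.subsingleton

/-- Base change of torsion submodules along a flat map. -/
theorem baseChange_torsionSub :
    Function.Injective ((DRing.torsionSub I M).subtype.baseChange R') ∧
      LinearMap.range ((DRing.torsionSub I M).subtype.baseChange R') =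
        DRing.torsionSub (I.map (algebraMap R R')) (R' ⊗[R] M) := by
  refine ⟨Module.Flat.lTensor_preserves_injective_linearMap _ Subtype.val_injective, ?_⟩
  ext y
  rw [mem_torsionSub_map_iff, LinearMap.mem_range]
  refine ⟨?_, fun hy => ?_⟩
  · rintro ⟨v, rfl⟩; exact lTensor_subtype_mem I M v
  · exact exists_preimage_of_torsion I M hy

theorem exists_baseChange (i : ℕ) :
    ∀ (N : Type u) [AddCommGroup N] [Module R N],
      Nonempty ((R' ⊗[R] (localCohomology I i).obj (ModuleCat.of R N)) ≃ₗ[R']
        (localCohomology (I.map (algebraMap R R')) i).obj (ModuleCat.of R' (R' ⊗[R] N))) := by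
  induction i using Nat.twoStepInduction with
  | zero =>
    intro N _ _
    obtain ⟨hinj, hrange⟩ := baseChange_torsionSub (R' := R') I N
    exact ⟨(LinearEquiv.baseChange R R' _ _ (H0Equiv I (ModuleCat.of R N))).trans
      ((LinearEquiv.ofInjective _ hinj).trans ((LinearEquiv.ofEq _ _ hrange).trans
        (H0Equiv _ (ModuleCat.of R' (R' ⊗[R] N))).symm))⟩
  | one =>
    intro N _ _
    obtain ⟨E, _, _, _, f, hf⟩ := exists_injective_embedding R N
    let S : ShortComplex (ModuleCat.{u} R) := ShortComplex.mk (ModuleCat.ofHom f)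
      (ModuleCat.ofHom (LinearMap.range f).mkQ) (by ext x; exact (Submodule.Quotient.mk_eq_zero _).2 ⟨x, rfl⟩)
    have hex : Function.Exact f (LinearMap.range f).mkQ := LinearMap.exact_map_mkQ_range f
    let S' : ShortComplex (ModuleCat.{u} R') := ShortComplex.mk (ModuleCat.ofHom (f.baseChange R'))
      (ModuleCat.ofHom ((LinearMap.range f).mkQ.baseChange R'))
      (ModuleCat.hom_ext (LinearMap.ext fun v => (Module.Flat.lTensor_exact R' hex).apply_apply_eq_zero v))
    have hS : S.ShortExact :=
      { exact := (ShortComplex.ShortExact.moduleCat_exact_iff_function_exact _).2 hex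
        mono_f := (ModuleCat.mono_iff_injective _).2 hf
        epi_g := (ModuleCat.epi_iff_surjective _).2 (Submodule.mkQ_surjective _) }
    have hS' : S'.ShortExact :=
      { exact := (ShortComplex.ShortExact.moduleCat_exact_iff_function_exact _).2 (Module.Flat.lTensor_exact R' hex)
        mono_f := (ModuleCat.mono_iff_injective _).2 (Module.Flat.lTensor_preserves_injective_linearMap f hf)
        epi_g := (ModuleCat.epi_iff_surjective _).2 (LinearMap.lTensor_surjective R' (Submodule.mkQ_surjective _)) }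
    have hX := subsingleton_of_hasDiv I S.X₂ (hasDiv_of_injective E)
    have hX' := fun j => subsingleton_tensor (R' := R') I E j
    obtain ⟨hinjQ, hrangeQ⟩ := baseChange_torsionSub (R' := R') I (E ⧸ LinearMap.range f)
    let eQ := (LinearEquiv.ofInjective _ hinjQ).trans (LinearEquiv.ofEq _ _ hrangeQ)
    let ρ : DRing.torsionSub I E →ₗ[R] DRing.torsionSub I (E ⧸ LinearMap.range f) :=
      (LinearMap.range f).mkQ.restrict fun x hx => DRing.map_mem_torsionSub I _ hx
    have h1 : Function.Exact ρ (coker₁ I hS) := fun y => by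
      rw [coker₁_eq_zero_iff]
      exact ⟨fun ⟨x, hx, hxy⟩ => ⟨⟨x, hx⟩, Subtype.ext hxy⟩, fun ⟨x, hx⟩ => ⟨x.1, x.2, congrArg Subtype.val hx⟩⟩
    have h2 := lTensor_exact R' h1 (coker₁_surjective I hS hX)
    let p : R' ⊗[R] DRing.torsionSub I (E ⧸ LinearMap.range f) →ₗ[R']
        R' ⊗[R] (localCohomology I 1).obj (ModuleCat.of R N) := (coker₁ I hS).baseChange R'
    let q : R' ⊗[R] DRing.torsionSub I (E ⧸ LinearMap.range f) →ₗ[R']
        (localCohomology (I.map (algebraMap R R')) 1).obj (ModuleCat.of R' (R' ⊗[R] N)) :=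
      coker₁ _ hS' ∘ₗ eQ.toLinearMap
    have hp : Function.Surjective p := LinearMap.lTensor_surjective R' (coker₁_surjective I hS hX)
    have hq : Function.Surjective q := (coker₁_surjective _ hS' hX').comp eQ.surjective
    have hker : LinearMap.ker p = LinearMap.ker q := by
      ext v
      rw [LinearMap.mem_ker, LinearMap.mem_ker]
      show (coker₁ I hS).lTensor R' v = 0 ↔ coker₁ _ hS' (eQ v) = 0
      rw [h2, coker₁_eq_zero_iff]
      have hnat : ∀ w, ((LinearMap.range f).mkQ.baseChange R') ((DRing.torsionSub I E).subtype.baseChange R' w) =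
          (DRing.torsionSub I (E ⧸ LinearMap.range f)).subtype.baseChange R' (ρ.lTensor R' w) := by
        intro w
        induction w with
        | zero => simp
        | add a b ha hb => simp [map_add, ha, hb]
        | tmul r m => rfl
      constructor
      · rintro ⟨w, rfl⟩
        exact ⟨_, (baseChange_torsionSub (R' := R') I E).2 ▸ ⟨w, rfl⟩, hnat w⟩
      · rintro ⟨x, hx, hxy⟩
        obtain ⟨w, rfl⟩ := (baseChange_torsionSub (R' := R') I E).2.symm ▸ hx
        exact ⟨w, hinjQ ((hnat w).symm.trans hxy)⟩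
    exact ⟨(LinearMap.quotKerEquivOfSurjective p hp).symm.trans
      ((Submodule.quotEquivOfEq _ _ hker).trans (LinearMap.quotKerEquivOfSurjective q hq))⟩
  | more i _ ih =>
    intro N _ _
    obtain ⟨E, _, _, _, f, hf⟩ := exists_injective_embedding R N
    let S : ShortComplex (ModuleCat.{u} R) := ShortComplex.mk (ModuleCat.ofHom f)
      (ModuleCat.ofHom (LinearMap.range f).mkQ) (by ext x; exact (Submodule.Quotient.mk_eq_zero _).2 ⟨x, rfl⟩)
    have hex : Function.Exact f (LinearMap.range f).mkQ := LinearMap.exact_map_mkQ_range f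
    let S' : ShortComplex (ModuleCat.{u} R') := ShortComplex.mk (ModuleCat.ofHom (f.baseChange R'))
      (ModuleCat.ofHom ((LinearMap.range f).mkQ.baseChange R'))
      (ModuleCat.hom_ext (LinearMap.ext fun v => (Module.Flat.lTensor_exact R' hex).apply_apply_eq_zero v))
    have hS : S.ShortExact :=
      { exact := (ShortComplex.ShortExact.moduleCat_exact_iff_function_exact _).2 hex
        mono_f := (ModuleCat.mono_iff_injective _).2 hf
        epi_g := (ModuleCat.epi_iff_surjective _).2 (Submodule.mkQ_surjective _) }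
    have hS' : S'.ShortExact :=
      { exact := (ShortComplex.ShortExact.moduleCat_exact_iff_function_exact _).2 (Module.Flat.lTensor_exact R' hex)
        mono_f := (ModuleCat.mono_iff_injective _).2 (Module.Flat.lTensor_preserves_injective_linearMap f hf)
        epi_g := (ModuleCat.epi_iff_surjective _).2 (LinearMap.lTensor_surjective R' (Submodule.mkQ_surjective _)) }
    have hX := subsingleton_of_hasDiv I S.X₂ (hasDiv_of_injective E)
    have hX' := fun j => subsingleton_tensor (R' := R') I E j
    obtain ⟨φ⟩ := ih (E ⧸ LinearMap.range f)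
    exact ⟨(LinearEquiv.baseChange R R' _ _ (shiftEquiv I hS hX i).symm).trans
      (φ.trans (shiftEquiv _ hS' hX' i))⟩

end Flat

end Groth.Agent.LC
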