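import Groth.Agent.LC.CohAcyclic

/-!
# Consequences of the localization sequence
-/

universe u

open CategoryTheory Limits Opposite

namespace Groth.Agent.LC

variable {R : Type u} [CommRing R]

theorem map_smul_id (I : Ideal R) (i : ℕ) (M : ModuleCat.{u} R) (c : R)
    (z : (localCohomology I i).obj M) :
    ((localCohomology I i).map (c • 𝟙 M)).hom z = c • z := by
  obtain ⟨n, x, rfl⟩ := exists_toH I i z
  rw [toH_natural, ← Abelian.Ext.smul_eq_comp_mk₀, map_smul]

/-- If `c` is bijective on `M` then so it is on `H^i_I(M)`. -/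
theorem smul_bijective_obj (I : Ideal R) (i : ℕ) (M : ModuleCat.{u} R) (c : R)
    (hc : Function.Bijective fun m : M => c • m) :
    Function.Bijective fun z : (localCohomology I i).obj M => c • z := by
  have : IsIso (c • 𝟙 M) := (ConcreteCategory.isIso_iff_bijective _).2 hc
  have h := (ConcreteCategory.isIso_iff_bijective ((localCohomology I i).map (c • 𝟙 M))).1 inferInstance
  convert h using 1
  funext z
  exact (map_smul_id I i M c z).symm

theorem isLocalizedModule_locH [IsNoetherianRing R] (b : R) (a : Ideal R) (i : ℕ) (M : ModuleCat.{u} R) :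
    IsLocalizedModule (Submonoid.powers b) (locH b a i M) := by
  have hu : ∀ k : ℕ, Function.Bijective fun z : (localCohomology a i).obj ((locF b).obj M) => b ^ k • z :=
    fun k => smul_bijective_obj a i _ _ ((Module.End.isUnit_iff _).1
      (IsLocalizedModule.map_units (LocalizedModule.mkLinearMap (Submonoid.powers b) M)
        ⟨b ^ k, Submonoid.pow_mem _ (Submonoid.mem_powers b) _⟩))
  have hker : ∀ x, locH b a i M x = 0 → ∃ n : ℕ, b ^ n • x = 0 := by
    intro x hx
    obtain ⟨w, rfl⟩ := (exact_supH_locH b a i M x).1 hx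
    obtain ⟨n, hn⟩ := isPowerTorsion_obj (a ⊔ Ideal.span {b}) i M w
    exact ⟨n, by rw [← map_smul, hn _ (Ideal.pow_mem_pow
      (Ideal.mem_sup_right (Ideal.mem_span_singleton_self b)) n), map_zero]⟩
  refine ⟨?_, ?_, ?_⟩
  · rintro ⟨_, k, rfl⟩
    exact (Module.End.isUnit_iff _).2 (hu k)
  · intro z
    obtain ⟨δ, hδ, -⟩ := exists_δloc b a i M
    obtain ⟨n, hn⟩ := isPowerTorsion_obj (a ⊔ Ideal.span {b}) (i + 1) M (δ z)
    obtain ⟨x, hx⟩ := (hδ (b ^ n • z)).1 (by
      rw [map_smul, hn _ (Ideal.pow_mem_pow (Ideal.mem_sup_right (Ideal.mem_span_singleton_self b)) n)])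
    exact ⟨(x, ⟨b ^ n, Submonoid.pow_mem _ (Submonoid.mem_powers b) _⟩), hx.symm⟩
  · intro x y hxy
    obtain ⟨n, hn⟩ := hker (x - y) (by rw [map_sub, hxy, sub_self])
    exact ⟨⟨b ^ n, Submonoid.pow_mem _ (Submonoid.mem_powers b) _⟩, by
      rwa [smul_sub, sub_eq_zero] at hn⟩

theorem mem_range_supH_iff [IsNoetherianRing R] (b : R) (a : Ideal R) (i : ℕ) (M : ModuleCat.{u} R)
    (x : (localCohomology a i).obj M) :
    x ∈ LinearMap.range (supH b a i M) ↔ ∃ n : ℕ, b ^ n • x = 0 := by
  have := isLocalizedModule_locH b a i M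
  rw [LinearMap.mem_range, ← Set.mem_range, ← exact_supH_locH b a i M,
    IsLocalizedModule.eq_zero_iff (Submonoid.powers b) (locH b a i M)]
  exact ⟨fun ⟨⟨_, n, rfl⟩, h⟩ => ⟨n, h⟩,
    fun ⟨n, h⟩ => ⟨⟨b ^ n, Submonoid.pow_mem _ (Submonoid.mem_powers b) _⟩, h⟩⟩

theorem nonempty_cokerLocH [IsNoetherianRing R] (b : R) (a : Ideal R) (i : ℕ) (M : ModuleCat.{u} R) :
    Nonempty (((localCohomology a i).obj ((locF b).obj M) ⧸ LinearMap.range (locH b a i M)) ≃ₗ[R]
      LinearMap.ker (supH b a (i + 1) M)) := by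
  obtain ⟨δ, h1, h2⟩ := exists_δloc b a i M
  exact ⟨(Submodule.quotEquivOfEq _ _ h1.linearMap_ker_eq.symm).trans
    (δ.quotKerEquivRange.trans (LinearEquiv.ofEq _ _ h2.linearMap_ker_eq.symm))⟩

/-- `H^1_{(b)}(N)` is the cokernel of `N → N_b`, for any model of the localization. -/
theorem nonempty_H1_span [IsNoetherianRing R] (b : R) (N L : Type u) [AddCommGroup N] [Module R N]
    [AddCommGroup L] [Module R L] (f : N →ₗ[R] L) [IsLocalizedModule (Submonoid.powers b) f] :
    Nonempty ((L ⧸ LinearMap.range f) ≃ₗ[R]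
      (localCohomology (Ideal.span {b}) 1).obj (ModuleCat.of R N)) := by
  let M := ModuleCat.of R N
  have hbot : ∀ (P : ModuleCat.{u} R), LocCoh.IsPowerTorsion (⊥ : Ideal R) P := fun P m =>
    ⟨1, fun c hc => by rw [pow_one, Submodule.mem_bot] at hc; rw [hc, zero_smul]⟩
  have hs : Subsingleton ((localCohomology (⊥ : Ideal R) 1).obj M) := subsingleton_of_torsion _ 0 M (hbot M)
  obtain ⟨e⟩ := nonempty_cokerLocH b ⊥ 0 M
  have htop : LinearMap.ker (supH b ⊥ 1 M) = ⊤ := by
    rw [eq_top_iff]; exact fun x _ => Subsingleton.elim _ _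
  let e0 := fun P : ModuleCat.{u} R => (H0Equiv (⊥ : Ideal R) P).trans
    ((LinearEquiv.ofEq _ _ (torsionSub_eq_top _ (hbot P))).trans Submodule.topEquiv)
  let iL := IsLocalizedModule.iso (Submonoid.powers b) f
  have hrange : (LinearMap.range (locH b ⊥ 0 M)).map ((e0 ((locF b).obj M)).trans iL).toLinearMap =
      LinearMap.range f := by
    rw [← LinearMap.range_comp]
    have : ((e0 ((locF b).obj M)).trans iL).toLinearMap ∘ₗ locH b ⊥ 0 M = f ∘ₗ (e0 M).toLinearMap := by
      refine LinearMap.ext fun x => ?_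
      show iL ((H0Equiv (⊥ : Ideal R) _ (((localCohomology ⊥ 0).map ((locNat b).app M)).hom x)).1) =
        f ((H0Equiv (⊥ : Ideal R) M x).1)
      refine (congrArg iL (H0Equiv_natural _ _ x)).trans ?_
      exact IsLocalizedModule.iso_apply_mk (Submonoid.powers b) f _ 1 |>.trans (IsLocalizedModule.mk'_one _ f _)
    rw [this]
    exact LinearMap.range_comp_of_range_eq_top _ (e0 M).range
  have hsup : (⊥ : Ideal R) ⊔ Ideal.span {b} = Ideal.span {b} := bot_sup_eq _
  let t : (localCohomology (⊥ ⊔ Ideal.span {b}) 1).obj M ≅ (localCohomology (Ideal.span {b}) 1).obj M :=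
    eqToIso (by rw [hsup])
  exact ⟨(Submodule.Quotient.equiv _ _ ((e0 ((locF b).obj M)).trans iL) hrange).symm.trans
    (e.trans ((LinearEquiv.ofEq _ _ htop).trans (Submodule.topEquiv.trans t.toLinearEquiv)))⟩

theorem subsingleton_H_sup_span [IsNoetherianRing R] (b : R) (a : Ideal R) (i : ℕ) (M : ModuleCat.{u} R)
    (h1 : Subsingleton ((localCohomology a i).obj ((locF b).obj M)))
    (h2 : Subsingleton ((localCohomology a (i + 1)).obj M)) :
    Subsingleton ((localCohomology (a ⊔ Ideal.span {b}) (i + 1)).obj M) := by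
  obtain ⟨δ, -, h⟩ := exists_δloc b a i M
  refine subsingleton_of_forall_eq 0 fun z => ?_
  obtain ⟨w, rfl⟩ := (h z).1 (Subsingleton.elim _ _)
  rw [Subsingleton.elim w 0, map_zero]

/-- An ideal with `n` generators has cohomological dimension at most `n`. -/
theorem subsingleton_of_card_lt [IsNoetherianRing R] (s : Finset R) :
    ∀ (M : ModuleCat.{u} R) (i : ℕ), s.card < i →
      Subsingleton ((localCohomology (Ideal.span (s : Set R)) i).obj M) := by
  classical
  induction s using Finset.induction with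
  | empty =>
    intro M i hi
    obtain ⟨j, rfl⟩ := Nat.exists_eq_add_of_le' (show 1 ≤ i by omega)
    refine subsingleton_of_torsion _ j M fun m => ⟨1, fun c hc => ?_⟩
    rw [pow_one, Finset.coe_empty, Ideal.span_empty, Submodule.mem_bot] at hc
    rw [hc, zero_smul]
  | insert b s hb ih =>
    intro M i hi
    rw [Finset.card_insert_of_notMem hb] at hi
    obtain ⟨j, rfl⟩ := Nat.exists_eq_add_of_le' (show 1 ≤ i by omega)
    rw [Finset.coe_insert, Ideal.span_insert, sup_comm]
    exact subsingleton_H_sup_span b _ j M (ih _ j (by omega)) (ih M (j + 1) (by omega))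

end Groth.Agent.LC
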