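import Groth.Agent.LC.Colimit
import Groth.Agent.LC.CohCech
import Groth.Agent.LC.CohAcyclic
import Groth.Agent.S7038
import Mathlib.RingTheory.KrullDimension.Module
import Mathlib.RingTheory.Ideal.AssociatedPrime.Finiteness

/-!
# Vanishing of local cohomology above the dimension; cohomological dimension
-/

universe u

open CategoryTheory Limits

namespace Groth.Agent.LC

variable {R : Type u} [CommRing R] (I : Ideal R)

theorem subsingleton_H_of_equiv {M N : Type u} [AddCommGroup M] [Module R M] [AddCommGroup N]
    [Module R N] (e : M ≃ₗ[R] N) (i : ℕ)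
    (h : Subsingleton ((localCohomology I i).obj (ModuleCat.of R M))) :
    Subsingleton ((localCohomology I i).obj (ModuleCat.of R N)) :=
  (((localCohomology I i).mapIso e.toModuleIso).toLinearEquiv.toEquiv).symm.subsingleton

theorem subsingleton_H_of_subsingleton (M : ModuleCat.{u} R) [Subsingleton M] (i : ℕ) :
    Subsingleton ((localCohomology I i).obj M) :=
  subsingleton_of_forall_eq 0 fun z => by
    obtain ⟨n, x, rfl⟩ := exists_toH I i z
    rw [show x = 0 from ?_, map_zero]
    have h0 : 𝟙 M = 0 := ModuleCat.hom_ext (LinearMap.ext fun m => Subsingleton.elim _ _)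
    rw [← Abelian.Ext.comp_mk₀_id x, h0, Abelian.Ext.mk₀_zero, Abelian.Ext.comp_zero]

theorem subsingleton_H_of_shortExact {S : ShortComplex (ModuleCat.{u} R)} (hS : S.ShortExact) (i : ℕ)
    (h1 : Subsingleton ((localCohomology I i).obj S.X₁))
    (h3 : Subsingleton ((localCohomology I i).obj S.X₃)) :
    Subsingleton ((localCohomology I i).obj S.X₂) :=
  subsingleton_of_forall_eq 0 fun z => by
    obtain ⟨w, rfl⟩ := (exact₂ I i hS z).1 (Subsingleton.elim _ _)
    rw [Subsingleton.elim w 0, map_zero]

theorem coheight_add_one_le {p q : PrimeSpectrum R} (h : p < q) :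
    Order.coheight q + 1 ≤ Order.coheight p :=
  Order.coheight_add_one_le h

theorem coheight_le_supportDim {M : Type u} [AddCommGroup M] [Module R M] {p : PrimeSpectrum R}
    (hp : p ∈ Module.support R M) :
    (Order.coheight p : WithBot ℕ∞) ≤ Module.supportDim R M := by
  rw [Order.coheight_eq_krullDim_Ici]
  exact Order.krullDim_le_of_strictMono (fun x => ⟨x.1, Module.mem_support_mono x.2 hp⟩) fun _ _ h => h

variable [IsNoetherianRing R]

/-- If all the `R/q` for `q` in the support have vanishing `H^i`, so does `M`. -/
theorem subsingleton_H_of_filtration (i : ℕ) (M : Type u) [AddCommGroup M] [Module R M]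
    [Module.Finite R M]
    (h : ∀ q : PrimeSpectrum R, q ∈ Module.support R M →
      Subsingleton ((localCohomology I i).obj (ModuleCat.of R (R ⧸ q.asIdeal)))) :
    Subsingleton ((localCohomology I i).obj (ModuleCat.of R M)) := by
  revert h
  refine IsNoetherianRing.induction_on_isQuotientEquivQuotientPrime (A := R) (M := M) ‹_›
    (motive := fun N _ _ _ => (∀ q : PrimeSpectrum R, q ∈ Module.support R N →
      Subsingleton ((localCohomology I i).obj (ModuleCat.of R (R ⧸ q.asIdeal)))) →
      Subsingleton ((localCohomology I i).obj (ModuleCat.of R N))) ?_ ?_ ?_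
  · intro N _ _ _ _ _
    exact subsingleton_H_of_subsingleton I _ i
  · intro N _ _ _ q e hN
    refine subsingleton_H_of_equiv I e.symm i (hN q ?_)
    rw [e.support_eq, Module.support_eq_zeroLocus, Ideal.annihilator_quotient]
    exact fun _ hx => hx
  · intro N₁ _ _ _ N₂ _ _ _ N₃ _ _ _ f g hf hg hfg h1 h3 hN
    let S : ShortComplex (ModuleCat.{u} R) := ShortComplex.mk (X₁ := ModuleCat.of R N₁)
      (X₂ := ModuleCat.of R N₂) (X₃ := ModuleCat.of R N₃) (ModuleCat.ofHom f) (ModuleCat.ofHom g)
      (ModuleCat.hom_ext (LinearMap.ext fun z => hfg.apply_apply_eq_zero z))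
    have hS : S.ShortExact :=
      { exact := (ShortComplex.ShortExact.moduleCat_exact_iff_function_exact _).2 hfg
        mono_f := (ModuleCat.mono_iff_injective _).2 hf
        epi_g := (ModuleCat.epi_iff_surjective _).2 hg }
    exact subsingleton_H_of_shortExact I hS i
      (h1 fun q hq => hN q (Module.support_subset_of_injective f hf hq))
      (h3 fun q hq => hN q (Module.support_subset_of_surjective g hg hq))

theorem subsingleton_H_quot_prime (p : PrimeSpectrum R) :
    ∀ i : ℕ, Order.coheight p < (i : ℕ∞) →
      Subsingleton ((localCohomology I i).obj (ModuleCat.of R (R ⧸ p.asIdeal))) := by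
  have hwf : WellFounded fun q₁ q₂ : PrimeSpectrum R => q₂ < q₁ :=
    (InvImage.wf PrimeSpectrum.asIdeal (wellFounded_gt (α := Ideal R)))
  induction p using hwf.induction with
  | h p ih =>
  intro i hi
  obtain ⟨j, rfl⟩ : ∃ j, i = j + 1 := ⟨i - 1, by
    have : i ≠ 0 := fun h => by simp [h] at hi
    omega⟩
  by_cases hI : I ≤ p.asIdeal
  · refine subsingleton_of_torsion I j _ fun m => ⟨1, fun a ha => ?_⟩
    rw [pow_one] at ha
    obtain ⟨m, rfl⟩ := Ideal.Quotient.mk_surjective m
    rw [Algebra.smul_def, Ideal.Quotient.algebraMap_eq, ← map_mul,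
      Ideal.Quotient.eq_zero_iff_mem.2 (Ideal.mul_mem_right m _ (hI ha))]
  · obtain ⟨x, hxI, hxp⟩ := SetLike.not_le_iff_exists.1 hI
    let A := R ⧸ p.asIdeal
    let f : A →ₗ[R] A := x • LinearMap.id
    have hf : Function.Injective f := fun a b hab => by
      have : Ideal.Quotient.mk p.asIdeal x ≠ 0 := fun h => hxp (Ideal.Quotient.eq_zero_iff_mem.1 h)
      have h' : Ideal.Quotient.mk p.asIdeal x * a = Ideal.Quotient.mk p.asIdeal x * b := by
        have hab' : x • a = x • b := hab
        rwa [Algebra.smul_def, Algebra.smul_def] at hab'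
      exact mul_left_cancel₀ this h'
    let S : ShortComplex (ModuleCat.{u} R) := ShortComplex.mk (X₁ := ModuleCat.of R A)
      (X₂ := ModuleCat.of R A) (X₃ := ModuleCat.of R (A ⧸ LinearMap.range f))
      (ModuleCat.ofHom f) (ModuleCat.ofHom (LinearMap.range f).mkQ)
      (ModuleCat.hom_ext (LinearMap.ext fun z => (Submodule.Quotient.mk_eq_zero _).2 ⟨z, rfl⟩))
    have hS : S.ShortExact :=
      { exact := (ShortComplex.ShortExact.moduleCat_exact_iff_function_exact _).2
          (LinearMap.exact_map_mkQ_range f)
        mono_f := (ModuleCat.mono_iff_injective _).2 hf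
        epi_g := (ModuleCat.epi_iff_surjective _).2 (Submodule.mkQ_surjective _) }
    have hC : Subsingleton ((localCohomology I j).obj S.X₃) := by
      refine subsingleton_H_of_filtration I j (A ⧸ LinearMap.range f) fun q hq => ?_
      have hle : p.asIdeal ≤ q.asIdeal := by
        have := Module.support_subset_of_surjective (LinearMap.range f).mkQ (Submodule.mkQ_surjective _) hq
        rw [Module.support_eq_zeroLocus, Ideal.annihilator_quotient] at this
        exact this
      have hxq : x ∈ q.asIdeal := by
        rw [Module.support_eq_zeroLocus] at hq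
        refine hq (Module.mem_annihilator.2 fun z => ?_)
        obtain ⟨z, rfl⟩ := Submodule.Quotient.mk_surjective _ z
        exact (Submodule.Quotient.mk_eq_zero _).2 ⟨z, rfl⟩
      have hlt : p < q := lt_of_le_of_ne hle fun h => hxp (h ▸ hxq)
      refine ih q hlt j ?_
      have := (Order.coheight_add_one_le hlt).trans_lt hi
      rw [Nat.cast_add, Nat.cast_one] at this
      exact lt_of_add_lt_add_right this
    refine subsingleton_of_forall_eq 0 fun z => ?_
    have hsurj := (exact₁ I j hS (j + 1) rfl)
    have hinj : Function.Injective ((localCohomology I (j + 1)).map S.f).hom :=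
      (injective_iff_map_eq_zero _).2 fun w hw => by
        obtain ⟨v, rfl⟩ := (hsurj w).1 hw
        rw [Subsingleton.elim v 0, map_zero]
    have hsmul : ∀ w, ((localCohomology I (j + 1)).map S.f).hom w = x • w := fun w => by
      obtain ⟨n, y, rfl⟩ := exists_toH I (j + 1) w
      rw [toH_natural, show S.f = x • 𝟙 (ModuleCat.of R A) from rfl,
        ← Abelian.Ext.smul_eq_comp_mk₀, map_smul]
    obtain ⟨n, y, hy⟩ := exists_toH I (j + 1) z
    have hkill : x ^ n • z = 0 := by
      rw [← hy, ← map_smul]
      have h0 : x ^ n • 𝟙 (qObj I n) = 0 := by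
        refine ModuleCat.hom_ext (LinearMap.ext fun q => ?_)
        obtain ⟨q, rfl⟩ := Ideal.Quotient.mk_surjective q
        show x ^ n • Ideal.Quotient.mk (I ^ n) q = 0
        rw [Algebra.smul_def, Ideal.Quotient.algebraMap_eq, ← map_mul,
          Ideal.Quotient.eq_zero_iff_mem.2 (Ideal.mul_mem_right _ _ (Ideal.pow_mem_pow hxI n))]
      rw [show x ^ n • y = (Abelian.Ext.mk₀ (x ^ n • 𝟙 (qObj I n))).comp y (zero_add _) by
          rw [Abelian.Ext.mk₀_smul, Abelian.Ext.smul_comp, Abelian.Ext.mk₀_id_comp],
        h0, Abelian.Ext.mk₀_zero, Abelian.Ext.zero_comp, map_zero]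
    clear hy y
    induction n generalizing z with
    | zero => simpa using hkill
    | succ n ihn =>
      rw [pow_succ, mul_smul] at hkill
      exact hinj (by rw [hsmul, ihn (x • z) hkill, map_zero])

theorem subsingleton_H_of_supportDim_lt (M : Type u) [AddCommGroup M] [Module R M] (i : ℕ)
    (hi : Module.supportDim R M < (i : WithBot ℕ∞)) :
    Subsingleton ((localCohomology I i).obj (ModuleCat.of R M)) := by
  refine subsingleton_H_of_fg I i _ fun N hN => ?_
  have : Module.Finite R N := Module.Finite.iff_fg.2 hN
  refine subsingleton_H_of_filtration I i N fun q hq => subsingleton_H_quot_prime I q i ?_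
  have := (coheight_le_supportDim
    (Module.support_subset_of_injective N.subtype Subtype.val_injective hq)).trans_lt hi
  exact_mod_cast this

theorem cdLE_of_ringKrullDim_le {d : ℕ} (hd : ringKrullDim R ≤ d) : LocCoh.CdLE R I d :=
  fun M _ _ i hi => subsingleton_H_of_supportDim_lt I M i
    (((Module.supportDim_le_ringKrullDim R M).trans hd).trans_lt (by exact_mod_cast hi))

/-- Vanishing on the ring gives the bound on the cohomological dimension. -/
theorem cdLE_of_ring {d : ℕ}
    (h : ∀ i, d < i → Subsingleton ((localCohomology I i).obj (ModuleCat.of R R))) :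
    LocCoh.CdLE R I d := by
  obtain ⟨s, hs⟩ := (IsNoetherian.noetherian I : I.FG)
  suffices ∀ (k i : ℕ), d < i → s.card < i + k → ∀ (M : Type u) [AddCommGroup M] [Module R M],
      Module.Finite R M → Subsingleton ((localCohomology I i).obj (ModuleCat.of R M)) from
    fun M _ _ i hi => subsingleton_H_of_fg I i _ fun N hN =>
      this (s.card + 1) i hi (by omega) N (Module.Finite.iff_fg.2 hN)
  intro k
  induction k with
  | zero =>
    intro i _ hi M _ _ _
    rw [← hs]
    exact subsingleton_of_card_lt s _ i (by simpa using hi)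
  | succ k ih =>
    intro i hdi hi M _ _ _
    obtain ⟨n, π, hπ⟩ := Module.Finite.exists_fin' R M
    let S : ShortComplex (ModuleCat.{u} R) := ShortComplex.mk
      (X₁ := ModuleCat.of R (LinearMap.ker π)) (X₂ := ModuleCat.of R (Fin n → R))
      (X₃ := ModuleCat.of R M)
      (ModuleCat.ofHom (LinearMap.ker π).subtype) (ModuleCat.ofHom π)
      (ModuleCat.hom_ext (LinearMap.ext fun z => z.2))
    have hS : S.ShortExact :=
      { exact := (ShortComplex.ShortExact.moduleCat_exact_iff_function_exact _).2
          (LinearMap.exact_subtype_ker_map π)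
        mono_f := (ModuleCat.mono_iff_injective _).2 Subtype.val_injective
        epi_g := (ModuleCat.epi_iff_surjective _).2 hπ }
    have hK := ih (i + 1) (by omega) (by omega) (LinearMap.ker π) inferInstance
    have hfree : ∀ (l : ℕ), Subsingleton ((localCohomology I i).obj (ModuleCat.of R (Fin l → R))) := by
      intro l
      induction l with
      | zero => exact subsingleton_H_of_subsingleton I _ i
      | succ l ihl =>
        let T : ShortComplex (ModuleCat.{u} R) := ShortComplex.mk
          (X₁ := ModuleCat.of R R) (X₂ := ModuleCat.of R (R × (Fin l → R)))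
          (X₃ := ModuleCat.of R (Fin l → R))
          (ModuleCat.ofHom (LinearMap.inl R R (Fin l → R))) (ModuleCat.ofHom (LinearMap.snd R R (Fin l → R)))
          (ModuleCat.hom_ext (LinearMap.ext fun z => rfl))
        have hT : T.ShortExact :=
          { exact := (ShortComplex.ShortExact.moduleCat_exact_iff_function_exact _).2
              (Function.Exact.inl_snd)
            mono_f := (ModuleCat.mono_iff_injective _).2 LinearMap.inl_injective
            epi_g := (ModuleCat.epi_iff_surjective _).2 LinearMap.snd_surjective }
        exact subsingleton_H_of_equiv I (Fin.consLinearEquiv R fun _ : Fin (l + 1) => R) i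
          (subsingleton_H_of_shortExact I hT i (h i hdi) ihl)
    have := hfree n
    refine subsingleton_of_forall_eq 0 fun z => ?_
    obtain ⟨w, rfl⟩ := (exact₃ I i hS (i + 1) rfl z).1 (Subsingleton.elim _ _)
    rw [show w = 0 from Subsingleton.elim (α := (localCohomology I i).obj (ModuleCat.of R (Fin n → R))) _ _]
    exact map_zero _

end Groth.Agent.LC
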