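import Groth.Agent.LC.Depth

/-!
# Depth in short exact sequences and along regular sequences
-/

universe u

open CategoryTheory RingTheory.Sequence
open scoped Pointwise

namespace Groth.Agent.LC

variable {R : Type u} [CommRing R] [IsNoetherianRing R] (I : Ideal R)
variable {M : Type u} [AddCommGroup M] [Module R M] [Module.Finite R M]

theorem idealDepth_congr {N : Type u} [AddCommGroup N] [Module R N] [Module.Finite R N]
    (e : M ≃ₗ[R] N) : LocCoh.idealDepth I M = LocCoh.idealDepth I N :=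
  enat_eq_of_nat_le_iff fun n => by
    rw [le_idealDepth_iff_H, le_idealDepth_iff_H]
    exact forall₂_congr fun i _ =>
      (((localCohomology I i).mapIso e.toModuleIso).toLinearEquiv.toEquiv).subsingleton_congr

/-- Ext out of `R/I` only sees multiplication by an element of `I` as zero. -/
theorem ext_comp_smul_eq_zero {x : R} (hx : x ∈ I) {N : ModuleCat.{u} R} {i : ℕ}
    (z : Abelian.Ext (ModuleCat.of R (R ⧸ I)) N i) :
    z.comp (Abelian.Ext.mk₀ (x • 𝟙 N)) (add_zero i) = 0 := by
  have h0 : x • 𝟙 (ModuleCat.of R (R ⧸ I)) = 0 := by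
    refine ModuleCat.hom_ext (LinearMap.ext fun q => ?_)
    obtain ⟨q, rfl⟩ := Ideal.Quotient.mk_surjective q
    show x • Ideal.Quotient.mk I q = 0
    rw [Algebra.smul_def, Ideal.Quotient.algebraMap_eq, ← map_mul,
      Ideal.Quotient.eq_zero_iff_mem.2 (Ideal.mul_mem_right _ _ hx)]
  rw [← Abelian.Ext.smul_eq_comp_mk₀]
  rw [show x • z = (Abelian.Ext.mk₀ (x • 𝟙 (ModuleCat.of R (R ⧸ I)))).comp z (zero_add i) by
      rw [Abelian.Ext.mk₀_smul, Abelian.Ext.smul_comp, Abelian.Ext.mk₀_id_comp],
    h0, Abelian.Ext.mk₀_zero, Abelian.Ext.zero_comp]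

theorem le_idealDepth_quotSMulTop_iff {x : R} (hx : x ∈ I) (hreg : IsSMulRegular M x) (n : ℕ) :
    (n : ℕ∞) ≤ LocCoh.idealDepth I (QuotSMulTop x M) ↔
      ((n + 1 : ℕ) : ℕ∞) ≤ LocCoh.idealDepth I M := by
  have hS := IsSMulRegular.smulShortComplex_shortExact (M := ModuleCat.of R M) hreg
  rw [le_idealDepth_iff_ext, le_idealDepth_iff_ext]
  constructor
  · intro h i hi
    refine subsingleton_of_forall_eq 0 fun z => ?_
    rcases i with _ | k
    · obtain ⟨f, rfl⟩ := Abelian.Ext.addEquiv₀.symm.surjective z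
      rw [show f = 0 from ?_, map_zero]
      refine ModuleCat.hom_ext (LinearMap.ext fun q => ?_)
      obtain ⟨q, rfl⟩ := Submodule.Quotient.mk_surjective _ q
      refine hreg ?_
      show x • f.hom (Submodule.Quotient.mk q) = x • 0
      rw [smul_zero, ← map_smul, ← Submodule.Quotient.mk_smul,
        (Submodule.Quotient.mk_eq_zero _).2 (show x • q ∈ I from Ideal.mul_mem_right q I hx), map_zero]
    · obtain ⟨y, hy⟩ := Abelian.Ext.covariant_sequence_exact₁ (ModuleCat.of R (R ⧸ I)) hS z
        (n₀ := k) (by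
          rw [ModuleCat.smulShortComplex_f_eq_smul_id]
          exact ext_comp_smul_eq_zero I hx z) rfl
      have := h k (by omega)
      rw [← hy, show y = 0 from Subsingleton.elim (α := Abelian.Ext (ModuleCat.of R (R ⧸ I))
        (ModuleCat.of R (QuotSMulTop x M)) k) _ _, Abelian.Ext.zero_comp]
      rfl
  · intro h i hi
    refine subsingleton_of_forall_eq 0 fun z => ?_
    have h1 := h (i + 1) (by omega)
    have h2 := h i (by omega)
    obtain ⟨y, hy⟩ := Abelian.Ext.covariant_sequence_exact₃ (ModuleCat.of R (R ⧸ I)) hS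
      (n₁ := i + 1) z rfl (Subsingleton.elim (α := Abelian.Ext (ModuleCat.of R (R ⧸ I))
        (ModuleCat.of R M) (i + 1)) _ _)
    rw [← hy, show y = 0 from Subsingleton.elim (α := Abelian.Ext (ModuleCat.of R (R ⧸ I))
      (ModuleCat.of R M) i) _ _, Abelian.Ext.zero_comp]
    rfl

theorem enat_add_one_eq {a b : ℕ∞} (hb : 1 ≤ b)
    (h : ∀ n : ℕ, (n : ℕ∞) ≤ a ↔ ((n + 1 : ℕ) : ℕ∞) ≤ b) : a + 1 = b := by
  refine enat_eq_of_nat_le_iff fun n => ?_
  rcases n with _ | m
  · simp
  · rw [← h m, Nat.cast_add, Nat.cast_one, ENat.add_le_add_iff_right ENat.one_ne_top]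

theorem idealDepth_quotSMulTop_add_one {x : R} (hx : x ∈ I) (hreg : IsSMulRegular M x) :
    LocCoh.idealDepth I (QuotSMulTop x M) + 1 = LocCoh.idealDepth I M :=
  enat_add_one_eq (by simpa using (le_idealDepth_quotSMulTop_iff I hx hreg 0).1 (by simp))
    (le_idealDepth_quotSMulTop_iff I hx hreg)

theorem idealDepth_quot_ofList {rs : List R} (h : IsWeaklyRegular M rs) (hmem : ∀ r ∈ rs, r ∈ I) :
    LocCoh.idealDepth I (M ⧸ (Ideal.ofList rs • ⊤ : Submodule R M)) + rs.length =
      LocCoh.idealDepth I M := by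
  induction rs generalizing M with
  | nil =>
    rw [List.length_nil, Nat.cast_zero, add_zero]
    exact idealDepth_congr I (Submodule.quotEquivOfEqBot _ (by simp))
  | cons r rs ih =>
    rw [isWeaklyRegular_cons_iff] at h
    rw [← idealDepth_quotSMulTop_add_one I (hmem r List.mem_cons_self) h.1,
      ← ih h.2 (fun s hs => hmem s (List.mem_cons_of_mem _ hs)), List.length_cons, Nat.cast_add,
      Nat.cast_one, ← add_assoc,
      idealDepth_congr I (Submodule.quotOfListConsSMulTopEquivQuotSMulTopInner M r rs)]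

omit [IsNoetherianRing R] [Module.Finite R M] in
theorem ofList_le {rs : List R} (hmem : ∀ r ∈ rs, r ∈ I) : Ideal.ofList rs ≤ I :=
  Ideal.span_le.2 fun r hr => hmem r hr

omit [IsNoetherianRing R] [Module.Finite R M] in
theorem smul_top_quot_ne_top (hIM : I • (⊤ : Submodule R M) ≠ ⊤) {J : Ideal R} (hJ : J ≤ I) :
    I • (⊤ : Submodule R (M ⧸ (J • ⊤ : Submodule R M))) ≠ ⊤ := by
  intro h
  rw [← Submodule.range_mkQ (J • ⊤ : Submodule R M), ← Submodule.map_top, ← Submodule.map_smul''] at h
  have := congrArg (Submodule.comap (J • ⊤ : Submodule R M).mkQ) h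
  rw [Submodule.comap_map_mkQ, Submodule.map_top, Submodule.range_mkQ, Submodule.comap_top,
    sup_eq_right.2 (Submodule.smul_mono_left hJ)] at this
  exact hIM this

omit [IsNoetherianRing R] [Module.Finite R M] in
theorem idealDepth_eq_zero_of_forall (hIM : I • (⊤ : Submodule R M) ≠ ⊤)
    (h : ∀ r ∈ I, ¬ IsSMulRegular M r) : LocCoh.idealDepth I M = 0 := by
  by_contra h0
  obtain ⟨rs, hreg, hmem, hlen⟩ :=
    Groth.Agent.Alg6.exists_length_ge_of_le_idealDepth hIM (n := 1)
      (by rw [Nat.cast_one, Order.one_le_iff_ne_zero]; exact h0)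
  rcases rs with _ | ⟨r, rs⟩
  · simp at hlen
  · rw [isWeaklyRegular_cons_iff] at hreg
    exact h r (hmem r List.mem_cons_self) hreg.1

omit [IsNoetherianRing R] [Module.Finite R M] in
theorem isWeaklyRegular_concat_iff (rs : List R) (r : R) :
    IsWeaklyRegular M (rs ++ [r]) ↔
      IsWeaklyRegular M rs ∧ IsSMulRegular (M ⧸ (Ideal.ofList rs • ⊤ : Submodule R M)) r := by
  rw [isWeaklyRegular_append_iff]
  refine and_congr_right fun _ => ?_
  rw [isWeaklyRegular_cons_iff]
  exact ⟨fun h => h.1, fun h => ⟨h, .nil R _⟩⟩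

omit [Module.Finite R M] in
theorem exists_maximal_extension (hIM : I • (⊤ : Submodule R M) ≠ ⊤) {rs : List R}
    (h : IsWeaklyRegular M rs) (hmem : ∀ r ∈ rs, r ∈ I) :
    ∃ rs' : List R, rs <+: rs' ∧ IsWeaklyRegular M rs' ∧ (∀ r ∈ rs', r ∈ I) ∧
      ∀ r ∈ I, ¬ IsWeaklyRegular M (rs' ++ [r]) := by
  obtain ⟨J, ⟨rs', hpre, hreg, hmem', rfl⟩, hmax⟩ := set_has_maximal_iff_noetherian.2
    (inferInstance : IsNoetherian R R)
    {J | ∃ rs', rs <+: rs' ∧ IsWeaklyRegular M rs' ∧ (∀ r ∈ rs', r ∈ I) ∧ Ideal.ofList rs' = J}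
    ⟨_, rs, List.prefix_refl rs, h, hmem, rfl⟩
  refine ⟨rs', hpre, hreg, hmem', fun r hr hext => ?_⟩
  have hmem'' : ∀ s ∈ rs' ++ [r], s ∈ I := fun s hs => by
    rcases List.mem_append.1 hs with hs | hs
    · exact hmem' s hs
    · rw [List.mem_singleton.1 hs]; exact hr
  have hle : Ideal.ofList rs' ≤ Ideal.ofList (rs' ++ [r]) :=
    Ideal.span_mono fun s hs => List.mem_append_left _ hs
  have heq : Ideal.ofList (rs' ++ [r]) = Ideal.ofList rs' := by
    by_contra hne
    exact hmax _ ⟨_, hpre.trans (List.prefix_append _ _), hext, hmem'', rfl⟩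
      (lt_of_le_of_ne hle (Ne.symm hne))
  have hrJ : r ∈ Ideal.ofList rs' := by
    rw [← heq]; exact Ideal.subset_span (List.mem_append_right _ (List.mem_singleton_self r))
  have hsub : Subsingleton (M ⧸ (Ideal.ofList rs' • ⊤ : Submodule R M)) := by
    refine subsingleton_of_forall_eq 0 fun z => ((isWeaklyRegular_concat_iff rs' r).1 hext).2 ?_
    obtain ⟨z, rfl⟩ := Submodule.Quotient.mk_surjective _ z
    show r • Submodule.Quotient.mk z = r • (0 : M ⧸ (Ideal.ofList rs' • ⊤ : Submodule R M))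
    rw [smul_zero, ← Submodule.Quotient.mk_smul, Submodule.Quotient.mk_eq_zero]
    exact Submodule.smul_mem_smul hrJ trivial
  exact smul_top_quot_ne_top I hIM (ofList_le I hmem') (Subsingleton.elim _ _)

theorem idealDepth_eq_length (hIM : I • (⊤ : Submodule R M) ≠ ⊤) {rs : List R}
    (h : IsWeaklyRegular M rs) (hmem : ∀ r ∈ rs, r ∈ I)
    (hmax : ∀ r ∈ I, ¬ IsWeaklyRegular M (rs ++ [r])) :
    LocCoh.idealDepth I M = rs.length := by
  rw [← idealDepth_quot_ofList I h hmem, idealDepth_eq_zero_of_forall I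
    (smul_top_quot_ne_top I hIM (ofList_le I hmem))
    (fun r hr hr' => hmax r hr ((isWeaklyRegular_concat_iff rs r).2 ⟨h, hr'⟩)), zero_add]

theorem exists_idealDepth_eq_length (hIM : I • (⊤ : Submodule R M) ≠ ⊤) :
    ∃ rs : List R, IsWeaklyRegular M rs ∧ (∀ r ∈ rs, r ∈ I) ∧
      LocCoh.idealDepth I M = rs.length := by
  obtain ⟨rs, -, h, hmem, hmax⟩ :=
    exists_maximal_extension I hIM (rs := []) (.nil R M) (by simp)
  exact ⟨rs, h, hmem, idealDepth_eq_length I hIM h hmem hmax⟩

omit [Module.Finite R M] in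
/-- `Ext` vanishing spreads along short exact sequences: middle term. -/
theorem ext_subsingleton_X₂ {S : ShortComplex (ModuleCat.{u} R)} (hS : S.ShortExact)
    (F : ModuleCat.{u} R) (i : ℕ) (h1 : Subsingleton (Abelian.Ext F S.X₁ i))
    (h3 : Subsingleton (Abelian.Ext F S.X₃ i)) : Subsingleton (Abelian.Ext F S.X₂ i) :=
  subsingleton_of_forall_eq 0 fun z => by
    obtain ⟨y, rfl⟩ := Abelian.Ext.covariant_sequence_exact₂ F hS z (Subsingleton.elim _ _)
    rw [Subsingleton.elim y 0, Abelian.Ext.zero_comp]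

omit [Module.Finite R M] in
/-- `Ext` vanishing spreads along short exact sequences: right term. -/
theorem ext_subsingleton_X₃ {S : ShortComplex (ModuleCat.{u} R)} (hS : S.ShortExact)
    (F : ModuleCat.{u} R) (i : ℕ) (h2 : Subsingleton (Abelian.Ext F S.X₂ i))
    (h1 : Subsingleton (Abelian.Ext F S.X₁ (i + 1))) : Subsingleton (Abelian.Ext F S.X₃ i) :=
  subsingleton_of_forall_eq 0 fun z => by
    obtain ⟨y, rfl⟩ := Abelian.Ext.covariant_sequence_exact₃ F hS (n₁ := i + 1) z rfl
      (Subsingleton.elim _ _)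
    rw [Subsingleton.elim y 0, Abelian.Ext.zero_comp]

omit [Module.Finite R M] in
/-- `Ext` vanishing spreads along short exact sequences: left term. -/
theorem ext_subsingleton_X₁ {S : ShortComplex (ModuleCat.{u} R)} (hS : S.ShortExact)
    (F : ModuleCat.{u} R) (i : ℕ) (h2 : Subsingleton (Abelian.Ext F S.X₂ (i + 1)))
    (h3 : Subsingleton (Abelian.Ext F S.X₃ i)) : Subsingleton (Abelian.Ext F S.X₁ (i + 1)) :=
  subsingleton_of_forall_eq 0 fun z => by
    obtain ⟨y, rfl⟩ := Abelian.Ext.covariant_sequence_exact₁ F hS z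
      (Subsingleton.elim _ _) (n₀ := i) rfl
    rw [Subsingleton.elim y 0, Abelian.Ext.zero_comp]

omit [Module.Finite R M] in
theorem ext_zero_subsingleton_of_injective {X Y : ModuleCat.{u} R} (F : ModuleCat.{u} R)
    (f : X ⟶ Y) [Mono f] (h : Subsingleton (Abelian.Ext F Y 0)) :
    Subsingleton (Abelian.Ext F X 0) :=
  have : Subsingleton (F ⟶ Y) := Abelian.Ext.addEquiv₀.symm.subsingleton
  ext_zero_subsingleton fun g => by
    rw [← cancel_mono f]; exact Subsingleton.elim _ _

section Local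

variable [IsLocalRing R] [Nontrivial M]

theorem smul_top_ne_top_of_le_maximal {J : Ideal R} (hJ : J ≤ IsLocalRing.maximalIdeal R) :
    J • (⊤ : Submodule R M) ≠ ⊤ := fun h =>
  Groth.Agent.Alg6.maximal_smul_top_ne_top (M := M) (R := R)
    (top_le_iff.1 (h.symm.le.trans (Submodule.smul_mono_left hJ)))

theorem idealDepth_sup_span_le_one {J : Ideal R} {x : R}
    (hJ : J ≤ IsLocalRing.maximalIdeal R) (hx : x ∈ IsLocalRing.maximalIdeal R)
    (h0 : LocCoh.idealDepth J M = 0) :
    LocCoh.idealDepth (J ⊔ Ideal.span {x}) M ≤ 1 := by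
  set I := J ⊔ Ideal.span {x} with hI_def
  have hxI : x ∈ I := Ideal.mem_sup_right (Ideal.mem_span_singleton_self x)
  have hI : I ≤ IsLocalRing.maximalIdeal R :=
    sup_le hJ ((Ideal.span_singleton_le_iff_mem _).2 hx)
  by_contra hcon
  have h2 : ((2 : ℕ) : ℕ∞) ≤ LocCoh.idealDepth I M := by
    rw [Nat.cast_ofNat, ← one_add_one_eq_two, ENat.add_one_le_iff ENat.one_ne_top]
    exact not_le.1 hcon
  have hExt := (le_idealDepth_iff_ext I M 2).1 h2
  -- an element killed by `I` vanishes
  have hkill : ∀ z : M, (∀ a ∈ I, a • z = 0) → z = 0 := fun z hz => by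
    obtain ⟨rs, hreg, hmem, hlen⟩ :=
      Groth.Agent.Alg6.exists_length_ge_of_le_idealDepth (smul_top_ne_top_of_le_maximal hI) h2
    rcases rs with _ | ⟨r, rs⟩
    · simp at hlen
    · rw [isWeaklyRegular_cons_iff] at hreg
      exact hreg.1 (show r • z = r • 0 by rw [smul_zero, hz r (hmem r List.mem_cons_self)])
  have hkill' : ∀ z : M, (∀ j ∈ J, j • z = 0) → x • z = 0 → z = 0 := fun z hjz hxz =>
    hkill z fun a ha => by
      obtain ⟨j, hj, b, hb, rfl⟩ := Submodule.mem_sup.1 ha
      obtain ⟨c, rfl⟩ := Ideal.mem_span_singleton'.1 hb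
      rw [add_smul, hjz j hj, mul_smul, hxz, smul_zero, zero_add]
  let N := Submodule.torsionBySet R M (J : Set R)
  have hN : N ≠ ⊥ := fun hb => by
    by_cases hreg : ∃ r ∈ J, IsSMulRegular M r
    · obtain ⟨r, hr, hr'⟩ := hreg
      have := Groth.Agent.Alg6.length_le_idealDepth (I := J) (rs := [r])
        ((isWeaklyRegular_singleton_iff M r).2 hr') (by simpa using hr)
      rw [h0] at this
      simp at this
    · rw [Groth.Agent.Alg6.exists_isSMulRegular_mem_iff] at hreg
      push Not at hreg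
      obtain ⟨p, hp, hJp⟩ := hreg
      obtain ⟨hpp, z, hz⟩ := Groth.Agent.Alg6.mem_ass_iff.1 hp
      have hzN : z ∈ N := (Submodule.mem_torsionBySet_iff _ _).2 fun a => (hz a.1).1 (hJp a.2)
      have hz0 : z = 0 := (Submodule.eq_bot_iff _).1 hb z hzN
      exact hpp.ne_top ((Ideal.eq_top_iff_one p).2 ((hz 1).2 (by rw [hz0, smul_zero])))
  have : Nontrivial N := Submodule.nontrivial_iff_ne_bot.2 hN
  have hxN : IsSMulRegular N x := fun a b hab => by
    have hd : x • ((a : M) - b) = 0 := by
      rw [smul_sub, sub_eq_zero]; exact congrArg Subtype.val hab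
    refine Subtype.ext (sub_eq_zero.1 (hkill' _ (fun j hj => ?_) hd))
    have ha := (Submodule.mem_torsionBySet_iff _ _).1 a.2 ⟨j, hj⟩
    have hb := (Submodule.mem_torsionBySet_iff _ _).1 b.2 ⟨j, hj⟩
    rw [smul_sub, ha, hb, sub_zero]
  have hdepthN : LocCoh.idealDepth I N = 1 := by
    rw [← idealDepth_quotSMulTop_add_one I hxI hxN]
    have hne : Nontrivial (QuotSMulTop x N) := by
      refine Submodule.Quotient.nontrivial_iff.2 fun h => ?_
      rw [← Submodule.ideal_span_singleton_smul] at h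
      exact smul_top_ne_top_of_le_maximal ((Ideal.span_singleton_le_iff_mem _).2 hx) h
    have hz : ∀ r ∈ I, ∀ z : QuotSMulTop x N, r • z = 0 := fun r hr z => by
      obtain ⟨j, hj, b, hb, rfl⟩ := Submodule.mem_sup.1 hr
      obtain ⟨c, rfl⟩ := Ideal.mem_span_singleton'.1 hb
      obtain ⟨z, rfl⟩ := Submodule.Quotient.mk_surjective _ z
      have hjz : j • z = 0 :=
        Subtype.ext ((Submodule.mem_torsionBySet_iff _ _).1 z.2 ⟨j, hj⟩)
      rw [← Submodule.Quotient.mk_smul, Submodule.Quotient.mk_eq_zero, add_smul, hjz, zero_add,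
        mul_comm, mul_smul]
      exact Submodule.smul_mem_pointwise_smul _ _ _ trivial
    rw [idealDepth_eq_zero_of_forall I (smul_top_ne_top_of_le_maximal hI) fun r hr hr' => ?_,
      zero_add]
    obtain ⟨z, hz0⟩ := exists_ne (0 : QuotSMulTop x N)
    exact hz0 (hr' (show r • z = r • 0 by rw [smul_zero, hz r hr z]))
  -- but the sequence `0 → N → M → M/N → 0` forces depth at least two
  let S : ShortComplex (ModuleCat.{u} R) := ShortComplex.mk (X₁ := ModuleCat.of R N)
    (X₂ := ModuleCat.of R M) (X₃ := ModuleCat.of R (M ⧸ N)) (ModuleCat.ofHom N.subtype)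
    (ModuleCat.ofHom N.mkQ)
    (ModuleCat.hom_ext (LinearMap.ext fun z => (Submodule.Quotient.mk_eq_zero _).2 z.2))
  have hS : S.ShortExact :=
    { exact := (ShortComplex.ShortExact.moduleCat_exact_iff_function_exact _).2
        (LinearMap.exact_subtype_mkQ N)
      mono_f := (ModuleCat.mono_iff_injective _).2 Subtype.val_injective
      epi_g := (ModuleCat.epi_iff_surjective _).2 (Submodule.mkQ_surjective _) }
  have h3 : Subsingleton (Abelian.Ext (ModuleCat.of R (R ⧸ I)) S.X₃ 0) := by
    refine ext_zero_subsingleton fun f => ?_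
    obtain ⟨w, hw⟩ := Submodule.Quotient.mk_surjective N (f.hom (Ideal.Quotient.mk I 1))
    have hIw : ∀ a ∈ I, a • w ∈ N := fun a ha => by
      rw [← Submodule.Quotient.mk_eq_zero (p := N), Submodule.Quotient.mk_smul, hw, ← map_smul,
        Algebra.smul_def, Ideal.Quotient.algebraMap_eq, ← map_mul, mul_one,
        Ideal.Quotient.eq_zero_iff_mem.2 ha, map_zero]
    have hwN : w ∈ N := (Submodule.mem_torsionBySet_iff _ _).2 fun j => by
      refine hkill' _ (fun j' hj' => ?_) ?_
      · rw [smul_comm]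
        exact (Submodule.mem_torsionBySet_iff _ _).1 (hIw j' (Ideal.mem_sup_left hj')) j
      · rw [smul_comm]
        exact (Submodule.mem_torsionBySet_iff _ _).1 (hIw x hxI) j
    refine ModuleCat.hom_ext (LinearMap.ext fun q => ?_)
    obtain ⟨q, rfl⟩ := Ideal.Quotient.mk_surjective q
    have hq : Ideal.Quotient.mk I q = q • Ideal.Quotient.mk I 1 := by
      rw [Algebra.smul_def, Ideal.Quotient.algebraMap_eq, ← map_mul, mul_one]
    rw [hq, map_smul, ← hw, (Submodule.Quotient.mk_eq_zero N).2 hwN, smul_zero]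
    rfl
  have hge : ((2 : ℕ) : ℕ∞) ≤ LocCoh.idealDepth I N := (le_idealDepth_iff_ext I N 2).2 fun i hi => by
    rcases i with _ | i
    · have : Mono S.f := hS.mono_f
      exact ext_zero_subsingleton_of_injective _ S.f (hExt 0 (by omega))
    · obtain rfl : i = 0 := by omega
      exact ext_subsingleton_X₁ hS _ 0 (hExt 1 (by omega)) h3
  rw [hdepthN, ← Nat.cast_one, Nat.cast_le] at hge
  omega

omit [IsLocalRing R] [Nontrivial M] in
theorem idealDepth_bot [Nontrivial M] : LocCoh.idealDepth (⊥ : Ideal R) M = 0 :=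
  idealDepth_eq_zero_of_forall ⊥ (by simp) fun r hr hr' => by
    obtain ⟨z, hz⟩ := exists_ne (0 : M)
    rw [Submodule.mem_bot] at hr
    exact hz (hr' (show r • z = r • 0 by rw [hr, zero_smul, zero_smul]))

theorem nontrivial_quot_ofList {J : Ideal R} (hJ : J ≤ IsLocalRing.maximalIdeal R) :
    Nontrivial (M ⧸ (J • ⊤ : Submodule R M)) :=
  Submodule.Quotient.nontrivial_iff.2 (smul_top_ne_top_of_le_maximal hJ)

theorem idealDepth_sup_span_le_add_one {J : Ideal R} {x : R}
    (hJ : J ≤ IsLocalRing.maximalIdeal R) (hx : x ∈ IsLocalRing.maximalIdeal R) :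
    LocCoh.idealDepth (J ⊔ Ideal.span {x}) M ≤ LocCoh.idealDepth J M + 1 := by
  obtain ⟨rs, hreg, hmem, hd⟩ := exists_idealDepth_eq_length J (M := M) (smul_top_ne_top_of_le_maximal hJ)
  have hrs := (ofList_le J hmem).trans hJ
  have := nontrivial_quot_ofList (M := M) hrs
  have h0 : LocCoh.idealDepth J (M ⧸ (Ideal.ofList rs • ⊤ : Submodule R M)) = 0 := by
    have := idealDepth_quot_ofList J hreg hmem
    rw [hd] at this
    exact (ENat.add_left_injective_of_ne_top (ENat.natCast_ne_top rs.length))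
      (this.trans (zero_add _).symm)
  rw [← idealDepth_quot_ofList (J ⊔ Ideal.span {x}) hreg fun r hr => Ideal.mem_sup_left (hmem r hr),
    hd, add_comm (rs.length : ℕ∞) 1]
  gcongr
  exact idealDepth_sup_span_le_one hJ hx h0

theorem idealDepth_ofList_le_length (xs : List R)
    (hxs : ∀ x ∈ xs, x ∈ IsLocalRing.maximalIdeal R) :
    LocCoh.idealDepth (Ideal.ofList xs) M ≤ xs.length := by
  induction xs using List.reverseRecOn with
  | nil => rw [Ideal.ofList_nil, idealDepth_bot]; simp
  | append_singleton ys x ih =>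
    have hys := fun y hy => hxs y (List.mem_append_left _ hy)
    rw [Ideal.ofList_append, Ideal.ofList_singleton, List.length_append, List.length_singleton,
      Nat.cast_add, Nat.cast_one]
    exact (idealDepth_sup_span_le_add_one (ofList_le _ hys)
      (hxs x (List.mem_append_right _ (List.mem_singleton_self x)))).trans
        (add_le_add_left (ih hys) 1)

theorem idealDepth_ofList_eq_length_iff (xs : List R)
    (hxs : ∀ x ∈ xs, x ∈ IsLocalRing.maximalIdeal R) :
    LocCoh.idealDepth (Ideal.ofList xs) M = xs.length ↔ IsWeaklyRegular M xs := by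
  refine ⟨fun h => ?_, fun h => le_antisymm (idealDepth_ofList_le_length xs hxs)
    (Groth.Agent.Alg6.length_le_idealDepth h fun r hr => Ideal.subset_span hr)⟩
  induction xs using List.reverseRecOn with
  | nil => exact .nil R M
  | append_singleton ys x ih =>
    have hys := fun y hy => hxs y (List.mem_append_left _ hy)
    have hx := hxs x (List.mem_append_right _ (List.mem_singleton_self x))
    rw [Ideal.ofList_append, Ideal.ofList_singleton, List.length_append, List.length_singleton,
      Nat.cast_add, Nat.cast_one] at h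
    have h1 : LocCoh.idealDepth (Ideal.ofList ys) M = ys.length := by
      refine le_antisymm (idealDepth_ofList_le_length ys hys) ?_
      have h' := idealDepth_sup_span_le_add_one (M := M) (ofList_le _ hys) hx
      rw [h] at h'
      exact (ENat.add_le_add_iff_right ENat.one_ne_top).1 h'
    have hreg := ih hys h1
    refine (isWeaklyRegular_concat_iff ys x).2 ⟨hreg, ?_⟩
    set I := Ideal.ofList ys ⊔ Ideal.span {x}
    have hI : I ≤ IsLocalRing.maximalIdeal R :=
      sup_le (ofList_le _ hys) ((Ideal.span_singleton_le_iff_mem _).2 hx)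
    have := idealDepth_quot_ofList I hreg fun r hr => Ideal.mem_sup_left (Ideal.subset_span hr)
    rw [h, add_comm (ys.length : ℕ∞) 1] at this
    have hd : LocCoh.idealDepth I (M ⧸ (Ideal.ofList ys • ⊤ : Submodule R M)) = 1 :=
      ENat.add_left_injective_of_ne_top (ENat.natCast_ne_top ys.length) this
    have := nontrivial_quot_ofList (M := M) (ofList_le (IsLocalRing.maximalIdeal R) hys)
    obtain ⟨rs, hr, hmem, hlen⟩ := Groth.Agent.Alg6.exists_length_ge_of_le_idealDepth (n := 1)
      (smul_top_ne_top_of_le_maximal (M := M ⧸ (Ideal.ofList ys • ⊤ : Submodule R M)) hI)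
      (by rw [hd]; simp)
    rcases rs with _ | ⟨r, rs⟩
    · simp at hlen
    rw [isWeaklyRegular_cons_iff] at hr
    obtain ⟨j, hj, b, hb, hjb⟩ := Submodule.mem_sup.1 (hmem r List.mem_cons_self)
    obtain ⟨c, rfl⟩ := Ideal.mem_span_singleton'.1 hb
    intro z w hzw
    refine hr.1 ?_
    show r • z = r • w
    have hj0 : ∀ z : M ⧸ (Ideal.ofList ys • ⊤ : Submodule R M), j • z = 0 := fun z => by
      obtain ⟨z, rfl⟩ := Submodule.Quotient.mk_surjective _ z
      rw [← Submodule.Quotient.mk_smul, Submodule.Quotient.mk_eq_zero]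
      exact Submodule.smul_mem_smul hj trivial
    rw [← hjb, add_smul, add_smul, hj0, hj0, mul_smul, mul_smul]
    exact congrArg (fun t => (0 : M ⧸ (Ideal.ofList ys • ⊤ : Submodule R M)) + c • t) hzw

end Local

end Groth.Agent.LC
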