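import Groth.Agent.LC.LocalDuality
import Groth.Agent.LC.DepthExt
import Groth.Agent.LC.CdDim

/-!
# Local duality for Cohen–Macaulay local rings
-/

universe u

open CategoryTheory Limits IsLocalRing Opposite

namespace Groth.Agent.LC

variable {R : Type u} [CommRing R] [IsNoetherianRing R] [IsLocalRing R]

theorem subsingleton_H_low_of_depth {n : ℕ} (h : (n : ℕ∞) ≤ LocCoh.depth R R) (i : ℕ) (hi : i < n) :
    Subsingleton ((localCohomology (maximalIdeal R) i).obj (ModuleCat.of R R)) :=
  (le_idealDepth_iff_H (maximalIdeal R) R n).1 h i hi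

theorem subsingleton_H_succ_of_ringKrullDim {n : ℕ} (I : Ideal R) (hn : ringKrullDim R ≤ n)
    (N : ModuleCat.{u} R) : Subsingleton ((localCohomology I (n + 1)).obj N) :=
  subsingleton_H_of_supportDim_lt I N (n + 1)
    (((Module.supportDim_le_ringKrullDim R N).trans hn).trans_lt (by exact_mod_cast Nat.lt_succ_self n))

omit [IsNoetherianRing R] [IsLocalRing R] in
/-- The two `Ext`s have isomorphic duals. -/
theorem exists_extDual_equiv (M K E : Type u) [AddCommGroup M] [Module R M] [AddCommGroup K] [Module R K]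
    [AddCommGroup E] [Module R E] (i : ℕ) :
    Nonempty ((Abelian.Ext (ModuleCat.of R M) (ModuleCat.of R K) i →ₗ[R] E) ≃ₗ[R]
      ((((Ext R (ModuleCat.{u} R) i).obj (op (ModuleCat.of R M))).obj (ModuleCat.of R K)) →ₗ[R] E)) :=
  ⟨LinearEquiv.congrLeft E R
    (ExtBridge.bridge (projectiveResolution (ModuleCat.of R M)) (ModuleCat.of R K) i).symm⟩

end Groth.Agent.LC
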