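import Groth.Agent.LC.GorCore
import Groth.Agent.LC.ExtHom
import Groth.Agent.LC.InjBasic
import Groth.Agent.LC.LocalDualityCM
import Groth.Agent.LC.Finiteness

/-!
# The top local cohomology of a Gorenstein local ring
-/

universe u

open CategoryTheory Limits IsLocalRing
open scoped Pointwise

namespace Groth.Agent.LC

variable {R : Type u} [CommRing R] [IsNoetherianRing R]

theorem extToHom_natural (I : Ideal R) {n : ℕ} {M : ModuleCat.{u} R} (m : ℕ) {N N' : Type u}
    [AddCommGroup N] [Module R N] [AddCommGroup N'] [Module R N']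
    (hN : ∀ a ∈ I ^ m, ∀ z : N, a • z = 0) (hN' : ∀ a ∈ I ^ m, ∀ z : N', a • z = 0)
    (ι : N →ₗ[R] N') (x : Abelian.Ext (ModuleCat.of R N') M n) :
    extToHom I n M m N hN ((Abelian.Ext.mk₀ (ModuleCat.ofHom ι)).comp x (zero_add n)) =
      extToHom I n M m N' hN' x ∘ₗ ι := by
  refine LinearMap.ext fun f => ?_
  rw [LinearMap.comp_apply, extToHom_apply, extToHom_apply,
    ← Abelian.Ext.comp_assoc _ _ _ (zero_add 0) (zero_add n) (by omega), Abelian.Ext.mk₀_comp_mk₀]
  congr 3
  refine qObj_hom_ext' I ?_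
  show ι ((1 : R) • f) = (1 : R) • ι f
  rw [one_smul, one_smul]

/-- If `Ext^n` is right exact on finite torsion modules, `H^n_I(M)` is injective. -/
theorem injective_H_of_ext (I : Ideal R) (n : ℕ) (M : ModuleCat.{u} R) (hM : PrevVanish I n M)
    (hnext : ∀ (T : Type u) [AddCommGroup T] [Module R T], Module.Finite R T → LocCoh.IsPowerTorsion I T →
      Subsingleton (Abelian.Ext (ModuleCat.of R T) M (n + 1))) :
    Module.Injective R ((localCohomology I n).obj M) := by
  refine Module.Baer.injective fun J g => ?_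
  let gr := LinearMap.range g
  have : Module.Finite R gr := inferInstance
  obtain ⟨a, ha⟩ := exists_kill (I := I) gr fun z => by
    obtain ⟨q, hq⟩ := isPowerTorsion_obj I n M z.1
    exact ⟨q, fun c hc => Subtype.ext (hq c hc)⟩
  obtain ⟨k, hk⟩ := Ideal.exists_pow_inf_eq_pow_smul I (J : Submodule R R)
  let c := k + a
  let N' := R ⧸ I ^ c
  let ψ : J →ₗ[R] N' := (Submodule.mkQ (I ^ c)) ∘ₗ J.subtype
  have hker : LinearMap.ker ψ ≤ LinearMap.ker g := by
    intro z hz
    have hzI : (z : R) ∈ I ^ c := (Submodule.Quotient.mk_eq_zero _).1 hz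
    have h1 : (z : R) ∈ I ^ c • (⊤ : Submodule R R) ⊓ (J : Submodule R R) :=
      ⟨by rw [smul_eq_mul, Ideal.mul_top]; exact hzI, z.2⟩
    rw [hk c (Nat.le_add_right k a), show c - k = a by omega] at h1
    have h2 : (z : R) ∈ I ^ a • (J : Submodule R R) := Submodule.smul_mono le_rfl inf_le_right h1
    have h3 : (z : R) ∈ Submodule.map J.subtype (I ^ a • ⊤) := by
      rw [Submodule.map_smul'', Submodule.map_subtype_top]; exact h2
    obtain ⟨w, hw, hwz⟩ := h3
    obtain rfl : w = z := Subtype.ext hwz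
    refine Submodule.smul_induction_on hw (fun r hr v _ => ?_) fun u v hu hv => by
      rw [LinearMap.mem_ker] at hu hv ⊢; rw [map_add, hu, hv, add_zero]
    rw [LinearMap.mem_ker, map_smul]
    exact congrArg Subtype.val (ha r hr ⟨g v, LinearMap.mem_range_self g _⟩)
  have hN' : ∀ b ∈ I ^ c, ∀ z : N', b • z = 0 := qObj_kill I c
  let L := LinearMap.range ψ
  have hL : ∀ b ∈ I ^ c, ∀ z : L, b • z = 0 := fun b hb z => Subtype.ext (hN' b hb z.1)
  have : Module.Finite R L := inferInstance
  let e := ψ.quotKerEquivRange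
  obtain ⟨x, hx⟩ := extToHom_surjective hM c L hL ((LinearMap.ker ψ).liftQ g hker ∘ₗ e.symm.toLinearMap)
  let S : ShortComplex (ModuleCat.{u} R) := ShortComplex.mk (X₁ := ModuleCat.of R L)
    (X₂ := ModuleCat.of R N') (X₃ := ModuleCat.of R (N' ⧸ L)) (ModuleCat.ofHom L.subtype)
    (ModuleCat.ofHom L.mkQ)
    (ModuleCat.hom_ext (LinearMap.ext fun z => (Submodule.Quotient.mk_eq_zero _).2 z.2))
  have hS : S.ShortExact :=
    { exact := (ShortComplex.ShortExact.moduleCat_exact_iff_function_exact _).2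
        (LinearMap.exact_subtype_mkQ L)
      mono_f := (ModuleCat.mono_iff_injective _).2 Subtype.val_injective
      epi_g := (ModuleCat.epi_iff_surjective _).2 (Submodule.mkQ_surjective _) }
  have := hnext (N' ⧸ L) inferInstance fun z => ⟨c, fun b hb => by
    obtain ⟨z, rfl⟩ := Submodule.Quotient.mk_surjective _ z
    rw [← Submodule.Quotient.mk_smul, hN' b hb z, Submodule.Quotient.mk_zero]⟩
  obtain ⟨x', hx'⟩ := Abelian.Ext.contravariant_sequence_exact₁ hS M x (n₁ := n + 1) (add_comm 1 n)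
    (@Subsingleton.elim _ this _ _)
  refine ⟨extToHom I n M c N' hN' x' ∘ₗ Submodule.mkQ (I ^ c), fun r hr => ?_⟩
  have h2 := LinearMap.congr_fun (extToHom_natural I c hL hN' L.subtype x')
    (e (Submodule.Quotient.mk ⟨r, hr⟩))
  rw [show (Abelian.Ext.mk₀ (ModuleCat.ofHom L.subtype)).comp x' (zero_add n) = x from hx', hx] at h2
  rw [LinearMap.comp_apply] at h2
  simp only [LinearEquiv.coe_coe, LinearEquiv.symm_apply_apply] at h2
  exact h2.symm

/-- `Ext^{c+|rs|}(N/(rs)N, M)` is cyclic if `Ext^c(N, M)` is and higher `Ext(N, M)` vanish. -/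
theorem exists_ext_generator (M : ModuleCat.{u} R) (rs : List R) :
    ∀ (N : Type u) [AddCommGroup N] [Module R N] (c : ℕ), RingTheory.Sequence.IsWeaklyRegular N rs →
      (∀ j, c < j → Subsingleton (Abelian.Ext (ModuleCat.of R N) M j)) →
      (∃ g : Abelian.Ext (ModuleCat.of R N) M c, ∀ e, ∃ r : R, r • g = e) →
      ∃ g : Abelian.Ext (ModuleCat.of R (N ⧸ (Ideal.ofList rs • ⊤ : Submodule R N))) M (c + rs.length),
        ∀ e, ∃ r : R, r • g = e := by
  have transport : ∀ (A B : Type u) [AddCommGroup A] [Module R A] [AddCommGroup B] [Module R B]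
      (_ : A ≃ₗ[R] B) (j j' : ℕ) (_ : j = j'),
      (∃ g : Abelian.Ext (ModuleCat.of R A) M j, ∀ e, ∃ r : R, r • g = e) →
      ∃ g : Abelian.Ext (ModuleCat.of R B) M j', ∀ e, ∃ r : R, r • g = e := by
    rintro A B _ _ _ _ f j j' rfl ⟨g, hg⟩
    refine ⟨(Abelian.Ext.mk₀ f.toModuleIso.inv).comp g (zero_add j), fun e => ?_⟩
    obtain ⟨r, hr⟩ := hg ((Abelian.Ext.mk₀ f.toModuleIso.hom).comp e (zero_add j))
    refine ⟨r, ?_⟩
    rw [← Abelian.Ext.comp_smul, hr, ← Abelian.Ext.comp_assoc _ _ _ (zero_add 0) (zero_add j) (by omega),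
      Abelian.Ext.mk₀_comp_mk₀, Iso.inv_hom_id, Abelian.Ext.mk₀_id_comp]
  induction rs with
  | nil =>
    intro N _ _ c _ _ hg
    exact transport N _ (Submodule.quotEquivOfEqBot _ (by simp)).symm c _ (by simp) hg
  | cons r rs ih =>
    intro N _ _ c hreg hv hg
    rw [RingTheory.Sequence.isWeaklyRegular_cons_iff] at hreg
    have hv' : ∀ j, c + 1 < j → Subsingleton (Abelian.Ext (ModuleCat.of R (QuotSMulTop r N)) M j) := by
      intro l hl
      obtain ⟨l, rfl⟩ : ∃ l', l = l' + 1 := ⟨l - 1, by omega⟩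
      exact ext_quotSMulTop_vanish hreg.1 M l (hv l (by omega)) (hv (l + 1) (by omega))
    have hg' : ∃ g : Abelian.Ext (ModuleCat.of R (QuotSMulTop r N)) M (c + 1), ∀ e, ∃ a : R, a • g = e := by
      obtain ⟨δ, -, hδ⟩ := ext_smul_sequence hreg.1 M c
      obtain ⟨g, hg⟩ := hg
      refine ⟨δ g, fun e => ?_⟩
      obtain ⟨z, rfl⟩ := hδ e (hv (c + 1) (Nat.lt_succ_self c))
      obtain ⟨a, rfl⟩ := hg z
      exact ⟨a, (map_smul δ a g).symm⟩
    exact transport _ _ (Submodule.quotOfListConsSMulTopEquivQuotSMulTopInner N r rs).symm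
      (c + 1 + rs.length) _ (by rw [List.length_cons]; omega) (ih (QuotSMulTop r N) (c + 1) hreg.2 hv' hg')

section Gorenstein

variable [IsLocalRing R] [LocCoh.IsGorensteinLocalRing R]

/-- Gorenstein local rings: depth equals dimension, and `Ext^j(T, R) = 0` above. -/
theorem gorenstein_basic : ∃ d : ℕ, ringKrullDim R = d ∧ LocCoh.depth R R = d ∧
    ∀ (T : Type u) [AddCommGroup T] [Module R T] [Module.Finite R T], ∀ j, d < j →
      Subsingleton (Abelian.Ext (ModuleCat.of R T) (ModuleCat.of R R) j) := by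
  obtain ⟨δ, hδ⟩ := exists_depth_eq (R := R)
  have hv := ext_residue_vanish_of_gorenstein δ hδ
  have h1 := ringKrullDim_le_of_ext_vanish δ hv
  have h2 := depth_le_supportDim (R := R) R
  rw [Module.supportDim_self_eq_ringKrullDim, hδ] at h2
  exact ⟨δ, le_antisymm h1 h2, hδ, fun T _ _ _ => ext_vanish_of_residue R δ hv T⟩

theorem isCohenMacaulayLocalRing_of_gorenstein : LocCoh.IsCohenMacaulayLocalRing R := by
  obtain ⟨d, hd, hδ, -⟩ := gorenstein_basic (R := R)
  exact { supportDim_eq_depth := by rw [Module.supportDim_self_eq_ringKrullDim, hd, hδ]; rfl }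

theorem prevVanish_gorenstein {d : ℕ} (hδ : LocCoh.depth R R = d) :
    PrevVanish (maximalIdeal R) d (ModuleCat.of R R) :=
  prevVanish_of_H (subsingleton_H_low_of_depth hδ.ge)

theorem injective_H_gorenstein {d : ℕ} (hd : ringKrullDim R = d) (hδ : LocCoh.depth R R = d) :
    Module.Injective R ((localCohomology (maximalIdeal R) d).obj (ModuleCat.of R R)) := by
  obtain ⟨d', hd', -, hv⟩ := gorenstein_basic (R := R)
  obtain rfl : d = d' := by rw [hd] at hd'; exact_mod_cast hd'
  exact injective_H_of_ext _ d _ (prevVanish_gorenstein hδ) fun T _ _ _ _ => hv T (d + 1) (Nat.lt_succ_self d)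

/-- `H^d_m(R)` is an injective hull of the residue field. -/
theorem isInjectiveHull_H_gorenstein {d : ℕ} (hd : ringKrullDim R = d) :
    ∃ g : ResidueField R →ₗ[R] (localCohomology (maximalIdeal R) d).obj (ModuleCat.of R R),
      InjHull.IsInjectiveHull g := by
  obtain ⟨d', hd', hδ, hv⟩ := gorenstein_basic (R := R)
  obtain rfl : d = d' := by rw [hd] at hd'; exact_mod_cast hd'
  let H := (localCohomology (maximalIdeal R) d).obj (ModuleCat.of R R)
  have hinj : Module.Injective R H := injective_H_gorenstein hd hδ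
  have hM := prevVanish_gorenstein (R := R) hδ
  -- a nonzero element killed by the maximal ideal
  have hk : LocCoh.IsPowerTorsion (maximalIdeal R) (R ⧸ maximalIdeal R) := fun z =>
    ⟨1, fun a ha => by
      obtain ⟨z, rfl⟩ := Ideal.Quotient.mk_surjective z
      rw [← Ideal.Quotient.mkₐ_eq_mk R, ← map_smul, Ideal.Quotient.mkₐ_eq_mk,
        Ideal.Quotient.eq_zero_iff_mem]
      exact Ideal.mul_mem_right z _ (by simpa using ha)⟩
  obtain ⟨ek⟩ := nonempty_ext_linearEquiv_hom hM (R ⧸ maximalIdeal R) hk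
  let m : PrimeSpectrum R := ⟨maximalIdeal R, inferInstance⟩
  have hm : Order.height m = d := by
    rw [← PrimeSpectrum.height_eq_orderHeight]
    have := IsLocalRing.maximalIdeal_height_eq_ringKrullDim (R := R)
    rw [hd] at this
    exact (by exact_mod_cast this : (maximalIdeal R).height = d)
  obtain ⟨e, he⟩ := ext_height_ne_zero d m hm 1 (maximalIdeal R).one_notMem
  rw [one_smul] at he
  let φ : (R ⧸ maximalIdeal R) →ₗ[R] H := ek e
  have hφ : φ ≠ 0 := fun h => he (ek.injective (h.trans (map_zero ek).symm))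
  let u : H := φ (Ideal.Quotient.mk _ 1)
  have hu : u ≠ 0 := fun h => hφ (Submodule.linearMap_qext _ (LinearMap.ext_ring h))
  have hmu : ∀ a ∈ maximalIdeal R, a • u = 0 := fun a ha => by
    show a • φ _ = 0
    rw [← map_smul, ← Ideal.Quotient.mkₐ_eq_mk R, ← map_smul, Ideal.Quotient.mkₐ_eq_mk,
      Ideal.Quotient.eq_zero_iff_mem.2 (show a • (1 : R) ∈ maximalIdeal R from Ideal.mul_mem_right 1 _ ha),
      map_zero]
  -- the socle is generated by `u`
  obtain ⟨rs, hreg, hmem, hlen⟩ := exists_idealDepth_eq_length (M := R) (maximalIdeal R)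
    (smul_top_ne_top_of_le_maximal (R := R) (M := R) le_rfl)
  have hlen' : rs.length = d := by
    unfold LocCoh.depth at hδ
    rw [hδ] at hlen
    exact_mod_cast hlen.symm
  let J : Ideal R := Ideal.ofList rs
  let Q := R ⧸ (J • ⊤ : Submodule R R)
  have hJQ : ∀ a ∈ J, ∀ z : Q, a • z = 0 := fun a ha z => by
    obtain ⟨z, rfl⟩ := Submodule.Quotient.mk_surjective _ z
    exact (Submodule.Quotient.mk_eq_zero _).2 (Submodule.smul_mem_smul ha trivial)
  have hgen : ∃ g : Abelian.Ext (ModuleCat.of R Q) (ModuleCat.of R R) d, ∀ e, ∃ r : R, r • g = e := by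
    have h0 : ∃ g : Abelian.Ext (ModuleCat.of R R) (ModuleCat.of R R) 0, ∀ e, ∃ r : R, r • g = e := by
      refine ⟨Abelian.Ext.mk₀ (𝟙 _), fun e => ?_⟩
      obtain ⟨f, rfl⟩ := (Abelian.Ext.linearEquiv₀ (R := R)).symm.surjective e
      refine ⟨f.hom 1, ?_⟩
      rw [Abelian.Ext.linearEquiv₀_symm_apply, ← Abelian.Ext.mk₀_smul]
      congr 1
      exact ModuleCat.hom_ext (LinearMap.ext_ring (by simp))
    have h1 := exists_ext_generator (ModuleCat.of R R) rs R 0 hreg (fun j hj => subsingleton_ext_self _ hj) h0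
    rwa [zero_add, hlen'] at h1
  have hQd0 : LocCoh.depth R Q = 0 := by
    have h1 := idealDepth_quot_ofList (maximalIdeal R) hreg hmem
    unfold LocCoh.depth at hδ ⊢
    rw [hδ, hlen'] at h1
    exact (ENat.add_left_injective_of_ne_top (ENat.natCast_ne_top d)) (h1.trans (zero_add _).symm)
  have hQt : LocCoh.IsPowerTorsion (maximalIdeal R) Q := by
    have hdim : ∀ P : Ideal R, P.IsPrime → J ≤ P → P = maximalIdeal R := by
      intro P hP hJP
      have := isCohenMacaulayLocalRing_of_gorenstein (R := R)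
      have hCM : LocCoh.IsCohenMacaulayModule R R := LocCoh.IsCohenMacaulayLocalRing.supportDim_eq_depth
      have hCMQ : Module.supportDim R Q = ((LocCoh.depth R Q : ℕ∞) : WithBot ℕ∞) :=
        isCM_quot_ofList R hCM hreg hmem
      rw [hQd0] at hCMQ
      have hsupp : (⟨P, hP⟩ : PrimeSpectrum R) ∈ Module.support R Q := by
        rw [Module.support_eq_zeroLocus]
        refine fun a ha => hJP ?_
        have h1 := Module.mem_annihilator.1 ha (Submodule.Quotient.mk 1)
        rw [← Submodule.Quotient.mk_smul, Submodule.Quotient.mk_eq_zero, smul_eq_mul J, Ideal.mul_top,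
          show a • (1 : R) = a from mul_one a] at h1
        exact h1
      have h1 := (coheight_le_supportDim hsupp).trans_eq hCMQ
      have h2 : Order.coheight (⟨P, hP⟩ : PrimeSpectrum R) = 0 := le_antisymm (WithBot.coe_le_coe.1 h1) bot_le
      have h3 := Order.coheight_eq_zero.1 h2
      exact le_antisymm (le_maximalIdeal hP.ne_top)
        (h3 (show (⟨P, hP⟩ : PrimeSpectrum R) ≤ ⟨maximalIdeal R, inferInstance⟩ from le_maximalIdeal hP.ne_top))
    intro z
    obtain ⟨n, hn⟩ := Ideal.exists_pow_le_of_le_radical_of_fg (I := maximalIdeal R) (J := J) (by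
      rw [Ideal.radical_eq_sInf]
      exact le_sInf fun P hP => (hdim P hP.2 hP.1).ge) (IsNoetherian.noetherian _)
    exact ⟨n, fun a ha => hJQ a (hn ha) z⟩
  obtain ⟨eQ⟩ := nonempty_ext_linearEquiv_hom hM Q hQt
  obtain ⟨g₀, hg₀⟩ := hgen
  let w : H := eQ g₀ (Submodule.Quotient.mk 1)
  have hcyc : ∀ h : H, (∀ a ∈ J, a • h = 0) → ∃ r : R, r • w = h := by
    intro h hh
    let ψ : Q →ₗ[R] H := (J • ⊤ : Submodule R R).liftQ (LinearMap.toSpanSingleton R H h)
      fun a ha => hh a (by simpa [smul_eq_mul, Ideal.mul_top] using ha)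
    obtain ⟨r, hr⟩ := hg₀ (eQ.symm ψ)
    refine ⟨r, ?_⟩
    have h1 : r • eQ g₀ = ψ := by rw [← map_smul, hr, LinearEquiv.apply_symm_apply]
    exact (LinearMap.congr_fun h1 (Submodule.Quotient.mk 1)).trans (one_smul R h)
  have hsoc : ∀ z : H, (∀ a ∈ maximalIdeal R, a • z = 0) → ∃ r : R, r • u = z := by
    intro z hz
    obtain ⟨a, ha⟩ := hcyc u fun b hb => hmu b (ofList_le _ hmem hb)
    let t := LinearMap.toSpanSingleton R H u
    have hle : LinearMap.ker t ≤ LinearMap.ker (LinearMap.toSpanSingleton R H z) := fun r hr => hz r (by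
      by_contra hru
      obtain ⟨v, hv⟩ := notMem_maximalIdeal.1 hru
      apply hu
      rw [← one_smul R u, ← v.inv_mul, mul_smul, hv, show r • u = 0 from hr, smul_zero])
    let θ : LinearMap.range t →ₗ[R] H :=
      (LinearMap.ker t).liftQ _ hle ∘ₗ t.quotKerEquivRange.symm.toLinearMap
    let u' : LinearMap.range t := ⟨u, 1, one_smul R u⟩
    have hθ : θ u' = z := by
      show (LinearMap.ker t).liftQ _ hle (t.quotKerEquivRange.symm u') = z
      rw [show t.quotKerEquivRange.symm u' = Submodule.Quotient.mk 1 from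
        (LinearEquiv.symm_apply_eq _).2 (Subtype.ext (one_smul R u).symm)]
      exact one_smul R z
    obtain ⟨Θ, hΘ⟩ := Module.Injective.out (LinearMap.range t).subtype Subtype.val_injective θ
    have hΘu : Θ u = z := (hΘ u').trans hθ
    have hwJ : ∀ b ∈ J, b • w = 0 := fun b hb => by
      show b • eQ g₀ _ = 0
      rw [← map_smul, hJQ b hb, map_zero]
    obtain ⟨r, hr⟩ := hcyc (Θ w) fun b hb => by rw [← map_smul, hwJ b hb, map_zero]
    refine ⟨r, ?_⟩
    rw [← hΘu, ← ha, map_smul, ← hr, smul_comm]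
  let g : ResidueField R →ₗ[R] H :=
    (maximalIdeal R).liftQ (LinearMap.toSpanSingleton R H u) fun a ha => hmu a ha
  refine ⟨g, { toIsEssentialInj := isEssentialInj_iff.2 ⟨?_, fun x hx => ?_⟩, isInjective := hinj }⟩
  · refine (injective_iff_map_eq_zero _).2 fun y hy => ?_
    obtain ⟨r, rfl⟩ := Ideal.Quotient.mk_surjective y
    change r • u = 0 at hy
    refine Ideal.Quotient.eq_zero_iff_mem.2 ?_
    by_contra hr
    obtain ⟨v, hv⟩ := notMem_maximalIdeal.1 hr
    apply hu
    rw [← one_smul R u, ← v.inv_mul, mul_smul, hv, hy, smul_zero]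
  · classical
    have hex := isPowerTorsion_obj (maximalIdeal R) d (ModuleCat.of R R) x
    have hn := Nat.find_spec hex
    have hpos : Nat.find hex ≠ 0 := fun h0 => hx (by
      have := hn 1 (by rw [h0, pow_zero, Ideal.one_eq_top]; trivial)
      rwa [one_smul] at this)
    obtain ⟨k, hk0⟩ := Nat.exists_eq_succ_of_ne_zero hpos
    have hnot := Nat.find_min hex (show k < Nat.find hex by omega)
    push Not at hnot
    obtain ⟨c, hc, hcx⟩ := hnot
    obtain ⟨r, hr⟩ := hsoc (c • x) fun a ha => by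
      rw [← mul_smul]
      exact hn _ (by rw [hk0, pow_succ', ]; exact Ideal.mul_mem_mul ha hc)
    exact ⟨c, ⟨Ideal.Quotient.mk _ r, hr⟩, hcx⟩

end Gorenstein

end Groth.Agent.LC
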