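import Groth.Agent.LC.GorRing
import Groth.Agent.DefGlueLib.Rel
import Groth.Prelude.Def_LCI2
import Mathlib.RingTheory.Localization.Integer
import Mathlib.RingTheory.Localization.BaseChange
import Mathlib.RingTheory.Flat.Equalizer

/-!
# Local complete intersections are Gorenstein
-/

set_option autoImplicit false

universe u

open IsLocalRing TensorProduct
open Groth.Agent.DefGlueLib (dot trivR dot_apply dot_eq_zero_of_mem_trivR)

namespace Groth.Agent.LC

/-- Images of trivial relations are trivial relations. -/
theorem map_mem_trivR {R S : Type u} [CommRing R] [CommRing S] (φ : R →+* S) {σ : Type} [Fintype σ]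
    [DecidableEq σ] {f : σ → R} {v : σ → R} (hv : v ∈ trivR f) :
    (fun i => φ (v i)) ∈ trivR (fun i => φ (f i)) := by
  induction hv using Submodule.span_induction with
  | mem x hx =>
    obtain ⟨⟨a, b⟩, rfl⟩ := hx
    refine Submodule.subset_span ⟨(a, b), ?_⟩
    funext i
    simp [Pi.single_apply, apply_ite φ]
  | zero =>
    rw [show (fun i => φ ((0 : σ → R) i)) = 0 from funext fun i => map_zero φ]
    exact zero_mem _
  | add x y _ _ hx hy =>
    rw [show (fun i => φ ((x + y) i)) = (fun i => φ (x i)) + fun i => φ (y i) from funext fun i => map_add φ _ _]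
    exact add_mem hx hy
  | smul c x _ hx =>
    rw [show (fun i => φ ((c • x) i)) = φ c • fun i => φ (x i) from funext fun i => map_mul φ _ _]
    exact Submodule.smul_mem _ _ hx

/-- Trivial relations stay trivial under localization. -/
theorem rel_localize {R S : Type u} [CommRing R] [CommRing S] [Algebra R S] (M : Submonoid R)
    [IsLocalization M S] {n : ℕ} (f : Fin n → R) (hrel : ∀ u, dot f u = 0 → u ∈ trivR f) (u : Fin n → S)
    (hu : dot (fun i => algebraMap R S (f i)) u = 0) : u ∈ trivR (fun i => algebraMap R S (f i)) := by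
  obtain ⟨t, ht⟩ := IsLocalization.exist_integer_multiples_of_finite M u
  choose v hv using ht
  have h1 : algebraMap R S (dot f v) = 0 := by
    rw [dot_apply] at hu
    calc algebraMap R S (dot f v) = ∑ i, algebraMap R S (v i) * algebraMap R S (f i) := by
          simp [dot_apply, map_sum, map_mul]
      _ = algebraMap R S (t : R) * ∑ i, u i * algebraMap R S (f i) := by
          rw [Finset.mul_sum]
          refine Finset.sum_congr rfl fun i _ => ?_
          rw [hv i, Algebra.smul_def, mul_assoc]
      _ = 0 := by rw [hu, mul_zero]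
  obtain ⟨s, hs⟩ := (IsLocalization.map_eq_zero_iff M S _).1 h1
  have h2 := map_mem_trivR (algebraMap R S) (hrel ((s : R) • v) (by rw [map_smul, smul_eq_mul]; exact hs))
  obtain ⟨c, hc⟩ := IsLocalization.map_units S (s * t)
  have h3 := Submodule.smul_mem (trivR fun i => algebraMap R S (f i)) (↑c⁻¹ : S) h2
  convert h3 using 1
  funext i
  show u i = (↑c⁻¹ : S) * algebraMap R S ((s : R) * v i)
  rw [map_mul, hv i, Algebra.smul_def, ← mul_assoc (algebraMap R S (s : R)), ← map_mul,
    ← Submonoid.coe_mul, ← hc, Units.inv_mul_cancel_left]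

section Local

variable {R : Type u} [CommRing R] [IsLocalRing R] [IsNoetherianRing R]

/-- In a Noetherian local ring, a family with only trivial relations is weakly regular. -/
theorem weaklyRegular_of_rel : ∀ (n : ℕ) (f : Fin n → R), (∀ i, f i ∈ maximalIdeal R) →
    (∀ u, dot f u = 0 → u ∈ trivR f) → RingTheory.Sequence.IsWeaklyRegular R (List.ofFn f) := by
  intro n
  induction n with
  | zero => intro f _ _; simp
  | succ n ih =>
    intro f hfm hrel
    let f' : Fin n → R := fun i => f i.castSucc
    let x := f (Fin.last n)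
    -- decomposition of trivial relations
    have hdec : ∀ u ∈ trivR f, ∃ b : Fin n → R, u (Fin.last n) = -dot f' b ∧
        (fun i : Fin n => u i.castSucc) - x • b ∈ trivR f' := by
      intro u hu
      induction hu using Submodule.span_induction with
      | mem g hg =>
        obtain ⟨⟨a, c⟩, rfl⟩ := hg
        induction a using Fin.lastCases with
        | last =>
          induction c using Fin.lastCases with
          | last =>
            refine ⟨0, by simp, ?_⟩
            convert (trivR f').zero_mem using 1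
            funext i
            simp
          | cast c =>
            refine ⟨-Pi.single c 1, ?_, ?_⟩
            · simp [f', dot, Fintype.linearCombination_apply_single, (Fin.castSucc_lt_last c).ne']
            · convert (trivR f').zero_mem using 1
              funext i
              simp [x, Pi.single_apply, Fin.castSucc_inj, (Fin.castSucc_lt_last i).ne]
        | cast a =>
          induction c using Fin.lastCases with
          | last =>
            refine ⟨Pi.single a 1, ?_, ?_⟩
            · simp [f', dot, Fintype.linearCombination_apply_single, (Fin.castSucc_lt_last a).ne']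
            · convert (trivR f').zero_mem using 1
              funext i
              simp [x, Pi.single_apply, Fin.castSucc_inj, (Fin.castSucc_lt_last i).ne]
          | cast c =>
            refine ⟨0, by simp [(Fin.castSucc_lt_last a).ne', (Fin.castSucc_lt_last c).ne'], ?_⟩
            refine Submodule.subset_span ⟨(a, c), ?_⟩
            funext i
            simp [f', Pi.single_apply, Fin.castSucc_inj]
      | zero =>
        refine ⟨0, by simp, ?_⟩
        convert (trivR f').zero_mem using 1
        funext i
        simp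
      | add p q _ _ hp hq =>
        obtain ⟨b, hb1, hb2⟩ := hp
        obtain ⟨d, hd1, hd2⟩ := hq
        refine ⟨b + d, by rw [Pi.add_apply, hb1, hd1, map_add, neg_add], ?_⟩
        convert add_mem hb2 hd2 using 1
        funext i
        simp only [Pi.sub_apply, Pi.add_apply, Pi.smul_apply, smul_eq_mul]
        ring
      | smul r p _ hp =>
        obtain ⟨b, hb1, hb2⟩ := hp
        refine ⟨r • b, by rw [Pi.smul_apply, hb1, map_smul, smul_neg], ?_⟩
        convert Submodule.smul_mem (trivR f') r hb2 using 1
        funext i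
        simp only [Pi.sub_apply, Pi.smul_apply, smul_eq_mul]
        ring
    have hext : ∀ (v : Fin n → R) (z : R), dot f (Fin.snoc v z) = dot f' v + z * x := by
      intro v z
      rw [dot_apply, dot_apply, Fin.sum_univ_castSucc, Fin.snoc_last]
      simp [Fin.snoc_castSucc, f', x]
    have hrel' : ∀ v, dot f' v = 0 → v ∈ trivR f' := by
      intro v hv
      refine Submodule.le_of_le_smul_of_le_jacobson_bot (I := maximalIdeal R) (N := trivR f')
        (N' := LinearMap.ker (dot f')) (IsNoetherian.noetherian _) (maximalIdeal_le_jacobson ⊥)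
        (fun w hw => ?_) hv
      obtain ⟨b, hb1, hb2⟩ := hdec (Fin.snoc w 0) (hrel _ (by rw [hext, zero_mul, add_zero]; exact hw))
      rw [Fin.snoc_last] at hb1
      have hb : b ∈ LinearMap.ker (dot f') := by
        rw [LinearMap.mem_ker]; exact neg_eq_zero.1 hb1.symm
      have e : w = ((fun i : Fin n => (Fin.snoc w 0 : Fin (n + 1) → R) i.castSucc) - x • b) + x • b := by
        funext i; simp [Fin.snoc_castSucc]
      rw [e]
      exact Submodule.add_mem_sup hb2 (Submodule.smul_mem_smul (hfm _) hb)
    rw [List.ofFn_succ', List.concat_eq_append, isWeaklyRegular_concat_iff]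
    refine ⟨ih f' (fun i => hfm _) hrel', ?_⟩
    have hJ : (Ideal.ofList (List.ofFn f') • (⊤ : Submodule R R)) = Ideal.span (Set.range f') := by
      rw [smul_eq_mul, Ideal.mul_top, Ideal.ofList]
      congr 1
      ext z; simp [List.mem_ofFn]
    rw [isSMulRegular_iff_right_eq_zero_of_smul]
    intro z hz
    obtain ⟨z, rfl⟩ := Submodule.Quotient.mk_surjective _ z
    rw [← Submodule.Quotient.mk_smul, Submodule.Quotient.mk_eq_zero, hJ, smul_eq_mul,
      Ideal.mem_span_range_iff_exists_fun] at hz
    obtain ⟨v, hv⟩ := hz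
    obtain ⟨b, hb1, -⟩ := hdec (Fin.snoc (-v) z) (hrel _ (by
      rw [hext, map_neg, dot_apply, hv]; show -(x * z) + z * x = 0; ring))
    rw [Fin.snoc_last] at hb1
    rw [Submodule.Quotient.mk_eq_zero, hJ, hb1, dot_apply, ← Finset.sum_neg_distrib]
    exact sum_mem fun i _ => neg_mem (Ideal.mul_mem_left _ _ (Ideal.subset_span ⟨i, rfl⟩))

end Local

/-- Localized at a point, `B = P/I` with `I` generated by a family with trivial relations is Gorenstein. -/
theorem gorenstein_atPrime_of_rel {P B : Type u} [CommRing P] [LocCoh.IsGorensteinRing P] [CommRing B]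
    (π : P →+* B) (hπ : Function.Surjective π) (q : Ideal B) [q.IsPrime] (M : Submonoid P)
    (hM : ∀ x ∈ M, π x ∉ q) (R : Type u) [CommRing R] [Algebra P R] [IsLocalization M R] {n : ℕ}
    (f : Fin n → R) (hrel : ∀ u, dot f u = 0 → u ∈ trivR f)
    (hspan : Ideal.span (Set.range f) = (RingHom.ker π).map (algebraMap P R)) :
    LocCoh.IsGorensteinLocalRing (Localization.AtPrime q) := by
  let Q := q.comap π
  let S := Localization.AtPrime Q
  haveI := LocCoh.IsGorensteinRing.isGorensteinLocalRing_localization (A := P) Q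
  haveI : IsNoetherianRing B := isNoetherianRing_of_surjective P B π hπ
  haveI := isNoetherianRing_atPrime q
  have hMQ : M ≤ Q.primeCompl := hM
  have hunit : ∀ y : M, IsUnit (algebraMap P S y) := fun y => IsLocalization.map_units S (⟨y.1, hMQ y.2⟩ : Q.primeCompl)
  letI : Algebra R S := (IsLocalization.lift hunit).toAlgebra
  haveI : IsScalarTower P R S := IsScalarTower.of_algebraMap_eq fun z => by
    rw [RingHom.algebraMap_toAlgebra, IsLocalization.lift_eq]
  haveI : IsLocalization (Q.primeCompl.map (algebraMap P R)) S :=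
    IsLocalization.isLocalization_of_submonoid_le R S M Q.primeCompl hMQ
  let fS : Fin n → S := fun i => algebraMap R S (f i)
  let σ := Localization.localRingHom Q q π rfl
  have hσ : Function.Surjective σ := by
    intro z
    obtain ⟨c, ⟨t, ht⟩, rfl⟩ := IsLocalization.exists_mk'_eq q.primeCompl z
    obtain ⟨a, rfl⟩ := hπ c
    obtain ⟨s, rfl⟩ := hπ t
    exact ⟨IsLocalization.mk' _ a (⟨s, ht⟩ : Q.primeCompl), Localization.localRingHom_mk' _ _ _ _ _ _⟩
  have hker : RingHom.ker σ = Ideal.ofList (List.ofFn fS) := by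
    have h1 : Ideal.ofList (List.ofFn fS) = (RingHom.ker π).map (algebraMap P S) := by
      rw [IsScalarTower.algebraMap_eq P R S, ← Ideal.map_map, ← hspan, Ideal.map_span, ← Set.range_comp,
        Ideal.ofList]
      congr 1
      ext z; simp [List.mem_ofFn, fS]
    rw [h1]
    refine le_antisymm (fun z hz => ?_) (Ideal.map_le_iff_le_comap.2 fun a ha => ?_)
    · obtain ⟨a, ⟨s, hs⟩, rfl⟩ := IsLocalization.exists_mk'_eq Q.primeCompl z
      rw [RingHom.mem_ker, Localization.localRingHom_mk', IsLocalization.mk'_eq_zero_iff] at hz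
      obtain ⟨⟨u, hu⟩, hu'⟩ := hz
      obtain ⟨v, rfl⟩ := hπ u
      rw [IsLocalization.mk'_mem_map_algebraMap_iff]
      exact ⟨v, hu, (RingHom.mem_ker (f := π)).2 (by rw [map_mul]; exact hu')⟩
    · rw [Ideal.mem_comap, RingHom.mem_ker, Localization.localRingHom_to_map,
        (RingHom.mem_ker (f := π)).1 ha, map_zero]
  have hmem : ∀ i, fS i ∈ maximalIdeal S := fun i => by
    refine le_maximalIdeal (RingHom.ker_ne_top σ) ?_
    rw [hker]
    exact Ideal.subset_span ((List.mem_ofFn).2 ⟨i, rfl⟩)
  haveI := gorenstein_quotient_ofList (List.ofFn fS)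
    (fun r hr => by obtain ⟨i, rfl⟩ := List.mem_ofFn.1 hr; exact hmem i)
    (weaklyRegular_of_rel n fS hmem fun u hu =>
      rel_localize (Q.primeCompl.map (algebraMap P R)) f hrel u hu)
  exact gorenstein_of_ringEquiv ((Ideal.quotEquivOfEq hker.symm).trans (RingHom.quotientKerEquivOfSurjective hσ))

theorem range_list_get {R : Type u} [CommRing R] (l : List R) :
    Ideal.span (Set.range fun i : Fin l.length => l[i]) = Ideal.span {x | x ∈ l} := by
  congr 1
  ext z
  exact ⟨fun ⟨i, hi⟩ => hi ▸ List.getElem_mem _, fun hz => by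
    obtain ⟨i, hi, rfl⟩ := List.getElem_of_mem hz; exact ⟨⟨i, hi⟩, rfl⟩⟩

theorem gorensteinRing_mvPolynomial_fin (A : Type u) [CommRing A] [LocCoh.IsGorensteinRing A] (n : ℕ) :
    LocCoh.IsGorensteinRing (MvPolynomial (Fin n) A) :=
  gorensteinRing_of_ringEquiv (MvPolynomial.renameEquiv A (Equiv.ulift.{u, 0} (α := Fin n))).toRingEquiv
    (gorensteinRing_mvPolynomial A (ULift.{u} (Fin n)))

theorem gorensteinRing_of_isLCI (A B : Type u) [CommRing A] [CommRing B] [Algebra A B]
    (hA : LocCoh.IsGorensteinRing A) (h : LCI.IsLCI A B) : LocCoh.IsGorensteinRing B := by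
  obtain ⟨-, n, π, hπ, hK⟩ := h
  haveI := hA
  haveI := gorensteinRing_mvPolynomial_fin A n
  haveI : IsNoetherianRing B := isNoetherianRing_of_surjective _ B π.toRingHom hπ
  refine gorensteinRing_of_atPrime fun q _ => ?_
  obtain ⟨g, hg, l, hl, hI⟩ := hK ⟨q.comap π.toRingHom, inferInstance⟩ (Ideal.ker_le_comap _)
  refine gorenstein_atPrime_of_rel π.toRingHom hπ q (Submonoid.powers g) ?_ (Localization.Away g)
    (fun i : Fin l.length => l[i]) (fun u hu => DefGlueLib.mem_trivR_of_isKoszulRegularSeq hl hu)
    ((range_list_get l).trans hI.symm)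
  rintro _ ⟨k, rfl⟩
  rw [map_pow]
  exact fun hk => hg (Ideal.IsPrime.mem_of_pow_mem ‹q.IsPrime› k hk)

/-- Trivial relations survive base change when the quotient is flat. -/
theorem rel_baseChange {A R : Type u} [CommRing A] [CommRing R] [Algebra A R] (K : Type u) [CommRing K]
    [Algebra A K] {n : ℕ} (f : Fin n → R) (hrel : ∀ u, dot f u = 0 → u ∈ trivR f)
    [Module.Flat A (R ⧸ Ideal.span (Set.range f))] (u : Fin n → K ⊗[A] R)
    (hu : dot (fun i => (1 : K) ⊗ₜ[A] f i) u = 0) : u ∈ trivR (fun i => (1 : K) ⊗ₜ[A] f i) := by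
  let J := Ideal.span (Set.range f)
  let d : (Fin n → R) →ₗ[A] J :=
    LinearMap.codRestrict (J.restrictScalars A) ((dot f).restrictScalars A) fun v => by
      show dot f v ∈ J
      rw [dot_apply]
      exact sum_mem fun i _ => Ideal.mul_mem_left _ _ (Ideal.subset_span ⟨i, rfl⟩)
  have hd : Function.Surjective d := by
    rintro ⟨z, hz⟩
    obtain ⟨v, hv⟩ := Ideal.mem_span_range_iff_exists_fun.1 hz
    exact ⟨v, Subtype.ext ((dot_apply f v).trans hv)⟩
  let N := (trivR f).restrictScalars A
  have hex : Function.Exact N.subtype d := fun v =>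
    ⟨fun hv => ⟨⟨v, hrel v (congrArg Subtype.val hv)⟩, rfl⟩, by
      rintro ⟨w, rfl⟩
      exact Subtype.ext (dot_eq_zero_of_mem_trivR f w.2)⟩
  have hinj : Function.Injective ((J.subtype.restrictScalars A).lTensor K) :=
    LinearMap.lTensor_injective_of_exact_of_flat ((Submodule.mkQ J).restrictScalars A)
      (Submodule.mkQ_surjective J) (J.subtype.restrictScalars A) Subtype.val_injective
      (LinearMap.exact_subtype_mkQ J) K
  let e := TensorProduct.piRight A A K (fun _ : Fin n => R)
  obtain ⟨U, rfl⟩ := e.surjective u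
  have hnat : ∀ V, dot (fun i => (1 : K) ⊗ₜ[A] f i) (e V) =
      ((dot f).restrictScalars A).lTensor K V := by
    intro V
    induction V using TensorProduct.induction_on with
    | zero => simp
    | tmul c v =>
      rw [LinearMap.lTensor_tmul, dot_apply]
      show _ = c ⊗ₜ[A] dot f v
      rw [dot_apply, TensorProduct.tmul_sum]
      refine Finset.sum_congr rfl fun i _ => ?_
      rw [TensorProduct.piRight_apply, TensorProduct.piRightHom_tmul,
        Algebra.TensorProduct.tmul_mul_tmul, mul_one]
    | add x y hx hy => simp only [map_add, hx, hy]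
  rw [hnat] at hu
  have h1 : d.lTensor K U = 0 := by
    refine hinj ?_
    rw [map_zero, ← LinearMap.comp_apply, ← LinearMap.lTensor_comp]
    exact hu
  obtain ⟨W, rfl⟩ := (lTensor_exact K hex hd U).1 h1
  clear hu h1
  induction W using TensorProduct.induction_on with
  | zero => simp
  | tmul c w =>
    have := Submodule.smul_mem (trivR fun i => (1 : K) ⊗ₜ[A] f i) (c ⊗ₜ[A] (1 : R))
      (map_mem_trivR (Algebra.TensorProduct.includeRight (R := A) (A := K)).toRingHom w.2)
    convert this using 1
    funext i
    rw [LinearMap.lTensor_tmul, TensorProduct.piRight_apply, TensorProduct.piRightHom_tmul, Pi.smul_apply,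
      smul_eq_mul]
    show c ⊗ₜ[A] (w.1 i) = (c ⊗ₜ[A] (1 : R)) * ((1 : K) ⊗ₜ[A] (w.1 i))
    rw [Algebra.TensorProduct.tmul_mul_tmul, mul_one, one_mul]
  | add x y hx hy =>
    simp only [map_add]
    exact add_mem hx hy

theorem gorensteinRing_fibre_of_isLCI (A B : Type u) [CommRing A] [CommRing B] [Algebra A B]
    [Module.Flat A B] (hl : LCI.IsLCI A B) (p : Ideal A) [p.IsPrime] :
    LocCoh.IsGorensteinRing (B ⊗[A] p.ResidueField) := by
  obtain ⟨-, n, π, hπ, hK⟩ := hl
  let K := p.ResidueField
  let P := MvPolynomial (Fin n) A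
  haveI : LocCoh.IsGorensteinRing K := gorensteinRing_of_isRegularRing K
  haveI := gorensteinRing_mvPolynomial_fin K n
  haveI : LocCoh.IsGorensteinRing (K ⊗[A] P) :=
    gorensteinRing_of_ringEquiv (MvPolynomial.algebraTensorAlgEquiv (σ := Fin n) A K).toRingEquiv.symm inferInstance
  let π' := (Algebra.TensorProduct.map (AlgHom.id A K) π).toRingHom
  have hπ' : Function.Surjective π' := LinearMap.lTensor_surjective K (g := π.toLinearMap) hπ
  suffices hmain : LocCoh.IsGorensteinRing (K ⊗[A] B) from
    gorensteinRing_of_ringEquiv (Algebra.TensorProduct.comm A K B).toRingEquiv hmain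
  haveI : IsNoetherianRing (K ⊗[A] B) := isNoetherianRing_of_surjective _ _ π' hπ'
  refine gorensteinRing_of_atPrime fun q _ => ?_
  let Q := (q.comap π').comap (Algebra.TensorProduct.includeRight (R := A) (A := K) (B := P)).toRingHom
  have hQ : RingHom.ker π.toRingHom ≤ Q := fun x hx => by
    rw [Ideal.mem_comap, Ideal.mem_comap]
    show (1 : K) ⊗ₜ[A] π x ∈ q
    rw [show π x = 0 from hx, TensorProduct.tmul_zero]
    exact q.zero_mem
  obtain ⟨g, hg, l, hl, hI⟩ := hK ⟨Q, inferInstance⟩ hQ
  let R := Localization.Away g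
  let f : Fin l.length → R := fun i => l[i]
  haveI hflat : Module.Flat A (R ⧸ Ideal.span (Set.range f)) := by
    let I := RingHom.ker π.toRingHom
    have e : Ideal.span (Set.range f) = I.map (algebraMap P R) := (range_list_get l).trans hI.symm
    rw [e]
    haveI : Module.Flat P R := IsLocalization.flat R (Submonoid.powers g)
    haveI : Module.Flat (P ⧸ I) (R ⧸ I.map (algebraMap P R)) := exists_quotientMap_flat I
    haveI : Module.Flat A (P ⧸ I) :=
      Module.Flat.of_linearEquiv ((Ideal.quotientKerAlgEquivOfSurjective hπ).toLinearEquiv)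
    haveI : IsScalarTower A (P ⧸ I) (R ⧸ I.map (algebraMap P R)) :=
      IsScalarTower.of_algebraMap_eq (R := A) (S := P ⧸ I) (A := R ⧸ I.map (algebraMap P R)) fun a =>
        congrArg (Ideal.Quotient.mk (I.map (algebraMap P R))) (IsScalarTower.algebraMap_apply A P R a)
    exact Module.Flat.trans A (P ⧸ I) _
  letI : Algebra (K ⊗[A] P) (K ⊗[A] R) :=
    (Algebra.TensorProduct.map (AlgHom.id A K) (IsScalarTower.toAlgHom A P R)).toRingHom.toAlgebra
  haveI : IsScalarTower K (K ⊗[A] P) (K ⊗[A] R) :=
    IsScalarTower.of_algebraMap_eq (R := K) (S := K ⊗[A] P) (A := K ⊗[A] R) fun c => by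
      show c ⊗ₜ[A] (1 : R) = c ⊗ₜ[A] (algebraMap P R 1)
      rw [map_one]
  haveI := IsLocalization.tensorProduct_tensorProduct_right A K (Submonoid.powers g) R rfl
  have hspan : Ideal.span (Set.range fun i => (1 : K) ⊗ₜ[A] f i) =
      (RingHom.ker π').map (algebraMap (K ⊗[A] P) (K ⊗[A] R)) := by
    rw [show RingHom.ker π' = (RingHom.ker π.toRingHom).map
      (Algebra.TensorProduct.includeRight (R := A) (A := K) (B := P)) from Algebra.TensorProduct.lTensor_ker π hπ]
    rw [← Ideal.map_coe (Algebra.TensorProduct.includeRight (R := A) (A := K) (B := P)), Ideal.map_map,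
      show (algebraMap (K ⊗[A] P) (K ⊗[A] R)).comp
          ((Algebra.TensorProduct.includeRight (R := A) (A := K) (B := P) : P →ₐ[A] K ⊗[A] P) : P →+* K ⊗[A] P) =
        (Algebra.TensorProduct.includeRight (R := A) (A := K) (B := R)).toRingHom.comp (algebraMap P R) from rfl,
      ← Ideal.map_map, hI, ← range_list_get l, Ideal.map_span, ← Set.range_comp]
    rfl
  refine gorenstein_atPrime_of_rel π' hπ' q
    ((Submonoid.powers g).map (Algebra.TensorProduct.includeRight (R := A) (A := K))) ?_ (K ⊗[A] R) (fun i => (1 : K) ⊗ₜ[A] f i)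
    (rel_baseChange K f fun u hu => DefGlueLib.mem_trivR_of_isKoszulRegularSeq hl hu) hspan
  rintro _ ⟨_, ⟨k, rfl⟩, rfl⟩
  rw [map_pow, map_pow]
  exact fun hk => hg (Ideal.IsPrime.mem_of_pow_mem ‹q.IsPrime› k hk)

end Groth.Agent.LC
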