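import Groth.Agent.LC.GorRing
import Groth.Prelude.Def_Found

/-!
# Gorenstein fibres of composites; field base change rows
-/

set_option autoImplicit false

universe u

open IsLocalRing TensorProduct

namespace Groth.Agent.LC

theorem localRingHom_mk_surjective {B : Type u} [CommRing B] (I : Ideal B) (q : Ideal (B ⧸ I)) [q.IsPrime] :
    Function.Surjective (Localization.localRingHom (q.comap (Ideal.Quotient.mk I)) q (Ideal.Quotient.mk I) rfl) := by
  intro z
  obtain ⟨c, ⟨t, ht⟩, rfl⟩ := IsLocalization.exists_mk'_eq q.primeCompl z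
  obtain ⟨a, rfl⟩ := Ideal.Quotient.mk_surjective c
  obtain ⟨s, rfl⟩ := Ideal.Quotient.mk_surjective t
  exact ⟨IsLocalization.mk' _ a (⟨s, ht⟩ : (q.comap (Ideal.Quotient.mk I)).primeCompl),
    Localization.localRingHom_mk' _ _ _ _ _ _⟩

theorem ker_localRingHom_mk {B : Type u} [CommRing B] (I : Ideal B) (q : Ideal (B ⧸ I)) [q.IsPrime] :
    RingHom.ker (Localization.localRingHom (q.comap (Ideal.Quotient.mk I)) q (Ideal.Quotient.mk I) rfl) =
      I.map (algebraMap B (Localization.AtPrime (q.comap (Ideal.Quotient.mk I)))) := by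
  refine le_antisymm (fun z hz => ?_) (Ideal.map_le_iff_le_comap.2 fun a ha => ?_)
  · obtain ⟨a, ⟨s, hs⟩, rfl⟩ := IsLocalization.exists_mk'_eq (q.comap (Ideal.Quotient.mk I)).primeCompl z
    rw [RingHom.mem_ker, Localization.localRingHom_mk', IsLocalization.mk'_eq_zero_iff] at hz
    obtain ⟨⟨u, hu⟩, hu'⟩ := hz
    obtain ⟨v, rfl⟩ := Ideal.Quotient.mk_surjective u
    rw [IsLocalization.mk'_mem_map_algebraMap_iff]
    exact ⟨v, hu, Ideal.Quotient.eq_zero_iff_mem.1 (by rw [map_mul]; exact hu')⟩
  · rw [Ideal.mem_comap, RingHom.mem_ker, Localization.localRingHom_to_map,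
      Ideal.Quotient.eq_zero_iff_mem.2 ha, map_zero]

theorem gorenstein_fibres_comp (A B C : Type u) [CommRing A] [CommRing B] [CommRing C] [IsNoetherianRing A]
    [IsNoetherianRing B] [IsNoetherianRing C] [Algebra A B] [Algebra B C] [Algebra A C] [IsScalarTower A B C]
    [Module.Flat B C] (hAB : ∀ (q : Ideal A) [q.IsPrime], LocCoh.IsGorensteinRing (q.Fiber B))
    (hBC : ∀ (p : Ideal B) [p.IsPrime], LocCoh.IsGorensteinRing (p.Fiber C)) (q : Ideal A) [q.IsPrime] :
    LocCoh.IsGorensteinRing (q.Fiber C) := by
  refine fiber_of_fibLoc q fun Q _ hQ => ?_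
  let I := q.map (algebraMap A B)
  let J := I.map (algebraMap B C)
  let B' := B ⧸ I
  let C' := C ⧸ J
  haveI : Module.Flat B' C' := exists_quotientMap_flat I
  have hJQ : J ≤ Q := by
    show (q.map (algebraMap A B)).map (algebraMap B C) ≤ Q
    rw [Ideal.map_map, ← IsScalarTower.algebraMap_eq, Ideal.map_le_iff_le_comap, hQ]
  let Q' := Q.map (Ideal.Quotient.mk J)
  haveI : Q'.IsPrime := Ideal.map_isPrime_of_surjective Ideal.Quotient.mk_surjective (by rw [Ideal.mk_ker]; exact hJQ)
  have hQ' : Q'.comap (Ideal.Quotient.mk J) = Q := by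
    rw [Ideal.comap_map_of_surjective' _ Ideal.Quotient.mk_surjective, Ideal.mk_ker, sup_eq_left.2 hJQ]
  let P' := Q'.comap (algebraMap B' C')
  let P := Q.comap (algebraMap B C)
  have hP' : P'.comap (Ideal.Quotient.mk I) = P := by
    show (Q'.comap (algebraMap B' C')).comap (Ideal.Quotient.mk I) = Q.comap (algebraMap B C)
    rw [Ideal.comap_comap, show (algebraMap B' C').comp (Ideal.Quotient.mk I) =
      (Ideal.Quotient.mk J).comp (algebraMap B C) from rfl, ← Ideal.comap_comap, hQ']
  -- `B'` localized at `P'` is the fibre of `A → B`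
  have hB : LocCoh.IsGorensteinLocalRing (Localization.AtPrime P') := by
    haveI := isNoetherianRing_atPrime P'
    haveI := fibLoc_of_fiber (A := A) (P'.comap (Ideal.Quotient.mk I)) hAB
    refine gorenstein_of_ringEquiv (A := EGA4.FibLocRing A B (P'.comap (Ideal.Quotient.mk I)))
      ((Ideal.quotEquivOfEq ?_).trans (RingHom.quotientKerEquivOfSurjective (localRingHom_mk_surjective I P')))
    rw [ker_localRingHom_mk, Ideal.map_map, ← IsScalarTower.algebraMap_eq,
      show (P'.comap (Ideal.Quotient.mk I)).comap (algebraMap A B) = q by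
        refine (congrArg (Ideal.comap (algebraMap A B)) hP').trans ?_
        show (Q.comap (algebraMap B C)).comap (algebraMap A B) = q
        rw [Ideal.comap_comap, ← IsScalarTower.algebraMap_eq, hQ]]
  -- the fibre of `B' → C'` is the fibre of `B → C`
  have hF : LocCoh.IsGorensteinLocalRing (EGA4.FibLocRing B' C' Q') := by
    let π := (Ideal.Quotient.mk (P'.map (algebraMap B' (Localization.AtPrime Q')))).comp
      (Localization.localRingHom (Q'.comap (Ideal.Quotient.mk J)) Q' (Ideal.Quotient.mk J) rfl)
    have hπ : Function.Surjective π :=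
      Ideal.Quotient.mk_surjective.comp (localRingHom_mk_surjective J Q')
    haveI := fibLoc_of_fiber (A := B) (Q'.comap (Ideal.Quotient.mk J)) hBC
    have hπker : RingHom.ker π =
        ((Q'.comap (Ideal.Quotient.mk J)).comap (algebraMap B C)).map
          (algebraMap B (Localization.AtPrime (Q'.comap (Ideal.Quotient.mk J)))) := by
      have hcomp : (algebraMap B' (Localization.AtPrime Q')).comp (Ideal.Quotient.mk I) =
          (Localization.localRingHom (Q'.comap (Ideal.Quotient.mk J)) Q' (Ideal.Quotient.mk J) rfl).comp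
            (algebraMap B (Localization.AtPrime (Q'.comap (Ideal.Quotient.mk J)))) := by
        ext b
        rw [RingHom.comp_apply, RingHom.comp_apply,
          IsScalarTower.algebraMap_apply B C (Localization.AtPrime (Q'.comap (Ideal.Quotient.mk J))),
          Localization.localRingHom_to_map, IsScalarTower.algebraMap_apply B' C' (Localization.AtPrime Q')]
        rfl
      have hPmap : P' = P.map (Ideal.Quotient.mk I) := by
        rw [← hP', Ideal.map_comap_of_surjective _ Ideal.Quotient.mk_surjective]
      rw [← RingHom.comap_ker, Ideal.mk_ker, hPmap, Ideal.map_map, hcomp, ← Ideal.map_map,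
        Ideal.comap_map_of_surjective' _ (localRingHom_mk_surjective J Q'), ker_localRingHom_mk]
      have e1 : (Q'.comap (Ideal.Quotient.mk J)).comap (algebraMap B C) = P := congrArg _ hQ'
      rw [e1]
      refine sup_eq_left.2 ?_
      show (I.map (algebraMap B C)).map _ ≤ _
      rw [Ideal.map_map, ← IsScalarTower.algebraMap_eq]
      refine Ideal.map_mono ?_
      show q.map (algebraMap A B) ≤ Q.comap (algebraMap B C)
      rw [Ideal.map_le_iff_le_comap, Ideal.comap_comap, ← IsScalarTower.algebraMap_eq, hQ]
    haveI := isNoetherianRing_atPrime Q'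
    haveI : IsLocalRing (EGA4.FibLocRing B' C' Q') :=
      ((Ideal.quotEquivOfEq hπker.symm).trans (RingHom.quotientKerEquivOfSurjective hπ)).isLocalRing
    exact gorenstein_of_ringEquiv (A := EGA4.FibLocRing B C (Q'.comap (Ideal.Quotient.mk J)))
      ((Ideal.quotEquivOfEq hπker.symm).trans (RingHom.quotientKerEquivOfSurjective hπ))
  haveI hC := (atPrime_iff (A := B') Q').2 ⟨hB, hF⟩
  suffices key : ∀ (Q₁ : Ideal C) [Q₁.IsPrime], Q'.comap (Ideal.Quotient.mk J) = Q₁ →
      LocCoh.IsGorensteinLocalRing (EGA4.FibLocRing A C Q₁) from key Q hQ'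
  rintro _ _ rfl
  have hker2 : RingHom.ker (Localization.localRingHom (Q'.comap (Ideal.Quotient.mk J)) Q' (Ideal.Quotient.mk J) rfl) =
      ((Q'.comap (Ideal.Quotient.mk J)).comap (algebraMap A C)).map
        (algebraMap A (Localization.AtPrime (Q'.comap (Ideal.Quotient.mk J)))) := by
    rw [ker_localRingHom_mk, show (Q'.comap (Ideal.Quotient.mk J)).comap (algebraMap A C) = q from
      (congrArg _ hQ').trans hQ]
    show ((q.map (algebraMap A B)).map (algebraMap B C)).map _ = _
    rw [Ideal.map_map, Ideal.map_map, RingHom.comp_assoc, ← IsScalarTower.algebraMap_eq A B C,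
      ← IsScalarTower.algebraMap_eq]
  let e3 := (RingHom.quotientKerEquivOfSurjective (localRingHom_mk_surjective J Q')).symm.trans
    (Ideal.quotEquivOfEq hker2)
  haveI : IsLocalRing (EGA4.FibLocRing A C (Q'.comap (Ideal.Quotient.mk J))) := e3.isLocalRing
  haveI := isNoetherianRing_atPrime Q'
  exact gorenstein_of_ringEquiv e3

theorem gorenstein_fibres_comp_regular (A B C : Type u) [CommRing A] [CommRing B] [CommRing C]
    [IsNoetherianRing A] [IsNoetherianRing B] [IsNoetherianRing C] [Algebra A B] [Algebra B C] [Algebra A C]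
    [IsScalarTower A B C] [Module.Flat B C]
    (hAB : ∀ (q : Ideal A) [q.IsPrime], LocCoh.IsGorensteinRing (q.Fiber B))
    (hBC : CAlg.IsRegularHom B C) (q : Ideal A) [q.IsPrime] : LocCoh.IsGorensteinRing (q.Fiber C) :=
  gorenstein_fibres_comp A B C hAB (fun p _ => by
    haveI := (hBC.2 p).1
    haveI := FlatLoc6.isRegularRing_of_geometricallyRegular (hBC.2 p).2
    exact gorensteinRing_of_isRegularRing _) q

theorem gorensteinRing_baseChange_fg (k K R : Type u) [Field k] [Field K] [Algebra k K]
    (hK : ∃ s : Finset K, IntermediateField.adjoin k (s : Set K) = ⊤) [CommRing R] [Algebra k R]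
    [LocCoh.IsGorensteinRing R] : LocCoh.IsGorensteinRing (K ⊗[k] R) := by
  haveI : Algebra.EssFiniteType k K := IntermediateField.fg_top_iff.1 hK
  exact gorensteinRing_field_tensor k R K

theorem gorenstein_iff_baseChange_fg (k k' : Type u) [Field k] [Field k'] [Algebra k k']
    (hfg : ∃ s : Finset k', IntermediateField.adjoin k (s : Set k') = ⊤) (B : Type u) [CommRing B]
    [IsLocalRing B] [IsNoetherianRing B] [Algebra k B] (q : PrimeSpectrum (B ⊗[k] k'))
    (hq : q.asIdeal.comap (algebraMap B (B ⊗[k] k')) = maximalIdeal B) :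
    LocCoh.IsGorensteinLocalRing B ↔ LocCoh.IsGorensteinLocalRing (Localization.AtPrime q.asIdeal) := by
  haveI : Algebra.EssFiniteType k k' := IntermediateField.fg_top_iff.1 hfg
  haveI : IsNoetherianRing (B ⊗[k] k') := Algebra.EssFiniteType.isNoetherianRing B _
  constructor
  · intro h
    haveI := gorensteinRing_of_local B
    haveI := gorensteinRing_of_ringEquiv (Algebra.TensorProduct.comm k k' B).toRingEquiv
      (gorensteinRing_field_tensor k B k')
    exact LocCoh.IsGorensteinRing.isGorensteinLocalRing_localization q.asIdeal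
  · intro h
    have h1 := ((atPrime_iff (A := B) q.asIdeal).1 h).1
    let m' := q.asIdeal.comap (algebraMap B (B ⊗[k] k'))
    haveI : IsLocalization m'.primeCompl B := IsLocalization.self fun x hx => by
      have : x ∉ maximalIdeal B := hq ▸ hx
      exact notMem_maximalIdeal.1 this
    exact gorenstein_of_ringEquiv (A := Localization.AtPrime m')
      (IsLocalization.algEquiv m'.primeCompl (Localization.AtPrime m') B).toRingEquiv

theorem gorenstein_iff_baseChange_finiteType (k k' : Type u) [Field k] [Field k'] [Algebra k k']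
    (C : Type u) [CommRing C] [Algebra k C] [Algebra.FiniteType k C] (q : PrimeSpectrum (C ⊗[k] k')) :
    LocCoh.IsGorensteinLocalRing (Localization.AtPrime (q.asIdeal.comap (algebraMap C (C ⊗[k] k')))) ↔
      LocCoh.IsGorensteinLocalRing (Localization.AtPrime q.asIdeal) := by
  haveI : IsNoetherianRing C := Algebra.FiniteType.isNoetherianRing k C
  haveI : IsNoetherianRing (C ⊗[k] k') := by
    haveI : IsNoetherianRing (k' ⊗[k] C) := Algebra.FiniteType.isNoetherianRing k' _
    exact isNoetherianRing_of_ringEquiv _ (Algebra.TensorProduct.comm k k' C).toRingEquiv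
  rw [atPrime_iff (A := C) q.asIdeal]
  refine ⟨fun h => ⟨h, fibLoc_of_fiber _ fun p _ => ?_⟩, fun h => h.1⟩
  haveI : Algebra.EssFiniteType k p.ResidueField := Algebra.EssFiniteType.comp k C _
  haveI : LocCoh.IsGorensteinRing k' := gorensteinRing_of_isRegularRing k'
  exact gorensteinRing_of_ringEquiv
    (Algebra.TensorProduct.cancelBaseChange k C p.ResidueField p.ResidueField k').toRingEquiv.symm
    (gorensteinRing_field_tensor k k' p.ResidueField)

end Groth.Agent.LC
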