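import Groth.Agent.LC.LiaisonGor
import Groth.Agent.LC.GorRingRows
import Groth.Agent.LC.GorLCI

/-!
# Gorenstein quotients by linked ideals: global statements
-/

set_option autoImplicit false

universe u

open CategoryTheory Limits IsLocalRing

namespace Groth.Agent.LC.Liaison

section Transfer

theorem isCMLocal_of_ringEquiv {A : Type u} [CommRing A] [LocCoh.IsCohenMacaulayLocalRing A] {B : Type u}
    [CommRing B] [IsLocalRing B] [IsNoetherianRing B] (e : A ≃+* B) : LocCoh.IsCohenMacaulayLocalRing B := by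
  letI : Algebra A B := e.toRingHom.toAlgebra
  have hσ : Function.Surjective (algebraMap A B) := e.surjective
  have hdep : ∀ n : ℕ, (n : ℕ∞) ≤ LocCoh.depth B B ↔ (n : ℕ∞) ≤ LocCoh.depth A A := by
    intro n
    refine (le_idealDepth_iff_H (maximalIdeal B) B n).trans (Iff.trans ?_ (le_idealDepth_iff_H (maximalIdeal A) A n).symm)
    refine forall₂_congr fun i _ => ?_
    have h := exists_indep (R := A) (R' := B) (maximalIdeal A) i B
    rw [map_maximalIdeal_of_surjective (algebraMap A B) hσ] at h
    obtain ⟨φ, -⟩ := h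
    let le : A ≃ₗ[A] B := LinearEquiv.ofBijective (Algebra.linearMap A B) e.bijective
    let ψ := φ.trans (((localCohomology (maximalIdeal A) i).mapIso le.toModuleIso).toLinearEquiv.symm.toAddEquiv)
    exact ψ.toEquiv.subsingleton_congr
  have hd : LocCoh.depth B B = LocCoh.depth A A := ENat.eq_of_forall_natCast_le_iff hdep
  refine { supportDim_eq_depth := ?_ }
  rw [hd, Module.supportDim_self_eq_ringKrullDim, ← ringKrullDim_eq_of_ringEquiv e,
    ← Module.supportDim_self_eq_ringKrullDim]
  exact LocCoh.IsCohenMacaulayLocalRing.supportDim_eq_depth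

variable {B C : Type u} [CommRing B] [CommRing C] (φ : B →+* C) (hφ : Function.Surjective φ)
  (q : Ideal C) [q.IsPrime] (P : Ideal B) [P.IsPrime] (h : P = q.comap φ)

include hφ in
theorem ker_localRingHom : RingHom.ker (Localization.localRingHom P q φ h) =
    (RingHom.ker φ).map (algebraMap B (Localization.AtPrime P)) := by
  refine le_antisymm (fun z hz => ?_) (Ideal.map_le_iff_le_comap.2 fun a ha => ?_)
  · obtain ⟨a, ⟨s, hs⟩, rfl⟩ := IsLocalization.exists_mk'_eq P.primeCompl z
    rw [RingHom.mem_ker, Localization.localRingHom_mk', IsLocalization.mk'_eq_zero_iff] at hz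
    obtain ⟨⟨u, hu⟩, hu'⟩ := hz
    obtain ⟨v, rfl⟩ := hφ u
    rw [IsLocalization.mk'_mem_map_algebraMap_iff]
    refine ⟨v, fun hv => hu ?_, (RingHom.mem_ker (f := φ)).2 (by rw [map_mul]; exact hu')⟩
    rwa [SetLike.mem_coe, h] at hv
  · rw [Ideal.mem_comap, RingHom.mem_ker, Localization.localRingHom_to_map,
      (RingHom.mem_ker (f := φ)).1 ha, map_zero]

theorem surjective_localRingHom (hφ : Function.Surjective φ) :
    Function.Surjective (Localization.localRingHom P q φ h) := by
  subst h
  exact RingHom.surjective_localRingHom_of_surjective φ hφ q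

include h in
/-- The local ring of a quotient is a quotient of the local ring. -/
theorem exists_quot_localization_equiv (hφ : Function.Surjective φ) :
    Nonempty ((Localization.AtPrime P ⧸ (RingHom.ker φ).map (algebraMap B (Localization.AtPrime P))) ≃+*
      Localization.AtPrime q) :=
  ⟨(Ideal.quotEquivOfEq (ker_localRingHom φ hφ q P h).symm).trans
    (RingHom.quotientKerEquivOfSurjective (surjective_localRingHom φ q P h hφ))⟩

end Transfer

section CI

/-- A complete intersection in a regular ring is Gorenstein. -/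
theorem gorensteinRing_ci {S : Type u} [CommRing S] [IsRegularRing S] {c : ℕ} (g : Fin c → S) {J : Ideal S}
    (hJ : Ideal.span (Set.range g) = J) (hh : J.height = c) : LocCoh.IsGorensteinRing (S ⧸ J) := by
  refine gorensteinRing_of_atPrime fun q _ => ?_
  let Q := q.comap (Ideal.Quotient.mk J)
  haveI := IsRegularRing.isRegularLocalRing_localization (R := S) Q
  let A := Localization.AtPrime Q
  haveI := gorenstein_of_isRegularLocalRing (R := A)
  haveI := isCohenMacaulayLocalRing_of_gorenstein (R := A)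
  haveI : IsNoetherianRing (Localization.AtPrime q) := isNoetherianRing_atPrime q
  obtain ⟨e⟩ := exists_quot_localization_equiv (Ideal.Quotient.mk J) q Q rfl Ideal.Quotient.mk_surjective
  let fS : Fin c → A := fun i => algebraMap S A (g i)
  have key : ∀ I : Ideal S, Ideal.span (Set.range g) = I →
      I.map (algebraMap S A) = Ideal.span (Set.range fS) := by
    rintro _ rfl
    rw [Ideal.map_span, ← Set.range_comp]
    rfl
  have hlist : Ideal.ofList (List.ofFn fS) = (RingHom.ker (Ideal.Quotient.mk J)).map (algebraMap S A) := by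
    rw [Ideal.mk_ker, key J hJ, Ideal.ofList]
    congr 1
    ext z; simp [List.mem_ofFn]
  have hJQ : J ≤ Q := fun x hx => by
    show Ideal.Quotient.mk J x ∈ q
    rw [Ideal.Quotient.eq_zero_iff_mem.2 hx]; exact q.zero_mem
  have hne : J.map (algebraMap S A) ≠ ⊤ := fun htop =>
    (maximalIdeal.isMaximal A).ne_top (top_unique (htop ▸ Localization.AtPrime.map_eq_maximalIdeal (I := Q) ▸
      Ideal.map_mono hJQ))
  have hle : J.map (algebraMap S A) ≤ maximalIdeal A := le_maximalIdeal hne
  have hmem : ∀ r ∈ List.ofFn fS, r ∈ maximalIdeal A := fun r hr =>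
    hle ((hlist.trans (congrArg (Ideal.map (algebraMap S A)) Ideal.mk_ker)).le (Ideal.subset_span hr))
  have hht : (J.map (algebraMap S A)).height = c := by
    refine le_antisymm ?_ ?_
    · rw [key J hJ]
      refine (Ideal.height_le_spanRank_toENat _ (key J hJ ▸ hne)).trans ?_
      refine (OrderHomClass.mono _ (Submodule.spanRank_span_le_card _)).trans ?_
      rw [Set.toENat_cardinalMk]
      classical
      rw [show Set.range fS = ((Finset.univ.image fS : Finset A) : Set A) by simp, Set.encard_coe_eq_coe_finsetCard]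
      exact_mod_cast Finset.card_image_le.trans (by simp)
    · rw [Ideal.height_eq_inf_minimalPrimes (J.map _)]
      refine le_iInf₂ fun p hp => ?_
      haveI := hp.1.1
      rw [← IsLocalization.height_comap Q.primeCompl p]
      exact hh.ge.trans (Ideal.height_mono (Ideal.map_le_iff_le_comap.1 hp.1.2))
  have hdim := height_add_ringKrullDim_quotient (R := A) (J.map (algebraMap S A)) hne
  have hreg := CotTLib.isWeaklyRegular_of_dim (List.ofFn fS) hmem (by
    rw [hlist, Ideal.mk_ker, List.length_ofFn, ← hdim, hht, add_comm]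
    rfl)
  haveI := gorenstein_quotient_ofList (List.ofFn fS) hmem hreg
  exact gorenstein_of_ringEquiv ((Ideal.quotEquivOfEq hlist).trans e)

end CI

section CMLocal

variable {A : Type u} [CommRing A] [LocCoh.IsCohenMacaulayRing A]

/-- Inside a minimal prime the quotient has full dimension. -/
theorem ringKrullDim_quot_eq (P : Ideal A) [P.IsPrime] (hP : P ∈ minimalPrimes A) [IsLocalRing A] {I : Ideal A}
    (hI : I ≤ P) : ringKrullDim (A ⧸ I) = ringKrullDim A := by
  refine le_antisymm (ringKrullDim_quotient_le I) ?_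
  have h := height_quot_minimal P (maximalIdeal A) hP (le_maximalIdeal (Ideal.IsPrime.ne_top ‹_›))
  have hm : (maximalIdeal A).map (Ideal.Quotient.mk P) ≠ ⊤ := by
    haveI := Ideal.map_isPrime_of_surjective (I := maximalIdeal A) (Ideal.Quotient.mk_surjective (I := P))
      (by rw [Ideal.mk_ker]; exact le_maximalIdeal (Ideal.IsPrime.ne_top ‹_›))
    exact Ideal.IsPrime.ne_top ‹_›
  rw [← IsLocalRing.maximalIdeal_height_eq_ringKrullDim, ← h]
  refine le_trans (Ideal.height_le_ringKrullDim_of_ne_top hm) ?_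
  exact ringKrullDim_le_of_surjective (Ideal.Quotient.factor hI) (Ideal.Quotient.factor_surjective hI)

end CMLocal

section Colon

theorem minimal_map {A : Type u} [CommRing A] {P q0 : Ideal A} [P.IsPrime] [q0.IsPrime]
    (hP : P ∈ minimalPrimes A) (h : P ≤ q0) :
    (P.map (algebraMap A (Localization.AtPrime q0))).IsPrime ∧
      P.map (algebraMap A (Localization.AtPrime q0)) ∈ minimalPrimes (Localization.AtPrime q0) := by
  have hdisj : Disjoint (q0.primeCompl : Set A) (P : Set A) :=
    Set.disjoint_left.2 fun x hx hxP => hx (h hxP)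
  have hp := IsLocalization.isPrime_of_isPrime_disjoint q0.primeCompl (Localization.AtPrime q0) P ‹_› hdisj
  refine ⟨hp, Ideal.height_eq_zero_iff.1 ?_⟩
  rw [IsLocalization.height_map_of_disjoint q0.primeCompl P hdisj]
  exact Ideal.height_eq_zero_iff.2 hP

theorem isCMRing_atPrime {A : Type u} [CommRing A] [LocCoh.IsGorensteinRing A] (q0 : Ideal A) [q0.IsPrime] :
    LocCoh.IsCohenMacaulayRing (Localization.AtPrime q0) := by
  haveI := LocCoh.IsGorensteinRing.isGorensteinLocalRing_localization (A := A) q0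
  haveI := gorensteinRing_of_local (Localization.AtPrime q0)
  exact isCohenMacaulayRing_of_gorenstein _

/-- `A/(0:f)` is Gorenstein when `A/(f)` is Cohen–Macaulay of full dimension. -/
theorem gorensteinRing_quot_ann {A : Type u} [CommRing A] [LocCoh.IsGorensteinRing A] (f : A)
    [LocCoh.IsCohenMacaulayRing (A ⧸ Ideal.span {f})]
    (hmin : ∀ p ∈ (Ideal.span {f}).minimalPrimes, p ∈ minimalPrimes A) {C : Type u} [CommRing C] (φ : A →+* C)
    (hφ : Function.Surjective φ) (hker : ∀ a, φ a = 0 ↔ a * f = 0) : LocCoh.IsGorensteinRing C := by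
  haveI : IsNoetherianRing C := isNoetherianRing_of_surjective A C φ hφ
  refine gorensteinRing_of_atPrime fun q _ => ?_
  let q0 := q.comap φ
  let L := Localization.AtPrime q0
  haveI := LocCoh.IsGorensteinRing.isGorensteinLocalRing_localization (A := A) q0
  haveI := isCMRing_atPrime q0
  haveI : IsNoetherianRing (Localization.AtPrime q) := isNoetherianRing_atPrime q
  obtain ⟨e⟩ := exists_quot_localization_equiv φ q q0 rfl hφ
  let fL : L := algebraMap A L f
  have hj : (RingHom.ker φ).map (algebraMap A L) = LinearMap.ker (LinearMap.toSpanSingleton L L fL) := by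
    ext x
    obtain ⟨a, s, rfl⟩ := IsLocalization.exists_mk'_eq q0.primeCompl x
    rw [IsLocalization.mk'_mem_map_algebraMap_iff, LinearMap.mem_ker, LinearMap.toSpanSingleton_apply,
      smul_eq_mul]
    have e1 : IsLocalization.mk' L a s * fL = IsLocalization.mk' L (f * a) s := by
      rw [mul_comm, IsLocalization.mul_mk'_eq_mk'_of_mul]
    rw [e1, IsLocalization.mk'_eq_zero_iff]
    constructor
    · rintro ⟨t, ht, ht'⟩
      exact ⟨⟨t, ht⟩, ((by ring : t * (f * a) = t * a * f).trans ((hker _).1 ht'))⟩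
    · rintro ⟨t, ht⟩
      exact ⟨t, t.2, (hker _).2 ((by ring : (t : A) * a * f = t * (f * a)).trans ht)⟩
  haveI : IsLocalRing (L ⧸ LinearMap.ker (LinearMap.toSpanSingleton L L fL)) := by
    haveI := ((Ideal.quotEquivOfEq hj.symm).trans e).toEquiv.nontrivial
    exact .of_surjective' _ Ideal.Quotient.mk_surjective
  suffices LocCoh.IsGorensteinLocalRing (L ⧸ LinearMap.ker (LinearMap.toSpanSingleton L L fL)) from
    gorenstein_of_ringEquiv ((Ideal.quotEquivOfEq hj.symm).trans e)
  by_cases hf : f ∈ q0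
  swap
  · have hu : IsUnit fL := IsLocalization.map_units L (⟨f, hf⟩ : q0.primeCompl)
    have hbot : LinearMap.ker (LinearMap.toSpanSingleton L L fL) = ⊥ := by
      ext x
      rw [LinearMap.mem_ker, LinearMap.toSpanSingleton_apply, smul_eq_mul, hu.mul_left_eq_zero, Submodule.mem_bot]
    exact gorenstein_of_ringEquiv ((RingEquiv.quotientBot L).symm.trans (Ideal.quotEquivOfEq hbot.symm))
  have hfq : Ideal.span {f} ≤ q0 := (Ideal.span_singleton_le_iff_mem _).2 hf
  let q' := q0.map (Ideal.Quotient.mk (Ideal.span {f}))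
  haveI : q'.IsPrime := Ideal.map_isPrime_of_surjective Ideal.Quotient.mk_surjective (by rwa [Ideal.mk_ker])
  have hq' : q0 = q'.comap (Ideal.Quotient.mk (Ideal.span {f})) := by
    rw [Ideal.comap_map_of_surjective' _ Ideal.Quotient.mk_surjective, Ideal.mk_ker, sup_eq_left.2 hfq]
  obtain ⟨e'⟩ := exists_quot_localization_equiv _ q' q0 hq' Ideal.Quotient.mk_surjective
  have hspan : (RingHom.ker (Ideal.Quotient.mk (Ideal.span {f}))).map (algebraMap A L) = Ideal.span {fL} := by
    rw [Ideal.mk_ker, Ideal.map_span, Set.image_singleton]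
  haveI := LocCoh.IsCohenMacaulayRing.isCohenMacaulayLocalRing_localization (R := A ⧸ Ideal.span {f}) q'
  haveI : IsLocalRing (L ⧸ Ideal.span {fL}) := by
    haveI := ((Ideal.quotEquivOfEq hspan.symm).trans e').toEquiv.nontrivial
    exact .of_surjective' _ Ideal.Quotient.mk_surjective
  haveI := isCMLocal_of_ringEquiv ((Ideal.quotEquivOfEq hspan.symm).trans e').symm
  obtain ⟨P, hP, hPq⟩ := Ideal.exists_minimalPrimes_le hfq
  haveI := hP.1.1
  obtain ⟨hPp, hPmin⟩ := minimal_map (hmin P hP) hPq
  exact gorenstein_quot_ann fL (ringKrullDim_quot_eq _ hPmin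
    ((Ideal.span_singleton_le_iff_mem _).2 (Ideal.mem_map_of_mem _ (hP.1.2 (Ideal.mem_span_singleton_self f)))))

end Colon

section Sup

variable {A : Type u} [CommRing A] [LocCoh.IsGorensteinRing A]

theorem annihilator_eq_of_disjoint (a b : Ideal A) (hab : a ⊓ b = ⊥) [LocCoh.IsCohenMacaulayRing (A ⧸ b)]
    (hminb : ∀ p ∈ b.minimalPrimes, p ∈ minimalPrimes A) (hdisj : Disjoint a.minimalPrimes b.minimalPrimes) :
    Submodule.annihilator a = b := by
  refine le_antisymm (fun x hx => mem_of_forall_ass fun p hp => ?_) fun x hx => ?_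
  · have hmin := minimal_of_ass_quot b hp
    haveI := hmin.1.1
    have hna : ¬ a ≤ p := fun hle => by
      obtain ⟨p', hp', hle'⟩ := Ideal.exists_minimalPrimes_le hle
      have : p' = p := le_antisymm hle' ((hminb p hmin).2 ⟨hp'.1.1, bot_le⟩ hle')
      exact Set.disjoint_left.1 hdisj hp' (this ▸ hmin)
    obtain ⟨u, hu, hup⟩ := SetLike.not_le_iff_exists.1 hna
    refine ⟨u, hup, ?_⟩
    rw [mul_comm, ← smul_eq_mul, Submodule.mem_annihilator.1 hx u hu]
    exact b.zero_mem
  · refine Submodule.mem_annihilator.2 fun r hr => ?_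
    have : x * r ∈ a ⊓ b := ⟨a.mul_mem_left x hr, b.mul_mem_right r hx⟩
    rw [hab] at this
    exact this

theorem annihilator_map (a : Ideal A) (q0 : Ideal A) [q0.IsPrime] :
    Submodule.annihilator (a.map (algebraMap A (Localization.AtPrime q0))) =
      (Submodule.annihilator a).map (algebraMap A (Localization.AtPrime q0)) := by
  classical
  let L := Localization.AtPrime q0
  ext x
  obtain ⟨y, s, rfl⟩ := IsLocalization.exists_mk'_eq q0.primeCompl x
  rw [IsLocalization.mk'_mem_map_algebraMap_iff]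
  constructor
  · intro hx
    obtain ⟨G, hG⟩ := IsNoetherian.noetherian a
    have key : ∀ g ∈ G, ∃ t : q0.primeCompl, (t : A) * (y * g) = 0 := by
      intro g hg
      have h := Submodule.mem_annihilator.1 hx (algebraMap A L g)
        (Ideal.mem_map_of_mem _ (hG ▸ Submodule.subset_span hg))
      rw [smul_eq_mul, mul_comm, IsLocalization.mul_mk'_eq_mk'_of_mul, IsLocalization.mk'_eq_zero_iff] at h
      obtain ⟨t, ht⟩ := h
      exact ⟨t, by rw [mul_comm y g]; exact ht⟩
    choose! t ht using key
    refine ⟨((∏ g ∈ G, t g : q0.primeCompl) : A), (∏ g ∈ G, t g : q0.primeCompl).2, ?_⟩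
    rw [← hG, Submodule.mem_annihilator_span]
    rintro ⟨g, hg⟩
    obtain ⟨k, hk⟩ := Finset.dvd_prod_of_mem t hg
    show ((∏ g ∈ G, t g : q0.primeCompl) : A) * y * g = 0
    rw [hk, Submonoid.coe_mul, mul_comm (t g : A), mul_assoc, mul_assoc, ht g hg, mul_zero]
  · rintro ⟨t, ht, htx⟩
    refine Submodule.mem_annihilator.2 fun r hr => ?_
    induction hr using Submodule.span_induction with
    | mem r hr =>
      obtain ⟨g, hg, rfl⟩ := hr
      rw [smul_eq_mul, mul_comm, IsLocalization.mul_mk'_eq_mk'_of_mul, IsLocalization.mk'_eq_zero_iff]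
      refine ⟨⟨t, ht⟩, ?_⟩
      have := Submodule.mem_annihilator.1 htx g hg
      rw [smul_eq_mul] at this
      show t * (g * y) = 0
      rw [mul_comm g y, ← mul_assoc]
      exact this
    | zero => exact smul_zero _
    | add u v _ _ hu hv => rw [smul_add, hu, hv, add_zero]
    | smul c u _ hu => rw [smul_comm, hu, smul_zero]

/-- The local statement. -/
theorem sup_local (a b : Ideal A) (hab : a ⊓ b = ⊥) [LocCoh.IsCohenMacaulayRing (A ⧸ a)]
    [LocCoh.IsCohenMacaulayRing (A ⧸ b)] (hmina : ∀ p ∈ a.minimalPrimes, p ∈ minimalPrimes A)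
    (hminb : ∀ p ∈ b.minimalPrimes, p ∈ minimalPrimes A) (hdisj : Disjoint a.minimalPrimes b.minimalPrimes)
    (q0 : Ideal A) [q0.IsPrime] (hq : a ⊔ b ≤ q0)
    [IsLocalRing (Localization.AtPrime q0 ⧸ (a.map (algebraMap A (Localization.AtPrime q0)) ⊔
      b.map (algebraMap A (Localization.AtPrime q0))))] :
    ∃ e : ℕ, q0.height = (e + 1 : ℕ) ∧
      LocCoh.IsGorensteinLocalRing (Localization.AtPrime q0 ⧸ (a.map (algebraMap A (Localization.AtPrime q0)) ⊔
        b.map (algebraMap A (Localization.AtPrime q0)))) ∧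
      ∀ i, i ≠ e → Subsingleton ((localCohomology (maximalIdeal (Localization.AtPrime q0)) i).obj
        (ModuleCat.of (Localization.AtPrime q0) (Localization.AtPrime q0 ⧸
          (a.map (algebraMap A (Localization.AtPrime q0)) ⊔ b.map (algebraMap A (Localization.AtPrime q0)))))) := by
  let L := Localization.AtPrime q0
  haveI := LocCoh.IsGorensteinRing.isGorensteinLocalRing_localization (A := A) q0
  haveI := isCMRing_atPrime q0
  have hnm : ∀ P : Ideal A, P.IsPrime → a ⊔ b ≤ P → P ∉ minimalPrimes A := by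
    intro P hPp hle hP
    obtain ⟨pa, hpa, hale⟩ := Ideal.exists_minimalPrimes_le (le_sup_left.trans hle)
    obtain ⟨pb, hpb, hble⟩ := Ideal.exists_minimalPrimes_le (le_sup_right.trans hle)
    have h1 : pa = P := le_antisymm hale (hP.2 ⟨hpa.1.1, bot_le⟩ hale)
    have h2 : pb = P := le_antisymm hble (hP.2 ⟨hpb.1.1, bot_le⟩ hble)
    exact Set.disjoint_left.1 hdisj hpa (h1.trans h2.symm ▸ hpb)
  obtain ⟨d, hd, -, -⟩ := gorenstein_basic (R := L)
  have hdq : q0.height = d := by
    rw [IsLocalization.AtPrime.ringKrullDim_eq_height q0 L] at hd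
    exact_mod_cast hd
  have hd0 : d ≠ 0 := fun h0 => hnm q0 ‹_› hq (Ideal.height_eq_zero_iff.1 (by rw [hdq, h0]; rfl))
  obtain ⟨e, rfl⟩ := Nat.exists_eq_succ_of_ne_zero hd0
  have hquot : ∀ I : Ideal A, I ≤ q0 → [LocCoh.IsCohenMacaulayRing (A ⧸ I)] →
      LocCoh.IsCohenMacaulayLocalRing (L ⧸ I.map (algebraMap A L)) := by
    intro I hI _
    let q' := q0.map (Ideal.Quotient.mk I)
    haveI : q'.IsPrime := Ideal.map_isPrime_of_surjective Ideal.Quotient.mk_surjective (by rwa [Ideal.mk_ker])
    have hq' : q0 = q'.comap (Ideal.Quotient.mk I) := by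
      rw [Ideal.comap_map_of_surjective' _ Ideal.Quotient.mk_surjective, Ideal.mk_ker, sup_eq_left.2 hI]
    obtain ⟨e'⟩ := exists_quot_localization_equiv _ q' q0 hq' Ideal.Quotient.mk_surjective
    have hspan := congrArg (Ideal.map (algebraMap A L)) (Ideal.mk_ker (I := I))
    haveI := LocCoh.IsCohenMacaulayRing.isCohenMacaulayLocalRing_localization (R := A ⧸ I) q'
    haveI : IsLocalRing (L ⧸ I.map (algebraMap A L)) := by
      haveI := ((Ideal.quotEquivOfEq hspan.symm).trans e').toEquiv.nontrivial
      exact .of_surjective' _ Ideal.Quotient.mk_surjective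
    exact isCMLocal_of_ringEquiv ((Ideal.quotEquivOfEq hspan.symm).trans e').symm
  haveI := hquot a (le_sup_left.trans hq)
  haveI := hquot b (le_sup_right.trans hq)
  have hfull : ∀ I : Ideal A, I ≤ q0 → (∀ p ∈ I.minimalPrimes, p ∈ minimalPrimes A) →
      ringKrullDim (L ⧸ I.map (algebraMap A L)) = ((e + 1 : ℕ) : WithBot ℕ∞) := by
    intro I hI hmin
    obtain ⟨P, hP, hPq⟩ := Ideal.exists_minimalPrimes_le hI
    haveI := hP.1.1
    obtain ⟨hPp, hPmin⟩ := minimal_map (hmin P hP) hPq
    rw [ringKrullDim_quot_eq _ hPmin (Ideal.map_mono hP.1.2), hd]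
  have hle : ringKrullDim (L ⧸ (a.map (algebraMap A L) ⊔ b.map (algebraMap A L))) ≤ (e : WithBot ℕ∞) := by
    rw [ringKrullDim_quotient]
    refine iSup_le fun l => ?_
    let l' : LTSeries (PrimeSpectrum L) := l.map Subtype.val fun _ _ h => h
    have hP : a.map (algebraMap A L) ⊔ b.map (algebraMap A L) ≤ l'.head.asIdeal := l.head.2
    obtain ⟨Q, hQ, hQle⟩ := Ideal.exists_minimalPrimes_le (I := (⊥ : Ideal L)) (J := l'.head.asIdeal) bot_le
    have hne : Q ≠ l'.head.asIdeal := by
      intro heq
      replace hP : (a ⊔ b).map (algebraMap A L) ≤ l'.head.asIdeal := (Ideal.map_sup _ _ _).trans_le hP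
      haveI := hQ.1.1
      haveI : (Q.under A).IsPrime := Ideal.IsPrime.under A Q
      refine hnm (Q.under A) ‹_› (heq ▸ Ideal.map_le_iff_le_comap.1 hP) (Ideal.height_eq_zero_iff.1 ?_)
      rw [IsLocalization.height_under q0.primeCompl Q, Ideal.height_eq_zero_iff]
      exact hQ
    let Q' : PrimeSpectrum L := ⟨Q, hQ.1.1⟩
    have hlt : Q' < l'.head := lt_of_le_of_ne hQle fun h => hne (congrArg PrimeSpectrum.asIdeal h)
    have h1 := Order.LTSeries.length_le_krullDim (l'.cons Q' hlt)
    rw [← ringKrullDim, hd] at h1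
    have h2 : ((l.length + 1 : ℕ) : WithBot ℕ∞) ≤ ((e + 1 : ℕ) : WithBot ℕ∞) := by simpa [l'] using h1
    exact_mod_cast Nat.le_of_succ_le_succ (by exact_mod_cast h2 : l.length + 1 ≤ e + 1)
  refine ⟨e, hdq, gorenstein_quot_sup (a.map (algebraMap A L)) (b.map (algebraMap A L)) ?_ ?_ ?_
    hd (hfull a (le_sup_left.trans hq) hmina) (hfull b (le_sup_right.trans hq) hminb) hle⟩
  · rw [← IsLocalization.map_inf q0.primeCompl, hab, Ideal.map_bot]
  · rw [annihilator_map, annihilator_eq_of_disjoint a b hab hminb hdisj]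
  · rw [annihilator_map, annihilator_eq_of_disjoint b a (inf_comm a b ▸ hab) hmina hdisj.symm]

theorem gorensteinRing_sup (a b : Ideal A) (hab : a ⊓ b = ⊥) [LocCoh.IsCohenMacaulayRing (A ⧸ a)]
    [LocCoh.IsCohenMacaulayRing (A ⧸ b)] (hmina : ∀ p ∈ a.minimalPrimes, p ∈ minimalPrimes A)
    (hminb : ∀ p ∈ b.minimalPrimes, p ∈ minimalPrimes A) (hdisj : Disjoint a.minimalPrimes b.minimalPrimes) :
    LocCoh.IsGorensteinRing (A ⧸ (a ⊔ b)) ∧ ∀ p ∈ (a ⊔ b).minimalPrimes, p.height = 1 := by
  have hloc : ∀ (q0 : Ideal A) [q0.IsPrime], a ⊔ b ≤ q0 →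
      IsLocalRing (Localization.AtPrime q0 ⧸ (a.map (algebraMap A (Localization.AtPrime q0)) ⊔
        b.map (algebraMap A (Localization.AtPrime q0)))) := by
    intro q0 _ hq
    have hle : a.map (algebraMap A (Localization.AtPrime q0)) ⊔ b.map (algebraMap A _) ≤
        maximalIdeal (Localization.AtPrime q0) := by
      rw [← Ideal.map_sup, ← Localization.AtPrime.map_eq_maximalIdeal]; exact Ideal.map_mono hq
    haveI : Nontrivial (Localization.AtPrime q0 ⧸ (a.map (algebraMap A (Localization.AtPrime q0)) ⊔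
        b.map (algebraMap A (Localization.AtPrime q0)))) := Ideal.Quotient.nontrivial_iff.2 fun h =>
      (maximalIdeal.isMaximal _).ne_top (top_unique (h ▸ hle))
    exact .of_surjective' _ Ideal.Quotient.mk_surjective
  refine ⟨gorensteinRing_of_atPrime fun q _ => ?_, fun p hp => ?_⟩
  · let q0 := q.comap (Ideal.Quotient.mk (a ⊔ b))
    have hq : a ⊔ b ≤ q0 := fun x hx => by
      show Ideal.Quotient.mk _ x ∈ q
      rw [Ideal.Quotient.eq_zero_iff_mem.2 hx]; exact q.zero_mem
    haveI := hloc q0 hq
    obtain ⟨e, -, hG, -⟩ := sup_local a b hab hmina hminb hdisj q0 hq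
    haveI : IsNoetherianRing (Localization.AtPrime q) := isNoetherianRing_atPrime q
    obtain ⟨e'⟩ := exists_quot_localization_equiv (Ideal.Quotient.mk (a ⊔ b)) q q0 rfl Ideal.Quotient.mk_surjective
    have hspan := (congrArg (Ideal.map (algebraMap A (Localization.AtPrime q0))) (Ideal.mk_ker (I := a ⊔ b))).trans
      (Ideal.map_sup _ _ _)
    haveI := hG
    exact gorenstein_of_ringEquiv ((Ideal.quotEquivOfEq hspan.symm).trans e')
  · haveI := hp.1.1
    haveI := hloc p hp.1.2
    obtain ⟨e, he, -, hv⟩ := sup_local a b hab hmina hminb hdisj p hp.1.2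
    rcases Nat.eq_zero_or_pos e with rfl | hpos
    · exact he
    exfalso
    let L := Localization.AtPrime p
    set J := a.map (algebraMap A L) ⊔ b.map (algebraMap A L) with hJdef
    have hrad : maximalIdeal L ≤ J.radical := by
      rw [Ideal.radical_eq_sInf]
      refine le_sInf fun P hP => ?_
      obtain ⟨hJP, hPp⟩ := hP
      rw [hJdef, ← Ideal.map_sup, Ideal.map_le_iff_le_comap] at hJP
      have hle : P.comap (algebraMap A L) ≤ p := by
        intro x hx
        by_contra hxp
        exact hPp.ne_top (Ideal.eq_top_of_isUnit_mem _ hx (IsLocalization.map_units L (⟨x, hxp⟩ : p.primeCompl)))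
      have hge := hp.2 ⟨hPp.comap _, hJP⟩ hle
      rw [← Localization.AtPrime.map_eq_maximalIdeal]
      exact Ideal.map_le_iff_le_comap.2 hge
    haveI : IsNoetherianRing L := isNoetherianRing_atPrime p
    obtain ⟨n, hn⟩ := Ideal.exists_pow_le_of_le_radical_of_fg hrad (IsNoetherian.noetherian _)
    let M := ModuleCat.of L (L ⧸ J)
    have hone : (Ideal.Quotient.mk J 1 : M) ∈ DRing.torsionSub (maximalIdeal L) M :=
      ⟨n, fun x hx => by
        show Ideal.Quotient.mk J (x * 1) = 0
        rw [mul_one]; exact Ideal.Quotient.eq_zero_iff_mem.2 (hn hx)⟩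
    have h0 : Subsingleton ((localCohomology (maximalIdeal L) 0).obj M) := hv 0 (by omega)
    have h1 := @Subsingleton.elim _ ((H0Equiv (maximalIdeal L) M).symm.toEquiv.subsingleton)
      (⟨_, hone⟩ : DRing.torsionSub (maximalIdeal L) M) 0
    have h2 : Ideal.Quotient.mk J 1 = 0 := congrArg Subtype.val h1
    haveI := hloc p hp.1.2
    exact one_ne_zero (α := L ⧸ J) (by rw [← map_one (Ideal.Quotient.mk J)]; exact h2)

end Sup

end Groth.Agent.LC.Liaison
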