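import Groth.Agent.LC.LocalDuality

/-!
# `Ext` of finite modules commutes with localization
-/

universe u

open CategoryTheory Limits

namespace Groth.Agent.LC

variable {R : Type u} [CommRing R] [IsNoetherianRing R] (S : Submonoid R)
variable (N : Type u) [AddCommGroup N] [Module R N]

/-- `S⁻¹ Hom(M, N) ≅ Hom(S⁻¹M, S⁻¹N)`. -/
noncomputable def homLoc (M : Type u) [AddCommGroup M] [Module R M] [Module.Finite R M] :
    LocalizedModule S (M →ₗ[R] N) ≃ₗ[Localization S]
      (LocalizedModule S M →ₗ[Localization S] LocalizedModule S N) :=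
  have : Module.FinitePresentation R M := Module.finitePresentation_of_finite R M
  (IsLocalizedModule.iso S (LocalizedModule.map S (M := M) (N := N))).extendScalarsOfIsLocalization S
    (Localization S)

theorem homLoc_mk (M : Type u) [AddCommGroup M] [Module R M] [Module.Finite R M] (h : M →ₗ[R] N) :
    homLoc S N M (LocalizedModule.mk h 1) = LocalizedModule.map S h := by
  have : Module.FinitePresentation R M := Module.finitePresentation_of_finite R M
  show IsLocalizedModule.iso S (LocalizedModule.map S (M := M) (N := N)) (LocalizedModule.mk h 1) = _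
  exact (IsLocalizedModule.iso_apply_mk S _ h 1).trans (IsLocalizedModule.mk'_one S _ h)

theorem map_comp_apply' {M M' : Type u} [AddCommGroup M] [Module R M] [AddCommGroup M'] [Module R M']
    (f : M →ₗ[R] M') (h : M' →ₗ[R] N) :
    LocalizedModule.map S (h ∘ₗ f) = LocalizedModule.map S h ∘ₗ LocalizedModule.map S f := by
  refine LinearMap.ext fun z => ?_
  induction z using LocalizedModule.induction_on with
  | h z s => simp [LocalizedModule.map_mk]

theorem homLoc_natural {M M' : Type u} [AddCommGroup M] [Module R M] [Module.Finite R M] [AddCommGroup M']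
    [Module R M'] [Module.Finite R M'] (f : M →ₗ[R] M') (z : LocalizedModule S (M' →ₗ[R] N)) :
    homLoc S N M (LocalizedModule.map S (LinearMap.lcomp R N f) z) =
      homLoc S N M' z ∘ₗ LocalizedModule.map S f := by
  induction z using LocalizedModule.induction_on with
  | h z s =>
    have hs : LocalizedModule.mk z s = (Localization.mk 1 s : Localization S) • LocalizedModule.mk z 1 := by
      rw [LocalizedModule.mk_smul_mk, one_smul, mul_one]
    rw [hs, map_smul, map_smul, map_smul, LocalizedModule.map_mk, homLoc_mk, homLoc_mk, LinearMap.smul_comp]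
    congr 1
    exact map_comp_apply' S N f z

theorem subsingleton_ext_free (n i : ℕ) (Y : ModuleCat.{u} R) :
    Subsingleton (Abelian.Ext (ModuleCat.of R (Fin n → R)) Y (i + 1)) := by
  have : Projective (ModuleCat.of R (Fin n → R)) := (IsProjective.iff_projective (R := R) (Fin n → R)).1 inferInstance
  exact subsingleton_of_forall_eq 0 Abelian.Ext.eq_zero_of_projective

theorem exists_extLoc (i : ℕ) : ∀ (M : Type u) [AddCommGroup M] [Module R M] [Module.Finite R M],
    Nonempty (LocalizedModule S (Abelian.Ext (ModuleCat.of R M) (ModuleCat.of R N) i) ≃ₗ[Localization S]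
      Abelian.Ext (ModuleCat.of (Localization S) (LocalizedModule S M))
        (ModuleCat.of (Localization S) (LocalizedModule S N)) i) := by
  let A := Localization S
  have hloc : ∀ {X X' : Type u} [AddCommGroup X] [Module R X] [AddCommGroup X'] [Module R X']
      (e : X ≃ₗ[R] X'), Nonempty (LocalizedModule S X ≃ₗ[A] LocalizedModule S X') := fun e =>
    ⟨LinearEquiv.ofBijective (LocalizedModule.map S e.toLinearMap)
      ⟨LocalizedModule.map_injective S _ e.injective, LocalizedModule.map_surjective S _ e.surjective⟩⟩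
  induction i with
  | zero =>
    intro M _ _ _
    obtain ⟨e⟩ := hloc (Abelian.Ext.linearEquiv₀.trans ModuleCat.homLinearEquiv :
      Abelian.Ext (ModuleCat.of R M) (ModuleCat.of R N) 0 ≃ₗ[R] (M →ₗ[R] N))
    exact ⟨e.trans ((homLoc S N M).trans
      (Abelian.Ext.linearEquiv₀.trans ModuleCat.homLinearEquiv :
        Abelian.Ext (ModuleCat.of A (LocalizedModule S M)) (ModuleCat.of A (LocalizedModule S N)) 0 ≃ₗ[A]
          (LocalizedModule S M →ₗ[A] LocalizedModule S N)).symm)⟩
  | succ i ih =>
    intro M _ _ _
    obtain ⟨n, π, hπ⟩ := exists_fin_presentation (R := R) M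
    let K := LinearMap.ker π
    let T : ShortComplex (ModuleCat.{u} R) := ShortComplex.mk (X₁ := ModuleCat.of R K)
      (X₂ := ModuleCat.of R (Fin n → R)) (X₃ := ModuleCat.of R M)
      (ModuleCat.ofHom K.subtype) (ModuleCat.ofHom π)
      (ModuleCat.hom_ext (LinearMap.ext fun z => z.2))
    have hT : T.ShortExact :=
      { exact := (ShortComplex.ShortExact.moduleCat_exact_iff_function_exact _).2
          (LinearMap.exact_subtype_ker_map π)
        mono_f := (ModuleCat.mono_iff_injective _).2 Subtype.val_injective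
        epi_g := (ModuleCat.epi_iff_surjective _).2 hπ }
    let fS := LocalizedModule.map S K.subtype
    have hexS : Function.Exact fS (LocalizedModule.map S π) :=
      LocalizedModule.map_exact S _ _ (LinearMap.exact_subtype_ker_map π)
    let TS : ShortComplex (ModuleCat.{u} A) := ShortComplex.mk
      (X₁ := ModuleCat.of A (LocalizedModule S K))
      (X₂ := ModuleCat.of A (LocalizedModule S (Fin n → R)))
      (X₃ := ModuleCat.of A (LocalizedModule S M))
      (ModuleCat.ofHom fS) (ModuleCat.ofHom (LocalizedModule.map S π))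
      (ModuleCat.hom_ext (LinearMap.ext fun z => hexS.apply_apply_eq_zero z))
    have hTS : TS.ShortExact :=
      { exact := (ShortComplex.ShortExact.moduleCat_exact_iff_function_exact _).2 hexS
        mono_f := (ModuleCat.mono_iff_injective _).2 (LocalizedModule.map_injective S _ Subtype.val_injective)
        epi_g := (ModuleCat.epi_iff_surjective _).2 (LocalizedModule.map_surjective S π hπ) }
    have : Projective T.X₂ := (IsProjective.iff_projective (R := R) (Fin n → R)).1 inferInstance
    have : Projective TS.X₂ :=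
      (IsProjective.iff_projective (R := A) (LocalizedModule S (Fin n → R))).1 inferInstance
    let Y : ModuleCat.{u} R := ModuleCat.of R N
    let YS : ModuleCat.{u} A := ModuleCat.of A (LocalizedModule S N)
    let δ : Abelian.Ext T.X₁ Y i →ₗ[R] Abelian.Ext T.X₃ Y (i + 1) :=
      Abelian.Ext.precompOfLinear hT.extClass R Y (add_comm 1 i)
    let δS : Abelian.Ext TS.X₁ YS i →ₗ[A] Abelian.Ext TS.X₃ YS (i + 1) :=
      Abelian.Ext.precompOfLinear hTS.extClass A YS (add_comm 1 i)
    have hδ : Function.Surjective δ := fun x =>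
      Abelian.Ext.contravariant_sequence_exact₃ hT Y x (Abelian.Ext.eq_zero_of_projective _) (add_comm 1 i)
    have hδS : Function.Surjective δS := fun x =>
      Abelian.Ext.contravariant_sequence_exact₃ hTS YS x (Abelian.Ext.eq_zero_of_projective _) (add_comm 1 i)
    rcases i with _ | i
    · let e0 : Abelian.Ext T.X₁ Y 0 ≃ₗ[R] (K →ₗ[R] N) :=
        Abelian.Ext.linearEquiv₀.trans ModuleCat.homLinearEquiv
      let e0S : Abelian.Ext TS.X₁ YS 0 ≃ₗ[A] (LocalizedModule S K →ₗ[A] LocalizedModule S N) :=
        Abelian.Ext.linearEquiv₀.trans ModuleCat.homLinearEquiv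
      let res : ((Fin n → R) →ₗ[R] N) →ₗ[R] (K →ₗ[R] N) := LinearMap.lcomp R N K.subtype
      let q : (K →ₗ[R] N) →ₗ[R] Abelian.Ext T.X₃ Y 1 := δ ∘ₗ e0.symm.toLinearMap
      let qS : (LocalizedModule S K →ₗ[A] LocalizedModule S N) →ₗ[A] Abelian.Ext TS.X₃ YS 1 :=
        δS ∘ₗ e0S.symm.toLinearMap
      have hq : Function.Surjective q := hδ.comp e0.symm.surjective
      have hqS : Function.Surjective qS := hδS.comp e0S.symm.surjective
      have hqex : Function.Exact res q := by
        intro g
        constructor
        · intro hg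
          obtain ⟨x₂, hx₂⟩ := Abelian.Ext.contravariant_sequence_exact₁ hT Y (e0.symm g) (add_comm 1 0) hg
          obtain ⟨f₂, rfl⟩ := (Abelian.Ext.linearEquiv₀ (R := R)).symm.surjective x₂
          refine ⟨f₂.hom, ?_⟩
          rw [Abelian.Ext.linearEquiv₀_symm_apply, Abelian.Ext.mk₀_comp_mk₀] at hx₂
          have h3 := (Abelian.Ext.mk₀_bijective _ _).1 (hx₂.trans
            (show e0.symm g = Abelian.Ext.mk₀ (ModuleCat.ofHom g) from rfl))
          exact congrArg ModuleCat.Hom.hom h3
        · rintro ⟨f₂, rfl⟩
          show hT.extClass.comp (Abelian.Ext.mk₀ (ModuleCat.ofHom (res f₂))) (add_comm 1 0) = 0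
          rw [show ModuleCat.ofHom (res f₂) = T.f ≫ ModuleCat.ofHom f₂ from rfl,
            ← Abelian.Ext.mk₀_comp_mk₀]
          exact hT.extClass_comp_assoc _
      have hqSex : ∀ g, qS g = 0 ↔ ∃ f₂, f₂ ∘ₗ fS = g := by
        intro g
        constructor
        · intro hg
          obtain ⟨x₂, hx₂⟩ := Abelian.Ext.contravariant_sequence_exact₁ hTS YS (e0S.symm g) (add_comm 1 0) hg
          obtain ⟨f₂, rfl⟩ := (Abelian.Ext.linearEquiv₀ (R := A)).symm.surjective x₂
          refine ⟨f₂.hom, ?_⟩
          rw [Abelian.Ext.linearEquiv₀_symm_apply, Abelian.Ext.mk₀_comp_mk₀] at hx₂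
          have h3 := (Abelian.Ext.mk₀_bijective _ _).1 (hx₂.trans
            (show e0S.symm g = Abelian.Ext.mk₀ (ModuleCat.ofHom g) from rfl))
          exact congrArg ModuleCat.Hom.hom h3
        · rintro ⟨f₂, rfl⟩
          show hTS.extClass.comp (Abelian.Ext.mk₀ (ModuleCat.ofHom (f₂ ∘ₗ fS))) (add_comm 1 0) = 0
          rw [show ModuleCat.ofHom (f₂ ∘ₗ fS) = TS.f ≫ ModuleCat.ofHom f₂ from rfl,
            ← Abelian.Ext.mk₀_comp_mk₀]
          exact hTS.extClass_comp_assoc _
      let qL := LocalizedModule.map S q
      let Φ : LocalizedModule S (K →ₗ[R] N) →ₗ[A] Abelian.Ext TS.X₃ YS 1 :=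
        qS ∘ₗ (homLoc S N K).toLinearMap
      have hker : LinearMap.ker Φ = LinearMap.ker qL := by
        ext z
        rw [LinearMap.mem_ker, LinearMap.mem_ker, LinearMap.comp_apply]
        show qS (homLoc S N K z) = 0 ↔ _
        refine ((hqSex _).trans ?_).trans ((LocalizedModule.map_exact S res q hqex) z).symm
        constructor
        · rintro ⟨f₂, hf₂⟩
          obtain ⟨w, rfl⟩ := (homLoc S N (Fin n → R)).surjective f₂
          refine ⟨w, (homLoc S N K).injective ?_⟩
          exact (homLoc_natural S N K.subtype w).trans hf₂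
        · rintro ⟨w, rfl⟩
          exact ⟨homLoc S N (Fin n → R) w, (homLoc_natural S N K.subtype w).symm⟩
      have hΦ : Function.Surjective Φ := hqS.comp (homLoc S N K).surjective
      exact ⟨(LinearMap.quotKerEquivOfSurjective qL (LocalizedModule.map_surjective S q hq)).symm.trans
        ((Submodule.quotEquivOfEq _ _ hker.symm).trans (LinearMap.quotKerEquivOfSurjective Φ hΦ))⟩
    · have hδi : Function.Injective δ := (injective_iff_map_eq_zero _).2 fun x hx => by
        obtain ⟨y, hy⟩ := Abelian.Ext.contravariant_sequence_exact₁ hT Y x (add_comm 1 (i + 1)) hx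
        rw [← hy, Abelian.Ext.eq_zero_of_projective y, Abelian.Ext.comp_zero]
      have hδSi : Function.Injective δS := (injective_iff_map_eq_zero _).2 fun x hx => by
        obtain ⟨y, hy⟩ := Abelian.Ext.contravariant_sequence_exact₁ hTS YS x (add_comm 1 (i + 1)) hx
        rw [← hy, Abelian.Ext.eq_zero_of_projective y, Abelian.Ext.comp_zero]
      obtain ⟨e1⟩ := hloc (LinearEquiv.ofBijective δ ⟨hδi, hδ⟩)
      obtain ⟨e2⟩ := ih K
      exact ⟨e1.symm.trans (e2.trans (LinearEquiv.ofBijective δS ⟨hδSi, hδS⟩))⟩

/-- `S⁻¹(R/I) ≅ S⁻¹R/I·S⁻¹R`. -/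
theorem exists_locQuot (I : Ideal R) :
    Nonempty (LocalizedModule S (R ⧸ I) ≃ₗ[Localization S]
      (Localization S ⧸ I.map (algebraMap R (Localization S)))) := by
  let A := Localization S
  let u : LocalizedModule S (R ⧸ I) := LocalizedModule.mk (Ideal.Quotient.mk I 1) 1
  let t := LinearMap.toSpanSingleton A (LocalizedModule S (R ⧸ I)) u
  have hval : ∀ (r : R) (s : S), t (Localization.mk r s) = LocalizedModule.mk (Ideal.Quotient.mk I r) s := by
    intro r s
    show (Localization.mk r s : A) • u = _
    rw [LocalizedModule.mk_smul_mk, mul_one, Algebra.smul_def, Ideal.Quotient.algebraMap_eq, ← map_mul, mul_one]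
  have hsurj : Function.Surjective t := fun z => by
    induction z using LocalizedModule.induction_on with
    | h z s =>
      obtain ⟨r, rfl⟩ := Ideal.Quotient.mk_surjective z
      exact ⟨_, hval r s⟩
  refine ⟨(LinearMap.quotKerEquivOfSurjective t hsurj).symm.trans (Submodule.quotEquivOfEq _ _ ?_)⟩
  ext a
  induction a using Localization.induction_on with
  | H x =>
    obtain ⟨r, s⟩ := x
    rw [LinearMap.mem_ker, hval, ← LocalizedModule.zero_mk s, LocalizedModule.mk_eq, Localization.mk_eq_mk',
      IsLocalization.mk'_mem_map_algebraMap_iff]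
    constructor
    · rintro ⟨c, hc⟩
      rw [smul_zero, smul_zero] at hc
      refine ⟨(c : R) * s, S.mul_mem c.2 s.2, ?_⟩
      rw [Submonoid.smul_def, Submonoid.smul_def, ← mul_smul, Algebra.smul_def,
        Ideal.Quotient.algebraMap_eq, ← map_mul, Ideal.Quotient.eq_zero_iff_mem] at hc
      exact hc
    · rintro ⟨c, hc, hcr⟩
      refine ⟨⟨c, hc⟩, ?_⟩
      rw [smul_zero, smul_zero, Submonoid.smul_def, Submonoid.smul_def, ← mul_smul, Algebra.smul_def,
        Ideal.Quotient.algebraMap_eq, ← map_mul, Ideal.Quotient.eq_zero_iff_mem]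
      rw [show c * (s : R) * r = (s : R) * (c * r) by ring]
      exact I.mul_mem_left _ hcr

end Groth.Agent.LC
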