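import Groth.Agent.LC.GorRows
import Groth.Agent.LC.ExtLoc

/-!
# Localization of Gorenstein rings; height formulas in Cohen–Macaulay local rings
-/

universe u

open CategoryTheory Limits IsLocalRing

namespace Groth.Agent.LC

variable {R : Type u} [CommRing R]

/-- `Ext` respects isomorphisms in both variables. -/
noncomputable def extCongr {X X' Y Y' : ModuleCat.{u} R} (a : X ≅ X') (b : Y ≅ Y') (i : ℕ) :
    Abelian.Ext X Y i ≃ₗ[R] Abelian.Ext X' Y' i :=
  LinearEquiv.ofLinearMap
    ((Abelian.Ext.precompOfLinear (Abelian.Ext.mk₀ a.inv) R Y' (zero_add i)) ∘ₗ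
      (Abelian.Ext.postcompOfLinear (Abelian.Ext.mk₀ b.hom) R X (add_zero i)))
    ((Abelian.Ext.precompOfLinear (Abelian.Ext.mk₀ a.hom) R Y (zero_add i)) ∘ₗ
      (Abelian.Ext.postcompOfLinear (Abelian.Ext.mk₀ b.inv) R X' (add_zero i)))
    (LinearMap.ext fun e => by
      show (Abelian.Ext.mk₀ a.inv).comp (((Abelian.Ext.mk₀ a.hom).comp (e.comp (Abelian.Ext.mk₀ b.inv)
        (add_zero i)) (zero_add i)).comp (Abelian.Ext.mk₀ b.hom) (add_zero i)) (zero_add i) = e
      rw [Abelian.Ext.comp_assoc _ _ _ (zero_add i) (add_zero i) (by omega),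
        Abelian.Ext.comp_assoc _ _ _ (add_zero i) (zero_add 0) (by omega),
        ← Abelian.Ext.comp_assoc _ _ _ (zero_add 0) (zero_add i) (by omega),
        Abelian.Ext.mk₀_comp_mk₀, Abelian.Ext.mk₀_comp_mk₀, Iso.inv_hom_id, Iso.inv_hom_id,
        Abelian.Ext.mk₀_id_comp, Abelian.Ext.comp_mk₀_id])
    (LinearMap.ext fun e => by
      show (Abelian.Ext.mk₀ a.hom).comp (((Abelian.Ext.mk₀ a.inv).comp (e.comp (Abelian.Ext.mk₀ b.hom)
        (add_zero i)) (zero_add i)).comp (Abelian.Ext.mk₀ b.inv) (add_zero i)) (zero_add i) = e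
      rw [Abelian.Ext.comp_assoc _ _ _ (zero_add i) (add_zero i) (by omega),
        Abelian.Ext.comp_assoc _ _ _ (add_zero i) (zero_add 0) (by omega),
        ← Abelian.Ext.comp_assoc _ _ _ (zero_add 0) (zero_add i) (by omega),
        Abelian.Ext.mk₀_comp_mk₀, Abelian.Ext.mk₀_comp_mk₀, Iso.hom_inv_id, Iso.hom_inv_id,
        Abelian.Ext.mk₀_id_comp, Abelian.Ext.comp_mk₀_id])

/-- `S⁻¹R` as the localized module of `R`. -/
noncomputable def selfLoc (S : Submonoid R) : LocalizedModule S R ≃ₗ[Localization S] Localization S :=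
  (IsLocalizedModule.linearEquiv S (LocalizedModule.mkLinearMap S R)
    (Algebra.linearMap R (Localization S))).extendScalarsOfIsLocalization S (Localization S)

variable [IsNoetherianRing R]

/-- `Ext` into the ring commutes with localization. -/
theorem exists_extLoc_ring (S : Submonoid R) (M : Type u) [AddCommGroup M] [Module R M] [Module.Finite R M]
    (i : ℕ) :
    Nonempty (LocalizedModule S (Abelian.Ext (ModuleCat.of R M) (ModuleCat.of R R) i) ≃ₗ[Localization S]
      Abelian.Ext (ModuleCat.of (Localization S) (LocalizedModule S M))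
        (ModuleCat.of (Localization S) (Localization S)) i) := by
  obtain ⟨e⟩ := exists_extLoc S R i M
  exact ⟨e.trans (extCongr (Iso.refl _) (selfLoc S).toModuleIso i)⟩

/-- Localizations of Gorenstein local rings are Gorenstein. -/
theorem gorenstein_localized [IsLocalRing R] [LocCoh.IsGorensteinLocalRing R] (p : Ideal R) [p.IsPrime] :
    LocCoh.IsGorensteinLocalRing (Localization.AtPrime p) := by
  obtain ⟨d, -, -, hv⟩ := gorenstein_basic (R := R)
  let A := Localization.AtPrime p
  have : IsNoetherianRing A := IsLocalization.isNoetherianRing p.primeCompl A inferInstance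
  refine gorenstein_iff_ext_residue.2 ⟨d + 1, fun i hi => ?_⟩
  have := hv (R ⧸ p) i hi
  obtain ⟨e⟩ := exists_extLoc_ring p.primeCompl (R ⧸ p) i
  obtain ⟨q⟩ := exists_locQuot p.primeCompl p
  let e' := e.trans (extCongr (q.trans
    (Submodule.quotEquivOfEq _ _ Localization.AtPrime.map_eq_maximalIdeal)).toModuleIso (Iso.refl _) i)
  exact e'.symm.toEquiv.subsingleton

variable [IsLocalRing R]

theorem depth_localized_self [LocCoh.IsCohenMacaulayLocalRing R] (p : Ideal R) [p.IsPrime] :
    LocCoh.depth (Localization.AtPrime p) (LocalizedModule p.primeCompl R) = p.height := by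
  let A := Localization.AtPrime p
  have hCM : LocCoh.IsCohenMacaulayModule R R := LocCoh.IsCohenMacaulayLocalRing.supportDim_eq_depth
  have hsupp : (⟨p, inferInstance⟩ : PrimeSpectrum R) ∈ Module.support R R := by
    rw [Module.support_eq_zeroLocus, (Module.annihilator_eq_bot (R := R) (M := R)).2 inferInstance]
    simp
  have h1 : Module.supportDim A (LocalizedModule p.primeCompl R) =
      ((LocCoh.depth A (LocalizedModule p.primeCompl R) : ℕ∞) : WithBot ℕ∞) := isCM_localized R hCM hsupp
  rw [Module.supportDim_eq_of_equiv (selfLoc p.primeCompl), Module.supportDim_self_eq_ringKrullDim,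
    IsLocalization.AtPrime.ringKrullDim_eq_height p A] at h1
  exact (WithBot.coe_injective h1).symm

/-- In a CM local ring the depth of an ideal is its height. -/
theorem idealDepth_self_eq_height [LocCoh.IsCohenMacaulayLocalRing R] (I : Ideal R) :
    LocCoh.idealDepth I R = I.height := by
  rw [idealDepth_eq_iInf_depth I R]
  refine le_antisymm ?_ (le_iInf₂ fun p hp => ?_)
  · rw [Ideal.height_eq_inf_minimalPrimes]
    refine le_iInf₂ fun p hp => ?_
    have := hp.1.1
    exact (iInf₂_le (⟨p, hp.1.1⟩ : PrimeSpectrum R) hp.1.2).trans (depth_localized_self p).le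
  · rw [depth_localized_self p.asIdeal]
    exact Ideal.height_mono hp

/-- `ht I + dim R/I = dim R` in a CM local ring. -/
theorem height_add_ringKrullDim_quotient [LocCoh.IsCohenMacaulayLocalRing R] (I : Ideal R) (hI : I ≠ ⊤) :
    ringKrullDim (R ⧸ I) + (I.height : WithBot ℕ∞) = ringKrullDim R := by
  have hCM : LocCoh.IsCohenMacaulayModule R R := LocCoh.IsCohenMacaulayLocalRing.supportDim_eq_depth
  have h := supportDim_eq_add_idealDepth R hCM hI
  rw [idealDepth_self_eq_height, Module.supportDim_self_eq_ringKrullDim,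
    Module.supportDim_eq_of_equiv
      (Submodule.quotEquivOfEq (I • (⊤ : Submodule R R)) I (by rw [smul_eq_mul, Ideal.mul_top])),
    Module.supportDim_quotient_eq_ringKrullDim] at h
  exact h.symm

end Groth.Agent.LC
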