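import Groth.Agent.LC.DepthExt
import Groth.Agent.LC.CdDim
import Mathlib.Algebra.Category.ModuleCat.Ext.Finite
import Mathlib.RingTheory.KrullDimension.Regular

/-!
# `Ext` below `depth - dim`, depth and associated primes, Cohen–Macaulay modules
-/

universe u

open CategoryTheory RingTheory.Sequence IsLocalRing

namespace Groth.Agent.LC

variable {R : Type u} [CommRing R] [IsNoetherianRing R]

/-- `Ext^i(-, M)` of a module vanishes if it does on the `R/q` for `q` in the support. -/
theorem subsingleton_ext_of_filtration (M : ModuleCat.{u} R) (i : ℕ) (N : Type u) [AddCommGroup N]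
    [Module R N] [Module.Finite R N]
    (h : ∀ q : PrimeSpectrum R, q ∈ Module.support R N →
      Subsingleton (Abelian.Ext (ModuleCat.of R (R ⧸ q.asIdeal)) M i)) :
    Subsingleton (Abelian.Ext (ModuleCat.of R N) M i) := by
  revert h
  refine IsNoetherianRing.induction_on_isQuotientEquivQuotientPrime (A := R) (M := N) ‹_›
    (motive := fun N _ _ _ => (∀ q : PrimeSpectrum R, q ∈ Module.support R N →
      Subsingleton (Abelian.Ext (ModuleCat.of R (R ⧸ q.asIdeal)) M i)) →
      Subsingleton (Abelian.Ext (ModuleCat.of R N) M i)) ?_ ?_ ?_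
  · intro N _ _ _ _ _
    refine subsingleton_of_forall_eq 0 fun x => ?_
    have h0 : 𝟙 (ModuleCat.of R N) = 0 :=
      ModuleCat.hom_ext (LinearMap.ext fun z => Subsingleton.elim (α := N) _ _)
    rw [← Abelian.Ext.mk₀_id_comp x, h0, Abelian.Ext.mk₀_zero, Abelian.Ext.zero_comp]
  · intro N _ _ _ q e hN
    have hq : q ∈ Module.support R N := by
      rw [e.support_eq, Module.support_eq_zeroLocus, Ideal.annihilator_quotient]
      exact fun _ hx => hx
    have := hN q hq
    refine subsingleton_of_forall_eq 0 fun x => ?_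
    rw [← Abelian.Ext.mk₀_id_comp x, ← e.toModuleIso.hom_inv_id, ← Abelian.Ext.mk₀_comp_mk₀,
      Abelian.Ext.comp_assoc _ _ _ (zero_add 0) (zero_add i) (by omega),
      show (Abelian.Ext.mk₀ e.toModuleIso.inv).comp x (zero_add i) = 0 from Subsingleton.elim _ _,
      Abelian.Ext.comp_zero]
  · intro N₁ _ _ _ N₂ _ _ _ N₃ _ _ _ f g hf hg hfg h1 h3 hN
    let S : ShortComplex (ModuleCat.{u} R) := ShortComplex.mk (X₁ := ModuleCat.of R N₁)
      (X₂ := ModuleCat.of R N₂) (X₃ := ModuleCat.of R N₃) (ModuleCat.ofHom f) (ModuleCat.ofHom g)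
      (ModuleCat.hom_ext (LinearMap.ext fun z => hfg.apply_apply_eq_zero z))
    have hS : S.ShortExact :=
      { exact := (ShortComplex.ShortExact.moduleCat_exact_iff_function_exact _).2 hfg
        mono_f := (ModuleCat.mono_iff_injective _).2 hf
        epi_g := (ModuleCat.epi_iff_surjective _).2 hg }
    have := h1 fun q hq => hN q (Module.support_subset_of_injective f hf hq)
    have := h3 fun q hq => hN q (Module.support_subset_of_surjective g hg hq)
    refine subsingleton_of_forall_eq 0 fun x => ?_
    obtain ⟨y, rfl⟩ := Abelian.Ext.contravariant_sequence_exact₂ hS M x (Subsingleton.elim _ _)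
    rw [Subsingleton.elim y 0, Abelian.Ext.comp_zero]

variable [IsLocalRing R]

theorem subsingleton_ext_quot_prime (M : Type u) [AddCommGroup M] [Module R M] [Module.Finite R M]
    (q : PrimeSpectrum R) : ∀ i : ℕ, (i : ℕ∞) + Order.coheight q < LocCoh.depth R M →
      Subsingleton (Abelian.Ext (ModuleCat.of R (R ⧸ q.asIdeal)) (ModuleCat.of R M) i) := by
  have hwf : WellFounded fun q₁ q₂ : PrimeSpectrum R => q₂ < q₁ :=
    (InvImage.wf PrimeSpectrum.asIdeal (wellFounded_gt (α := Ideal R)))
  induction q using hwf.induction with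
  | h p ih =>
  intro i hi
  by_cases hm : maximalIdeal R ≤ p.asIdeal
  · have hpm : p.asIdeal = maximalIdeal R := le_antisymm (le_maximalIdeal p.isPrime.ne_top) hm
    rw [hpm]
    have hlt : (i : ℕ∞) < LocCoh.depth R M := lt_of_le_of_lt le_self_add hi
    exact (le_idealDepth_iff_ext (maximalIdeal R) M (i + 1)).1
      (by rw [Nat.cast_add, Nat.cast_one, ENat.add_one_le_iff (ENat.natCast_ne_top i)]; exact hlt) i
      (Nat.lt_succ_self i)
  · obtain ⟨x, hxm, hxp⟩ := SetLike.not_le_iff_exists.1 hm
    let A := R ⧸ p.asIdeal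
    let f : A →ₗ[R] A := x • LinearMap.id
    have hf : Function.Injective f := fun a b hab => by
      have : Ideal.Quotient.mk p.asIdeal x ≠ 0 := fun h => hxp (Ideal.Quotient.eq_zero_iff_mem.1 h)
      have hab' : x • a = x • b := hab
      rw [Algebra.smul_def, Algebra.smul_def] at hab'
      exact mul_left_cancel₀ this hab'
    let S : ShortComplex (ModuleCat.{u} R) := ShortComplex.mk (X₁ := ModuleCat.of R A)
      (X₂ := ModuleCat.of R A) (X₃ := ModuleCat.of R (A ⧸ LinearMap.range f))
      (ModuleCat.ofHom f) (ModuleCat.ofHom (LinearMap.range f).mkQ)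
      (ModuleCat.hom_ext (LinearMap.ext fun z => (Submodule.Quotient.mk_eq_zero _).2 ⟨z, rfl⟩))
    have hS : S.ShortExact :=
      { exact := (ShortComplex.ShortExact.moduleCat_exact_iff_function_exact _).2
          (LinearMap.exact_map_mkQ_range f)
        mono_f := (ModuleCat.mono_iff_injective _).2 hf
        epi_g := (ModuleCat.epi_iff_surjective _).2 (Submodule.mkQ_surjective _) }
    have hC : Subsingleton (Abelian.Ext S.X₃ (ModuleCat.of R M) (i + 1)) := by
      refine subsingleton_ext_of_filtration _ (i + 1) (A ⧸ LinearMap.range f) fun q hq => ?_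
      have hle : p.asIdeal ≤ q.asIdeal := by
        have := Module.support_subset_of_surjective (LinearMap.range f).mkQ (Submodule.mkQ_surjective _) hq
        rw [Module.support_eq_zeroLocus, Ideal.annihilator_quotient] at this
        exact this
      have hxq : x ∈ q.asIdeal := by
        rw [Module.support_eq_zeroLocus] at hq
        refine hq (Module.mem_annihilator.2 fun z => ?_)
        obtain ⟨z, rfl⟩ := Submodule.Quotient.mk_surjective _ z
        exact (Submodule.Quotient.mk_eq_zero _).2 ⟨z, rfl⟩
      have hlt : p < q := lt_of_le_of_ne hle fun h => hxp (h ▸ hxq)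
      refine ih q hlt (i + 1) (lt_of_le_of_lt ?_ hi)
      rw [Nat.cast_add, Nat.cast_one, add_assoc, add_comm 1 (Order.coheight q)]
      gcongr
      exact Order.coheight_add_one_le hlt
    let H := Abelian.Ext (ModuleCat.of R A) (ModuleCat.of R M) i
    have htop : (⊤ : Submodule R H) ≤ maximalIdeal R • ⊤ := fun z _ => by
      have h0 : hS.extClass.comp z (add_comm 1 i) = 0 := Subsingleton.elim _ _
      obtain ⟨w, hw⟩ := Abelian.Ext.contravariant_sequence_exact₁ hS (ModuleCat.of R M) z
        (add_comm 1 i) h0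
      have hz : z = x • (show H from w) := by
        rw [← hw, show S.f = x • 𝟙 (ModuleCat.of R A) from rfl, Abelian.Ext.mk₀_smul,
          Abelian.Ext.smul_comp, Abelian.Ext.mk₀_id_comp]
      rw [hz]
      exact Submodule.smul_mem_smul hxm trivial
    have : Module.Finite R H := inferInstanceAs (Module.Finite R (Abelian.Ext _ _ i))
    have h0 := Submodule.eq_bot_of_le_smul_of_le_jacobson_bot (maximalIdeal R) ⊤ Module.Finite.fg_top htop
      (IsLocalRing.maximalIdeal_le_jacobson _)
    exact subsingleton_of_forall_eq 0 fun z => (Submodule.eq_bot_iff _).1 h0 z trivial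

theorem subsingleton_ext_of_add_lt_depth (M N : Type u) [AddCommGroup M] [Module R M] [Module.Finite R M]
    [AddCommGroup N] [Module R N] [Module.Finite R N] (r i : ℕ)
    (hr : Module.supportDim R N ≤ (r : WithBot ℕ∞)) (hi : ((i + r : ℕ) : ℕ∞) < LocCoh.depth R M) :
    Subsingleton (Abelian.Ext (ModuleCat.of R N) (ModuleCat.of R M) i) :=
  subsingleton_ext_of_filtration _ i N fun q hq => subsingleton_ext_quot_prime M q i <| by
    have h1 : Order.coheight q ≤ (r : ℕ∞) := by
      have := (coheight_le_supportDim hq).trans hr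
      exact_mod_cast this
    refine lt_of_le_of_lt ?_ hi
    rw [Nat.cast_add]
    gcongr

variable (M : Type u) [AddCommGroup M] [Module R M] [Module.Finite R M]

theorem depth_le_coheight_of_ass {p : PrimeSpectrum R} (hp : p.asIdeal ∈ associatedPrimes R M) :
    LocCoh.depth R M ≤ Order.coheight p := by
  by_contra hcon
  have h := subsingleton_ext_quot_prime M p 0 (by simpa using hcon)
  have hhom : Subsingleton (ModuleCat.of R (R ⧸ p.asIdeal) ⟶ ModuleCat.of R M) :=
    Abelian.Ext.addEquiv₀.symm.subsingleton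
  rw [AssociatedPrimes.mem_iff, isAssociatedPrime_iff_exists_injective_linearMap] at hp
  obtain ⟨-, g, hg⟩ := hp
  have : Ideal.Quotient.mk p.asIdeal 1 = 0 :=
    hg ((ConcreteCategory.congr_hom (Subsingleton.elim (ModuleCat.ofHom g) 0) _).trans (map_zero g).symm)
  exact p.isPrime.ne_top ((Ideal.eq_top_iff_one _).2 (Ideal.Quotient.eq_zero_iff_mem.1 this))

theorem exists_supportDim_eq_nat [Nontrivial M] : ∃ D : ℕ, Module.supportDim R M = (D : WithBot ℕ∞) := by
  have h1 : Module.supportDim R M ≠ ⊥ := (Module.supportDim_ne_bot_iff_nontrivial R M).2 ‹_›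
  have h2 : Module.supportDim R M ≤ ringKrullDim R := Module.supportDim_le_ringKrullDim R M
  have h3 : ringKrullDim R < ⊤ := ringKrullDim_lt_top
  revert h1 h2
  generalize Module.supportDim R M = a
  intro h1 h2
  induction a with
  | bot => exact absurd rfl h1
  | coe a =>
    have : a ≠ ⊤ := fun ha => by
      subst ha
      exact absurd h2 (not_le.2 h3)
    lift a to ℕ using this
    exact ⟨a, rfl⟩

theorem exists_depth_eq_nat [Nontrivial M] : ∃ n : ℕ, LocCoh.depth R M = (n : ℕ∞) := by
  obtain ⟨rs, -, -, h⟩ := exists_idealDepth_eq_length (maximalIdeal R) (M := M)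
    (smul_top_ne_top_of_le_maximal le_rfl)
  exact ⟨rs.length, h⟩

theorem depth_le_supportDim [Nontrivial M] :
    ((LocCoh.depth R M : ℕ∞) : WithBot ℕ∞) ≤ Module.supportDim R M := by
  obtain ⟨p, hp⟩ := associatedPrimes.nonempty R M
  refine (WithBot.coe_le_coe.2 (depth_le_coheight_of_ass M (p := ⟨p, hp.isPrime⟩) hp)).trans
    (coheight_le_supportDim ?_)
  obtain ⟨_, z, hz⟩ := Groth.Agent.Alg6.mem_ass_iff.1 hp
  exact Module.mem_support_iff_exists_annihilator.2 ⟨z, fun a ha => (hz a).2 (by
    simpa [Submodule.mem_annihilator_span_singleton] using ha)⟩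

theorem nontrivial_of_isCM (hM : LocCoh.IsCohenMacaulayModule R M) : Nontrivial M := by
  rw [← Module.supportDim_ne_bot_iff_nontrivial R M, hM]
  exact WithBot.coe_ne_bot

theorem coheight_eq_of_ass_of_isCM (hM : LocCoh.IsCohenMacaulayModule R M) {p : PrimeSpectrum R}
    (hp : p.asIdeal ∈ associatedPrimes R M) :
    (Order.coheight p : WithBot ℕ∞) = Module.supportDim R M := by
  refine le_antisymm (coheight_le_supportDim ?_) ?_
  · obtain ⟨_, z, hz⟩ := Groth.Agent.Alg6.mem_ass_iff.1 hp
    exact Module.mem_support_iff_exists_annihilator.2 ⟨z, fun a ha => (hz a).2 (by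
      simpa [Submodule.mem_annihilator_span_singleton] using ha)⟩
  · rw [hM]
    exact WithBot.coe_le_coe.2 (depth_le_coheight_of_ass M hp)

/-- Cutting a Cohen–Macaulay module by a regular sequence. -/
theorem isCM_quot_ofList (hM : LocCoh.IsCohenMacaulayModule R M) {rs : List R}
    (h : IsWeaklyRegular M rs) (hmem : ∀ r ∈ rs, r ∈ maximalIdeal R) :
    LocCoh.IsCohenMacaulayModule R (M ⧸ (Ideal.ofList rs • ⊤ : Submodule R M)) := by
  have := nontrivial_of_isCM M hM
  have := nontrivial_quot_ofList (M := M) (ofList_le (maximalIdeal R) hmem)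
  have hreg : IsRegular M rs := IsRegular.of_isWeaklyRegular_of_mem_maximalIdeal M hmem h
  have h1 := Module.supportDim_add_length_eq_supportDim_of_isRegular rs hreg
  have h2 := idealDepth_quot_ofList (maximalIdeal R) h hmem
  obtain ⟨D, hD⟩ := exists_supportDim_eq_nat (R := R) (M ⧸ (Ideal.ofList rs • ⊤ : Submodule R M))
  obtain ⟨e, he⟩ := exists_depth_eq_nat (R := R) (M ⧸ (Ideal.ofList rs • ⊤ : Submodule R M))
  unfold LocCoh.IsCohenMacaulayModule at hM ⊢
  rw [hD, hM] at h1
  rw [show LocCoh.idealDepth (maximalIdeal R) (M ⧸ (Ideal.ofList rs • ⊤ : Submodule R M)) = (e : ℕ∞) from he,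
    show LocCoh.idealDepth (maximalIdeal R) M = LocCoh.depth R M from rfl] at h2
  rw [← h2] at h1
  rw [hD, he]
  have : D + rs.length = e + rs.length := by exact_mod_cast h1
  exact_mod_cast (by omega : D = e)

theorem supportDim_eq_add_idealDepth (hM : LocCoh.IsCohenMacaulayModule R M) {I : Ideal R} (hI : I ≠ ⊤) :
    Module.supportDim R M = Module.supportDim R (M ⧸ (I • (⊤ : Submodule R M))) +
      ((LocCoh.idealDepth I M : ℕ∞) : WithBot ℕ∞) := by
  have := nontrivial_of_isCM M hM
  have hIm := le_maximalIdeal hI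
  obtain ⟨rs, h, hmem, hd⟩ := exists_idealDepth_eq_length I (M := M) (smul_top_ne_top_of_le_maximal hIm)
  have hmem' := fun r hr => hIm (hmem r hr)
  have hCM := isCM_quot_ofList M hM h hmem'
  have := nontrivial_quot_ofList (M := M) (ofList_le (maximalIdeal R) hmem')
  let M' := M ⧸ (Ideal.ofList rs • ⊤ : Submodule R M)
  have h0 : LocCoh.idealDepth I M' = 0 := by
    have := idealDepth_quot_ofList I h hmem
    rw [hd] at this
    exact (ENat.add_left_injective_of_ne_top (ENat.natCast_ne_top rs.length))
      (this.trans (zero_add _).symm)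
  obtain ⟨p, hp, hIp⟩ : ∃ p ∈ associatedPrimes R M', I ≤ p := by
    by_contra hcon
    push Not at hcon
    obtain ⟨r, hr, hreg⟩ := (Groth.Agent.Alg6.exists_isSMulRegular_mem_iff (M := M') I).2 hcon
    have := Groth.Agent.Alg6.length_le_idealDepth (I := I) (rs := [r])
      ((isWeaklyRegular_singleton_iff M' r).2 hreg) (by simpa using hr)
    rw [h0] at this
    simp at this
  rw [← Module.supportDim_add_length_eq_supportDim_of_isRegular rs
    (IsRegular.of_isWeaklyRegular_of_mem_maximalIdeal M hmem' h), hd]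
  congr 1
  have hq : (⟨p, hp.isPrime⟩ : PrimeSpectrum R) ∈ Module.support R M' := by
    obtain ⟨_, z, hz⟩ := Groth.Agent.Alg6.mem_ass_iff.1 hp
    exact Module.mem_support_iff_exists_annihilator.2 ⟨z, fun a ha => (hz a).2 (by
      simpa [Submodule.mem_annihilator_span_singleton] using ha)⟩
  refine le_antisymm ?_ ?_
  · rw [← coheight_eq_of_ass_of_isCM M' hCM (p := ⟨p, hp.isPrime⟩) hp]
    refine coheight_le_supportDim ?_
    rw [Module.support_quotient] at hq ⊢
    exact ⟨hq.1, fun a ha => hIp ha⟩
  · have hsub : Module.support R (M ⧸ (I • (⊤ : Submodule R M))) ⊆ Module.support R M' := by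
      rw [Module.support_quotient, Module.support_quotient]
      exact fun q hq => ⟨hq.1, fun a ha => hq.2 (ofList_le I hmem ha)⟩
    exact Order.krullDim_le_of_strictMono (fun x => ⟨x.1, hsub x.2⟩) fun _ _ h => h

end Groth.Agent.LC
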