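import Groth.Agent.LC.InjBasic
import Mathlib.Algebra.DirectSum.Module
import Mathlib.Algebra.Algebra.Epi
import Mathlib.RingTheory.LocalProperties.Injective
import Mathlib.RingTheory.Flat.Basic
import Mathlib.RingTheory.TensorProduct.Basic
import Mathlib.Order.CompactlyGenerated.Basic

/-!
Injective modules over Noetherian rings, localisation, indecomposable injectives.
-/

universe u v w

open CategoryTheory InjHull TensorProduct

namespace Groth.Agent.LC

variable {R : Type u} [CommRing R]

theorem injective_directSum [IsNoetherianRing R] {ι : Type u} (E : ι → Type u)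
    [∀ i, AddCommGroup (E i)] [∀ i, Module R (E i)] (hE : ∀ i, Module.Injective R (E i)) :
    Module.Injective R (DirectSum ι E) := by
  classical
  apply Module.Baer.injective
  intro I g
  have hI : I.FG := IsNoetherian.noetherian I
  obtain ⟨s, hs⟩ := hI
  let T : Finset ι := s.attach.biUnion fun a =>
    (g ⟨a.1, hs ▸ Ideal.subset_span a.2⟩).support
  have hsupp : ∀ x : I, ∀ i ∉ T, g x i = 0 := by
    rintro ⟨x, hx⟩ i hi
    have : x ∈ Submodule.span R (s : Set R) := by rw [Ideal.submodule_span_eq, hs]; exact hx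
    induction this using Submodule.span_induction with
    | mem y hy =>
      by_contra hne
      exact hi (Finset.mem_biUnion.2 ⟨⟨y, hy⟩, Finset.mem_attach _ _, DFinsupp.mem_support_iff.2 hne⟩)
    | zero => exact DFinsupp.ext_iff.1 (map_zero g) i
    | add y z hy hz h1 h2 =>
      have hy' : y ∈ I := by rw [← hs]; exact hy
      have hz' : z ∈ I := by rw [← hs]; exact hz
      rw [show (⟨y + z, hx⟩ : I) = ⟨y, hy'⟩ + ⟨z, hz'⟩ from rfl, map_add, DirectSum.add_apply,
        h1 hy', h2 hz', add_zero]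
    | smul r y hy h1 =>
      have hy' : y ∈ I := by rw [← hs]; exact hy
      rw [show (⟨r • y, hx⟩ : I) = r • ⟨y, hy'⟩ from rfl, map_smul, DirectSum.smul_apply, h1 hy',
        smul_zero]
  have hE' : ∀ i, ∃ m : E i, ∀ x : I, g x i = (x : R) • m := fun i => by
    have := hE i
    obtain ⟨h, hh⟩ := exists_extension (I.subtype) I.injective_subtype
      ((DirectSum.component R ι E i) ∘ₗ g)
    refine ⟨h 1, fun x => ?_⟩
    have := LinearMap.congr_fun hh x
    simp only [LinearMap.coe_comp, Function.comp_apply, Submodule.subtype_apply] at this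
    rw [← map_smul, smul_eq_mul, mul_one, this]
    rfl
  choose m hm using hE'
  refine ⟨LinearMap.toSpanSingleton R _ (∑ i ∈ T, DirectSum.lof R ι E i (m i)), fun x hx => ?_⟩
  apply DFinsupp.ext
  intro i
  rw [LinearMap.toSpanSingleton_apply, DirectSum.smul_apply, DFinsupp.finsetSum_apply]
  by_cases hi : i ∈ T
  · rw [Finset.sum_eq_single i, DirectSum.lof_apply, ← hm i ⟨x, hx⟩]
    · intro j _ hji
      rw [DirectSum.lof_eq_of, DirectSum.of_eq_of_ne _ _ _ hji.symm]
    · exact fun h => absurd hi h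
  · rw [hsupp _ i hi, Finset.sum_eq_zero, smul_zero]
    intro j hj
    rw [DirectSum.lof_eq_of, DirectSum.of_eq_of_ne _ _ _ (fun h => hi (by subst h; exact hj))]

theorem injective_of_divisible (M : Type u) [AddCommGroup M] [Module R M]
    [NoZeroSMulDivisors R M] (hdiv : ∀ r : R, r ≠ 0 → Function.Surjective (fun m : M => r • m)) :
    Module.Injective R M := by
  apply Module.Baer.injective
  intro I g
  by_cases hI : ∃ r ∈ I, r ≠ 0
  · obtain ⟨r, hr, hr0⟩ := hI
    obtain ⟨m, hm⟩ := hdiv r hr0 (g ⟨r, hr⟩)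
    refine ⟨LinearMap.toSpanSingleton R M m, fun a ha => ?_⟩
    have h1 : r • g ⟨a, ha⟩ = r • (a • m) := by
      rw [← map_smul, show r • (⟨a, ha⟩ : I) = a • ⟨r, hr⟩ from Subtype.ext (mul_comm r a),
        map_smul, ← hm, smul_comm]
    rw [← sub_eq_zero, ← smul_sub] at h1
    rcases NoZeroSMulDivisors.eq_zero_or_eq_zero_of_smul_eq_zero h1 with h | h
    · exact absurd h hr0
    · rw [LinearMap.toSpanSingleton_apply, eq_comm, ← sub_eq_zero]; exact h
  · push Not at hI
    refine ⟨0, fun a ha => ?_⟩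
    rw [show (⟨a, ha⟩ : I) = 0 from Subtype.ext (hI a ha), map_zero, LinearMap.zero_apply]

theorem injective_iff_forall_killed [IsNoetherianRing R] (J : Ideal R) (H : Type u) [AddCommGroup H]
    [Module R H] (hH : LocCoh.IsPowerTorsion J H)
    (hext : ∀ (M : Type u) [AddCommGroup M] [Module R M], Module.Finite R M →
      (∃ k : ℕ, (J ^ k) • (⊤ : Submodule R M) = ⊥) →
        ∀ (N : Submodule R M) (g : N →ₗ[R] H), ∃ g' : M →ₗ[R] H, g'.comp N.subtype = g) :
    Module.Injective R H := by
  apply Module.Baer.injective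
  intro I g
  have hI : I.FG := IsNoetherian.noetherian I
  obtain ⟨s, hs⟩ := hI
  choose k hk using fun x : I => hH (g x)
  let K := s.attach.sup fun a => k ⟨a.1, hs ▸ Ideal.subset_span a.2⟩
  have hK : ∀ x : I, ∀ a ∈ J ^ K, a • g x = 0 := by
    rintro ⟨x, hx⟩ a ha
    have : x ∈ Submodule.span R (s : Set R) := by rw [Ideal.submodule_span_eq, hs]; exact hx
    induction this using Submodule.span_induction with
    | mem y hy =>
      exact hk _ a (Ideal.pow_le_pow_right
        (Finset.le_sup (f := fun a : s => k ⟨a.1, hs ▸ Ideal.subset_span a.2⟩)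
          (Finset.mem_attach _ ⟨y, hy⟩)) ha)
    | zero => rw [show g ⟨0, hx⟩ = 0 from map_zero g, smul_zero]
    | add y z hy hz h1 h2 =>
      have hy' : y ∈ I := by rw [← hs]; exact hy
      have hz' : z ∈ I := by rw [← hs]; exact hz
      rw [show (⟨y + z, hx⟩ : I) = ⟨y, hy'⟩ + ⟨z, hz'⟩ from rfl, map_add, smul_add, h1 hy', h2 hz',
        add_zero]
    | smul r y hy h1 =>
      have hy' : y ∈ I := by rw [← hs]; exact hy
      rw [show (⟨r • y, hx⟩ : I) = r • ⟨y, hy'⟩ from rfl, map_smul, smul_comm, h1 hy', smul_zero]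
  obtain ⟨c, hc⟩ := J.exists_pow_inf_eq_pow_smul (M := R) I
  have hker : J ^ (K + c) ⊓ I ≤ J ^ K • I := by
    have h := hc (K + c) (by omega)
    rw [Ideal.smul_top_eq_map, Nat.add_sub_cancel] at h
    simp only [Algebra.algebraMap_self, Ideal.map_id, Submodule.restrictScalars_self] at h
    rw [h]
    exact Submodule.smul_mono le_rfl inf_le_right
  let L : Ideal R := J ^ (K + c)
  let q : I →ₗ[R] R ⧸ L := L.mkQ ∘ₗ I.subtype
  have hq : LinearMap.ker q ≤ LinearMap.ker g := by
    rintro ⟨x, hx⟩ h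
    simp only [q, LinearMap.mem_ker, LinearMap.coe_comp, Function.comp_apply, Submodule.subtype_apply,
      Submodule.mkQ_apply, Submodule.Quotient.mk_eq_zero] at h
    have hx' := hker ⟨h, hx⟩
    suffices ∀ y, (hy : y ∈ J ^ K • I) → g ⟨y, (Submodule.smul_le_right : J ^ K • I ≤ I) hy⟩ = 0 from
      this x hx'
    intro y hy
    induction hy using Submodule.smul_induction_on' with
    | smul a ha z hz =>
      rw [show (⟨a • z, _⟩ : I) = a • ⟨z, hz⟩ from rfl, map_smul]
      exact hK _ a ha
    | add y hy z hz h1 h2 =>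
      have h : ∀ w, w ∈ J ^ K • I → w ∈ I := fun w hw => (Submodule.smul_le_right : J ^ K • I ≤ I) hw
      rw [show (⟨y + z, _⟩ : I) = ⟨y, h y hy⟩ + ⟨z, h z hz⟩ from rfl, map_add, h1, h2, add_zero]
  obtain ⟨g', hg'⟩ := hext (R ⧸ L) inferInstance ⟨K + c, by
    rw [eq_bot_iff, Submodule.smul_le]
    intro a ha x _
    obtain ⟨y, rfl⟩ := L.mkQ_surjective x
    rw [Submodule.mem_bot, ← map_smul, Submodule.mkQ_apply, Submodule.Quotient.mk_eq_zero]
    exact L.mul_mem_right y ha⟩ (LinearMap.range q)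
    (((LinearMap.ker q).liftQ g hq) ∘ₗ q.quotKerEquivRange.symm.toLinearMap)
  refine ⟨g' ∘ₗ L.mkQ, fun x hx => ?_⟩
  have := LinearMap.congr_fun hg' ⟨q ⟨x, hx⟩, LinearMap.mem_range_self _ _⟩
  simp only [LinearMap.coe_comp, Function.comp_apply, Submodule.subtype_apply, LinearEquiv.coe_coe,
    LinearMap.quotKerEquivRange_symm_apply_image] at this
  exact this

theorem isLinearMap_of_isEpi {S : Type u} [CommRing S] [Algebra R S] [Algebra.IsEpi R S]
    {M N : Type u} [AddCommGroup M] [Module R M] [Module S M] [IsScalarTower R S M]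
    [AddCommGroup N] [Module R N] [Module S N] [IsScalarTower R S N] (h : M →ₗ[R] N)
    (s : S) (x : M) : h (s • x) = s • h x := by
  let φ : S ⊗[R] S →ₗ[R] N := TensorProduct.lift
    (LinearMap.mk₂ R (fun a b : S => a • h (b • x))
      (fun a a' b => add_smul a a' _) (fun c a b => smul_assoc c a _)
      (fun a b b' => by rw [add_smul, map_add, smul_add])
      (fun c a b => by rw [smul_assoc, map_smul, smul_comm]))
  have := congrArg φ ((Algebra.isEpi_iff_forall_one_tmul_eq R S).1 inferInstance s)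
  simpa [φ] using this

theorem injective_of_isEpi (R : Type u) [CommRing R] {S : Type u} [CommRing S] [Algebra R S]
    [Algebra.IsEpi R S] (E : Type u) [AddCommGroup E] [Module S E] [Module R E] [IsScalarTower R S E]
    [Module.Injective R E] : Module.Injective S E := by
  refine ⟨fun X Y _ _ _ _ f hf g => ?_⟩
  letI := Module.compHom X (algebraMap R S)
  letI := Module.compHom Y (algebraMap R S)
  haveI : IsScalarTower R S X := .of_algebraMap_smul fun _ _ => rfl
  haveI : IsScalarTower R S Y := .of_algebraMap_smul fun _ _ => rfl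
  obtain ⟨h, hh⟩ := exists_extension (f.restrictScalars R) hf (g.restrictScalars R)
  exact ⟨{ h with map_smul' := fun s x => isLinearMap_of_isEpi h s x },
    fun x => LinearMap.congr_fun hh x⟩

theorem injective_restrict_of_flat (R : Type u) [CommRing R] {S : Type u} [CommRing S] [Algebra R S]
    [Module.Flat R S] (E : Type u) [AddCommGroup E] [Module S E] [Module R E] [IsScalarTower R S E]
    [Module.Injective S E] : Module.Injective R E := by
  refine ⟨fun X Y _ _ _ _ f hf g => ?_⟩
  have hf' : Function.Injective (f.baseChange S) := by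
    rw [LinearMap.baseChange_eq_ltensor]
    exact Module.Flat.lTensor_preserves_injective_linearMap f hf
  obtain ⟨h, hh⟩ := exists_extension (f.baseChange S) hf' (g.liftBaseChange S)
  refine ⟨h.restrictScalars R ∘ₗ TensorProduct.mk R S Y 1, fun x => ?_⟩
  have := LinearMap.congr_fun hh (1 ⊗ₜ[R] x)
  simpa using this

section Localization

theorem exists_mk_ne_zero_of_essential [IsNoetherianRing R] (S : Submonoid R) {M : Type u}
    [AddCommGroup M] [Module R M] (N : Submodule R M)
    (hN : ∀ N' : Submodule R M, N' ≠ ⊥ → N' ⊓ N ≠ ⊥) (x : M)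
    (hx : LocalizedModule.mkLinearMap S M x ≠ 0) :
    ∃ r : R, r • x ∈ N ∧ LocalizedModule.mkLinearMap S M (r • x) ≠ 0 := by
  obtain ⟨_, ⟨t, rfl⟩, hmax⟩ := set_has_maximal_iff_noetherian.mpr ‹IsNoetherianRing R›
    (Set.range fun s : S => LinearMap.ker (LinearMap.toSpanSingleton R M ((s : R) • x)))
    (Set.range_nonempty _)
  have hker : ∀ s : S, ∀ r : R, r • ((s * t : S) : R) • x = 0 → r • (t : R) • x = 0 := by
    intro s r hr
    have hle : LinearMap.ker (LinearMap.toSpanSingleton R M ((t : R) • x)) ≤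
        LinearMap.ker (LinearMap.toSpanSingleton R M (((s * t : S) : R) • x)) := fun a ha => by
      simp only [LinearMap.mem_ker, LinearMap.toSpanSingleton_apply, Submonoid.coe_mul] at ha ⊢
      rw [mul_smul, smul_comm a (s : R), ha, smul_zero]
    have := eq_of_le_of_not_lt hle (hmax _ ⟨s * t, rfl⟩)
    have hr' : r ∈ LinearMap.ker (LinearMap.toSpanSingleton R M (((s * t : S) : R) • x)) := by
      simpa using hr
    rw [← this] at hr'
    simpa using hr'
  by_contra hcon
  push Not at hcon
  have hy : (t : R) • x ≠ 0 := fun h => hx (by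
    refine (IsLocalizedModule.eq_zero_iff S (LocalizedModule.mkLinearMap S M)).2 ⟨t, h⟩)
  obtain ⟨_, ⟨hspan, hmem⟩, h0⟩ := (Submodule.ne_bot_iff _).1
    (hN (R ∙ ((t : R) • x)) (by simpa using hy))
  obtain ⟨r, rfl⟩ := Submodule.mem_span_singleton.1 hspan
  apply h0
  rw [smul_smul] at hmem ⊢
  obtain ⟨s, hs⟩ := (IsLocalizedModule.eq_zero_iff S (LocalizedModule.mkLinearMap S M)).1
    (hcon _ hmem)
  rw [← smul_smul]
  refine hker s r ?_
  rw [Submonoid.coe_mul]
  rw [Submonoid.smul_def] at hs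
  rw [← hs, smul_smul, smul_smul]
  ring_nf

theorem localized_essential [IsNoetherianRing R] (S : Submonoid R) {M : Type u}
    [AddCommGroup M] [Module R M] (N : Submodule R M)
    (hN : ∀ N' : Submodule R M, N' ≠ ⊥ → N' ⊓ N ≠ ⊥) {z : LocalizedModule S M} (hz : z ≠ 0) :
    ∃ (r : R) (n : M), n ∈ N ∧ r • z = LocalizedModule.mkLinearMap S M n ∧ r • z ≠ 0 := by
  obtain ⟨⟨x, s⟩, hxs⟩ := IsLocalizedModule.surj S (LocalizedModule.mkLinearMap S M) z
  simp only [Submonoid.smul_def] at hxs
  have hx : LocalizedModule.mkLinearMap S M x ≠ 0 := fun h => hz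
    (((Module.End.isUnit_iff _).1
      (IsLocalizedModule.map_units (LocalizedModule.mkLinearMap S M) s)).1
      (by simp [hxs, h]))
  obtain ⟨r, hr, hr0⟩ := exists_mk_ne_zero_of_essential S N hN x hx
  refine ⟨r * s, r • x, hr, ?_, ?_⟩
  · rw [mul_smul, hxs, map_smul]
  · rw [mul_smul, hxs, ← map_smul]; exact hr0

theorem isInjectiveHull_localizedMap [IsNoetherianRing R] (S : Submonoid R) {M E : Type u}
    [AddCommGroup M] [Module R M] [AddCommGroup E] [Module R E] {f : M →ₗ[R] E}
    (hf : IsInjectiveHull f) : IsInjectiveHull (LocalizedModule.map S f) := by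
  have := hf.isInjective
  refine ⟨isEssentialInj_iff.2 ⟨LocalizedModule.map_injective S f hf.injective, fun z hz => ?_⟩,
    Module.injective_of_isLocalizedModule S (LocalizedModule.mkLinearMap S E)⟩
  obtain ⟨r, n, ⟨m, rfl⟩, h1, h2⟩ := localized_essential S (LinearMap.range f) hf.essential hz
  refine ⟨algebraMap R (Localization S) r, ⟨LocalizedModule.mk m 1, ?_⟩,
    by rwa [algebraMap_smul]⟩
  rw [algebraMap_smul, h1, LocalizedModule.map_mk]
  rfl

theorem surjective_mkLinearMap_of_injective [IsNoetherianRing R] (I : Type u) [AddCommGroup I]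
    [Module R I] [Module.Injective R I] (f : R) :
    Function.Surjective (LocalizedModule.mkLinearMap (Submonoid.powers f) I) := by
  intro z
  obtain ⟨⟨m, ⟨_, n, rfl⟩⟩, hm⟩ :=
    IsLocalizedModule.surj (Submonoid.powers f) (LocalizedModule.mkLinearMap _ I) z
  simp only [Submonoid.smul_def] at hm
  obtain ⟨k, hk⟩ := monotone_stabilizes_iff_noetherian.mpr ‹IsNoetherianRing R›
    ⟨fun j => LinearMap.ker (LinearMap.lsmul R R (f ^ j)), fun i j hij x hx => by
      simp only [LinearMap.mem_ker, LinearMap.lsmul_apply, smul_eq_mul] at hx ⊢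
      rw [← Nat.sub_add_cancel hij, pow_add, mul_assoc, hx, mul_zero]⟩
  simp only [OrderHom.coe_mk] at hk
  let φ := LinearMap.toSpanSingleton R R (f ^ (k + n))
  have hφ : LinearMap.ker φ ≤ LinearMap.ker (LinearMap.toSpanSingleton R I (f ^ k • m)) := by
    intro a ha
    simp only [φ, LinearMap.mem_ker, LinearMap.toSpanSingleton_apply, smul_eq_mul] at ha ⊢
    have h : a ∈ LinearMap.ker (LinearMap.lsmul R R (f ^ (k + n))) := by
      simpa [mul_comm] using ha
    rw [← hk (k + n) (by omega)] at h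
    simp only [LinearMap.mem_ker, LinearMap.lsmul_apply, smul_eq_mul] at h
    rw [smul_smul, mul_comm, h, zero_smul]
  obtain ⟨h, hh⟩ := exists_extension ((LinearMap.ker φ).liftQ φ le_rfl)
    (LinearMap.ker_eq_bot.1 (Submodule.ker_liftQ_eq_bot' _ _ rfl)) ((LinearMap.ker φ).liftQ _ hφ)
  have he : f ^ (k + n) • h 1 = f ^ k • m := by
    have := LinearMap.congr_fun hh (Submodule.Quotient.mk 1)
    simp only [LinearMap.coe_comp, Function.comp_apply, Submodule.liftQ_apply, φ,
      LinearMap.toSpanSingleton_apply, one_smul] at this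
    rw [← this, ← map_smul, smul_eq_mul, mul_one]
  refine ⟨h 1, ?_⟩
  have hinj : ∀ j, Function.Injective fun y : LocalizedModule (Submonoid.powers f) I => f ^ j • y :=
    fun j => ((Module.End.isUnit_iff _).1 (IsLocalizedModule.map_units
      (LocalizedModule.mkLinearMap (Submonoid.powers f) I)
      ⟨f ^ j, pow_mem (Submonoid.mem_powers f) j⟩)).1
  apply hinj (k + n)
  simp only
  rw [← map_smul, he, map_smul, ← hm, smul_smul, ← pow_add]

end Localization

section Indecomposable

theorem uniform_of_indecomposable {E : Type u} [AddCommGroup E] [Module R E]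
    (hE : IsIndecomposable R E) (hinj : Module.Injective R E) {N : Submodule R E} (hN : N ≠ ⊥) :
    ∀ x : E, x ≠ 0 → ∃ r : R, r • x ∈ N ∧ r • x ≠ 0 := by
  obtain ⟨E', hle, hess, -, C, hC⟩ := exists_hull_submodule N
  rcases hE.2 E' C hC with h | h
  · exact absurd (le_bot_iff.1 (h ▸ hle)) hN
  · subst h
    intro x hx
    exact hess x (by rw [eq_top_of_isCompl_bot hC]; trivial) hx

theorem isIndecomposable_of_hull_prime {p : Ideal R} [p.IsPrime] {E : Type u} [AddCommGroup E]
    [Module R E] {f : (R ⧸ p) →ₗ[R] E} (hf : IsInjectiveHull f) : IsIndecomposable R E := by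
  refine ⟨hf.injective.nontrivial, fun N N' h => ?_⟩
  by_contra hc
  push Not at hc
  obtain ⟨x, ⟨hxN, a, ha⟩, hx0⟩ := (Submodule.ne_bot_iff _).1 (hf.essential N hc.1)
  obtain ⟨y, ⟨hyN, b, hb⟩, hy0⟩ := (Submodule.ne_bot_iff _).1 (hf.essential N' hc.2)
  obtain ⟨r, rfl⟩ := Ideal.Quotient.mk_surjective a
  obtain ⟨s, rfl⟩ := Ideal.Quotient.mk_surjective b
  have h1 : s • x = r • y := by
    rw [← ha, ← hb, ← LinearMap.map_smul, ← LinearMap.map_smul]
    exact congrArg f (congrArg (Ideal.Quotient.mk p) (mul_comm s r))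
  have h2 : s • x = 0 :=
    Submodule.disjoint_def.1 h.disjoint _ (N.smul_mem s hxN) (h1 ▸ N'.smul_mem r hyN)
  rw [← ha, ← LinearMap.map_smul, map_eq_zero_iff f hf.injective] at h2
  have h2' : Ideal.Quotient.mk p s * Ideal.Quotient.mk p r = 0 := h2
  rcases mul_eq_zero.1 h2' with h2 | h2
  · exact hy0 (by rw [← hb, h2, map_zero])
  · exact hx0 (by rw [← ha, h2, map_zero])

theorem isEssentialInj_quotient_residueField (p : Ideal R) [p.IsPrime] :
    IsEssentialInj ((Algebra.linearMap (R ⧸ p) p.ResidueField).restrictScalars R) := by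
  refine isEssentialInj_iff.2 ⟨p.injective_algebraMap_quotient_residueField, fun x hx => ?_⟩
  obtain ⟨⟨a, b, hb⟩, hab⟩ := IsLocalization.surj (nonZeroDivisors (R ⧸ p)) x
  obtain ⟨s, rfl⟩ := Ideal.Quotient.mk_surjective b
  dsimp only at hab
  rw [Ideal.algebraMap_quotient_residueField_mk] at hab
  refine ⟨s, ⟨a, ?_⟩, ?_⟩
  · rw [Algebra.smul_def, mul_comm, hab]; rfl
  · rw [Algebra.smul_def]
    refine mul_ne_zero ?_ hx
    rw [ne_eq, Ideal.algebraMap_residueField_eq_zero]
    exact fun h => nonZeroDivisors.ne_zero hb (Ideal.Quotient.eq_zero_iff_mem.2 h)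

theorem exists_hull_residueField {p : Ideal R} [p.IsPrime] {E : Type u} [AddCommGroup E]
    [Module R E] {f : (R ⧸ p) →ₗ[R] E} (hf : IsInjectiveHull f) :
    ∃ g : p.ResidueField →ₗ[R] E, IsInjectiveHull g := by
  have := hf.isInjective
  have hi := isEssentialInj_quotient_residueField p
  obtain ⟨g, hg⟩ := exists_extension _ hi.injective f
  refine ⟨g, ⟨isEssentialInj_of_comp_left (f := (Algebra.linearMap (R ⧸ p) p.ResidueField).restrictScalars R)
    (isEssentialInj_injective_of_comp hi g (by rw [hg]; exact hf.injective))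
    (by rw [hg]; exact hf.toIsEssentialInj), hf.isInjective⟩⟩

theorem exists_prime_linearMap [IsNoetherianRing R] {E : Type u} [AddCommGroup E] [Module R E]
    [Nontrivial E] : ∃ (p : Ideal R) (_ : p.IsPrime) (f : (R ⧸ p) →ₗ[R] E), Function.Injective f := by
  obtain ⟨p, hp⟩ := associatedPrimes.nonempty R E
  rw [AssociatedPrimes.mem_iff, isAssociatedPrime_iff_exists_injective_linearMap] at hp
  exact ⟨p, hp.1, hp.2⟩

theorem exists_residueField_hull [IsNoetherianRing R] {E : Type u} [AddCommGroup E] [Module R E]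
    (hE : IsIndecomposable R E) (hinj : Module.Injective R E) :
    ∃ (p : Ideal R) (_ : p.IsPrime) (g : p.ResidueField →ₗ[R] E), IsInjectiveHull g := by
  have := hE.1
  obtain ⟨p, hp, f, hf⟩ := exists_prime_linearMap (R := R) (E := E)
  have hne : LinearMap.range f ≠ ⊥ := by
    rw [ne_eq, LinearMap.range_eq_bot]
    intro h
    have : f 1 = f 0 := by simp [h]
    exact one_ne_zero (hf this)
  exact ⟨p, hp, exists_hull_residueField
    ⟨isEssentialInj_iff.2 ⟨hf, uniform_of_indecomposable hE hinj hne⟩, hinj⟩⟩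

theorem exists_decomposition [IsNoetherianRing R] (I : Type u) [AddCommGroup I] [Module R I]
    (hI : Module.Injective R I) :
    ∃ S : Set (Submodule R I), (∀ E ∈ S, IsIndecomposable R ↥E ∧ Module.Injective R ↥E) ∧
      sSupIndep S ∧ sSup S = ⊤ := by
  classical
  obtain ⟨S, hS⟩ := zorn_subset
    {S : Set (Submodule R I) | (∀ E ∈ S, IsIndecomposable R ↥E ∧ Module.Injective R ↥E) ∧ sSupIndep S}
    (fun c hc hchain => ⟨⋃₀ c, ⟨fun E ⟨s, hs, hE⟩ => (hc hs).1 E hE,
      iSupIndep_sUnion_of_directed hchain.directedOn fun s hs => (hc hs).2⟩,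
      fun s hs => Set.subset_sUnion_of_mem hs⟩)
  obtain ⟨hS1, hS2⟩ := hS.prop
  refine ⟨S, hS1, hS2, ?_⟩
  have hind : iSupIndep (fun E : S => (E : Submodule R I)) := (sSupIndep_iff S).1 hS2
  let φ := DirectSum.coeLinearMap (fun E : S => (E : Submodule R I))
  have hφ : Function.Injective φ := hind.dfinsupp_lsum_injective
  have hD : Module.Injective R (DirectSum S fun E => ↥(E : Submodule R I)) :=
    injective_directSum _ fun E => (hS1 E E.2).2
  obtain ⟨p, hp⟩ := exists_extension φ hφ LinearMap.id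
  have hpφ : ∀ y, p (φ y) = y := fun y => LinearMap.congr_fun hp y
  have hcompl : IsCompl (LinearMap.range φ) (LinearMap.ker p) := by
    refine ⟨Submodule.disjoint_def.2 ?_, ?_⟩
    · rintro _ ⟨y, rfl⟩ h
      rw [LinearMap.mem_ker, hpφ] at h
      rw [h, map_zero]
    · rw [codisjoint_iff, Submodule.eq_top_iff']
      intro x
      exact Submodule.mem_sup.2 ⟨φ (p x), LinearMap.mem_range_self _ _, x - φ (p x),
        by simp [hpφ], by abel⟩
  have hsup : LinearMap.range φ = sSup S := by
    rw [DirectSum.range_coeLinearMap, sSup_eq_iSup']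
  by_contra hne
  have hC : LinearMap.ker p ≠ ⊥ := fun h => hne (by
    rw [h] at hcompl; rw [← hsup]; exact eq_top_of_isCompl_bot hcompl)
  have : Nontrivial ↥(LinearMap.ker p) := Submodule.nontrivial_iff_ne_bot.2 hC
  haveI := injective_of_isCompl hcompl.symm
  obtain ⟨q, hq, f, hf⟩ := exists_prime_linearMap (R := R) (E := LinearMap.ker p)
  obtain ⟨E, g, hg, -, -⟩ := exists_hull_of_injective f hf
  haveI := hg.isInjective
  let E' : Submodule R I := E.map (LinearMap.ker p).subtype
  have e : E ≃ₗ[R] E' := Submodule.equivMapOfInjective _ (Submodule.injective_subtype _) E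
  have hind' : IsIndecomposable R E' := isIndecomposable_of_hull_prime
    (f := e.toLinearMap ∘ₗ g) ⟨isEssentialInj_comp hg.toIsEssentialInj (isEssentialInj_linearEquiv e),
      injective_of_linearEquiv e⟩
  have hdisj : Disjoint E' (sSup S) := by
    rw [← hsup]
    exact (hcompl.symm.disjoint).mono_left (Submodule.map_subtype_le _ _)
  have hbot : E' ≠ ⊥ := Submodule.nontrivial_iff_ne_bot.1 hind'.1
  have hnot : E' ∉ S := fun h => hbot (disjoint_self.1 (hdisj.mono_right (le_sSup h)))
  refine hnot (hS.2 (y := insert E' S) ⟨?_, ?_⟩ (Set.subset_insert _ _) (Set.mem_insert _ _))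
  · rintro X (rfl | hX)
    · exact ⟨hind', injective_of_linearEquiv e⟩
    · exact hS1 X hX
  · intro X hX
    rcases hX with rfl | hX
    · rw [Set.insert_sdiff_self_of_notMem hnot]
      exact hdisj
    · have h1 : insert E' S \ {X} = insert E' (S \ {X}) :=
        Set.insert_diff_of_notMem _ (fun h => hnot ((Set.mem_singleton_iff.1 h) ▸ hX))
      rw [h1, sSup_insert]
      refine (hS2 hX).disjoint_sup_right_of_disjoint_sup_left ?_ |>.mono_right (sup_comm _ _).le
      exact hdisj.symm.mono_left (sup_le (le_sSup hX) (sSup_le_sSup Set.diff_subset))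

end Indecomposable

theorem isEssentialInj_directLimit {ι : Type v} [Preorder ι] [IsDirectedOrder ι] [DecidableEq ι]
    (i₀ : ι) {E : ι → Type v} [∀ i, AddCommGroup (E i)] [∀ i, Module R (E i)]
    (f : ∀ i j, i ≤ j → E i →ₗ[R] E j) [DirectedSystem E fun i j h => f i j h]
    {M : Type v} [AddCommGroup M] [Module R M] (g : ∀ i, M →ₗ[R] E i)
    (hg : ∀ i j (h : i ≤ j), f i j h ∘ₗ g i = g j) (he : ∀ i, IsEssentialInj (g i)) :
    IsEssentialInj (Module.DirectLimit.of R ι E f i₀ ∘ₗ g i₀) := by
  have : Nonempty ι := ⟨i₀⟩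
  have hcompat : ∀ i, Module.DirectLimit.of R ι E f i ∘ₗ g i = Module.DirectLimit.of R ι E f i₀ ∘ₗ g i₀ := by
    intro i
    obtain ⟨j, hij, h0j⟩ := exists_ge_ge i i₀
    ext m
    simp only [LinearMap.coe_comp, Function.comp_apply]
    rw [← Module.DirectLimit.of_f (hij := hij), ← Module.DirectLimit.of_f (hij := h0j),
      show f i j hij (g i m) = g j m from LinearMap.congr_fun (hg i j hij) m,
      show f i₀ j h0j (g i₀ m) = g j m from LinearMap.congr_fun (hg i₀ j h0j) m]
  refine isEssentialInj_iff.2 ⟨?_, fun z hz => ?_⟩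
  · rw [injective_iff_map_eq_zero]
    intro m hm
    obtain ⟨k, hk, h0⟩ := Module.DirectLimit.of.zero_exact hm
    refine (he k).injective (a₁ := m) (a₂ := 0) ?_
    rw [map_zero, ← h0]
    exact (LinearMap.congr_fun (hg i₀ k hk) m).symm
  · obtain ⟨i, x, rfl⟩ := Module.DirectLimit.exists_of z
    obtain ⟨r, m, hm0, hm⟩ := isEssentialInj_exists (he i) (x := x) (fun h => hz (by rw [h, map_zero]))
    have h1 : (Module.DirectLimit.of R ι E f i₀ ∘ₗ g i₀) m = r • Module.DirectLimit.of R ι E f i x := by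
      rw [← hcompat i, LinearMap.coe_comp, Function.comp_apply, hm, map_smul]
    refine ⟨r, ⟨m, h1⟩, ?_⟩
    rw [← h1]
    intro h0
    obtain ⟨k, hk, h0'⟩ := Module.DirectLimit.of.zero_exact (h0 : Module.DirectLimit.of R ι E f i₀ (g i₀ m) = 0)
    rw [show f i₀ k hk (g i₀ m) = g k m from LinearMap.congr_fun (hg i₀ k hk) m] at h0'
    exact hm0 ((he k).injective (by rw [h0', map_zero]))

theorem isInjectiveHull_torsionBy (b : Ideal R) {M E : Type u} [AddCommGroup M] [Module R M]
    [Module (R ⧸ b) M] [IsScalarTower R (R ⧸ b) M] [AddCommGroup E] [Module R E]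
    {f : M →ₗ[R] E} (hf : IsInjectiveHull f) :
    ∃ g : M →ₗ[R ⧸ b] ↥(LocCoh.torsionBy b E), IsInjectiveHull g ∧
      ∀ x : M, ((g x : LocCoh.torsionBy b E) : E) = f x := by
  have := hf.isInjective
  have hmem : ∀ x, f x ∈ LocCoh.torsionBy b E := fun x => by
    rw [Submodule.mem_torsionBySet_iff]
    rintro ⟨a, ha⟩
    have h : Ideal.Quotient.mk b a • x = 0 := by
      rw [Ideal.Quotient.eq_zero_iff_mem.2 ha, zero_smul]
    rw [← Ideal.Quotient.algebraMap_eq, algebraMap_smul] at h
    simp [← map_smul, h]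
  let g₀ : M →ₗ[R] ↥(LocCoh.torsionBy b E) := f.codRestrict _ hmem
  let g : M →ₗ[R ⧸ b] ↥(LocCoh.torsionBy b E) :=
    LinearMap.extendScalarsOfSurjective Ideal.Quotient.mk_surjective g₀
  refine ⟨g, ⟨isEssentialInj_iff.2 ⟨fun x y h => hf.injective (congrArg Subtype.val h),
    fun x hx => ?_⟩, ?_⟩, fun x => rfl⟩
  · obtain ⟨r, ⟨m, hm⟩, hr0⟩ := (isEssentialInj_iff.1 hf.toIsEssentialInj).2 x.1 (by simpa using hx)
    exact ⟨Ideal.Quotient.mk b r, ⟨m, Subtype.ext hm⟩, fun h => hr0 (congrArg Subtype.val h)⟩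
  · apply Module.Baer.injective
    intro J φ
    let J' : Ideal R := J.comap (Ideal.Quotient.mk b)
    let ψ : J' →ₗ[R] E := (LocCoh.torsionBy b E).subtype ∘ₗ φ.restrictScalars R ∘ₗ
      { toFun := fun a => ⟨Ideal.Quotient.mk b a.1, a.2⟩
        map_add' := fun _ _ => Subtype.ext (map_add _ _ _)
        map_smul' := fun _ _ => Subtype.ext (map_mul _ _ _) }
    obtain ⟨h, hh⟩ := exists_extension J'.subtype J'.injective_subtype ψ
    have h1 : h 1 ∈ LocCoh.torsionBy b E := by
      rw [Submodule.mem_torsionBySet_iff]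
      rintro ⟨a, ha⟩
      have ha' : a ∈ J' := by
        show Ideal.Quotient.mk b a ∈ J
        rw [Ideal.Quotient.eq_zero_iff_mem.2 ha]; exact J.zero_mem
      have := LinearMap.congr_fun hh ⟨a, ha'⟩
      simp only [LinearMap.coe_comp, Function.comp_apply, Submodule.subtype_apply, ψ,
        LinearMap.coe_mk, AddHom.coe_mk, LinearMap.coe_restrictScalars] at this
      rw [← map_smul, smul_eq_mul, mul_one, this]
      have h0 : (⟨Ideal.Quotient.mk b a, ha'⟩ : J) = 0 :=
        Subtype.ext (Ideal.Quotient.eq_zero_iff_mem.2 ha)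
      rw [h0, map_zero]; rfl
    refine ⟨LinearMap.toSpanSingleton (R ⧸ b) _ ⟨h 1, h1⟩, fun x hx => ?_⟩
    obtain ⟨a, rfl⟩ := Ideal.Quotient.mk_surjective x
    apply Subtype.ext
    have := LinearMap.congr_fun hh ⟨a, hx⟩
    simp only [LinearMap.coe_comp, Function.comp_apply, Submodule.subtype_apply, ψ,
      LinearMap.coe_mk, AddHom.coe_mk, LinearMap.coe_restrictScalars] at this
    rw [← this, LinearMap.toSpanSingleton_apply]
    show a • h 1 = h a
    rw [← map_smul, smul_eq_mul, mul_one]

end Groth.Agent.LC
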