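import Groth.Agent.LC.Matlis
import Groth.Agent.LC.InjNoeth
import Mathlib.Algebra.Category.ModuleCat.ChangeOfRings
import Mathlib.RingTheory.Ideal.GoingUp
import Mathlib.RingTheory.IntegralClosure.IsIntegralClosure.Basic
import Mathlib.RingTheory.LocalRing.Module
import Mathlib.RingTheory.AdicCompletion.Completeness
import Mathlib.LinearAlgebra.Dual.Lemmas
import Mathlib.RingTheory.Ideal.MinimalPrime.Noetherian

/-!
Recognition of injective hulls of residue fields, coinduction, socle ranks.
-/

universe u v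

open CategoryTheory InjHull IsLocalRing TensorProduct

namespace Groth.Agent.LC

section Criterion

variable {R : Type u} [CommRing R]

theorem liftQ_toSpanSingleton_one (J : Ideal R) {M : Type v} [AddCommGroup M] [Module R M] (x : M)
    (h : J ≤ LinearMap.ker (LinearMap.toSpanSingleton R M x)) :
    (J.liftQ (LinearMap.toSpanSingleton R M x) h) (Submodule.Quotient.mk 1) = x := by
  rw [Submodule.liftQ_apply, LinearMap.toSpanSingleton_apply, one_smul]

theorem exists_socle_multiple (J : Ideal R) {M : Type v} [AddCommGroup M] [Module R M]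
    (hM : LocCoh.IsPowerTorsion J M) {x : M} (hx : x ≠ 0) :
    ∃ r : R, r • x ≠ 0 ∧ r • x ∈ LocCoh.torsionBy J M := by
  obtain ⟨N, hN⟩ := hM x
  induction N generalizing x with
  | zero => exact absurd (by simpa using hN 1 (by simp)) hx
  | succ N ih =>
    by_cases hall : ∀ a ∈ J, a • x = 0
    · exact ⟨1, by simpa, (Submodule.mem_torsionBySet_iff _ _).2 fun a => by
        rw [one_smul]; exact hall a a.2⟩
    · push Not at hall
      obtain ⟨a, ha, hax⟩ := hall
      obtain ⟨r, hr0, hr⟩ := ih hax fun b hb => by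
        rw [smul_smul]; exact hN _ (by rw [pow_succ]; exact Ideal.mul_mem_mul hb ha)
      exact ⟨r * a, by rwa [mul_smul], by rwa [mul_smul]⟩

/-- A map out of the residue field of a maximal ideal, sending `1` to a given socle element. -/
theorem isInjectiveHull_of_socle_maximal (n : Ideal R) [hn : n.IsMaximal] {E : Type u} [AddCommGroup E]
    [Module R E] (hinj : Module.Injective R E) (htors : LocCoh.IsPowerTorsion n E) (e : E)
    (he : e ≠ 0) (hmem : e ∈ LocCoh.torsionBy n E) (hsocle : LocCoh.torsionBy n E ≤ R ∙ e) :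
    ∃ g : (R ⧸ n) →ₗ[R] E, IsInjectiveHull g := by
  have hker : n ≤ LinearMap.ker (LinearMap.toSpanSingleton R E e) := fun a ha =>
    (Submodule.mem_torsionBySet_iff _ _).1 hmem ⟨a, ha⟩
  let g := n.liftQ _ hker
  have hrange : R ∙ e ≤ LinearMap.range g := by
    rw [Submodule.span_singleton_le_iff_mem]
    exact ⟨Submodule.Quotient.mk 1, liftQ_toSpanSingleton_one n e hker⟩
  refine ⟨g, isEssentialInj_iff.2 ⟨?_, fun x hx => ?_⟩, hinj⟩
  · refine LinearMap.ker_eq_bot.1 (Submodule.ker_liftQ_eq_bot' _ _ (le_antisymm hker fun a ha => ?_))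
    by_contra hc
    obtain ⟨b, c, hc', hbc⟩ := hn.exists_inv hc
    apply he
    rw [LinearMap.mem_ker, LinearMap.toSpanSingleton_apply] at ha
    rw [← one_smul R e, ← hbc, add_smul, mul_smul, ha, smul_zero, zero_add]
    exact (Submodule.mem_torsionBySet_iff _ _).1 hmem ⟨c, hc'⟩
  · obtain ⟨r, hr0, hr⟩ := exists_socle_multiple n htors hx
    exact ⟨r, hrange (hsocle hr), hr0⟩

theorem isInjectiveHull_of_socle [IsLocalRing R] {E : Type u} [AddCommGroup E] [Module R E]
    (hinj : Module.Injective R E) (htors : LocCoh.IsPowerTorsion (maximalIdeal R) E) (e : E)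
    (he : e ≠ 0) (hmem : e ∈ LocCoh.torsionBy (maximalIdeal R) E)
    (hsocle : LocCoh.torsionBy (maximalIdeal R) E ≤ R ∙ e) :
    ∃ g : ResidueField R →ₗ[R] E, IsInjectiveHull g :=
  isInjectiveHull_of_socle_maximal (maximalIdeal R) hinj htors e he hmem hsocle

theorem socle_mem_of_linearMap [IsLocalRing R] {E : Type u} [AddCommGroup E] [Module R E]
    (g : ResidueField R →ₗ[R] E) : g 1 ∈ LocCoh.torsionBy (maximalIdeal R) E := by
  rw [Submodule.mem_torsionBySet_iff]
  rintro ⟨a, ha⟩
  show a • g 1 = 0
  rw [← map_smul, smul_residueField_eq_zero ha, map_zero]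

end Criterion

section Local

variable {R : Type u} [CommRing R] [IsLocalRing R]

theorem exists_hull_iff [IsNoetherianRing R] (E : Type u) [AddCommGroup E] [Module R E] :
    (∃ f : ResidueField R →ₗ[R] E, IsInjectiveHull f) ↔
      (Module.Injective R E ∧ LocCoh.IsPowerTorsion (maximalIdeal R) E ∧
        IsSimpleModule R (ResidueField R →ₗ[R] E)) := by
  constructor
  · rintro ⟨f, hf⟩
    exact ⟨hf.isInjective, hull_isPowerTorsion hf, Module.length_eq_one_iff.1 (by
      rw [length_dual_residueField hf]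
      have : IsSimpleModule R (ResidueField R) :=
        isSimpleModule_iff_isCoatom.2 (maximalIdeal.isMaximal R).1
      exact Module.length_eq_one R (ResidueField R))⟩
  · rintro ⟨hinj, htors, hs⟩
    have hnt := IsSimpleModule.nontrivial R (ResidueField R →ₗ[R] E)
    obtain ⟨g, hg⟩ := exists_ne (0 : ResidueField R →ₗ[R] E)
    have hg1 : g 1 ≠ 0 := fun h => hg (LinearMap.ext fun x => by
      obtain ⟨r, rfl⟩ := exists_smul_eq x; rw [map_smul, h, smul_zero]; rfl)
    refine isInjectiveHull_of_socle hinj htors (g 1) hg1 (socle_mem_of_linearMap g) fun x hx => ?_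
    have hker : maximalIdeal R ≤ LinearMap.ker (LinearMap.toSpanSingleton R E x) := fun a ha =>
      (Submodule.mem_torsionBySet_iff _ _).1 hx ⟨a, ha⟩
    let χ : ResidueField R →ₗ[R] E := (maximalIdeal R).liftQ _ hker
    have hmemχ : χ ∈ R ∙ g := by rw [IsSimpleModule.span_singleton_eq_top R hg]; trivial
    obtain ⟨r, hr⟩ := Submodule.mem_span_singleton.1 hmemχ
    refine Submodule.mem_span_singleton.2 ⟨r, ?_⟩
    refine (LinearMap.congr_fun hr (1 : ResidueField R)).trans ?_
    exact liftQ_toSpanSingleton_one _ x hker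

theorem exists_hull_of_length [IsNoetherianRing R] (I : Type u) [AddCommGroup I] [Module R I]
    (ha : LocCoh.IsPowerTorsion (maximalIdeal R) I)
    (hb : Nonempty ((ResidueField R →ₗ[R] I) ≃ₗ[R] ResidueField R)) (a : ℕ → Ideal R)
    (hcof : ∀ n : ℕ, ∃ N : ℕ, maximalIdeal R ^ N ≤ a n)
    (hcof' : ∀ N : ℕ, ∃ n : ℕ, a n ≤ maximalIdeal R ^ N)
    (hlen : ∀ n : ℕ, Module.length R (R ⧸ a n) = Module.length R ((R ⧸ a n) →ₗ[R] I)) :
    ∃ f : ResidueField R →ₗ[R] I, IsInjectiveHull f := by
  obtain ⟨E, _, _, f, hf⟩ := exists_injectiveHull R (ResidueField R)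
  obtain ⟨e⟩ := hb
  -- the socle of `I` is spanned by one element
  set g₀ := e.symm 1
  set s := g₀ 1
  have hg₀ : g₀ ≠ 0 := fun h => one_ne_zero (α := ResidueField R) (by
    have := congrArg e h; simpa [g₀] using this)
  have hs0 : s ≠ 0 := fun h => hg₀ (LinearMap.ext fun x => by
    obtain ⟨r, rfl⟩ := exists_smul_eq x; rw [map_smul, show g₀ 1 = 0 from h, smul_zero]; rfl)
  have hsoc : LocCoh.torsionBy (maximalIdeal R) I ≤ R ∙ s := fun x hx => by
    have hker : maximalIdeal R ≤ LinearMap.ker (LinearMap.toSpanSingleton R I x) := fun a ha =>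
      (Submodule.mem_torsionBySet_iff _ _).1 hx ⟨a, ha⟩
    let g : ResidueField R →ₗ[R] I := (maximalIdeal R).liftQ _ hker
    obtain ⟨r, hr⟩ := exists_smul_eq (e g)
    have : g = r • g₀ := e.injective (by simp [g₀, hr])
    refine Submodule.mem_span_singleton.2 ⟨r, ?_⟩
    rw [show r • s = (r • g₀) 1 from rfl, ← this]
    exact liftQ_toSpanSingleton_one _ x hker
  -- the map to the hull
  have hinj : Function.Injective (g₀ : ResidueField R →ₗ[R] I) := by
    rw [injective_iff_map_eq_zero]
    intro x hx
    by_contra h0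
    apply hs0
    obtain ⟨r, hr⟩ := exists_smul_eq (x⁻¹)
    have : r • x = 1 := by
      rw [← inv_mul_cancel₀ h0, ← hr, smul_one_mul]
    show g₀ 1 = 0
    rw [← this, map_smul, hx, smul_zero]
  have := hf.isInjective
  obtain ⟨φ, hφ⟩ := exists_extension g₀ hinj f
  have hφinj : Function.Injective φ := by
    rw [injective_iff_map_eq_zero]
    intro x hx
    by_contra h0
    obtain ⟨r, hr0, hr⟩ := exists_socle_multiple _ ha h0
    obtain ⟨c, hc⟩ := Submodule.mem_span_singleton.1 (hsoc hr)
    have h1 : f (c • (1 : ResidueField R)) = 0 := by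
      have : g₀ (c • 1) = r • x := by rw [map_smul]; exact hc
      rw [← hφ, LinearMap.comp_apply, this, map_smul, hx, smul_zero]
    have h2 : c • (1 : ResidueField R) = 0 := hf.injective (h1.trans f.map_zero.symm)
    apply hr0
    rw [← hc, show c • s = g₀ (c • 1) from (map_smul g₀ c 1).symm, h2, map_zero]
  have hsurj : Function.Surjective φ := by
    intro z
    obtain ⟨N, hN⟩ := hull_isPowerTorsion hf z
    obtain ⟨n, hn⟩ := hcof' N
    obtain ⟨N', hN'⟩ := hcof n
    have hfl : IsFiniteLength R (R ⧸ a n) :=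
      (isFiniteLength_quot_pow (R := R) N').of_surjective
        (f := Submodule.mapQ _ _ LinearMap.id hN') (fun y => by
          obtain ⟨y, rfl⟩ := Submodule.mkQ_surjective _ y
          exact ⟨Submodule.Quotient.mk y, rfl⟩)
    let post : ((R ⧸ a n) →ₗ[R] I) →ₗ[R] ((R ⧸ a n) →ₗ[R] E) :=
      LinearMap.llcomp R (R ⧸ a n) I E φ
    have hpinj : Function.Injective post := fun p q h => LinearMap.ext fun x =>
      hφinj (LinearMap.congr_fun h x)
    have h1 : Module.length R ((R ⧸ a n) →ₗ[R] E) = Module.length R (R ⧸ a n) := length_dual hf _ hfl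
    obtain ⟨_, _⟩ := isFiniteLength_iff_isNoetherian_isArtinian.1
      (Module.length_ne_top_iff.1 (h1 ▸ Module.length_ne_top_iff.2 hfl) :
        IsFiniteLength R ((R ⧸ a n) →ₗ[R] E))
    have hps : Function.Surjective post := by
      rw [← LinearMap.range_eq_top]
      by_contra h
      have := Submodule.length_lt h
      rw [← (LinearEquiv.ofInjective _ hpinj).length_eq, h1, ← hlen] at this
      exact lt_irrefl _ this
    have hker : a n ≤ LinearMap.ker (LinearMap.toSpanSingleton R E z) := fun b hb => hN b (hn hb)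
    obtain ⟨p, hp⟩ := hps ((a n).liftQ _ hker)
    refine ⟨p (Submodule.Quotient.mk 1), ?_⟩
    have := LinearMap.congr_fun hp (Submodule.Quotient.mk 1)
    exact this.trans (liftQ_toSpanSingleton_one _ z hker)
  let ψ := (LinearEquiv.ofBijective φ ⟨hφinj, hsurj⟩).symm
  exact ⟨ψ.toLinearMap ∘ₗ f, isEssentialInj_comp hf.toIsEssentialInj (isEssentialInj_linearEquiv ψ),
    injective_of_linearEquiv ψ⟩

theorem hull_quotient [IsNoetherianRing R] (a : Ideal R) [IsLocalRing (R ⧸ a)] {E : Type u}
    [AddCommGroup E] [Module R E] {f : ResidueField R →ₗ[R] E} (hf : IsInjectiveHull f) :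
    ∃ g : ResidueField (R ⧸ a) →ₗ[R ⧸ a] (LocCoh.torsionBy a E), IsInjectiveHull g := by
  have hmax : maximalIdeal (R ⧸ a) = (maximalIdeal R).map (Ideal.Quotient.mk a) :=
    ((IsLocalRing.maximalIdeal.isMaximal R).map_of_surjective_of_ker_le Ideal.Quotient.mk_surjective
      (by rw [Ideal.mk_ker]; exact le_maximalIdeal (fun h => by
        have : Subsingleton (R ⧸ a) := Ideal.Quotient.subsingleton_iff.2 h
        exact not_subsingleton (R ⧸ a) this)) |> IsLocalRing.eq_maximalIdeal).symm
  have hinj : Module.Injective (R ⧸ a) (LocCoh.torsionBy a E) := by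
    obtain ⟨M, _, _, _, i, hi⟩ := exists_injective_embedding (R ⧸ a) (LocCoh.torsionBy a E)
    refine Module.Baer.injective fun J φ => ?_
    let J' : Ideal R := J.comap (Ideal.Quotient.mk a)
    have := hf.isInjective
    let ψ : J' →ₗ[R] E := (LocCoh.torsionBy a E).subtype ∘ₗ φ.restrictScalars R ∘ₗ
      { toFun := fun x => ⟨Ideal.Quotient.mk a x.1, x.2⟩
        map_add' := fun _ _ => Subtype.ext (map_add _ _ _)
        map_smul' := fun _ _ => Subtype.ext (map_mul _ _ _) }
    obtain ⟨h, hh⟩ := exists_extension J'.subtype J'.injective_subtype ψ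
    have h1 : h 1 ∈ LocCoh.torsionBy a E := by
      rw [Submodule.mem_torsionBySet_iff]
      rintro ⟨x, hx⟩
      have hx' : x ∈ J' := by
        show Ideal.Quotient.mk a x ∈ J
        rw [Ideal.Quotient.eq_zero_iff_mem.2 hx]; exact J.zero_mem
      have := LinearMap.congr_fun hh ⟨x, hx'⟩
      simp only [LinearMap.coe_comp, Function.comp_apply, Submodule.subtype_apply, ψ,
        LinearMap.coe_mk, AddHom.coe_mk, LinearMap.coe_restrictScalars] at this
      show x • h 1 = 0
      rw [← map_smul, smul_eq_mul, mul_one, this]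
      have h0 : (⟨Ideal.Quotient.mk a x, hx'⟩ : J) = 0 :=
        Subtype.ext (Ideal.Quotient.eq_zero_iff_mem.2 hx)
      rw [h0, map_zero]; rfl
    refine ⟨LinearMap.toSpanSingleton (R ⧸ a) _ ⟨h 1, h1⟩, fun x hx => ?_⟩
    obtain ⟨y, rfl⟩ := Ideal.Quotient.mk_surjective x
    apply Subtype.ext
    have := LinearMap.congr_fun hh ⟨y, hx⟩
    simp only [LinearMap.coe_comp, Function.comp_apply, Submodule.subtype_apply, ψ,
      LinearMap.coe_mk, AddHom.coe_mk, LinearMap.coe_restrictScalars] at this
    rw [← this, LinearMap.toSpanSingleton_apply]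
    show y • h 1 = h y
    rw [← map_smul, smul_eq_mul, mul_one]
  have hsoc : ∀ x : LocCoh.torsionBy a E,
      x ∈ LocCoh.torsionBy (maximalIdeal (R ⧸ a)) (LocCoh.torsionBy a E) ↔
        (x : E) ∈ LocCoh.torsionBy (maximalIdeal R) E := fun x => by
    simp only [Submodule.mem_torsionBySet_iff]
    constructor
    · rintro h ⟨r, hr⟩
      exact congrArg Subtype.val (h ⟨Ideal.Quotient.mk a r, hmax ▸ Ideal.mem_map_of_mem _ hr⟩)
    · rintro h ⟨r, hr⟩
      rw [SetLike.mem_coe, hmax, Ideal.mem_map_iff_of_surjective _ Ideal.Quotient.mk_surjective] at hr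
      obtain ⟨s, hs, rfl⟩ := hr
      exact Subtype.ext (h ⟨s, hs⟩)
  have he : f 1 ∈ LocCoh.torsionBy a E := by
    rw [Submodule.mem_torsionBySet_iff]
    rintro ⟨r, hr⟩
    show r • f 1 = 0
    have hle : a ≤ maximalIdeal R := le_maximalIdeal fun h => by
      have : Subsingleton (R ⧸ a) := Ideal.Quotient.subsingleton_iff.2 h
      exact not_subsingleton (R ⧸ a) this
    rw [← map_smul, smul_residueField_eq_zero (hle hr), map_zero]
  refine isInjectiveHull_of_socle hinj (fun x => ?_) ⟨f 1, he⟩
    (fun h => hull_f_one_ne_zero hf (congrArg Subtype.val h))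
    ((hsoc _).2 (socle_mem_of_linearMap f)) fun x hx => ?_
  · obtain ⟨n, hn⟩ := hull_isPowerTorsion hf (x : E)
    refine ⟨n, fun r hr => ?_⟩
    rw [hmax, ← Ideal.map_pow, Ideal.mem_map_iff_of_surjective _ Ideal.Quotient.mk_surjective] at hr
    obtain ⟨s, hs, rfl⟩ := hr
    exact Subtype.ext (hn s hs)
  · have := (hsoc x).1 hx
    rw [hull_socle hf] at this
    obtain ⟨y, hy⟩ := this
    obtain ⟨r, rfl⟩ := exists_smul_eq y
    exact Submodule.mem_span_singleton.2 ⟨Ideal.Quotient.mk a r, Subtype.ext (by rw [← hy, map_smul]; rfl)⟩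

theorem spanFinrank_eq_length_socle_dual [IsNoetherianRing R] {E : Type u} [AddCommGroup E]
    [Module R E] {f : ResidueField R →ₗ[R] E} (hf : IsInjectiveHull f) (M : Type u) [AddCommGroup M]
    [Module R M] [Module.Finite R M] :
    ((⊤ : Submodule R M).spanFinrank : ℕ∞) =
      Module.length R (LocCoh.torsionBy (maximalIdeal R) (M →ₗ[R] E)) := by
  classical
  set P : Submodule R M := maximalIdeal R • ⊤
  have hkill : ∀ φ : (M →ₗ[R] E), φ ∈ LocCoh.torsionBy (maximalIdeal R) (M →ₗ[R] E) ↔
      P ≤ LinearMap.ker φ := fun φ => by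
    rw [Submodule.mem_torsionBySet_iff, Submodule.smul_le]
    refine ⟨fun h r hr m _ => ?_, fun h r => LinearMap.ext fun m => ?_⟩
    · rw [LinearMap.mem_ker, map_smul]; exact LinearMap.congr_fun (h ⟨r, hr⟩) m
    · show (r : R) • φ m = 0
      rw [← map_smul]; exact h r r.2 m trivial
  have hequiv : Function.Bijective (LinearMap.codRestrict (LocCoh.torsionBy (maximalIdeal R) (M →ₗ[R] E))
      (LinearMap.lcomp R E P.mkQ) fun φ => (hkill _).2 fun x hx => by
        simp [(Submodule.Quotient.mk_eq_zero P).2 hx]) := by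
    refine ⟨fun a b h => LinearMap.ext fun x => ?_, fun φ => ?_⟩
    · obtain ⟨y, rfl⟩ := P.mkQ_surjective x
      exact LinearMap.congr_fun (congrArg Subtype.val h) y
    · exact ⟨P.liftQ φ.1 ((hkill _).1 φ.2),
        Subtype.ext (Submodule.liftQ_mkQ P φ.1 ((hkill _).1 φ.2))⟩
  letI := Ideal.Quotient.field (maximalIdeal R)
  have htors : Module.IsTorsionBySet R (M ⧸ P) (maximalIdeal R : Set R) := fun x r => by
    obtain ⟨y, rfl⟩ := P.mkQ_surjective x
    show (r : R) • P.mkQ y = 0
    rw [← map_smul]
    exact (Submodule.Quotient.mk_eq_zero P).2 (Submodule.smul_mem_smul r.2 trivial)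
  letI := htors.module
  haveI : IsScalarTower R (R ⧸ maximalIdeal R) (M ⧸ P) := Module.IsTorsionBySet.isScalarTower htors
  haveI : Module.Finite (R ⧸ maximalIdeal R) (M ⧸ P) := Module.Finite.of_restrictScalars_finite R _ _
  have hlen : Module.length R (M ⧸ P) = Module.finrank (R ⧸ maximalIdeal R) (M ⧸ P) := by
    rw [Module.length_eq_of_surjective (R := R ⧸ maximalIdeal R) (S := R) (M := M ⧸ P)
      Ideal.Quotient.mk_surjective, Module.length_eq_finrank]
  rw [← (LinearEquiv.ofBijective _ hequiv).length_eq, length_dual hf _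
    (Module.length_ne_top_iff.1 (by rw [hlen]; exact ENat.natCast_ne_top _)), hlen, Nat.cast_inj]
  apply le_antisymm
  · let b := Module.finBasis (R ⧸ maximalIdeal R) (M ⧸ P)
    choose v hv using fun i => P.mkQ_surjective (b i)
    have htop : Submodule.span R (Set.range v) = ⊤ := by
      rw [← IsLocalRing.map_mkQ_eq_top (R := R), Submodule.map_span, ← Set.range_comp]
      rw [show (P.mkQ ∘ v : _ → M ⧸ P) = b from funext hv]
      exact (Submodule.restrictScalars_span R (R ⧸ maximalIdeal R) Ideal.Quotient.mk_surjective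
        (Set.range b)).symm.trans (by rw [b.span_eq, Submodule.restrictScalars_top])
    rw [← htop]
    refine (Submodule.spanFinrank_span_le_ncard_of_finite (Set.finite_range v)).trans ?_
    rw [← Set.image_univ]
    exact (Set.ncard_image_le Set.finite_univ).trans_eq (by simp [Set.ncard_univ])
  · obtain ⟨s, hs, hspan⟩ := (Module.Finite.fg_top : (⊤ : Submodule R M).FG).exists_span_set_encard_eq_spanFinrank
    have hfin : s.Finite := Set.finite_of_encard_eq_coe hs
    have htop : Submodule.span (R ⧸ maximalIdeal R) (P.mkQ '' s) = ⊤ := by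
      apply Submodule.restrictScalars_injective R
      rw [Submodule.restrictScalars_span R (R ⧸ maximalIdeal R) Ideal.Quotient.mk_surjective,
        ← Submodule.map_span, hspan, Submodule.restrictScalars_top, Submodule.map_top,
        Submodule.range_mkQ]
    haveI := (hfin.image P.mkQ).fintype
    have h1 := finrank_span_le_card (R := R ⧸ maximalIdeal R) (P.mkQ '' s)
    rw [htop, finrank_top] at h1
    refine h1.trans ?_
    rw [← Set.ncard_eq_toFinset_card']
    refine (Set.ncard_image_le hfin).trans_eq ?_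
    have := hfin.cast_ncard_eq
    rw [hs, Nat.cast_inj] at this
    exact this

theorem mk_one_bijective_of_powerTorsion [IsNoetherianRing R] (I : Type u) [AddCommGroup I]
    [Module R I] (hI : LocCoh.IsPowerTorsion (maximalIdeal R) I) :
    Function.Bijective (TensorProduct.mk R (AdicCompletion (maximalIdeal R) R) I 1) := by
  classical
  have htop : ∀ n, (maximalIdeal R ^ n • ⊤ : Ideal R) = maximalIdeal R ^ n := fun n => by
    rw [smul_eq_mul, Ideal.mul_top]
  choose N hN using hI
  choose s hs using fun (z : AdicCompletion (maximalIdeal R) R) n =>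
    Submodule.Quotient.mk_surjective _ (z.val n)
  have key : ∀ z x n, (∀ a ∈ maximalIdeal R ^ n, a • x = 0) → ∀ r : R,
      z.val n = Submodule.Quotient.mk r → s z (N x) • x = r • x := by
    intro z x n hn r hr
    rcases le_total (N x) n with h | h
    · have h2 := z.2 h
      rw [hr, ← hs z (N x)] at h2
      have h3 := (Submodule.Quotient.eq _).1 h2
      rw [htop] at h3
      have := hN x _ h3
      rw [sub_smul, sub_eq_zero] at this
      exact this.symm
    · have h2 := z.2 h
      rw [hr, ← hs z (N x)] at h2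
      have h3 := (Submodule.Quotient.eq _).1 h2
      rw [htop] at h3
      have := hn _ h3
      rw [sub_smul, sub_eq_zero] at this
      exact this
  let β : AdicCompletion (maximalIdeal R) R →ₗ[R] I →ₗ[R] I :=
    LinearMap.mk₂ R (fun z x => s z (N x) • x)
      (fun z z' x => by
        rw [key (z + z') x (N x) (hN x) (s z (N x) + s z' (N x)) (by
          rw [AdicCompletion.val_add_apply, Submodule.Quotient.mk_add, hs, hs]), add_smul])
      (fun c z x => by
        rw [key (c • z) x (N x) (hN x) (c * s z (N x)) (by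
          rw [AdicCompletion.val_smul_apply, ← smul_eq_mul, Submodule.Quotient.mk_smul, hs]), mul_smul])
      (fun z x y => by
        have hx : ∀ a ∈ maximalIdeal R ^ (max (N x) (N y)), a • x = 0 := fun a ha =>
          hN x a (Ideal.pow_le_pow_right (le_max_left _ _) ha)
        have hy : ∀ a ∈ maximalIdeal R ^ (max (N x) (N y)), a • y = 0 := fun a ha =>
          hN y a (Ideal.pow_le_pow_right (le_max_right _ _) ha)
        rw [key z x _ hx _ (hs z _).symm, key z y _ hy _ (hs z _).symm,
          key z (x + y) _ (fun a ha => by rw [smul_add, hx a ha, hy a ha, add_zero]) _ (hs z _).symm,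
          smul_add])
      (fun c z x => by
        rw [key z (c • x) (N x) (fun a ha => by rw [smul_comm, hN x a ha, smul_zero]) _ (hs z _).symm,
          smul_comm])
  have h1 : ∀ x, β 1 x = x := fun x => by
    show s 1 (N x) • x = x
    rw [key 1 x (N x) (hN x) 1 (AdicCompletion.val_one _ _), one_smul]
  refine ⟨fun x y h => ?_, fun t => ⟨TensorProduct.lift β t, ?_⟩⟩
  · have := congrArg (TensorProduct.lift β) h
    simpa [h1] using this
  · induction t with
    | zero => simp
    | add a b ha hb => rw [map_add, map_add, ha, hb]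
    | tmul z x =>
      rw [TensorProduct.lift.tmul]
      show (1 : AdicCompletion _ R) ⊗ₜ[R] (s z (N x) • x) = z ⊗ₜ[R] x
      rw [← TensorProduct.smul_tmul, eq_comm, ← sub_eq_zero, ← TensorProduct.sub_tmul]
      have hk : z - s z (N x) • (1 : AdicCompletion (maximalIdeal R) R) ∈
          maximalIdeal R ^ (N x) • (⊤ : Submodule R (AdicCompletion (maximalIdeal R) R)) := by
        rw [AdicCompletion.pow_smul_top_eq_ker_eval (IsNoetherian.noetherian _), LinearMap.mem_ker,
          map_sub, map_smul, AdicCompletion.eval_apply, AdicCompletion.eval_apply,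
          AdicCompletion.val_one, ← hs]
        rw [show (1 : R ⧸ (maximalIdeal R ^ (N x) • ⊤ : Ideal R)) = Submodule.Quotient.mk 1 from rfl,
          ← Submodule.Quotient.mk_smul, show s z (N x) • (1 : R) = s z (N x) from mul_one _, sub_self]
      refine Submodule.smul_induction_on hk (fun a ha w _ => ?_) fun p q hp hq => ?_
      · rw [TensorProduct.smul_tmul, hN x a ha, TensorProduct.tmul_zero]
      · rw [TensorProduct.add_tmul, hp, hq, add_zero]

end Local

section Coextend

variable {A B : Type u} [CommRing A] [CommRing B] [Algebra A B]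

theorem injective_coextend (E : Type u) [AddCommGroup E] [Module A E] [Module.Injective A E] :
    Module.Injective B ((ModuleCat.coextendScalars (algebraMap A B)).obj (ModuleCat.of A E)) :=
  haveI : CategoryTheory.Injective (ModuleCat.of A E) :=
    Module.injective_object_of_injective_module A E
  haveI : CategoryTheory.Injective
      ((ModuleCat.coextendScalars (algebraMap A B)).obj (ModuleCat.of A E)) :=
    CategoryTheory.Injective.injective_of_adjoint
      (ModuleCat.restrictCoextendScalarsAdj (algebraMap A B)) _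
  Module.injective_module_of_injective_object B _

variable [IsLocalRing A] [IsNoetherianRing A] [Module.Finite A B]
variable {E : Type u} [AddCommGroup E] [Module A E] {f : ResidueField A →ₗ[A] E}

/-- The socle of the coinduced module at a maximal ideal. -/
theorem coextend_socle (hf : IsInjectiveHull f) (n : Ideal B) [hn : n.IsMaximal] :
    ∃ e : (ModuleCat.coextendScalars (algebraMap A B)).obj (ModuleCat.of A E),
      e ≠ 0 ∧ e ∈ LocCoh.torsionBy n _ ∧ LocCoh.torsionBy n _ ≤ B ∙ e := by
  set T := (ModuleCat.coextendScalars (algebraMap A B)).obj (ModuleCat.of A E)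
  letI := Ideal.Quotient.field n
  have hcomap : n.comap (algebraMap A B) = maximalIdeal A :=
    IsLocalRing.eq_maximalIdeal (Ideal.isMaximal_comap_of_isIntegral_of_isMaximal n)
  have hflk : IsFiniteLength A (B ⧸ n) := by
    have htors : Module.IsTorsionBySet A (B ⧸ n) (maximalIdeal A : Set A) := fun x r => by
      show (r : A) • x = 0
      rw [Algebra.smul_def, IsScalarTower.algebraMap_apply A B (B ⧸ n), Ideal.Quotient.algebraMap_eq,
        Ideal.Quotient.eq_zero_iff_mem.2 (by rw [← Ideal.mem_comap, hcomap]; exact r.2), zero_mul]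
    letI := Ideal.Quotient.field (maximalIdeal A)
    letI := htors.module
    haveI : IsScalarTower A (A ⧸ maximalIdeal A) (B ⧸ n) := Module.IsTorsionBySet.isScalarTower htors
    haveI : Module.Finite (A ⧸ maximalIdeal A) (B ⧸ n) := Module.Finite.of_restrictScalars_finite A _ _
    rw [← Module.length_ne_top_iff, Module.length_eq_of_surjective (R := A ⧸ maximalIdeal A) (S := A)
      (M := B ⧸ n) Ideal.Quotient.mk_surjective]
    exact Module.length_ne_top
  obtain ⟨ψ, hψ⟩ := exists_dual_ne_zero hf (m := (1 : B ⧸ n)) one_ne_zero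
  let G : (B ⧸ n) →ₗ[A] ((B ⧸ n) →ₗ[A] E) := (LinearMap.mul A (B ⧸ n)).compr₂ ψ
  have hGinj : Function.Injective G := by
    rw [injective_iff_map_eq_zero]
    intro x hx
    by_contra h0
    have := LinearMap.congr_fun hx x⁻¹
    exact hψ (by simpa [G, mul_inv_cancel₀ h0] using this)
  have hGsurj : Function.Surjective G := by
    have h1 := length_dual hf _ hflk
    obtain ⟨_, _⟩ := isFiniteLength_iff_isNoetherian_isArtinian.1
      (Module.length_ne_top_iff.1 (h1 ▸ Module.length_ne_top_iff.2 hflk) :
        IsFiniteLength A ((B ⧸ n) →ₗ[A] E))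
    rw [← LinearMap.range_eq_top]
    by_contra h
    have := Submodule.length_lt h
    rw [← (LinearEquiv.ofInjective _ hGinj).length_eq, h1] at this
    exact lt_irrefl _ this
  let mkA : (ModuleCat.restrictScalars (algebraMap A B)).obj (ModuleCat.of B B) →ₗ[A] E :=
    { toFun := fun b : B => ψ (Ideal.Quotient.mk n b)
      map_add' := fun x y : B => by
        show ψ (Ideal.Quotient.mk n (x + y)) = _
        rw [map_add, map_add]
      map_smul' := fun r (x : B) => by
        show ψ (Ideal.Quotient.mk n (algebraMap A B r * x)) = r • ψ (Ideal.Quotient.mk n x)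
        rw [← map_smul ψ, map_mul, Algebra.smul_def]
        rfl }
  let e : T := (ModuleCat.CoextendScalars.equiv (algebraMap A B) (ModuleCat.of A E)).symm mkA
  refine ⟨e, fun h => hψ ?_, ?_, fun z hz => ?_⟩
  · have h1 := congrArg (fun t : T =>
      (ModuleCat.CoextendScalars.equiv (algebraMap A B) (ModuleCat.of A E)) t (1 : B)) h
    simpa [e, mkA] using h1
  · rw [Submodule.mem_torsionBySet_iff]
    rintro ⟨b, hb⟩
    apply (ModuleCat.CoextendScalars.equiv (algebraMap A B) (ModuleCat.of A E)).injective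
    rw [map_smul, map_zero]
    refine LinearMap.ext fun x : B => ?_
    rw [ModuleCat.CoextendScalars.smul_apply']
    show ψ (Ideal.Quotient.mk n (x * b)) = (0 : E)
    rw [map_mul, Ideal.Quotient.eq_zero_iff_mem.2 hb, mul_zero, map_zero]
  · let ev := ModuleCat.CoextendScalars.equiv (algebraMap A B) (ModuleCat.of A E)
    let z' : B →ₗ[A] E :=
      { toFun := fun b => ev z b
        map_add' := fun x y => (ev z).map_add x y
        map_smul' := fun r x => by
          rw [Algebra.smul_def]; exact (ev z).map_smul r x }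
    have hz' : (n.restrictScalars A) ≤ LinearMap.ker z' := fun b hb => by
      have h1 := (Submodule.mem_torsionBySet_iff _ _).1 hz ⟨b, hb⟩
      have h2 := congrArg (fun t : T => ev t (1 : B)) h1
      have h3 : ev (b • z) (1 : B) = ev z ((1 : B) * b : B) := by rw [map_smul]; rfl
      rw [one_mul] at h3
      simp only [map_zero] at h2
      exact h3.symm.trans h2
    let χ : (B ⧸ n) →ₗ[A] E := (n.restrictScalars A).liftQ z' hz' ∘ₗ
      (Submodule.Quotient.restrictScalarsEquiv A n).symm.toLinearMap
    obtain ⟨x, hx⟩ := hGsurj χ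
    obtain ⟨c, rfl⟩ := Ideal.Quotient.mk_surjective x
    refine Submodule.mem_span_singleton.2 ⟨c, ev.injective ?_⟩
    rw [map_smul]
    refine LinearMap.ext fun b : B => ?_
    rw [ModuleCat.CoextendScalars.smul_apply']
    have := LinearMap.congr_fun hx (Ideal.Quotient.mk n b)
    show ψ (Ideal.Quotient.mk n (b * c)) = z' b
    rw [map_mul, mul_comm]
    exact this

theorem coextend_isPowerTorsion (hf : IsInjectiveHull f)
    (z : (ModuleCat.coextendScalars (algebraMap A B)).obj (ModuleCat.of A E)) :
    ∃ N : ℕ, ∀ b ∈ ((maximalIdeal A).map (algebraMap A B)) ^ N, b • z = 0 := by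
  let ev := ModuleCat.CoextendScalars.equiv (algebraMap A B) (ModuleCat.of A E)
  obtain ⟨s, hs⟩ := (Module.Finite.fg_top : (⊤ : Submodule A B).FG)
  choose N hN using fun b : B => hull_isPowerTorsion hf (ev z b)
  refine ⟨s.sup N, fun b hb => ?_⟩
  rw [← Ideal.map_pow] at hb
  induction hb using Submodule.span_induction with
  | mem x hx =>
    obtain ⟨a, ha, rfl⟩ := hx
    apply ev.injective
    rw [map_zero, map_smul]
    refine LinearMap.ext fun x : B => ?_
    rw [ModuleCat.CoextendScalars.smul_apply']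
    show ev z (x * algebraMap A B a : B) = (0 : E)
    have hx : x ∈ Submodule.span A (s : Set B) := hs ▸ Submodule.mem_top
    induction hx using Submodule.span_induction with
    | mem y hy =>
      have h1 : ev z (algebraMap A B a * y : B) = a • ev z y := (ev z).map_smul a y
      rw [mul_comm]
      exact h1.trans (hN y a (Ideal.pow_le_pow_right (Finset.le_sup (f := N) hy) ha))
    | zero => rw [zero_mul]; exact (ev z).map_zero
    | add p q _ _ hp hq =>
      rw [add_mul]; exact ((ev z).map_add _ _).trans (by rw [hp, hq, add_zero])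
    | smul r p _ hp =>
      rw [Algebra.smul_def, mul_assoc]
      exact ((ev z).map_smul r _).trans (by rw [hp, smul_zero])
  | zero => rw [zero_smul]
  | add p q _ _ hp hq => rw [add_smul, hp, hq, add_zero]
  | smul r p _ hp => rw [smul_eq_mul, mul_smul, hp, smul_zero]

theorem exists_pow_le_map_maximalIdeal [IsLocalRing B] :
    ∃ l : ℕ, maximalIdeal B ^ l ≤ (maximalIdeal A).map (algebraMap A B) := by
  haveI : IsNoetherianRing B := IsNoetherianRing.of_finite A B
  refine Ideal.exists_pow_le_of_le_radical_of_fg ?_ (IsNoetherian.noetherian _)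
  rw [Ideal.radical_eq_sInf]
  refine le_sInf fun P ⟨hle, hP⟩ => ?_
  have : P.IsMaximal := Ideal.isMaximal_of_isIntegral_of_isMaximal_comap P (by
    have h : maximalIdeal A = P.comap (algebraMap A B) :=
      (maximalIdeal.isMaximal A).eq_of_le (Ideal.comap_ne_top _ hP.ne_top) (Ideal.map_le_iff_le_comap.1 hle)
    show (P.comap (algebraMap A B)).IsMaximal
    rw [← h]; infer_instance)
  exact (IsLocalRing.eq_maximalIdeal this).ge

theorem coextend_hull [IsLocalRing B] (hf : IsInjectiveHull f) :
    ∃ g : ResidueField B →ₗ[B] (ModuleCat.coextendScalars (algebraMap A B)).obj (ModuleCat.of A E),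
      IsInjectiveHull g := by
  have := hf.isInjective
  obtain ⟨e, he, hmem, hsoc⟩ := coextend_socle hf (maximalIdeal B)
  refine isInjectiveHull_of_socle (injective_coextend E) (fun z => ?_) e he hmem hsoc
  obtain ⟨N, hN⟩ := coextend_isPowerTorsion hf z
  obtain ⟨l, hl⟩ := exists_pow_le_map_maximalIdeal (A := A) (B := B)
  exact ⟨l * N, fun b hb => hN b (Ideal.pow_right_mono hl N (by rwa [← pow_mul]))⟩

theorem coextend_decomposition (hf : IsInjectiveHull f) :
    ∃ J : MaximalSpectrum B →
        Submodule B ((ModuleCat.coextendScalars (algebraMap A B)).obj (ModuleCat.of A E)),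
      iSupIndep J ∧ iSup J = ⊤ ∧
        ∀ n : MaximalSpectrum B, ∃ g : (B ⧸ n.asIdeal) →ₗ[B] J n, IsInjectiveHull g := by
  haveI : IsNoetherianRing B := IsNoetherianRing.of_finite A B
  have := hf.isInjective
  set T := (ModuleCat.coextendScalars (algebraMap A B)).obj (ModuleCat.of A E)
  haveI := injective_coextend (A := A) (B := B) E
  let J : MaximalSpectrum B → Submodule B T := fun n =>
    ⨆ k : ℕ, Submodule.torsionBySet B T ((n.asIdeal ^ k : Ideal B) : Set B)
  refine ⟨J, ?_, ?_, fun n => ?_⟩
  · rw [iSupIndep_def]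
    intro n
    rw [Submodule.disjoint_def]
    intro x hx hx'
    obtain ⟨k, hk⟩ := (mem_iSup_torsionBySet _ _).1 hx
    classical
    obtain ⟨b, hb1, hb2⟩ : ∃ b, b + (1 : B) ∈ n.asIdeal ^ k ∧ b • x = 0 := by
      clear hx hk
      rw [iSup_subtype'] at hx'
      induction hx' using Submodule.iSup_induction' with
      | mem m y hy =>
        obtain ⟨j, hj⟩ := (mem_iSup_torsionBySet _ _).1 hy
        have hco : n.asIdeal ^ k ⊔ m.1.asIdeal ^ j = ⊤ :=
          Ideal.pow_sup_pow_eq_top (n.isMaximal.coprime_of_ne m.1.isMaximal fun h =>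
            m.2 (MaximalSpectrum.ext h.symm))
        obtain ⟨p, hp, q, hq, hpq⟩ := Submodule.mem_sup.1 (hco ▸ Submodule.mem_top : (1 : B) ∈ _)
        exact ⟨-q, by rw [← hpq]; simpa using hp, by rw [neg_smul, hj q hq, neg_zero]⟩
      | zero => exact ⟨-1, by simp, by simp⟩
      | add y y' _ _ ih ih' =>
        obtain ⟨b, hb1, hb2⟩ := ih
        obtain ⟨b', hb1', hb2'⟩ := ih'
        refine ⟨-(b * b'), ?_, ?_⟩
        · have : -(b * b') + 1 = -((b + 1) * b') + (b' + 1) := by ring
          rw [this]
          exact (n.asIdeal ^ k).add_mem (neg_mem (Ideal.mul_mem_right _ _ hb1)) hb1'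
        · rw [neg_smul, smul_add, mul_smul, mul_smul, hb2', smul_zero, add_zero, smul_comm, hb2,
            smul_zero, neg_zero]
    have := hk _ hb1
    rwa [add_smul, hb2, zero_add, one_smul] at this
  · rw [Submodule.eq_top_iff']
    intro z
    obtain ⟨N, hN⟩ := coextend_isPowerTorsion hf z
    by_contra hz
    let C : Ideal B := (iSup J).comap (LinearMap.toSpanSingleton B T z)
    have hC : C ≠ ⊤ := fun h => hz (by
      have : (1 : B) ∈ C := h ▸ Submodule.mem_top
      simpa [C] using this)
    obtain ⟨P, hP, hCP⟩ := Ideal.exists_le_maximal C hC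
    have hmP : (maximalIdeal A).map (algebraMap A B) ≤ P := by
      haveI := hP
      rw [Ideal.map_le_iff_le_comap,
        ← IsLocalRing.eq_maximalIdeal (Ideal.isMaximal_comap_of_isIntegral_of_isMaximal P)]
    set a := ((maximalIdeal A).map (algebraMap A B)) ^ N
    obtain ⟨b, hb, k, hk⟩ : ∃ b ∉ P, ∃ k : ℕ, ∀ p ∈ P ^ k, b * p ∈ a := by
      classical
      have hmax : ∀ Q ∈ ((maximalIdeal A).map (algebraMap A B)).minimalPrimes, Q.IsMaximal := by
        intro Q hQ
        haveI := hQ.1.1
        have h : maximalIdeal A = Q.comap (algebraMap A B) :=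
          (maximalIdeal.isMaximal A).eq_of_le (Ideal.comap_ne_top _ hQ.1.1.ne_top)
            (Ideal.map_le_iff_le_comap.1 hQ.1.2)
        exact Ideal.isMaximal_of_isIntegral_of_isMaximal_comap Q (by
          show (Q.comap (algebraMap A B)).IsMaximal
          rw [← h]; infer_instance)
      have hfin := ((maximalIdeal A).map (algebraMap A B)).finite_minimalPrimes_of_isNoetherianRing B
      have hsel : ∀ Q ∈ ((maximalIdeal A).map (algebraMap A B)).minimalPrimes, Q ≠ P →
          ∃ c ∈ Q, c ∉ P := fun Q hQ hne =>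
        Set.not_subset.1 fun hle => hne ((hmax Q hQ).eq_of_le hP.ne_top hle)
      choose! c hc using hsel
      let b₀ := ∏ Q ∈ hfin.toFinset.erase P, c Q
      have hb₀ : b₀ ∉ P := fun h => by
        obtain ⟨Q, hQ, hQP⟩ := hP.isPrime.prod_mem_iff.1 h
        rw [Finset.mem_erase, Set.Finite.mem_toFinset] at hQ
        exact (hc Q hQ.2 hQ.1).2 hQP
      have hrad : Ideal.span {b₀} * P ≤ ((maximalIdeal A).map (algebraMap A B)).radical := by
        rw [← Ideal.sInf_minimalPrimes]
        refine le_sInf fun Q hQ => ?_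
        by_cases hQP : Q = P
        · rw [hQP]; exact Ideal.mul_le_right (I := Ideal.span {b₀}) (J := P)
        · refine le_trans (Ideal.mul_le_left (I := Ideal.span {b₀}) (J := P))
            ((Ideal.span_singleton_le_iff_mem _).2 ?_)
          have hmem : Q ∈ hfin.toFinset.erase P :=
            Finset.mem_erase.2 ⟨hQP, hfin.mem_toFinset.2 hQ⟩
          exact Ideal.prod_mem Q hmem (hc Q hQ hQP).1
      obtain ⟨l, hl⟩ := Ideal.exists_pow_le_of_le_radical_of_fg hrad (IsNoetherian.noetherian _)
      refine ⟨b₀ ^ (l * N), fun h => hb₀ (hP.isPrime.mem_of_pow_mem _ h), l * N, fun p hp => ?_⟩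
      have h1 : b₀ ^ (l * N) * p ∈ (Ideal.span {b₀} * P) ^ (l * N) := by
        rw [mul_pow]
        exact Ideal.mul_mem_mul (Ideal.pow_mem_pow (Ideal.mem_span_singleton_self b₀) _) hp
      rw [pow_mul] at h1
      exact Ideal.pow_right_mono hl N h1
    refine hb (hCP ?_)
    show b • z ∈ iSup J
    exact Submodule.mem_iSup_of_mem (⟨P, hP⟩ : MaximalSpectrum B)
      ((mem_iSup_torsionBySet _ _).2 ⟨k, fun p hp => by
        rw [smul_smul]; exact hN _ (by rw [mul_comm]; exact hk p hp)⟩)
  · obtain ⟨e, he, hmem, hsoc⟩ := coextend_socle hf n.asIdeal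
    have heJ : e ∈ J n := (mem_iSup_torsionBySet _ _).2 ⟨1, fun a ha =>
      (Submodule.mem_torsionBySet_iff _ _).1 hmem ⟨a, by simpa using ha⟩⟩
    refine isInjectiveHull_of_socle_maximal n.asIdeal (injective_torsion n.asIdeal) (fun x => ?_)
      ⟨e, heJ⟩ (fun h => he (congrArg Subtype.val h)) ?_ fun x hx => ?_
    · obtain ⟨k, hk⟩ := (mem_iSup_torsionBySet _ _).1 x.2
      exact ⟨k, fun a ha => Subtype.ext (hk a ha)⟩
    · rw [Submodule.mem_torsionBySet_iff]
      exact fun a => Subtype.ext ((Submodule.mem_torsionBySet_iff _ _).1 hmem a)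
    · obtain ⟨c, hc⟩ := Submodule.mem_span_singleton.1 (hsoc ((Submodule.mem_torsionBySet_iff _ _).2
        fun a => congrArg Subtype.val ((Submodule.mem_torsionBySet_iff _ _).1 hx a)))
      exact Submodule.mem_span_singleton.2 ⟨c, Subtype.ext hc⟩

end Coextend

theorem coextend_field_hull (k₀ : Type u) [Field k₀] (A : Type u) [CommRing A] [IsLocalRing A]
    [IsNoetherianRing A] [Algebra k₀ A] [Module.Finite k₀ (A ⧸ maximalIdeal A)] :
    ∃ g : ResidueField A →ₗ[A] ↥(⨆ n : ℕ, Submodule.torsionBySet A
        ((ModuleCat.coextendScalars (algebraMap k₀ A)).obj (ModuleCat.of k₀ k₀))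
        ((maximalIdeal A ^ n : Ideal A) : Set A)), IsInjectiveHull g := by
  haveI hk : Module.Injective k₀ k₀ := injective_of_divisible k₀ fun r hr y =>
    ⟨r⁻¹ * y, show r * (r⁻¹ * y) = y by rw [← mul_assoc, mul_inv_cancel₀ hr, one_mul]⟩
  set T := (ModuleCat.coextendScalars (algebraMap k₀ A)).obj (ModuleCat.of k₀ k₀)
  haveI := injective_coextend (A := k₀) (B := A) k₀
  let ev := ModuleCat.CoextendScalars.equiv (algebraMap k₀ A) (ModuleCat.of k₀ k₀)
  letI := Ideal.Quotient.field (maximalIdeal A)
  obtain ⟨ψ, hψ⟩ : ∃ ψ : (A ⧸ maximalIdeal A) →ₗ[k₀] k₀, ψ 1 ≠ 0 :=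
    not_forall.1 fun h => one_ne_zero ((Module.forall_dual_apply_eq_zero_iff k₀ (1 : A ⧸ maximalIdeal A)).1
      fun φ => h φ)
  let G : (A ⧸ maximalIdeal A) →ₗ[k₀] ((A ⧸ maximalIdeal A) →ₗ[k₀] k₀) :=
    (LinearMap.mul k₀ (A ⧸ maximalIdeal A)).compr₂ ψ
  have hGinj : Function.Injective G := by
    rw [injective_iff_map_eq_zero]
    intro x hx
    by_contra h0
    have := LinearMap.congr_fun hx x⁻¹
    exact hψ (by simpa [G, mul_inv_cancel₀ h0] using this)
  have hGsurj : Function.Surjective G :=
    (LinearMap.injective_iff_surjective_of_finrank_eq_finrank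
      (Subspace.dual_finrank_eq (K := k₀) (V := A ⧸ maximalIdeal A)).symm).1 hGinj
  let mkA : (ModuleCat.restrictScalars (algebraMap k₀ A)).obj (ModuleCat.of A A) →ₗ[k₀] k₀ :=
    { toFun := fun b : A => ψ (Ideal.Quotient.mk _ b)
      map_add' := fun x y : A => by
        show ψ (Ideal.Quotient.mk _ (x + y)) = _
        rw [map_add, map_add]
      map_smul' := fun r (x : A) => by
        show ψ (Ideal.Quotient.mk _ (algebraMap k₀ A r * x)) = r • ψ (Ideal.Quotient.mk _ x)
        rw [← map_smul ψ, map_mul, Algebra.smul_def]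
        rfl }
  let e : T := ev.symm mkA
  have hemem : ∀ a ∈ maximalIdeal A, a • e = 0 := fun a ha => by
    apply ev.injective
    rw [map_smul, map_zero]
    refine LinearMap.ext fun x : A => ?_
    rw [ModuleCat.CoextendScalars.smul_apply']
    show ψ (Ideal.Quotient.mk _ (x * a)) = (0 : k₀)
    rw [map_mul, Ideal.Quotient.eq_zero_iff_mem.2 ha, mul_zero, map_zero]
  have heJ : e ∈ (⨆ n : ℕ, Submodule.torsionBySet A T ((maximalIdeal A ^ n : Ideal A) : Set A)) :=
    (mem_iSup_torsionBySet _ _).2 ⟨1, fun a ha => hemem a (by simpa using ha)⟩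
  refine isInjectiveHull_of_socle (injective_torsion _) (fun x => ?_) ⟨e, heJ⟩ (fun h => hψ ?_) ?_
    fun x hx => ?_
  · obtain ⟨k, hk⟩ := (mem_iSup_torsionBySet _ _).1 x.2
    exact ⟨k, fun a ha => Subtype.ext (hk a ha)⟩
  · have h1 := congrArg (fun t : T => ev t (1 : A)) (congrArg Subtype.val h)
    simpa [e, mkA] using h1
  · rw [Submodule.mem_torsionBySet_iff]
    exact fun a => Subtype.ext (hemem a a.2)
  · let z := (x : T)
    have hz : ∀ a ∈ maximalIdeal A, a • z = 0 := fun a ha =>
      congrArg Subtype.val ((Submodule.mem_torsionBySet_iff _ _).1 hx ⟨a, ha⟩)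
    let z' : A →ₗ[k₀] k₀ :=
      { toFun := fun b => ev z b
        map_add' := fun p q => (ev z).map_add p q
        map_smul' := fun r p => by
          rw [Algebra.smul_def]; exact (ev z).map_smul r p }
    have hz' : ((maximalIdeal A).restrictScalars k₀) ≤ LinearMap.ker z' := fun b hb => by
      have h2 := congrArg (fun t : T => ev t (1 : A)) (hz b hb)
      have h3 : ev (b • z) (1 : A) = ev z ((1 : A) * b : A) := by rw [map_smul]; rfl
      rw [one_mul] at h3
      simp only [map_zero] at h2
      exact h3.symm.trans h2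
    let χ : (A ⧸ maximalIdeal A) →ₗ[k₀] k₀ := ((maximalIdeal A).restrictScalars k₀).liftQ z' hz' ∘ₗ
      (Submodule.Quotient.restrictScalarsEquiv k₀ (maximalIdeal A)).symm.toLinearMap
    obtain ⟨y, hy⟩ := hGsurj χ
    obtain ⟨c, rfl⟩ := Ideal.Quotient.mk_surjective y
    refine Submodule.mem_span_singleton.2 ⟨c, Subtype.ext (ev.injective ?_)⟩
    show ev (c • e) = ev z
    rw [map_smul]
    refine LinearMap.ext fun b : A => ?_
    rw [ModuleCat.CoextendScalars.smul_apply']
    have := LinearMap.congr_fun hy (Ideal.Quotient.mk _ b)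
    show ψ (Ideal.Quotient.mk _ (b * c)) = z' b
    rw [map_mul, mul_comm]
    exact this

theorem isArtinian_hull_maximal {R : Type u} [CommRing R] [IsNoetherianRing R] (m : Ideal R)
    [m.IsMaximal] {E : Type u} [AddCommGroup E] [Module R E] (f : (R ⧸ m) →ₗ[R] E)
    (hf : IsInjectiveHull f) : IsArtinian R E := by
  have hM : LocCoh.IsPowerTorsion m (R ⧸ m) := fun x => ⟨1, fun a ha => by
    obtain ⟨y, rfl⟩ := Submodule.mkQ_surjective m x
    rw [← map_smul, Submodule.mkQ_apply, Submodule.Quotient.mk_eq_zero]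
    exact Ideal.mul_mem_right _ _ (by simpa using ha)⟩
  refine isArtinian_of_isArtinian_torsionBy m (IsNoetherian.noetherian m)
    (isPowerTorsion_of_isEssentialInj m hM hf.toIsEssentialInj) ?_
  have hsoc : LocCoh.torsionBy m E ≤ LinearMap.range f := fun x hx => by
    by_cases h0 : x = 0
    · rw [h0]; exact Submodule.zero_mem _
    obtain ⟨r, hr, hr0⟩ := (isEssentialInj_iff.1 hf.toIsEssentialInj).2 x h0
    have hkill : ∀ a ∈ m, a • x = 0 := fun a ha => (Submodule.mem_torsionBySet_iff _ _).1 hx ⟨a, ha⟩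
    obtain ⟨b, c, hc, hbc⟩ := ‹m.IsMaximal›.exists_inv (fun h => hr0 (hkill r h))
    rw [← one_smul R x, ← hbc, add_smul, mul_smul, hkill c hc, add_zero]
    exact Submodule.smul_mem _ b hr
  have : IsSimpleModule R (R ⧸ m) := isSimpleModule_iff_isCoatom.2 ‹m.IsMaximal›.1
  have : IsSimpleModule R ((R ⧸ m) ⧸ (⊥ : Submodule R (R ⧸ m))) :=
    IsSimpleModule.congr (Submodule.quotEquivOfEqBot _ rfl)
  have : IsArtinian R (R ⧸ m) := (isFiniteLength_iff_isNoetherian_isArtinian.1
    (IsFiniteLength.of_simple_quotient (N := (⊥ : Submodule R (R ⧸ m))) .of_subsingleton)).2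
  have : IsArtinian R (LinearMap.range f) :=
    isArtinian_of_linearEquiv (LinearEquiv.ofInjective f hf.injective)
  exact isArtinian_of_injective (Submodule.inclusion hsoc) (Submodule.inclusion_injective hsoc)

end Groth.Agent.LC
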