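import Groth.Agent.LC.GorRing
import Groth.Agent.LC.MatlisExtra
import Groth.Agent.S2498

/-!
# Injective hulls of residue fields along flat local maps with artinian Gorenstein closed fibre
-/

set_option autoImplicit false

universe u

open IsLocalRing TensorProduct InjHull

namespace Groth.Agent.LC

variable {R : Type u} [CommRing R]

/-- `Hom(R/I, E) ≅ E[I]`. -/
noncomputable def quotHomTorsion (I : Ideal R) (E : Type u) [AddCommGroup E] [Module R E] :
    ((R ⧸ I) →ₗ[R] E) ≃ₗ[R] LocCoh.torsionBy I E where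
  toFun φ := ⟨φ (Submodule.Quotient.mk 1), (Submodule.mem_torsionBySet_iff _ _).2 fun a => by
    show (a : R) • φ (Submodule.Quotient.mk 1) = 0
    rw [← map_smul, ← Submodule.Quotient.mk_smul, smul_eq_mul, mul_one,
      (Submodule.Quotient.mk_eq_zero I).2 a.2, map_zero]⟩
  map_add' _ _ := rfl
  map_smul' _ _ := rfl
  invFun x := I.liftQ (LinearMap.toSpanSingleton R E x) fun a ha =>
    (Submodule.mem_torsionBySet_iff _ _).1 x.2 ⟨a, ha⟩
  left_inv φ := Submodule.linearMap_qext I (LinearMap.ext_ring (by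
    exact liftQ_toSpanSingleton_one I (φ (Submodule.Quotient.mk 1)) (fun a ha => by
      show a • φ (Submodule.Quotient.mk 1) = 0
      rw [← map_smul, ← Submodule.Quotient.mk_smul, smul_eq_mul, mul_one, (Submodule.Quotient.mk_eq_zero I).2 ha, map_zero])))
  right_inv x := Subtype.ext (liftQ_toSpanSingleton_one _ _ _)

variable (A B : Type u) [CommRing A] [CommRing B] [Algebra A B]

theorem smul_eq_zero_of_map {T : Type u} [AddCommGroup T] [Module B T] [Module A T] [IsScalarTower A B T]
    (I : Ideal A) {z : T} (h : ∀ a ∈ I, a • z = 0) {b : B} (hb : b ∈ I.map (algebraMap A B)) : b • z = 0 := by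
  induction hb using Submodule.span_induction with
  | mem x hx =>
    obtain ⟨a, ha, rfl⟩ := hx
    rw [algebraMap_smul]; exact h a ha
  | zero => exact zero_smul _ _
  | add x y _ _ hx hy => rw [add_smul, hx, hy, add_zero]
  | smul c x _ hx => rw [smul_assoc, hx, smul_zero]

variable [IsNoetherianRing A] [Module.Flat A B] (E : Type u) [AddCommGroup E] [Module A E]

/-- Elements of `B ⊗ E` killed by `I` come from `B ⊗ E[I]`. -/
theorem exists_of_killed (I : Ideal A) {z : B ⊗[A] E} (h : ∀ a ∈ I, a • z = 0) :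
    ∃ y, AlgebraTensorModule.lTensor B B (LocCoh.torsionBy I E).subtype y = z := by
  obtain ⟨n, g, hg⟩ := Submodule.fg_iff_exists_fin_generating_family.1 (IsNoetherian.noetherian I)
  let μ : E →ₗ[A] (Fin n → E) := LinearMap.pi fun i => LinearMap.lsmul A E (g i)
  have hex : Function.Exact (LocCoh.torsionBy I E).subtype μ := by
    intro x
    constructor
    · intro hx
      refine ⟨⟨x, (Submodule.mem_torsionBySet_iff _ _).2 ?_⟩, rfl⟩
      rintro ⟨a, ha⟩
      show a • x = 0
      have ha' : a ∈ I := ha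
      rw [← hg] at ha'
      induction ha' using Submodule.span_induction with
      | mem y hy => obtain ⟨i, rfl⟩ := hy; exact congrFun hx i
      | zero => exact zero_smul _ _
      | add y w _ _ hy hw => rw [add_smul, hy (hg ▸ by assumption), hw (hg ▸ by assumption), add_zero]
      | smul c y _ hy => rw [smul_eq_mul, mul_smul, hy (hg ▸ by assumption), smul_zero]
    · rintro ⟨y, rfl⟩
      funext i
      exact (Submodule.mem_torsionBySet_iff _ _).1 y.2 ⟨g i, hg ▸ Submodule.subset_span ⟨i, rfl⟩⟩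
  have h0 : μ.lTensor B z = 0 := by
    refine (TensorProduct.piRight A A B fun _ : Fin n => E).injective ?_
    rw [map_zero]
    funext i
    have hnat : ∀ w : B ⊗[A] E, TensorProduct.piRight A A B (fun _ : Fin n => E) (μ.lTensor B w) i = g i • w := by
      intro w
      induction w using TensorProduct.induction_on with
      | zero => simp
      | tmul b e =>
        rw [LinearMap.lTensor_tmul, TensorProduct.piRight_apply, TensorProduct.piRightHom_tmul,
          ← TensorProduct.tmul_smul]
        rfl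
      | add x y hx hy => simp only [map_add, Pi.add_apply, hx, hy, smul_add]
    rw [hnat]
    exact h _ (hg ▸ Submodule.subset_span ⟨i, rfl⟩)
  exact (Module.Flat.lTensor_exact B hex z).1 h0

variable [IsLocalRing A] [IsLocalRing B] [IsNoetherianRing B] [IsLocalHom (algebraMap A B)]

theorem exists_hull_baseChange
    [IsLocalRing (B ⧸ (maximalIdeal A).map (algebraMap A B))]
    [LocCoh.IsGorensteinLocalRing (B ⧸ (maximalIdeal A).map (algebraMap A B))]
    [IsArtinianRing (B ⧸ (maximalIdeal A).map (algebraMap A B))]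
    {f : ResidueField A →ₗ[A] E} (hf : IsInjectiveHull f) :
    ∃ g : ResidueField B →ₗ[B] B ⊗[A] E, IsInjectiveHull g := by
  set J := (maximalIdeal A).map (algebraMap A B) with hJ
  have hm : ∀ b : B, Ideal.Quotient.mk J b ∈ maximalIdeal (B ⧸ J) ↔ b ∈ maximalIdeal B := by
    intro b
    simp only [mem_maximalIdeal, mem_nonunits_iff]
    haveI := IsLocalHom.of_surjective (Ideal.Quotient.mk J) Ideal.Quotient.mk_surjective
    exact ⟨fun h hu => h (hu.map _), fun h hu => h (isUnit_of_map_unit _ _ hu)⟩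
  -- a socle generator of the fibre
  obtain ⟨N₁, hN₁⟩ := (isArtinianRing_iff_isNilpotent_maximalIdeal (B ⧸ J)).1 inferInstance
  obtain ⟨t, ht, hmt⟩ : ∃ t : B ⧸ J, t ≠ 0 ∧ ∀ r ∈ maximalIdeal (B ⧸ J), r * t = 0 := by
    rcases exists_regular_or_socle (B ⧸ J) with ⟨y, hy, hyreg⟩ | h
    · exfalso
      have h1 : y ^ N₁ ∈ maximalIdeal (B ⧸ J) ^ N₁ := Ideal.pow_mem_pow hy N₁
      rw [hN₁] at h1
      have h2 : IsSMulRegular (B ⧸ J) (y ^ N₁) := hyreg.pow N₁
      rw [show y ^ N₁ = 0 from h1] at h2
      exact one_ne_zero (h2 (by simp : (0 : B ⧸ J) • (1 : B ⧸ J) = (0 : B ⧸ J) • 0))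
    · exact h
  obtain ⟨-, hsocF⟩ := socle_of_gorenstein ht hmt
  obtain ⟨t, rfl⟩ := Ideal.Quotient.mk_surjective t
  have hpow : maximalIdeal B ^ N₁ ≤ J := by
    intro b hb
    have h1 : Ideal.Quotient.mk J b ∈ maximalIdeal (B ⧸ J) ^ N₁ := by
      rw [← map_maximalIdeal_of_surjective (Ideal.Quotient.mk J) Ideal.Quotient.mk_surjective, ← Ideal.map_pow]
      exact Ideal.mem_map_of_mem _ hb
    rw [hN₁] at h1
    exact Ideal.Quotient.eq_zero_iff_mem.1 h1
  let e₁ : E := f 1
  have he₁ : e₁ ≠ 0 := hull_f_one_ne_zero hf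
  have hme₁ : ∀ r ∈ maximalIdeal A, r • e₁ = 0 := fun r hr => by
    show r • f 1 = 0
    rw [← map_smul, smul_residueField_eq_zero hr, map_zero]
  have hJe₁ : ∀ b ∈ J, ∀ c : B, b • (c ⊗ₜ[A] e₁) = 0 := fun b hb c =>
    smul_eq_zero_of_map A B (T := B ⊗[A] E) (maximalIdeal A) (fun a ha => by
      rw [← TensorProduct.tmul_smul, hme₁ a ha, TensorProduct.tmul_zero]) hb
  let w : B ⊗[A] E := t ⊗ₜ[A] e₁
  have hw : w ≠ 0 := fun h =>
    ht (Ideal.Quotient.eq_zero_iff_mem.2 (mem_map_of_tmul_eq_zero he₁ hme₁ h))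
  have hwsoc : ∀ b ∈ maximalIdeal B, b • w = 0 := fun b hb => by
    have h1 : b * t ∈ J := Ideal.Quotient.eq_zero_iff_mem.1 ((map_mul _ _ _).trans (hmt _ ((hm b).2 hb)))
    show b • (t ⊗ₜ[A] e₁) = 0
    rw [show b • (t ⊗ₜ[A] e₁) = (b * t) • ((1 : B) ⊗ₜ[A] e₁) from by
      rw [TensorProduct.smul_tmul', TensorProduct.smul_tmul', smul_eq_mul, smul_eq_mul, mul_one]]
    exact hJe₁ _ h1 1
  have hsocle : ∀ z : B ⊗[A] E, (∀ b ∈ maximalIdeal B, b • z = 0) → ∃ c : B, z = c • w := by
    intro z hz
    obtain ⟨y, rfl⟩ := exists_of_killed A B E (maximalIdeal A) (z := z) fun a ha => by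
      rw [← algebraMap_smul B a z]; exact hz _ (map_nonunit (algebraMap A B) a ha)
    obtain ⟨b, hb⟩ : ∃ b : B, AlgebraTensorModule.lTensor B B (LocCoh.torsionBy (maximalIdeal A) E).subtype y =
        b ⊗ₜ[A] e₁ := by
      clear hz
      induction y using TensorProduct.induction_on with
      | zero => exact ⟨0, by simp⟩
      | tmul b x =>
        have hx : x.1 ∈ LinearMap.range f := by rw [← hull_socle hf]; exact x.2
        obtain ⟨r, hr⟩ := hx
        obtain ⟨a, rfl⟩ := exists_smul_eq r
        refine ⟨a • b, ?_⟩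
        show b ⊗ₜ[A] x.1 = (a • b) ⊗ₜ[A] e₁
        rw [← hr, map_smul, TensorProduct.smul_tmul]
      | add p q hp hq =>
        obtain ⟨b, hb⟩ := hp
        obtain ⟨c, hc⟩ := hq
        exact ⟨b + c, by rw [map_add, hb, hc, TensorProduct.add_tmul]⟩
    rw [hb] at hz ⊢
    obtain ⟨c, hc⟩ := hsocF (Ideal.Quotient.mk J b) fun r hr => by
      obtain ⟨d, rfl⟩ := Ideal.Quotient.mk_surjective r
      rw [← map_mul, Ideal.Quotient.eq_zero_iff_mem]
      refine mem_map_of_tmul_eq_zero he₁ hme₁ ?_
      have := hz d ((hm d).1 hr)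
      rwa [TensorProduct.smul_tmul', smul_eq_mul] at this
    obtain ⟨c, rfl⟩ := Ideal.Quotient.mk_surjective c
    rw [← map_mul, Ideal.Quotient.eq] at hc
    refine ⟨c, ?_⟩
    rw [show c • w = (c * t) ⊗ₜ[A] e₁ from by rw [TensorProduct.smul_tmul', smul_eq_mul], ← sub_eq_zero,
      ← TensorProduct.sub_tmul, show (b - c * t) ⊗ₜ[A] e₁ = (b - c * t) • ((1 : B) ⊗ₜ[A] e₁) from by
        rw [TensorProduct.smul_tmul', smul_eq_mul, mul_one]]
    exact hJe₁ _ hc 1
  have htors : LocCoh.IsPowerTorsion (maximalIdeal B) (B ⊗[A] E) := by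
    intro z
    induction z using TensorProduct.induction_on with
    | zero => exact ⟨0, fun a _ => smul_zero a⟩
    | tmul b e =>
      obtain ⟨k, hk⟩ := hull_isPowerTorsion hf e
      refine ⟨N₁ * k, fun a ha => smul_eq_zero_of_map A B (T := B ⊗[A] E) (maximalIdeal A ^ k) (fun r hr => by
        rw [← TensorProduct.tmul_smul, hk r hr, TensorProduct.tmul_zero]) ?_⟩
      rw [Ideal.map_pow, ← hJ]
      exact Ideal.pow_right_mono hpow k (by rwa [← pow_mul])
    | add p q hp hq =>
      obtain ⟨k, hk⟩ := hp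
      obtain ⟨l, hl⟩ := hq
      exact ⟨k + l, fun a ha => by rw [smul_add, hk a (Ideal.pow_le_pow_right (by omega) ha),
        hl a (Ideal.pow_le_pow_right (by omega) ha), add_zero]⟩
  -- compare with the hull
  obtain ⟨E', _, _, f', hf'⟩ := exists_injectiveHull B (ResidueField B)
  haveI := hf'.isInjective
  let ι : ResidueField B →ₗ[B] B ⊗[A] E :=
    (maximalIdeal B).liftQ (LinearMap.toSpanSingleton B _ w) fun b hb => hwsoc b hb
  have hι : Function.Injective ι := by
    rw [injective_iff_map_eq_zero]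
    intro c hc
    obtain ⟨c, rfl⟩ := residue_surjective c
    rw [residue_eq_zero_iff]
    by_contra hcu
    exact hw ((notMem_maximalIdeal.1 hcu).smul_eq_zero.1 hc)
  obtain ⟨φ, hφ⟩ := exists_extension ι hι f'
  have hφw : φ w ≠ 0 := by
    have h1 : φ (ι 1) = f' 1 := LinearMap.congr_fun hφ 1
    rw [show ι 1 = (1 : B) • w from rfl, one_smul] at h1
    rw [h1]; exact hull_f_one_ne_zero hf'
  have hφi : Function.Injective φ := by
    rw [injective_iff_map_eq_zero]
    intro z hz
    by_contra hz0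
    obtain ⟨r, hr0, hr⟩ := exists_socle_multiple (maximalIdeal B) htors hz0
    rw [Submodule.mem_torsionBySet_iff] at hr
    obtain ⟨c, hc⟩ := hsocle (r • z) fun b hb => hr ⟨b, hb⟩
    have hcu : IsUnit c := by
      by_contra hcu
      exact hr0 (hc.trans (hwsoc c ((mem_maximalIdeal c).2 hcu)))
    refine hφw (hcu.smul_eq_zero.1 ?_)
    rw [← map_smul, ← hc, map_smul, hz, smul_zero]
  have hφs : Function.Surjective φ := by
    intro x
    obtain ⟨k, hk⟩ := hull_isPowerTorsion hf' x
    let 𝔞 := maximalIdeal A ^ k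
    let I := 𝔞.map (algebraMap A B)
    have hxI : x ∈ LocCoh.torsionBy I E' := (Submodule.mem_torsionBySet_iff _ _).2 fun b => by
      refine hk _ ?_
      have hb : (b : B) ∈ (maximalIdeal A ^ k).map (algebraMap A B) := b.2
      rw [Ideal.map_pow] at hb
      exact Ideal.pow_right_mono (IsLocalRing.map_maximalIdeal_le (algebraMap A B)) k hb
    let L := AlgebraTensorModule.lTensor B B (LocCoh.torsionBy 𝔞 E).subtype
    have hLi : Function.Injective L :=
      Module.Flat.lTensor_preserves_injective_linearMap (M := B) _ (LocCoh.torsionBy 𝔞 E).subtype_injective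
    have hLmem : ∀ y, φ (L y) ∈ LocCoh.torsionBy I E' := fun y =>
      (Submodule.mem_torsionBySet_iff _ _).2 fun b => by
        show (b : B) • φ (L y) = 0
        rw [← map_smul, ← map_smul]
        rw [show (b : B) • y = 0 from smul_eq_zero_of_map A B (T := B ⊗[A] LocCoh.torsionBy 𝔞 E) (z := y) 𝔞 (fun a ha => by
          induction y using TensorProduct.induction_on with
          | zero => exact smul_zero a
          | tmul c u =>
            rw [← TensorProduct.tmul_smul, show a • u = 0 from Subtype.ext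
              ((Submodule.mem_torsionBySet_iff _ _).1 u.2 ⟨a, ha⟩), TensorProduct.tmul_zero]
          | add p q hp hq => rw [smul_add, hp, hq, add_zero]) b.2, map_zero, map_zero]
    let ψ : B ⊗[A] LocCoh.torsionBy 𝔞 E →ₗ[B] LocCoh.torsionBy I E' := (φ ∘ₗ L).codRestrict _ hLmem
    have hψi : Function.Injective ψ := fun p q h => hLi (hφi (congrArg Subtype.val h))
    haveI : Module.FaithfullyFlat A B := Module.FaithfullyFlat.of_flat_of_isLocalHom
    have hF : IsFiniteLength B (B ⧸ (J • (⊤ : Submodule B B))) := by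
      rw [← Module.length_ne_top_iff,
        (Submodule.quotEquivOfEq (J • (⊤ : Submodule B B)) J (by rw [smul_eq_mul, Ideal.mul_top])).length_eq,
        Module.length_eq_of_surjective (R := B ⧸ J) (S := B) Ideal.Quotient.mk_surjective]
      exact Module.length_ne_top
    have h1 := Groth.Agent.S2498.result (A := A) (B := B) (LocCoh.torsionBy 𝔞 E) B hF
    have h2 := Groth.Agent.S2498.result (A := A) (B := B) (A ⧸ 𝔞) B hF
    have hlenA : Module.length A (LocCoh.torsionBy 𝔞 E) = Module.length A (A ⧸ 𝔞) :=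
      (quotHomTorsion 𝔞 E).length_eq.symm.trans (length_dual hf _ (isFiniteLength_quot_pow k))
    let eq₁ : (B ⊗[A] (A ⧸ 𝔞)) ≃ₗ[B] B ⧸ I :=
      (Algebra.TensorProduct.quotIdealMapEquivTensorQuot B 𝔞).toLinearEquiv.symm
    rw [eq₁.length_eq] at h2
    rw [hlenA, ← h2] at h1
    have hfinI : IsFiniteLength B (B ⧸ I) := by
      rw [← Module.length_ne_top_iff, h2]
      exact WithTop.mul_ne_top (Module.length_ne_top_iff.2 (isFiniteLength_quot_pow k))
        (Module.length_ne_top_iff.2 hF)
    have h3 : Module.length B (LocCoh.torsionBy I E') = Module.length B (B ⧸ I) :=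
      (quotHomTorsion I E').length_eq.symm.trans (length_dual hf' _ hfinI)
    obtain ⟨_, _⟩ := isFiniteLength_iff_isNoetherian_isArtinian.1
      (Module.length_ne_top_iff.1 (h3 ▸ Module.length_ne_top_iff.2 hfinI : Module.length B (LocCoh.torsionBy I E') ≠ ⊤))
    have hψs : LinearMap.range ψ = ⊤ := by
      by_contra hne
      have hlt := Submodule.length_lt hne
      rw [← (LinearEquiv.ofInjective ψ hψi).length_eq, h1, h3] at hlt
      exact lt_irrefl _ hlt
    obtain ⟨y, hy⟩ := LinearMap.range_eq_top.1 hψs ⟨x, hxI⟩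
    exact ⟨L y, congrArg Subtype.val hy⟩
  let e := (LinearEquiv.ofBijective φ ⟨hφi, hφs⟩).symm
  exact ⟨_, ⟨isEssentialInj_comp hf'.toIsEssentialInj (isEssentialInj_linearEquiv e), injective_of_linearEquiv e⟩⟩

theorem exists_hull_baseChange_of_gorenstein
    (hG : LocCoh.IsGorensteinLocalRing (B ⧸ (maximalIdeal A).map (algebraMap A B)))
    (hArt : IsArtinianRing (B ⧸ (maximalIdeal A).map (algebraMap A B)))
    {f : ResidueField A →ₗ[A] E} (hf : IsInjectiveHull f) :
    ∃ g : ResidueField B →ₗ[B] B ⊗[A] E, IsInjectiveHull g := by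
  haveI := hG
  haveI := hArt
  exact exists_hull_baseChange A B E hf

end Groth.Agent.LC

namespace Groth.Agent.LC

open IsLocalRing InjHull

theorem gorenstein_of_isField {K : Type u} [CommRing K] [IsLocalRing K] [IsNoetherianRing K]
    (h : maximalIdeal K = ⊥) : LocCoh.IsGorensteinLocalRing K := by
  refine gorenstein_of_socle (s := 1) ⟨1, by rw [h, pow_one]; rfl⟩ one_ne_zero ?_ fun t _ => ⟨t, (mul_one t).symm⟩
  intro r hr
  rw [h] at hr
  rw [show r = 0 from hr, zero_mul]

theorem exists_hull_baseChange_unramified (A B : Type u) [CommRing A] [CommRing B] [Algebra A B]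
    [IsNoetherianRing A] [Module.Flat A B] [IsLocalRing A] [IsLocalRing B] [IsNoetherianRing B]
    [IsLocalHom (algebraMap A B)] (hm : (maximalIdeal A).map (algebraMap A B) = maximalIdeal B)
    (E : Type u) [AddCommGroup E] [Module A E] {f : ResidueField A →ₗ[A] E} (hf : IsInjectiveHull f) :
    ∃ g : ResidueField B →ₗ[B] TensorProduct A B E, IsInjectiveHull g := by
  haveI : IsLocalRing (B ⧸ (maximalIdeal A).map (algebraMap A B)) := by
    have : Nontrivial (B ⧸ (maximalIdeal A).map (algebraMap A B)) := Ideal.Quotient.nontrivial_iff.2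
      (by rw [hm]; exact (maximalIdeal.isMaximal B).ne_top)
    exact .of_surjective' _ Ideal.Quotient.mk_surjective
  have h0 : maximalIdeal (B ⧸ (maximalIdeal A).map (algebraMap A B)) = ⊥ := by
    rw [← map_maximalIdeal_of_surjective (Ideal.Quotient.mk _) Ideal.Quotient.mk_surjective, ← hm,
      Ideal.map_quotient_self]
  exact exists_hull_baseChange_of_gorenstein A B E (gorenstein_of_isField h0)
    ((isArtinianRing_iff_isNilpotent_maximalIdeal _).2 ⟨1, by rw [h0, pow_one]; rfl⟩) hf

theorem exists_hull_of_restrict (R S : Type u) [CommRing R] [CommRing S] [IsLocalRing R] [IsLocalRing S]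
    [IsNoetherianRing R] [IsNoetherianRing S] [Algebra R S] [IsLocalHom (algebraMap R S)] [Module.Flat R S]
    (hm : (maximalIdeal R).map (algebraMap R S) = maximalIdeal S)
    (hk : Function.Bijective (ResidueField.map (algebraMap R S)))
    (E : Type u) [AddCommGroup E] [Module S E] [Module R E] [IsScalarTower R S E]
    (f : ResidueField S →ₗ[S] E) (hf : IsInjectiveHull f) :
    ∃ g : ResidueField R →ₗ[R] E, IsInjectiveHull g := by
  haveI := hf.isInjective
  have hmem : ∀ x : E, (∀ a ∈ maximalIdeal R, a • x = 0) → ∀ b ∈ maximalIdeal S, b • x = 0 :=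
    fun x hx b hb => smul_eq_zero_of_map R S (maximalIdeal R) hx (hm ▸ hb)
  refine isInjectiveHull_of_socle (injective_restrict_of_flat R (S := S) E) ?_ (f 1) (hull_f_one_ne_zero hf) ?_ ?_
  · intro x
    obtain ⟨n, hn⟩ := hull_isPowerTorsion hf x
    refine ⟨n, fun a ha => ?_⟩
    rw [← algebraMap_smul S a x]
    refine hn _ ?_
    rw [← hm, ← Ideal.map_pow]
    exact Ideal.mem_map_of_mem _ ha
  · rw [Submodule.mem_torsionBySet_iff]
    rintro ⟨a, ha⟩
    show a • f 1 = 0
    rw [← algebraMap_smul S a (f 1), ← map_smul, smul_residueField_eq_zero (map_nonunit _ a ha), map_zero]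
  · intro x hx
    rw [Submodule.mem_torsionBySet_iff] at hx
    have hx' : x ∈ LocCoh.torsionBy (maximalIdeal S) E := (Submodule.mem_torsionBySet_iff _ _).2
      fun b => hmem x (fun a ha => hx ⟨a, ha⟩) _ b.2
    rw [hull_socle hf] at hx'
    obtain ⟨c, rfl⟩ := hx'
    obtain ⟨c, rfl⟩ := hk.2 c
    obtain ⟨r, rfl⟩ := residue_surjective c
    refine Submodule.mem_span_singleton.2 ⟨r, ?_⟩
    rw [← algebraMap_smul S r (f 1), ← map_smul]
    congr 1
    rw [Algebra.smul_def, mul_one]
    rfl

end Groth.Agent.LC
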