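import Groth.Agent.LC.LiaisonRows
import Groth.Agent.LC.GorHullBC
import Groth.Agent.CotTLib.CI

/-!
# Gorenstein quotients by linked ideals
-/

set_option autoImplicit false

universe u

open CategoryTheory Limits IsLocalRing
open scoped Pointwise

namespace Groth.Agent.LC.Liaison

section Tools

variable {A : Type u} [CommRing A]

theorem H_map_zero (I : Ideal A) (i : ℕ) {M N : Type u} [AddCommGroup M] [Module A M] [AddCommGroup N]
    [Module A N] (z : (localCohomology I i).obj (ModuleCat.of A M)) :
    ((localCohomology I i).map (ModuleCat.ofHom (0 : M →ₗ[A] N))).hom z = 0 := by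
  obtain ⟨n, x, rfl⟩ := exists_toH I i z
  rw [toH_natural, ModuleCat.ofHom_zero, Abelian.Ext.mk₀_zero, Abelian.Ext.comp_zero, map_zero]

theorem H_map_add (I : Ideal A) (i : ℕ) {M N : Type u} [AddCommGroup M] [Module A M] [AddCommGroup N]
    [Module A N] (f g : M →ₗ[A] N) (z : (localCohomology I i).obj (ModuleCat.of A M)) :
    ((localCohomology I i).map (ModuleCat.ofHom (f + g))).hom z =
      ((localCohomology I i).map (ModuleCat.ofHom f)).hom z +
        ((localCohomology I i).map (ModuleCat.ofHom g)).hom z := by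
  obtain ⟨n, x, rfl⟩ := exists_toH I i z
  rw [toH_natural, toH_natural, toH_natural, ModuleCat.ofHom_add, Abelian.Ext.mk₀_add,
    Abelian.Ext.comp_add, map_add]

theorem H_map_comp (I : Ideal A) (i : ℕ) {M N L : Type u} [AddCommGroup M] [Module A M] [AddCommGroup N]
    [Module A N] [AddCommGroup L] [Module A L] (f : M →ₗ[A] N) (g : N →ₗ[A] L)
    (z : (localCohomology I i).obj (ModuleCat.of A M)) :
    ((localCohomology I i).map (ModuleCat.ofHom (g ∘ₗ f))).hom z =
      ((localCohomology I i).map (ModuleCat.ofHom g)).hom (((localCohomology I i).map (ModuleCat.ofHom f)).hom z) := by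
  rw [ModuleCat.ofHom_comp, Functor.map_comp]
  rfl

theorem H_map_sum (I : Ideal A) (i : ℕ) {M N : Type u} [AddCommGroup M] [Module A M] [AddCommGroup N]
    [Module A N] {ι : Type*} (s : Finset ι) (f : ι → (M →ₗ[A] N))
    (z : (localCohomology I i).obj (ModuleCat.of A M)) :
    ((localCohomology I i).map (ModuleCat.ofHom (∑ j ∈ s, f j))).hom z =
      ∑ j ∈ s, ((localCohomology I i).map (ModuleCat.ofHom (f j))).hom z := by
  classical
  induction s using Finset.induction with
  | empty => rw [Finset.sum_empty, Finset.sum_empty, H_map_zero]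
  | insert a s ha ih => rw [Finset.sum_insert ha, Finset.sum_insert ha, H_map_add, ih]

theorem H_map_smul_id (I : Ideal A) (i : ℕ) (c : A)
    (z : (localCohomology I i).obj (ModuleCat.of A A)) :
    ((localCohomology I i).map (ModuleCat.ofHom (LinearMap.toSpanSingleton A A c))).hom z = c • z := by
  have e : LinearMap.toSpanSingleton A A c = c • LinearMap.id :=
    LinearMap.ext fun a => show a * c = c * a from mul_comm _ _
  rw [e]
  show ((localCohomology I i).map (c • 𝟙 (ModuleCat.of A A))).hom z = _
  exact map_smul_id I i (ModuleCat.of A A) c z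

variable [IsNoetherianRing A]

theorem injective_H_map (I : Ideal A) (i : ℕ) {S : ShortComplex (ModuleCat.{u} A)} (hS : S.ShortExact)
    (h : ∀ j, j + 1 = i → Subsingleton ((localCohomology I j).obj S.X₃)) :
    Function.Injective ((localCohomology I i).map S.f).hom := by
  rw [injective_iff_map_eq_zero]
  intro z hz
  cases i with
  | zero =>
    apply (H0Equiv I S.X₁).injective
    rw [map_zero]
    apply Subtype.ext
    apply (ModuleCat.mono_iff_injective S.f).1 hS.mono_f
    rw [← H0Equiv_natural I S.f z, hz, map_zero]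
    exact (map_zero S.f.hom).symm
  | succ j =>
    obtain ⟨w, rfl⟩ := (exact₁ I j hS (j + 1) rfl z).1 hz
    rw [@Subsingleton.elim _ (h j rfl) w 0, map_zero]

/-- `I E = E[0 : I]` for injective `E`. -/
theorem smul_top_eq_torsion (I : Ideal A) (E : Type u) [AddCommGroup E] [Module A E] [Module.Injective A E] :
    I • (⊤ : Submodule A E) = LocCoh.torsionBy (Submodule.annihilator I) E := by
  refine le_antisymm (Submodule.smul_le.2 fun r hr e _ => (Submodule.mem_torsionBySet_iff _ _).2 fun a => ?_)
    fun e he => ?_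
  · rw [← mul_smul, show (a : A) * r = 0 from Submodule.mem_annihilator.1 a.2 r hr, zero_smul]
  · obtain ⟨n, g, hg⟩ := Submodule.fg_iff_exists_fin_generating_family.1 (IsNoetherian.noetherian I)
    let μ : A →ₗ[A] (Fin n → A) := LinearMap.pi fun i => LinearMap.toSpanSingleton A A (g i)
    have hker : LinearMap.ker μ ≤ LinearMap.ker (LinearMap.toSpanSingleton A E e) := by
      intro a ha
      refine (Submodule.mem_torsionBySet_iff _ _).1 he ⟨a, ?_⟩
      refine Submodule.mem_annihilator.2 fun r hr => ?_
      rw [← hg] at hr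
      induction hr using Submodule.span_induction with
      | mem r hr => obtain ⟨i, rfl⟩ := hr; exact congrFun ha i
      | zero => exact smul_zero a
      | add p q _ _ hp hq => rw [smul_add, hp, hq, add_zero]
      | smul c p _ hp => rw [smul_comm, hp, smul_zero]
    let ι : (A ⧸ LinearMap.ker μ) →ₗ[A] (Fin n → A) := (LinearMap.ker μ).liftQ μ le_rfl
    have hι : Function.Injective ι := by
      rw [← LinearMap.ker_eq_bot]
      exact Submodule.ker_liftQ_eq_bot _ _ _ le_rfl
    obtain ⟨h, hh⟩ := exists_extension ι hι ((LinearMap.ker μ).liftQ _ hker)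
    have e1 : h (μ 1) = e := by
      have := LinearMap.congr_fun hh (Submodule.Quotient.mk 1)
      rwa [LinearMap.comp_apply, Submodule.liftQ_apply, Submodule.liftQ_apply,
        LinearMap.toSpanSingleton_apply, one_smul] at this
    rw [← e1, show μ 1 = ∑ i, g i • (Pi.single i (1 : A) : Fin n → A) from funext fun j => by
      simp [μ, Finset.sum_apply, Pi.single_apply], map_sum]
    refine sum_mem fun i _ => ?_
    rw [map_smul]
    exact Submodule.smul_mem_smul (hg ▸ Submodule.subset_span ⟨i, rfl⟩) Submodule.mem_top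

variable [IsLocalRing A]

/-- The image of `H^e(I) → H^e(A)` is `I H^e(A)` in top degree. -/
theorem range_H_map_subtype (I : Ideal A) {e : ℕ} (he : ringKrullDim A ≤ e) :
    LinearMap.range ((localCohomology (maximalIdeal A) e).map (ModuleCat.ofHom I.subtype)).hom =
      I • (⊤ : Submodule A ((localCohomology (maximalIdeal A) e).obj (ModuleCat.of A A))) := by
  set m := maximalIdeal A
  refine le_antisymm ?_ (Submodule.smul_le.2 fun r hr z _ => ?_)
  · rintro _ ⟨x, rfl⟩
    obtain ⟨n, g, hg⟩ := Submodule.fg_iff_exists_fin_generating_family.1 (IsNoetherian.noetherian I)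
    have hgm : ∀ i, g i ∈ I := fun i => hg ▸ Submodule.subset_span ⟨i, rfl⟩
    let φ : (Fin n → A) →ₗ[A] I :=
      ∑ i, (LinearMap.toSpanSingleton A I ⟨g i, hgm i⟩) ∘ₗ LinearMap.proj i
    have hφ : Function.Surjective φ := by
      rintro ⟨r, hr⟩
      have hr' : r ∈ Submodule.span A (Set.range g) := hg.symm ▸ hr
      obtain ⟨c, hc⟩ := (Submodule.mem_span_range_iff_exists_fun A).1 hr'
      exact ⟨c, Subtype.ext (by simpa [φ, LinearMap.sum_apply] using hc)⟩
    have hlt : Module.supportDim A (LinearMap.ker φ) < ((e + 1 : ℕ) : WithBot ℕ∞) :=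
      ((Module.supportDim_le_ringKrullDim A _).trans he).trans_lt (by exact_mod_cast Nat.lt_succ_self e)
    obtain ⟨y, rfl⟩ := surjective_H_map_of_supportDim_lt m φ hφ e hlt x
    rw [show φ = ∑ i, (LinearMap.toSpanSingleton A I ⟨g i, hgm i⟩) ∘ₗ LinearMap.proj i from rfl, H_map_sum,
      map_sum]
    refine sum_mem fun i _ => ?_
    rw [← H_map_comp, ← LinearMap.comp_assoc,
      show I.subtype ∘ₗ LinearMap.toSpanSingleton A I ⟨g i, hgm i⟩ = LinearMap.toSpanSingleton A A (g i) from
        LinearMap.ext fun a => rfl, H_map_comp, H_map_smul_id]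
    exact Submodule.smul_mem_smul (hgm i) Submodule.mem_top
  · refine ⟨((localCohomology m e).map (ModuleCat.ofHom (LinearMap.toSpanSingleton A I ⟨r, hr⟩))).hom z, ?_⟩
    rw [← H_map_comp, show I.subtype ∘ₗ LinearMap.toSpanSingleton A I ⟨r, hr⟩ = LinearMap.toSpanSingleton A A r from
      LinearMap.ext fun a => rfl, H_map_smul_id]

/-- A quotient whose only cohomology is the torsion `E[j]` of the hull is Gorenstein. -/
theorem gorenstein_quot_of_H [LocCoh.IsGorensteinLocalRing A] {e : ℕ} (he : ringKrullDim A = e)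
    (j : Ideal A) [IsLocalRing (A ⧸ j)] (e' : ℕ)
    (hv : ∀ i, i ≠ e' → Subsingleton ((localCohomology (maximalIdeal A) i).obj (ModuleCat.of A (A ⧸ j))))
    (δ : (localCohomology (maximalIdeal A) e').obj (ModuleCat.of A (A ⧸ j)) →ₗ[A]
      (localCohomology (maximalIdeal A) e).obj (ModuleCat.of A A)) (hinj : Function.Injective δ)
    (hrange : LinearMap.range δ = LocCoh.torsionBy j _) :
    LocCoh.IsGorensteinLocalRing (A ⧸ j) := by
  let B := A ⧸ j
  have hσ : Function.Surjective (algebraMap A B) := Ideal.Quotient.mk_surjective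
  haveI hE : Module.Injective A ((localCohomology (maximalIdeal A) e).obj (ModuleCat.of A A)) := by
    obtain ⟨g, hg⟩ := isInjectiveHull_H_gorenstein (R := A) he
    exact hg.isInjective
  have hTB : ∀ i, ∃ φ : (localCohomology (maximalIdeal B) i).obj (ModuleCat.of B B) ≃+
      (localCohomology (maximalIdeal A) i).obj (ModuleCat.of A B), ∀ a t, φ (algebraMap A B a • t) = a • φ t := by
    intro i
    have h := exists_indep (R := A) (R' := B) (maximalIdeal A) i B
    rw [map_maximalIdeal_of_surjective (algebraMap A B) hσ] at h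
    exact h
  refine gorenstein_iff_H.2 ⟨e', fun i hi => ?_, ?_⟩
  · obtain ⟨φ, -⟩ := hTB i
    exact @Function.Injective.subsingleton _ _ φ φ.injective (hv i hi)
  · obtain ⟨φ, hφ⟩ := hTB e'
    refine Module.Baer.injective fun J g => ?_
    let g' : Ideal.comap (algebraMap A B) J →ₗ[A] (localCohomology (maximalIdeal A) e).obj (ModuleCat.of A A) :=
      { toFun := fun a => δ (φ (g ⟨algebraMap A B a.1, a.2⟩))
        map_add' := fun a b => by
          rw [← map_add, ← map_add, ← map_add]
          exact congrArg δ (congrArg φ (congrArg g (Subtype.ext (map_add (algebraMap A B) a.1 b.1))))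
        map_smul' := fun r a => by
          rw [RingHom.id_apply, ← map_smul δ, ← hφ, ← map_smul g]
          exact congrArg δ (congrArg φ (congrArg g (Subtype.ext (map_mul (algebraMap A B) r a.1)))) }
    obtain ⟨h, hh⟩ := Module.Baer.of_injective hE (Ideal.comap (algebraMap A B) J) g'
    have h1 : h 1 ∈ LinearMap.range δ := by
      rw [hrange, Submodule.mem_torsionBySet_iff]
      rintro ⟨a, ha⟩
      show a • h 1 = 0
      have ha0 : algebraMap A B a = 0 := Ideal.Quotient.eq_zero_iff_mem.2 ha
      have hmem : a ∈ Ideal.comap (algebraMap A B) J := by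
        rw [Ideal.mem_comap, ha0]; exact J.zero_mem
      rw [← map_smul, smul_eq_mul, mul_one, hh a hmem]
      show δ (φ (g ⟨algebraMap A B a, _⟩)) = 0
      rw [show (⟨algebraMap A B a, hmem⟩ : J) = 0 from Subtype.ext ha0, map_zero, map_zero, map_zero]
    obtain ⟨t, ht⟩ := h1
    refine ⟨LinearMap.toSpanSingleton B _ (φ.symm t), fun b hb => ?_⟩
    obtain ⟨a, rfl⟩ := hσ b
    refine φ.injective (hinj ?_)
    rw [LinearMap.toSpanSingleton_apply, hφ, φ.apply_symm_apply, map_smul, ht, ← map_smul, smul_eq_mul,
      mul_one, hh a hb]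
    rfl

/-- Low local cohomology of a CM quotient. -/
theorem subsingleton_H_of_CM_quot (j : Ideal A) [LocCoh.IsCohenMacaulayLocalRing (A ⧸ j)] {e : ℕ}
    (he : ringKrullDim (A ⧸ j) = e) (i : ℕ) (hi : i < e) :
    Subsingleton ((localCohomology (maximalIdeal A) i).obj (ModuleCat.of A (A ⧸ j))) := by
  let B := A ⧸ j
  have hσ : Function.Surjective (algebraMap A B) := Ideal.Quotient.mk_surjective
  have h := exists_indep (R := A) (R' := B) (maximalIdeal A) i B
  rw [map_maximalIdeal_of_surjective (algebraMap A B) hσ] at h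
  obtain ⟨φ, -⟩ := h
  have hd : LocCoh.depth B B = (e : ℕ∞) := by
    have := LocCoh.IsCohenMacaulayLocalRing.supportDim_eq_depth (R := B)
    rw [Module.supportDim_self_eq_ringKrullDim, he] at this
    exact_mod_cast this.symm
  exact @Function.Surjective.subsingleton _ _ φ (subsingleton_H_low_of_depth hd.ge i hi) φ.surjective

/-- Almost complete intersection: `A/(0:f)` is Gorenstein. -/
theorem gorenstein_quot_ann [LocCoh.IsGorensteinLocalRing A] (f : A)
    [LocCoh.IsCohenMacaulayLocalRing (A ⧸ Ideal.span {f})]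
    (hdim : ringKrullDim (A ⧸ Ideal.span {f}) = ringKrullDim A)
    [IsLocalRing (A ⧸ LinearMap.ker (LinearMap.toSpanSingleton A A f))] :
    LocCoh.IsGorensteinLocalRing (A ⧸ LinearMap.ker (LinearMap.toSpanSingleton A A f)) := by
  set m := maximalIdeal A
  set j : Ideal A := LinearMap.ker (LinearMap.toSpanSingleton A A f) with hj
  obtain ⟨e, he, hδ, -⟩ := gorenstein_basic (R := A)
  let μ : (A ⧸ j) →ₗ[A] A := j.liftQ (LinearMap.toSpanSingleton A A f) le_rfl
  have hμ : Function.Injective μ := by
    rw [← LinearMap.ker_eq_bot]; exact Submodule.ker_liftQ_eq_bot _ _ _ le_rfl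
  have hzero : (ModuleCat.ofHom μ : ModuleCat.of A (A ⧸ j) ⟶ ModuleCat.of A A) ≫
      ModuleCat.ofHom (Ideal.span {f}).mkQ = 0 := by
    refine ModuleCat.hom_ext (Submodule.linearMap_qext j (LinearMap.ext fun a => ?_))
    exact (Submodule.Quotient.mk_eq_zero _).2 (Ideal.mem_span_singleton'.2 ⟨a, rfl⟩)
  let S : ShortComplex (ModuleCat.{u} A) :=
    ShortComplex.mk (ModuleCat.ofHom μ) (ModuleCat.ofHom (Ideal.span {f}).mkQ) hzero
  have hS : S.ShortExact :=
    { exact := (ShortComplex.ShortExact.moduleCat_exact_iff_function_exact _).2 fun a => by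
        constructor
        · intro ha
          obtain ⟨c, hc⟩ := Ideal.mem_span_singleton'.1 ((Submodule.Quotient.mk_eq_zero _).1 ha)
          exact ⟨Submodule.Quotient.mk c, hc⟩
        · rintro ⟨c, rfl⟩
          obtain ⟨c, rfl⟩ := Submodule.Quotient.mk_surjective _ c
          exact (Submodule.Quotient.mk_eq_zero _).2 (Ideal.mem_span_singleton'.2 ⟨c, rfl⟩)
      mono_f := (ModuleCat.mono_iff_injective _).2 hμ
      epi_g := (ModuleCat.epi_iff_surjective _).2 (Submodule.mkQ_surjective _) }
  have hlow := fun i (hi : i < e) => subsingleton_H_of_CM_quot (Ideal.span {f}) (hdim.trans he) i hi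
  haveI hE : Module.Injective A ((localCohomology m e).obj (ModuleCat.of A A)) := by
    obtain ⟨g, hg⟩ := isInjectiveHull_H_gorenstein (R := A) he
    exact hg.isInjective
  refine gorenstein_quot_of_H he j e (fun i hi => ?_) ((localCohomology m e).map S.f).hom
    (injective_H_map m e hS fun k hk => hlow k (by omega)) ?_
  · rcases Nat.lt_or_gt_of_ne hi with h | h
    · exact @Function.Injective.subsingleton _ _ _
        (injective_H_map m i hS fun k hk => hlow k (by omega)) (subsingleton_H_low_of_depth hδ.ge i h)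
    · exact subsingleton_H_of_supportDim_lt m _ i
        (((Module.supportDim_le_ringKrullDim A _).trans he.le).trans_lt (by exact_mod_cast h))
  · have hsurj : Function.Surjective ((localCohomology m e).map (ModuleCat.ofHom j.mkQ)).hom :=
      surjective_H_map_of_supportDim_lt m j.mkQ (Submodule.mkQ_surjective j) e
        (((Module.supportDim_le_ringKrullDim A _).trans he.le).trans_lt (by exact_mod_cast Nat.lt_succ_self e))
    have hann : Submodule.annihilator (Ideal.span {f}) = j := by
      ext a
      rw [Submodule.mem_annihilator_span_singleton]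
      exact Iff.rfl
    have hcomp : ∀ z, ((localCohomology m e).map S.f).hom
        (((localCohomology m e).map (ModuleCat.ofHom j.mkQ)).hom z) = f • z := fun z =>
      ((H_map_comp m e j.mkQ μ z).symm.trans (by rw [show μ ∘ₗ j.mkQ = LinearMap.toSpanSingleton A A f from rfl])).trans
        (H_map_smul_id m e f z)
    have hT : LocCoh.torsionBy j ((localCohomology m e).obj (ModuleCat.of A A)) =
        f • (⊤ : Submodule A ((localCohomology m e).obj (ModuleCat.of A A))) := by
      rw [← hann, ← smul_top_eq_torsion, Submodule.ideal_span_singleton_smul]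
    rw [hT]
    ext w
    rw [Submodule.mem_smul_pointwise_iff_exists, LinearMap.mem_range]
    constructor
    · rintro ⟨x, rfl⟩
      obtain ⟨z, rfl⟩ := hsurj x
      exact ⟨z, trivial, (hcomp z).symm⟩
    · rintro ⟨z, -, rfl⟩
      exact ⟨_, hcomp z⟩

/-- Geometrically linked ideals: `A/(a+b)` is Gorenstein, and the cohomology sits in degree `dim A - 1`. -/
theorem gorenstein_quot_sup [LocCoh.IsGorensteinLocalRing A] (a b : Ideal A) (hab : a ⊓ b = ⊥)
    (hann : Submodule.annihilator a = b) (hann' : Submodule.annihilator b = a)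
    [LocCoh.IsCohenMacaulayLocalRing (A ⧸ a)] [LocCoh.IsCohenMacaulayLocalRing (A ⧸ b)] {e : ℕ}
    (he : ringKrullDim A = ((e + 1 : ℕ) : WithBot ℕ∞))
    (hea : ringKrullDim (A ⧸ a) = ((e + 1 : ℕ) : WithBot ℕ∞))
    (heb : ringKrullDim (A ⧸ b) = ((e + 1 : ℕ) : WithBot ℕ∞))
    (hle : ringKrullDim (A ⧸ (a ⊔ b)) ≤ (e : WithBot ℕ∞)) [IsLocalRing (A ⧸ (a ⊔ b))] :
    LocCoh.IsGorensteinLocalRing (A ⧸ (a ⊔ b)) ∧
      ∀ i, i ≠ e → Subsingleton ((localCohomology (maximalIdeal A) i).obj (ModuleCat.of A (A ⧸ (a ⊔ b)))) := by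
  set m := maximalIdeal A
  obtain ⟨d, hd, hδ, -⟩ := gorenstein_basic (R := A)
  obtain rfl : d = e + 1 := by rw [he] at hd; exact_mod_cast hd.symm
  haveI hE : Module.Injective A ((localCohomology m (e + 1)).obj (ModuleCat.of A A)) := by
    obtain ⟨g, hg⟩ := isInjectiveHull_H_gorenstein (R := A) he
    exact hg.isInjective
  -- `0 → a → A → A/a → 0`
  let T : ShortComplex (ModuleCat.{u} A) := ShortComplex.mk (ModuleCat.ofHom a.subtype) (ModuleCat.ofHom a.mkQ)
    (ModuleCat.hom_ext (LinearMap.ext fun z => (Submodule.Quotient.mk_eq_zero _).2 z.2))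
  have hT : T.ShortExact :=
    { exact := (ShortComplex.ShortExact.moduleCat_exact_iff_function_exact _).2 (LinearMap.exact_subtype_mkQ a)
      mono_f := (ModuleCat.mono_iff_injective _).2 Subtype.val_injective
      epi_g := (ModuleCat.epi_iff_surjective _).2 (Submodule.mkQ_surjective _) }
  -- `0 → a → A/b → A/(a+b) → 0`
  let S : ShortComplex (ModuleCat.{u} A) := ShortComplex.mk (ModuleCat.ofHom (b.mkQ ∘ₗ a.subtype))
    (ModuleCat.ofHom (Submodule.factor (le_sup_right : b ≤ a ⊔ b)))
    (ModuleCat.hom_ext (LinearMap.ext fun z => (Submodule.Quotient.mk_eq_zero _).2 (Submodule.mem_sup_left z.2)))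
  have hS : S.ShortExact :=
    { exact := (ShortComplex.ShortExact.moduleCat_exact_iff_function_exact _).2 fun x => by
        obtain ⟨x, rfl⟩ := Submodule.Quotient.mk_surjective _ x
        constructor
        · intro hx
          obtain ⟨p, hp, q, hq, hpq⟩ := Submodule.mem_sup.1 ((Submodule.Quotient.mk_eq_zero _).1 hx)
          refine ⟨⟨p, hp⟩, (Submodule.Quotient.eq b).2 ?_⟩
          have := neg_mem hq
          have hpq' : p + q = x := hpq
          rw [← hpq']
          simpa using this
        · rintro ⟨z, hz⟩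
          rw [← hz]
          exact (Submodule.Quotient.mk_eq_zero _).2 (Submodule.mem_sup_left z.2)
      mono_f := (ModuleCat.mono_iff_injective _).2 (by
        refine (injective_iff_map_eq_zero (b.mkQ ∘ₗ a.subtype)).2 fun z hz => Subtype.ext ?_
        have : z.1 ∈ a ⊓ b := ⟨z.2, (Submodule.Quotient.mk_eq_zero _).1 hz⟩
        rwa [hab] at this)
      epi_g := (ModuleCat.epi_iff_surjective _).2 (Submodule.factor_surjective (le_sup_right : b ≤ a ⊔ b)) }
  have hlowa := fun i (hi : i < e + 1) => subsingleton_H_of_CM_quot a hea i hi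
  have hlowb := fun i (hi : i < e + 1) => subsingleton_H_of_CM_quot b heb i hi
  have hjinj : Function.Injective ((localCohomology m (e + 1)).map T.f).hom :=
    injective_H_map m (e + 1) hT fun k hk => hlowa k (by omega)
  have hv : ∀ i, i ≠ e → Subsingleton ((localCohomology m i).obj (ModuleCat.of A (A ⧸ (a ⊔ b)))) := by
    intro i hi
    rcases Nat.lt_or_gt_of_ne hi with h | h
    · have ha1 : Subsingleton ((localCohomology m (i + 1)).obj (ModuleCat.of A a)) :=
        @Function.Injective.subsingleton _ _ _
          (injective_H_map m (i + 1) hT fun k hk => hlowa k (by omega))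
          (subsingleton_H_low_of_depth hδ.ge (i + 1) (by omega))
      refine subsingleton_of_forall_eq 0 fun z => ?_
      obtain ⟨w, rfl⟩ := (exact₃ m i hS (i + 1) rfl z).1 (@Subsingleton.elim _ ha1 _ _)
      rw [@Subsingleton.elim _ (hlowb i (by omega)) w 0, map_zero]
    · refine subsingleton_H_of_supportDim_lt m _ i (lt_of_le_of_lt ?_ (by exact_mod_cast h : (e : WithBot ℕ∞) < i))
      rw [Module.supportDim_quotient_eq_ringKrullDim]
      exact hle
  refine ⟨gorenstein_quot_of_H he (a ⊔ b) e hv
    (((localCohomology m (e + 1)).map T.f).hom.comp (δH m e hS (e + 1) rfl)) ?_ ?_, hv⟩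
  · refine hjinj.comp ((injective_iff_map_eq_zero _).2 fun z hz => ?_)
    obtain ⟨w, rfl⟩ := (exact₃ m e hS (e + 1) rfl z).1 hz
    rw [@Subsingleton.elim _ (hlowb e (by omega)) w 0, map_zero]
  · -- the range
    let U : ShortComplex (ModuleCat.{u} A) := ShortComplex.mk (ModuleCat.ofHom b.subtype) (ModuleCat.ofHom b.mkQ)
      (ModuleCat.hom_ext (LinearMap.ext fun z => (Submodule.Quotient.mk_eq_zero _).2 z.2))
    have hU : U.ShortExact :=
      { exact := (ShortComplex.ShortExact.moduleCat_exact_iff_function_exact _).2 (LinearMap.exact_subtype_mkQ b)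
        mono_f := (ModuleCat.mono_iff_injective _).2 Subtype.val_injective
        epi_g := (ModuleCat.epi_iff_surjective _).2 (Submodule.mkQ_surjective _) }
    have hra : LinearMap.range ((localCohomology m (e + 1)).map T.f).hom = LocCoh.torsionBy b _ := by
      rw [← hann, ← smul_top_eq_torsion]
      exact range_H_map_subtype a he.le
    have hrb : LinearMap.range ((localCohomology m (e + 1)).map U.f).hom = LocCoh.torsionBy a _ := by
      rw [← hann', ← smul_top_eq_torsion]
      exact range_H_map_subtype b he.le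
    have hnat : ∀ x, ((localCohomology m (e + 1)).map S.f).hom x =
        ((localCohomology m (e + 1)).map U.g).hom (((localCohomology m (e + 1)).map T.f).hom x) := fun x =>
      H_map_comp m (e + 1) a.subtype b.mkQ x
    ext w
    rw [LinearMap.mem_range, Submodule.mem_torsionBySet_iff]
    constructor
    · rintro ⟨z, rfl⟩ ⟨r, hr⟩
      obtain ⟨p, hp, q, hq, rfl⟩ := Submodule.mem_sup.1 hr
      set x := δH m e hS (e + 1) rfl z
      have hx : ((localCohomology m (e + 1)).map S.f).hom x = 0 :=
        (exact₁ m e hS (e + 1) rfl x).2 ⟨z, rfl⟩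
      rw [hnat] at hx
      have hwb : ((localCohomology m (e + 1)).map T.f).hom x ∈ LinearMap.range ((localCohomology m (e + 1)).map U.f).hom :=
        LinearMap.mem_range.2 ((exact₂ m (e + 1) hU _).1 hx)
      have hwa : ((localCohomology m (e + 1)).map T.f).hom x ∈ LinearMap.range ((localCohomology m (e + 1)).map T.f).hom :=
        LinearMap.mem_range_self _ _
      rw [hrb] at hwb
      rw [hra] at hwa
      show (p + q) • ((localCohomology m (e + 1)).map T.f).hom x = 0
      rw [add_smul, (Submodule.mem_torsionBySet_iff _ _).1 hwb ⟨p, hp⟩,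
        (Submodule.mem_torsionBySet_iff _ _).1 hwa ⟨q, hq⟩, add_zero]
    · intro hw
      have hwb : w ∈ LocCoh.torsionBy b _ := (Submodule.mem_torsionBySet_iff _ _).2 fun q =>
        hw ⟨q, Submodule.mem_sup_right q.2⟩
      have hwa : w ∈ LocCoh.torsionBy a _ := (Submodule.mem_torsionBySet_iff _ _).2 fun p =>
        hw ⟨p, Submodule.mem_sup_left p.2⟩
      rw [← hra] at hwb
      rw [← hrb] at hwa
      obtain ⟨x, rfl⟩ := hwb
      obtain ⟨y, hy⟩ := hwa
      have hx : ((localCohomology m (e + 1)).map S.f).hom x = 0 := by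
        rw [hnat, ← hy]
        exact (exact₂ m (e + 1) hU).apply_apply_eq_zero y
      obtain ⟨z, hz⟩ := (exact₁ m e hS (e + 1) rfl x).1 hx
      exact ⟨z, congrArg _ hz⟩

end Tools

end Groth.Agent.LC.Liaison
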