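import Groth.Agent.LC.InjBasic
import Mathlib.RingTheory.Finiteness.Basic
import Mathlib.RingTheory.Artinian.Module

/-!
Melkersson's criterion: a power torsion module with artinian socle is artinian.
-/

universe u v

namespace Groth.Agent.LC

variable {R : Type u} [CommRing R] {M : Type v} [AddCommGroup M] [Module R M]

/-- Two nested submodules of an `(a)`-power torsion module with the same socle layers are equal. -/
theorem eq_of_layers (a : R) (hM : LocCoh.IsPowerTorsion (Ideal.span {a}) M)
    (N N' : Submodule R M) (hle : N' ≤ N)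
    (h : ∀ i : ℕ, ∀ y ∈ N, a ^ (i + 1) • y = 0 → ∃ y' ∈ N', a ^ (i + 1) • y' = 0 ∧
      a ^ i • y = a ^ i • y') : N = N' := by
  refine le_antisymm (fun x hx => ?_) hle
  obtain ⟨n, hn⟩ := hM x
  have hn' : a ^ n • x = 0 := hn _ (Ideal.pow_mem_pow (Ideal.mem_span_singleton_self a) n)
  clear hn
  induction n generalizing x with
  | zero => rw [pow_zero, one_smul] at hn'; rw [hn']; exact N'.zero_mem
  | succ k ih =>
    obtain ⟨y', hy', -, hyy'⟩ := h k x hx hn'
    have := ih (x - y') (N.sub_mem hx (hle hy')) (by rw [smul_sub, hyy', sub_self])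
    simpa using N'.add_mem this hy'

theorem isArtinian_of_principal (a : R) (hM : LocCoh.IsPowerTorsion (Ideal.span {a}) M)
    (hA : IsArtinian R (LocCoh.torsionBy (Ideal.span {a}) M)) : IsArtinian R M := by
  rw [← monotone_stabilizes_iff_artinian]
  intro f
  let N : ℕ → Submodule R M := fun i => OrderDual.ofDual (f i)
  have hN : ∀ i j, i ≤ j → N j ≤ N i := fun i j h => f.monotone h
  let L : ℕ → ℕ → Submodule R (LocCoh.torsionBy (Ideal.span {a}) M) := fun i j =>
    Submodule.comap (Submodule.subtype _)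
      ((N i ⊓ LinearMap.ker (LinearMap.lsmul R M (a ^ (j + 1)))).map (LinearMap.lsmul R M (a ^ j)))
  have hLi : ∀ i i' j, i ≤ i' → L i' j ≤ L i j := fun i i' j h =>
    Submodule.comap_mono (Submodule.map_mono (inf_le_inf_right _ (hN i i' h)))
  have hLj : ∀ i j j', j ≤ j' → L i j' ≤ L i j := by
    intro i j j' h z hz
    simp only [L, Submodule.mem_comap, Submodule.mem_map, Submodule.mem_inf, LinearMap.mem_ker,
      LinearMap.lsmul_apply] at hz ⊢
    obtain ⟨y, ⟨hy, hy0⟩, hyz⟩ := hz
    refine ⟨a ^ (j' - j) • y, ⟨(N i).smul_mem _ hy, ?_⟩, ?_⟩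
    · rw [smul_smul, ← pow_add, show j + 1 + (j' - j) = j' + 1 by omega, hy0]
    · rw [smul_smul, ← pow_add, show j + (j' - j) = j' by omega, hyz]
  obtain ⟨c, hc⟩ := monotone_stabilizes_iff_artinian.mpr hA
    ⟨fun k => OrderDual.toDual (L k k), fun k k' h =>
      (hLi k k' k' h).trans (hLj k k k' h)⟩
  have hfix : ∀ j, ∃ c', ∀ i, c' ≤ i → L c' j = L i j := by
    intro j
    obtain ⟨c', hc'⟩ := monotone_stabilizes_iff_artinian.mpr hA
      ⟨fun k => OrderDual.toDual (L k j), fun k k' h => hLi k k' j h⟩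
    exact ⟨c', fun i hi => hc' i hi⟩
  choose c' hc' using hfix
  refine ⟨max c ((Finset.range (c + 1)).sup c'), fun i hi => ?_⟩
  set b := max c ((Finset.range (c + 1)).sup c')
  have hb : c ≤ b := le_max_left _ _
  have key : ∀ j, L b j = L i j := by
    intro j
    refine le_antisymm ?_ (hLi b i j hi)
    by_cases hj : j ≤ c
    · have hcb : c' j ≤ b :=
        le_trans (Finset.le_sup (f := c') (Finset.mem_range.2 (by omega))) (le_max_right _ _)
      rw [← hc' j b hcb, ← hc' j i (hcb.trans hi)]
    · push Not at hj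
      calc L b j ≤ L c c := (hLi c b j hb).trans (hLj c c j hj.le)
        _ = L (max i j) (max i j) := hc _ (le_max_of_le_left (hb.trans hi))
        _ ≤ L i (max i j) := hLi _ _ _ (le_max_left _ _)
        _ ≤ L i j := hLj i _ _ (le_max_right _ _)
  have heq : N b = N i := by
    refine eq_of_layers a hM _ _ (hN b i hi) fun j y hy hy0 => ?_
    have hmem : a ^ j • y ∈ LocCoh.torsionBy (Ideal.span {a}) M := by
      rw [Submodule.mem_torsionBySet_iff]
      rintro ⟨r, hr⟩
      obtain ⟨t, rfl⟩ := Ideal.mem_span_singleton'.1 hr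
      show (t * a) • a ^ j • y = 0
      rw [mul_smul, smul_smul a, ← pow_succ', hy0, smul_zero]
    have : (⟨_, hmem⟩ : LocCoh.torsionBy (Ideal.span {a}) M) ∈ L b j := by
      simp only [L, Submodule.mem_comap, Submodule.mem_map, Submodule.mem_inf, LinearMap.mem_ker,
        LinearMap.lsmul_apply]
      exact ⟨y, ⟨hy, hy0⟩, rfl⟩
    rw [key] at this
    simp only [L, Submodule.mem_comap, Submodule.mem_map, Submodule.mem_inf, LinearMap.mem_ker,
      LinearMap.lsmul_apply] at this
    obtain ⟨y', ⟨h1, h2⟩, h3⟩ := this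
    exact ⟨y', h1, h2, h3.symm⟩
  exact heq

theorem isPowerTorsion_mono {J J' : Ideal R} (h : J' ≤ J) (hM : LocCoh.IsPowerTorsion J M) :
    LocCoh.IsPowerTorsion J' M := fun m => by
  obtain ⟨n, hn⟩ := hM m
  exact ⟨n, fun a ha => hn a (Ideal.pow_right_mono h n ha)⟩

theorem isPowerTorsion_submodule {J : Ideal R} (N : Submodule R M)
    (hM : LocCoh.IsPowerTorsion J M) : LocCoh.IsPowerTorsion J N := fun m => by
  obtain ⟨n, hn⟩ := hM m
  exact ⟨n, fun a ha => Subtype.ext (hn a ha)⟩

theorem isArtinian_of_span (s : Finset R) : ∀ (M : Type v) [AddCommGroup M] [Module R M],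
    LocCoh.IsPowerTorsion (Ideal.span (s : Set R)) M →
      IsArtinian R (LocCoh.torsionBy (Ideal.span (s : Set R)) M) → IsArtinian R M := by
  classical
  induction s using Finset.induction with
  | empty =>
    intro M _ _ _ hA
    have : LocCoh.torsionBy (Ideal.span ((∅ : Finset R) : Set R)) M = ⊤ := by
      rw [Submodule.eq_top_iff']
      intro x
      rw [Submodule.mem_torsionBySet_iff]
      rintro ⟨r, hr⟩
      simp only [Finset.coe_empty, Ideal.span_empty, SetLike.mem_coe, Ideal.mem_bot] at hr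
      simp [hr]
    rw [this] at hA
    exact isArtinian_of_linearEquiv Submodule.topEquiv
  | insert a t hat ih =>
    intro M _ _ hM hA
    rw [Finset.coe_insert] at hM hA
    refine isArtinian_of_principal a (isPowerTorsion_mono
      (Ideal.span_mono (Set.singleton_subset_iff.2 (Set.mem_insert _ _))) hM) ?_
    apply ih
    · exact isPowerTorsion_submodule _
        (isPowerTorsion_mono (Ideal.span_mono (Set.subset_insert _ _)) hM)
    · refine isArtinian_of_injective
        (LinearMap.codRestrict (LocCoh.torsionBy (Ideal.span (insert a (t : Set R))) M)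
          ((LocCoh.torsionBy (Ideal.span {a}) M).subtype ∘ₗ Submodule.subtype _) ?_) ?_
      · rintro ⟨⟨x, hx⟩, hx'⟩
        rw [Submodule.mem_torsionBySet_iff] at hx hx' ⊢
        rintro ⟨r, hr⟩
        rw [SetLike.mem_coe, Ideal.span_insert, Submodule.mem_sup] at hr
        obtain ⟨r₁, h₁, r₂, h₂, rfl⟩ := hr
        show (r₁ + r₂) • x = 0
        rw [add_smul, show r₁ • x = 0 from hx ⟨r₁, h₁⟩,
          show r₂ • x = 0 from congrArg Subtype.val (hx' ⟨r₂, h₂⟩), add_zero]
      · intro x y h
        exact Subtype.ext (Subtype.ext (congrArg Subtype.val h :))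

theorem isArtinian_of_isArtinian_torsionBy (J : Ideal R) (hJ : J.FG)
    (hM : LocCoh.IsPowerTorsion J M) (hA : IsArtinian R (LocCoh.torsionBy J M)) :
    IsArtinian R M := by
  obtain ⟨s, rfl⟩ := hJ
  exact isArtinian_of_span s M hM hA

end Groth.Agent.LC
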