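import Groth.Agent.LC.InjBasic
import Groth.Agent.LC.Artinian
import Mathlib.RingTheory.Length
import Mathlib.RingTheory.LocalRing.ResidueField.Basic
import Mathlib.RingTheory.Ideal.Quotient.Operations
import Mathlib.RingTheory.AdicCompletion.Algebra
import Mathlib.RingTheory.Finiteness.Cardinality

/-!
Matlis duality over a Noetherian local ring.
-/

universe u v

open CategoryTheory InjHull IsLocalRing

namespace Groth.Agent.LC

variable {R : Type u} [CommRing R] [IsLocalRing R]
variable {E : Type u} [AddCommGroup E] [Module R E] {f : ResidueField R →ₗ[R] E}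

local notation "𝔪" => maximalIdeal R
local notation "k" => ResidueField R

omit [AddCommGroup E] [Module R E] in
theorem smul_residueField_eq_zero {a : R} (ha : a ∈ 𝔪) (x : k) : a • x = 0 := by
  rw [Algebra.smul_def, ResidueField.algebraMap_eq, (residue_eq_zero_iff a).2 ha, zero_mul]

omit [AddCommGroup E] [Module R E] in
theorem exists_smul_eq (x : k) : ∃ r : R, r • (1 : k) = x := by
  obtain ⟨r, rfl⟩ := residue_surjective x
  exact ⟨r, by rw [Algebra.smul_def, mul_one, ResidueField.algebraMap_eq]⟩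

omit [AddCommGroup E] [Module R E] in
theorem isPowerTorsion_residueField : LocCoh.IsPowerTorsion 𝔪 k :=
  fun x => ⟨1, fun a ha => smul_residueField_eq_zero (by simpa using ha) x⟩

variable (hf : IsInjectiveHull f)

include hf

theorem hull_f_one_ne_zero : f 1 ≠ 0 :=
  fun h => one_ne_zero (hf.injective (h.trans f.map_zero.symm))

theorem hull_isPowerTorsion [IsNoetherianRing R] : LocCoh.IsPowerTorsion 𝔪 E :=
  isPowerTorsion_of_isEssentialInj _ isPowerTorsion_residueField hf.toIsEssentialInj

theorem hull_socle : LocCoh.torsionBy 𝔪 E = LinearMap.range f := by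
  apply le_antisymm
  · intro x hx
    rw [Submodule.mem_torsionBySet_iff] at hx
    by_cases h0 : x = 0
    · rw [h0]; exact Submodule.zero_mem _
    obtain ⟨r, hr, hr0⟩ := (isEssentialInj_iff.1 hf.toIsEssentialInj).2 x h0
    have hr' : IsUnit r := by
      by_contra hc
      exact hr0 (hx ⟨r, (mem_maximalIdeal r).2 hc⟩)
    obtain ⟨u, rfl⟩ := hr'
    have := (LinearMap.range f).smul_mem (↑u⁻¹ : R) hr
    rwa [smul_smul, Units.inv_mul, one_smul] at this
  · rintro _ ⟨x, rfl⟩
    rw [Submodule.mem_torsionBySet_iff]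
    rintro ⟨a, ha⟩
    show a • f x = 0
    rw [← map_smul, smul_residueField_eq_zero ha, map_zero]

theorem exists_dual_ne_zero {M : Type u} [AddCommGroup M] [Module R M] {m : M} (hm : m ≠ 0) :
    ∃ φ : M →ₗ[R] E, φ m ≠ 0 := by
  have := hf.isInjective
  let t := LinearMap.toSpanSingleton R M m
  have hker : LinearMap.ker t ≤
      LinearMap.ker (LinearMap.toSpanSingleton R E (f 1)) := fun a ha => by
    rw [LinearMap.mem_ker, LinearMap.toSpanSingleton_apply] at ha ⊢
    have : a ∈ 𝔪 := by
      rw [mem_maximalIdeal, mem_nonunits_iff]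
      rintro ⟨u, rfl⟩
      apply hm
      rw [← one_smul R m, ← u.inv_mul, mul_smul, ha, smul_zero]
    rw [← map_smul, smul_residueField_eq_zero this, map_zero]
  obtain ⟨φ, hφ⟩ := exists_extension ((LinearMap.ker t).liftQ t le_rfl)
    (LinearMap.ker_eq_bot.1 (Submodule.ker_liftQ_eq_bot' _ _ rfl))
    ((LinearMap.ker t).liftQ _ hker)
  refine ⟨φ, ?_⟩
  have h1 := LinearMap.congr_fun hφ (Submodule.Quotient.mk 1)
  simp only [LinearMap.coe_comp, Function.comp_apply, Submodule.liftQ_apply, t,
    LinearMap.toSpanSingleton_apply, one_smul] at h1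
  rw [h1]
  exact hull_f_one_ne_zero hf

theorem applyₗ_injective (M : Type u) [AddCommGroup M] [Module R M] :
    Function.Injective (LinearMap.applyₗ : M →ₗ[R] (M →ₗ[R] E) →ₗ[R] E) := by
  rw [injective_iff_map_eq_zero]
  intro m hm
  by_contra h
  obtain ⟨φ, hφ⟩ := exists_dual_ne_zero hf h
  exact hφ (LinearMap.congr_fun hm φ)

theorem annihilator_dual (M : Type u) [AddCommGroup M] [Module R M] :
    Module.annihilator R M = Module.annihilator R (M →ₗ[R] E) := by
  ext r
  simp only [Module.mem_annihilator]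
  refine ⟨fun h φ => LinearMap.ext fun m => ?_, fun h m => ?_⟩
  · rw [LinearMap.smul_apply, ← map_smul, h m, map_zero, LinearMap.zero_apply]
  · apply applyₗ_injective hf
    rw [map_zero]
    ext φ
    show φ (r • m) = 0
    rw [map_smul, ← LinearMap.smul_apply, h φ, LinearMap.zero_apply]

theorem dual_surjective {M N : Type u} [AddCommGroup M] [Module R M] [AddCommGroup N] [Module R N]
    (i : M →ₗ[R] N) (hi : Function.Injective i) :
    Function.Surjective fun φ : N →ₗ[R] E => φ ∘ₗ i := fun g => by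
  have := hf.isInjective
  exact exists_extension i hi g

theorem length_dual_residueField : Module.length R (k →ₗ[R] E) = Module.length R k := by
  have hmem : ∀ φ : k →ₗ[R] E, φ 1 ∈ LinearMap.range f := fun φ => by
    rw [← hull_socle hf, Submodule.mem_torsionBySet_iff]
    rintro ⟨a, ha⟩
    show a • φ 1 = 0
    rw [← map_smul, smul_residueField_eq_zero ha, map_zero]
  let g : k →ₗ[R] (k →ₗ[R] E) := (LinearMap.mul R k).compr₂ f
  have hg : Function.Bijective g := by
    refine ⟨fun x y h => ?_, fun φ => ?_⟩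
    · apply hf.injective
      simpa [g] using LinearMap.congr_fun h 1
    · obtain ⟨x, hx⟩ := hmem φ
      refine ⟨x, LinearMap.ext fun y => ?_⟩
      obtain ⟨r, rfl⟩ := exists_smul_eq y
      show f (x * (r • 1)) = φ (r • 1)
      rw [mul_smul_comm, mul_one, map_smul, map_smul, hx]
  exact (LinearEquiv.ofBijective g hg).length_eq.symm

theorem length_dual (M : Type u) [AddCommGroup M] [Module R M] (hM : IsFiniteLength R M) :
    Module.length R (M →ₗ[R] E) = Module.length R M := by
  revert hM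
  suffices ∀ (n : ℕ) (M : Type u) [AddCommGroup M] [Module R M], Module.length R M = n →
      Module.length R (M →ₗ[R] E) = Module.length R M by
    intro hM
    obtain ⟨n, hn⟩ := ENat.ne_top_iff_exists.1 (Module.length_ne_top_iff.2 hM)
    exact this n M hn.symm
  intro n
  induction n using Nat.strong_induction_on with
  | _ n ih =>
    intro M _ _ hn
    by_cases h : Subsingleton M
    · have : Subsingleton (M →ₗ[R] E) :=
        ⟨fun a b => LinearMap.ext fun x => by rw [Subsingleton.elim x 0, map_zero, map_zero]⟩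
      rw [Module.length_eq_zero, Module.length_eq_zero]
    · rw [not_subsingleton_iff_nontrivial] at h
      have hfl : IsFiniteLength R M := Module.length_ne_top_iff.1 (by rw [hn]; exact ENat.natCast_ne_top n)
      obtain ⟨_, _⟩ := isFiniteLength_iff_isNoetherian_isArtinian.1 hfl
      obtain ⟨N, hN⟩ := IsArtinian.set_has_minimal {N : Submodule R M | N ≠ ⊥} ⟨⊤, top_ne_bot⟩
      have hsimple : IsSimpleModule R N := by
        rw [isSimpleModule_iff_isAtom]
        exact ⟨hN.1, fun b hb => by_contra fun hb0 => hN.2 b hb0 hb⟩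
      obtain ⟨J, hJ, ⟨e⟩⟩ := isSimpleModule_iff_quot_maximal.1 hsimple
      obtain rfl := IsLocalRing.eq_maximalIdeal hJ
      let e' : N ≃ₗ[R] k := e
      have hN1 : Module.length R N = 1 := Module.length_eq_one R N
      have hdec := Module.length_eq_add_of_exact N.subtype N.mkQ N.subtype_injective
        N.mkQ_surjective (LinearMap.exact_subtype_mkQ N)
      rw [hn, hN1] at hdec
      obtain ⟨q, hq⟩ : ∃ q : ℕ, Module.length R (M ⧸ N) = q :=
        ENat.ne_top_iff_exists.1 (fun h => by rw [h] at hdec; simp at hdec) |>.imp fun _ => Eq.symm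
      have hqn : q < n := by
        rw [hq] at hdec
        have : (n : ℕ∞) = ((1 + q : ℕ) : ℕ∞) := by push_cast; exact hdec
        have := Nat.cast_inj.1 this
        omega
      have ex : Function.Exact (LinearMap.lcomp R E N.mkQ) (LinearMap.lcomp R E N.subtype) := by
        rw [LinearMap.exact_iff]
        ext φ
        constructor
        · intro hφ
          have hle : N ≤ LinearMap.ker φ := fun x hx => LinearMap.congr_fun hφ ⟨x, hx⟩
          exact ⟨N.liftQ φ hle, Submodule.liftQ_mkQ _ _ hle⟩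
        · rintro ⟨ψ, rfl⟩
          ext x
          simp [(Submodule.Quotient.mk_eq_zero N).2 x.2]
      rw [Module.length_eq_add_of_exact _ _
        (fun a b h => LinearMap.ext fun x => by
          obtain ⟨y, rfl⟩ := N.mkQ_surjective x; exact LinearMap.congr_fun h y)
        (dual_surjective hf N.subtype N.subtype_injective) ex, ih q hqn _ hq, hq,
        (LinearEquiv.congrLeft E R e').length_eq, length_dual_residueField hf,
        ← e'.length_eq, hN1, hn, hdec, hq, add_comm]

theorem applyₗ_bijective_of_isFiniteLength (M : Type u) [AddCommGroup M] [Module R M]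
    (hM : IsFiniteLength R M) :
    Function.Bijective (LinearMap.applyₗ : M →ₗ[R] (M →ₗ[R] E) →ₗ[R] E) := by
  have hinj := applyₗ_injective hf M
  refine ⟨hinj, ?_⟩
  have h1 := length_dual hf M hM
  have hD : IsFiniteLength R (M →ₗ[R] E) :=
    Module.length_ne_top_iff.1 (h1 ▸ Module.length_ne_top_iff.2 hM)
  have h2 := (length_dual hf _ hD).trans h1
  have hDD : IsFiniteLength R ((M →ₗ[R] E) →ₗ[R] E) :=
    Module.length_ne_top_iff.1 (h2 ▸ Module.length_ne_top_iff.2 hM)
  obtain ⟨_, _⟩ := isFiniteLength_iff_isNoetherian_isArtinian.1 hDD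
  rw [← LinearMap.range_eq_top]
  by_contra h
  have := Submodule.length_lt h
  rw [← (LinearEquiv.ofInjective _ hinj).length_eq, h2] at this
  exact lt_irrefl _ this

omit hf in
omit [AddCommGroup E] [Module R E] in
theorem isFiniteLength_quot_pow [IsNoetherianRing R] (n : ℕ) :
    IsFiniteLength R (R ⧸ 𝔪 ^ n) := by
  induction n with
  | zero =>
    have : Subsingleton (R ⧸ 𝔪 ^ 0) :=
      Ideal.Quotient.subsingleton_iff.2 (by rw [pow_zero, Ideal.one_eq_top])
    exact .of_subsingleton
  | succ n ih =>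
    rw [← Module.length_ne_top_iff] at ih ⊢
    let P : Submodule R (R ⧸ 𝔪 ^ (n + 1)) := Submodule.map (Submodule.mkQ (𝔪 ^ (n + 1))) (𝔪 ^ n)
    have hle : 𝔪 ^ (n + 1) ≤ 𝔪 ^ n := Ideal.pow_le_pow_right (by omega)
    have e : ((R ⧸ 𝔪 ^ (n + 1)) ⧸ P) ≃ₗ[R] R ⧸ 𝔪 ^ n :=
      Submodule.quotientQuotientEquivQuotient _ _ hle
    have hPtors : Module.IsTorsionBySet R P (𝔪 : Set R) := by
      rintro ⟨x, y, hy, rfl⟩ ⟨a, ha⟩
      apply Subtype.ext
      show a • Submodule.mkQ (𝔪 ^ (n + 1)) y = 0
      rw [← map_smul, Submodule.mkQ_apply, Submodule.Quotient.mk_eq_zero, pow_succ, smul_eq_mul,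
        mul_comm a y]
      exact Ideal.mul_mem_mul hy ha
    letI := hPtors.module
    haveI : IsScalarTower R (R ⧸ 𝔪) P := Module.IsTorsionBySet.isScalarTower hPtors
    have hfinR : Module.Finite R P := Module.Finite.iff_fg.2 (IsNoetherian.noetherian P)
    have hfin : Module.Finite (R ⧸ 𝔪) P := Module.Finite.of_restrictScalars_finite R _ _
    letI := Ideal.Quotient.field 𝔪
    have hlen : Module.length R P ≠ ⊤ := by
      rw [Module.length_eq_of_surjective (R := R ⧸ 𝔪) (S := R) (M := P) Ideal.Quotient.mk_surjective]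
      exact Module.length_ne_top
    rw [Module.length_eq_add_of_exact P.subtype P.mkQ P.subtype_injective P.mkQ_surjective
      (LinearMap.exact_subtype_mkQ P), e.length_eq]
    exact WithTop.add_ne_top.2 ⟨hlen, ih⟩

/-- For every endomorphism of the hull and every `n`, some ring element agrees with it on the
elements killed by `𝔪 ^ n`. -/
theorem exists_smul_eq_endomorphism [IsNoetherianRing R] (φ : E →ₗ[R] E) (n : ℕ) :
    ∃ r : R, ∀ x : E, (∀ a ∈ 𝔪 ^ n, a • x = 0) → φ x = r • x := by
  let Λ : ((R ⧸ 𝔪 ^ n) →ₗ[R] E) →ₗ[R] E :=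
    φ ∘ₗ LinearMap.applyₗ (Submodule.Quotient.mk 1 : R ⧸ 𝔪 ^ n)
  obtain ⟨z, hz⟩ := (applyₗ_bijective_of_isFiniteLength hf _ (isFiniteLength_quot_pow n)).2 Λ
  obtain ⟨r, rfl⟩ := Submodule.mkQ_surjective _ z
  refine ⟨r, fun x hx => ?_⟩
  have hker : 𝔪 ^ n ≤ LinearMap.ker (LinearMap.toSpanSingleton R E x) := fun a ha => by
    simpa using hx a ha
  have h1 : (𝔪 ^ n).liftQ _ hker (Submodule.Quotient.mk r) =
      φ ((𝔪 ^ n).liftQ _ hker (Submodule.Quotient.mk 1)) :=
    LinearMap.congr_fun hz ((𝔪 ^ n).liftQ _ hker)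
  simp only [Submodule.liftQ_apply, LinearMap.toSpanSingleton_apply, one_smul] at h1
  exact h1.symm

theorem mem_pow_of_smul_eq_zero [IsNoetherianRing R] (r : R) (n : ℕ)
    (h : ∀ x : E, (∀ a ∈ 𝔪 ^ n, a • x = 0) → r • x = 0) : r ∈ 𝔪 ^ n := by
  by_contra hr
  obtain ⟨φ, hφ⟩ := exists_dual_ne_zero hf
    (m := (Submodule.Quotient.mk r : R ⧸ 𝔪 ^ n))
    (by rwa [ne_eq, Submodule.Quotient.mk_eq_zero])
  apply hφ
  have h1 := h (φ (Submodule.Quotient.mk 1)) fun a ha => by
    rw [← map_smul, ← Submodule.Quotient.mk_smul, smul_eq_mul, mul_one,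
      (Submodule.Quotient.mk_eq_zero _).2 ha, map_zero]
  rwa [← map_smul, ← Submodule.Quotient.mk_smul, smul_eq_mul, mul_one] at h1

theorem endEquiv [IsNoetherianRing R] :
    ∃ e : Module.End R E ≃ₐ[R] AdicCompletion 𝔪 R, ∀ (φ : Module.End R E) (n : ℕ) (r : R) (x : E),
      (e φ).val n = Submodule.Quotient.mk r → (∀ a ∈ 𝔪 ^ n, a • x = 0) → φ x = r • x := by
  choose c hc using exists_smul_eq_endomorphism hf
  have htop : ∀ n, (𝔪 ^ n • ⊤ : Ideal R) = 𝔪 ^ n := fun n => by
    rw [smul_eq_mul, Ideal.mul_top]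
  have huniq : ∀ (φ : Module.End R E) (n : ℕ) (r : R),
      (∀ x, (∀ a ∈ 𝔪 ^ n, a • x = 0) → φ x = r • x) →
        (Submodule.Quotient.mk (c φ n) : R ⧸ (𝔪 ^ n • ⊤ : Ideal R)) = Submodule.Quotient.mk r :=
    fun φ n r h => by
      rw [Submodule.Quotient.eq, htop]
      refine mem_pow_of_smul_eq_zero hf _ _ fun x hx => ?_
      rw [sub_smul, ← hc φ n x hx, h x hx, sub_self]
  let F : Module.End R E → AdicCompletion 𝔪 R := fun φ =>
    ⟨fun n => Submodule.Quotient.mk (c φ n), fun {m n} hmn => by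
      exact (huniq φ m (c φ n) fun x hx =>
        hc φ n x fun a ha => hx a (Ideal.pow_le_pow_right hmn ha)).symm⟩
  have hval : ∀ φ n, (F φ).val n = Submodule.Quotient.mk (c φ n) := fun _ _ => rfl
  have hone : F 1 = 1 := AdicCompletion.ext fun n => by
    rw [hval, AdicCompletion.val_one]
    exact huniq 1 n 1 fun x _ => (one_smul R x).symm
  have hmul : ∀ φ ψ, F (φ * ψ) = F φ * F ψ := fun φ ψ => AdicCompletion.ext fun n => by
    rw [hval, AdicCompletion.val_mul, hval, hval]
    refine huniq _ n (c φ n * c ψ n) fun x hx => ?_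
    rw [Module.End.mul_apply, hc ψ n x hx, map_smul, hc φ n x hx, smul_smul, mul_comm]
  have hadd : ∀ φ ψ, F (φ + ψ) = F φ + F ψ := fun φ ψ => AdicCompletion.ext fun n => by
    rw [hval, AdicCompletion.val_add_apply, hval, hval, ← Submodule.Quotient.mk_add]
    refine huniq _ n _ fun x hx => ?_
    rw [LinearMap.add_apply, hc φ n x hx, hc ψ n x hx, add_smul]
  have hzero : F 0 = 0 := AdicCompletion.ext fun n => by
    rw [hval, AdicCompletion.val_zero_apply, ← Submodule.Quotient.mk_zero]
    exact huniq 0 n 0 fun x _ => (zero_smul R x).symm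
  have hcomm : ∀ r : R, F (algebraMap R _ r) = algebraMap R _ r := fun r =>
    AdicCompletion.ext fun n => by
      rw [hval]
      refine (huniq _ n r fun x _ => ?_).trans ?_
      · rfl
      · simp [AdicCompletion.algebraMap_apply]
  let Fₐ : Module.End R E →ₐ[R] AdicCompletion 𝔪 R :=
    { toFun := F, map_one' := hone, map_mul' := hmul, map_zero' := hzero, map_add' := hadd,
      commutes' := hcomm }
  have hinj : Function.Injective Fₐ := fun φ ψ h => LinearMap.ext fun x => by
    obtain ⟨n, hn⟩ := hull_isPowerTorsion hf x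
    have h1 : (F φ).val n = (F ψ).val n := by rw [show F φ = F ψ from h]
    rw [hval, hval, Submodule.Quotient.eq, htop] at h1
    have := hn _ h1
    rw [sub_smul, sub_eq_zero] at this
    rw [hc φ n x hn, hc ψ n x hn, this]
  have hsurj : Function.Surjective Fₐ := fun z => by
    choose s hs using fun n => Submodule.Quotient.mk_surjective _ (z.val n)
    have hs' : ∀ m n, m ≤ n → s n - s m ∈ 𝔪 ^ m := fun m n hmn => by
      have h2 := z.2 hmn
      rw [← hs n, ← hs m] at h2
      rw [← htop m]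
      exact (Submodule.Quotient.eq _).1 h2
    choose N hN using hull_isPowerTorsion hf
    have key : ∀ x n, (∀ a ∈ 𝔪 ^ n, a • x = 0) → s (N x) • x = s n • x := fun x n hn => by
      rcases le_total (N x) n with h | h
      · have := hN x _ (hs' _ _ h)
        rw [sub_smul, sub_eq_zero] at this
        exact this.symm
      · have := hn _ (hs' _ _ h)
        rw [sub_smul, sub_eq_zero] at this
        exact this
    let φ : Module.End R E :=
      { toFun := fun x => s (N x) • x
        map_add' := fun x y => by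
          have hx : ∀ a ∈ 𝔪 ^ (max (N x) (N y)), a • x = 0 := fun a ha =>
            hN x a (Ideal.pow_le_pow_right (le_max_left _ _) ha)
          have hy : ∀ a ∈ 𝔪 ^ (max (N x) (N y)), a • y = 0 := fun a ha =>
            hN y a (Ideal.pow_le_pow_right (le_max_right _ _) ha)
          rw [key x _ hx, key y _ hy, key (x + y) _ fun a ha => by
            rw [smul_add, hx a ha, hy a ha, add_zero], smul_add]
        map_smul' := fun r x => by
          have hx : ∀ a ∈ 𝔪 ^ (N x), a • (r • x) = 0 := fun a ha => by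
            rw [smul_comm, hN x a ha, smul_zero]
          rw [key (r • x) _ hx, RingHom.id_apply, smul_comm] }
    refine ⟨φ, AdicCompletion.ext fun n => ?_⟩
    show (F φ).val n = z.val n
    rw [hval, ← hs n]
    exact huniq φ n (s n) fun x hx => key x n hx
  refine ⟨AlgEquiv.ofBijective Fₐ ⟨hinj, hsurj⟩, fun φ n r x h hx => ?_⟩
  change (F φ).val n = _ at h
  rw [hval, Submodule.Quotient.eq, htop] at h
  have := hx _ h
  rw [sub_smul, sub_eq_zero] at this
  rw [hc φ n x hx, this]

theorem hull_isArtinian [IsNoetherianRing R] : IsArtinian R E := by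
  refine isArtinian_of_isArtinian_torsionBy 𝔪 (IsNoetherian.noetherian 𝔪) (hull_isPowerTorsion hf) ?_
  rw [hull_socle hf]
  have : IsArtinian R k := by
    have h : IsSimpleModule R k := isSimpleModule_iff_isCoatom.2 (maximalIdeal.isMaximal R).1
    have : IsSimpleModule R (k ⧸ (⊥ : Submodule R k)) :=
      IsSimpleModule.congr (Submodule.quotEquivOfEqBot _ rfl)
    exact (isFiniteLength_iff_isNoetherian_isArtinian.1
      (IsFiniteLength.of_simple_quotient (N := (⊥ : Submodule R k)) .of_subsingleton)).2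
  exact isArtinian_of_linearEquiv (LinearEquiv.ofInjective f hf.injective)

/-- Bidual of a finite free module when `R` is complete. -/
theorem applyₗ_surjective_pi [IsNoetherianRing R] [IsAdicComplete 𝔪 R] {ι : Type} [Finite ι]
    (Λ : ((ι → E) →ₗ[R] E) →ₗ[R] E) : ∃ v : ι → E, ∀ φ, Λ φ = φ v := by
  classical
  cases nonempty_fintype ι
  obtain ⟨e, -⟩ := endEquiv hf
  have hsc : ∀ ψ : E →ₗ[R] E, ∃ r : R, ψ = r • LinearMap.id := fun ψ => by
    obtain ⟨r, hr⟩ := (AdicCompletion.ofAlgEquiv 𝔪).surjective (e ψ)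
    refine ⟨r, e.injective ?_⟩
    rw [show (r • LinearMap.id : E →ₗ[R] E) = algebraMap R (Module.End R E) r from rfl,
      e.commutes, ← hr, AdicCompletion.ofAlgEquiv_apply]
    rfl
  refine ⟨fun i => Λ (LinearMap.proj i), fun φ => ?_⟩
  choose r hr using fun i => hsc (φ ∘ₗ LinearMap.single R (fun _ : ι => E) i)
  have hφ : φ = ∑ i, r i • LinearMap.proj i := by
    apply LinearMap.pi_ext
    intro i x
    have := LinearMap.congr_fun (hr i) x
    simp only [LinearMap.coe_comp, Function.comp_apply, LinearMap.single_apply, LinearMap.smul_apply,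
      LinearMap.id_apply] at this
    rw [this, LinearMap.sum_apply, Finset.sum_eq_single i]
    · simp
    · intro j _ hji; simp [Pi.single_eq_of_ne hji]
    · simp
  rw [hφ, map_sum, LinearMap.sum_apply]
  simp

theorem exists_embedding_pi (M : Type u) [AddCommGroup M] [Module R M]
    (hM : LocCoh.IsPowerTorsion 𝔪 M) (n : ℕ) [Module.Finite (R ⧸ 𝔪) ↥(LocCoh.torsionBy 𝔪 M)]
    (hn : Module.finrank (R ⧸ 𝔪) ↥(LocCoh.torsionBy 𝔪 M) = n) :
    ∃ g : M →ₗ[R] (Fin n → E), Function.Injective g := by
  have := hf.isInjective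
  letI := Ideal.Quotient.field 𝔪
  let b := Module.finBasisOfFinrankEq (R ⧸ 𝔪) ↥(LocCoh.torsionBy 𝔪 M) hn
  let f' : (R ⧸ 𝔪) →ₗ[R] E := f
  let s : ↥(LocCoh.torsionBy 𝔪 M) →ₗ[R] (Fin n → E) :=
    f'.compLeft (Fin n) ∘ₗ b.equivFun.toLinearMap.restrictScalars R
  have hs : Function.Injective s := fun x y h => by
    apply b.equivFun.injective
    funext i
    exact hf.injective (congrFun h i)
  choose gs hgs using fun i : Fin n => exists_extension (LocCoh.torsionBy 𝔪 M).subtype
    (Submodule.injective_subtype _) (LinearMap.proj i ∘ₗ s)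
  refine ⟨LinearMap.pi gs, ?_⟩
  rw [injective_iff_map_eq_zero]
  intro x hx
  by_contra h0
  obtain ⟨N, hN⟩ := hM x
  have : ∃ y : LocCoh.torsionBy 𝔪 M, y ≠ 0 ∧ ∃ r : R, (y : M) = r • x := by
    clear hx
    induction N generalizing x with
    | zero => exact absurd (by simpa using hN 1 (by simp)) h0
    | succ N ih =>
      by_cases hall : ∀ a ∈ 𝔪, a • x = 0
      · exact ⟨⟨x, (Submodule.mem_torsionBySet_iff _ _).2 fun a => hall a a.2⟩,
          by simpa using h0, 1, (one_smul R x).symm⟩
      · push Not at hall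
        obtain ⟨a, ha, hax⟩ := hall
        obtain ⟨y, hy0, r, hr⟩ := ih (a • x) hax fun b hb => by
          rw [smul_smul]; exact hN _ (by rw [pow_succ]; exact Ideal.mul_mem_mul hb ha)
        exact ⟨y, hy0, r * a, by rw [hr, smul_smul]⟩
  obtain ⟨y, hy0, r, hr⟩ := this
  refine hy0 (hs ?_)
  rw [map_zero]
  funext i
  have h1 := LinearMap.congr_fun (hgs i) y
  have h2 : gs i x = 0 := congrFun hx i
  simp only [LinearMap.coe_comp, Function.comp_apply, Submodule.subtype_apply, LinearMap.proj_apply,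
    hr, map_smul, h2, smul_zero] at h1
  exact h1.symm

theorem finite_socle_of_isArtinian (M : Type u) [AddCommGroup M] [Module R M] [IsArtinian R M] :
    Module.Finite (R ⧸ 𝔪) ↥(LocCoh.torsionBy 𝔪 M) := by
  letI := Ideal.Quotient.field 𝔪
  have hA : IsArtinian (R ⧸ 𝔪) ↥(LocCoh.torsionBy 𝔪 M) := isArtinian_of_tower R inferInstance
  exact (IsSemisimpleModule.finite_tfae (R := R ⧸ 𝔪) (M := ↥(LocCoh.torsionBy 𝔪 M))).out 2 0 |>.1 hA

omit hf in
omit [AddCommGroup E] [Module R E] in
theorem isPowerTorsion_of_isArtinian [IsNoetherianRing R] (M : Type u) [AddCommGroup M] [Module R M]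
    [IsArtinian R M] : LocCoh.IsPowerTorsion 𝔪 M := by
  intro x
  let F : ℕ →o (Submodule R M)ᵒᵈ :=
    { toFun := fun i => OrderDual.toDual ((𝔪 ^ i) • (R ∙ x))
      monotone' := fun i j h => OrderDual.toDual_le_toDual.2
        (Submodule.smul_mono_left (Ideal.pow_le_pow_right h)) }
  obtain ⟨n, hn⟩ := IsArtinian.monotone_stabilizes F
  have h0 : (𝔪 ^ n) • (R ∙ x) = (𝔪 ^ (n + 1)) • (R ∙ x) :=
    OrderDual.toDual.injective (hn (n + 1) (Nat.le_succ n))
  have hfg : ((𝔪 ^ n) • (R ∙ x)).FG :=
    Submodule.FG.smul (IsNoetherian.noetherian (𝔪 ^ n : Ideal R)) (Submodule.fg_span_singleton x)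
  have hbot : (𝔪 ^ n) • (R ∙ x) = ⊥ := by
    refine Submodule.eq_bot_of_le_smul_of_le_jacobson_bot 𝔪 _ hfg ?_
      (IsLocalRing.jacobson_eq_maximalIdeal (⊥ : Ideal R) bot_ne_top).ge
    rw [← Submodule.mul_smul, ← pow_succ']
    exact h0.le
  refine ⟨n, fun a ha => (Submodule.mem_bot R).1 ?_⟩
  rw [← hbot]
  exact Submodule.smul_mem_smul ha (Submodule.mem_span_singleton_self x)

theorem dual_finite_of_isArtinian [IsNoetherianRing R] [IsAdicComplete 𝔪 R]
    (M : Type u) [AddCommGroup M] [Module R M] [IsArtinian R M] :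
    Module.Finite R (M →ₗ[R] E) ∧
      Function.Bijective (LinearMap.applyₗ : M →ₗ[R] (M →ₗ[R] E) →ₗ[R] E) := by
  have := finite_socle_of_isArtinian hf M
  obtain ⟨g, hg⟩ := exists_embedding_pi hf M (isPowerTorsion_of_isArtinian M) _ rfl
  obtain ⟨e, -⟩ := endEquiv hf
  have hend : Module.Finite R (Module.End R E) :=
    Module.Finite.equiv ((AdicCompletion.ofAlgEquiv 𝔪).toLinearEquiv.restrictScalars R |>.trans
      e.symm.toLinearEquiv)
  have : Module.Finite R ((Fin (Module.finrank (R ⧸ 𝔪) ↥(LocCoh.torsionBy 𝔪 M)) → E) →ₗ[R] E) :=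
    haveI : Module.Finite R (E →ₗ[R] E) := hend
    Module.Finite.equiv (LinearMap.lsum R (fun _ => E) R)
  refine ⟨Module.Finite.of_surjective (LinearMap.lcomp R E g) (dual_surjective hf g hg),
    applyₗ_injective hf M, fun Λ => ?_⟩
  obtain ⟨v, hv⟩ := applyₗ_surjective_pi hf (Λ ∘ₗ LinearMap.lcomp R E g)
  have hvr : v ∈ LinearMap.range g := by
    by_contra hc
    obtain ⟨φ, hφ⟩ := exists_dual_ne_zero hf
      (m := Submodule.mkQ (LinearMap.range g) v) (by simpa using hc)
    apply hφ
    have h1 := hv (φ ∘ₗ Submodule.mkQ (LinearMap.range g))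
    have h2 : (φ ∘ₗ Submodule.mkQ (LinearMap.range g)) ∘ₗ g = 0 := by
      ext x; simp [(Submodule.Quotient.mk_eq_zero (LinearMap.range g)).2 (LinearMap.mem_range_self g x)]
    simp only [LinearMap.coe_comp, Function.comp_apply, LinearMap.lcomp_apply', h2, map_zero] at h1
    exact h1.symm
  obtain ⟨m, rfl⟩ := hvr
  refine ⟨m, LinearMap.ext fun ψ => ?_⟩
  obtain ⟨φ, rfl⟩ := dual_surjective hf g hg ψ
  exact (hv φ).symm

theorem dual_isArtinian_of_finite [IsNoetherianRing R] (M : Type u) [AddCommGroup M] [Module R M]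
    [Module.Finite R M] : IsArtinian R (M →ₗ[R] E) := by
  obtain ⟨n, π, hπ⟩ := Module.Finite.exists_fin' R M
  have := hull_isArtinian hf
  have : IsArtinian R ((Fin n → R) →ₗ[R] E) :=
    isArtinian_of_linearEquiv ((Pi.basisFun R (Fin n)).constr R (M' := E))
  exact isArtinian_of_injective (LinearMap.lcomp R E π) fun a b h => LinearMap.ext fun x => by
    obtain ⟨y, rfl⟩ := hπ x
    exact LinearMap.congr_fun h y

theorem applyₗ_bijective_of_finite [IsNoetherianRing R] [IsAdicComplete 𝔪 R] (M : Type u)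
    [AddCommGroup M] [Module R M] [Module.Finite R M] :
    Function.Bijective (LinearMap.applyₗ : M →ₗ[R] (M →ₗ[R] E) →ₗ[R] E) := by
  have := hf.isInjective
  refine ⟨applyₗ_injective hf M, fun Λ => ?_⟩
  obtain ⟨n, π, hπ⟩ := Module.Finite.exists_fin' R M
  obtain ⟨e, -⟩ := endEquiv hf
  obtain ⟨Λ', hΛ'⟩ := exists_extension (LinearMap.lcomp R E π) (fun a b h => LinearMap.ext fun x => by
    obtain ⟨y, rfl⟩ := hπ x
    exact LinearMap.congr_fun h y) Λ
  let c := (Pi.basisFun R (Fin n)).constr R (M' := E)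
  let ψ : Fin n → Module.End R E := fun i => Λ' ∘ₗ c.toLinearMap ∘ₗ LinearMap.single R (fun _ => E) i
  choose r hr using fun i => (AdicCompletion.ofAlgEquiv 𝔪).surjective (e (ψ i))
  have hψ : ∀ i x, ψ i x = r i • x := fun i x => by
    have : ψ i = algebraMap R (Module.End R E) (r i) := e.injective (by
      rw [e.commutes, ← hr, AdicCompletion.ofAlgEquiv_apply]; rfl)
    rw [this]; rfl
  refine ⟨π r, LinearMap.ext fun φ => ?_⟩
  have h1 := LinearMap.congr_fun hΛ' φ
  simp only [LinearMap.coe_comp, Function.comp_apply] at h1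
  rw [← h1]
  set φ' : (Fin n → R) →ₗ[R] E := LinearMap.lcomp R E π φ with hφ'
  show φ (π r) = Λ' φ'
  have hc : c (c.symm φ') = φ' := c.apply_symm_apply _
  have hsum : Λ' φ' = ∑ i, ψ i (c.symm φ' i) := by
    conv_lhs => rw [← hc]
    rw [← Finset.univ_sum_single (c.symm φ'), map_sum, map_sum]
    simp [ψ]
  rw [hsum]
  simp only [hψ]
  have : φ (π r) = φ' r := rfl
  rw [this, LinearMap.pi_apply_eq_sum_univ φ' r]
  refine Finset.sum_congr rfl fun i _ => ?_
  congr 1
  rw [← hc]
  simp [c, Finset.sum_ite_eq', Pi.single_apply, eq_comm]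
  congr 1
  funext j
  simp [Pi.single_apply, eq_comm]

end Groth.Agent.LC
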