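import Mathlib

/-!
# Comparison of the two `Ext` functors of `ModuleCat R`

Mathlib's `Ext R C i` (left derived of `Hom(-, Y)`) is identified, naturally in both variables, with
`CategoryTheory.Abelian.Ext`.
-/

universe u

open CategoryTheory Limits Opposite

namespace Groth.Agent.LC.ExtBridge

variable {R : Type u} [CommRing R]

/-- `Hom(-, Y)` as a covariant functor to the opposite category. -/
abbrev homF (Y : ModuleCat.{u} R) : ModuleCat.{u} R ⥤ (ModuleCat.{u} R)ᵒᵖ :=
  ((linearYoneda R (ModuleCat.{u} R)).obj Y).rightOp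

variable {X : ModuleCat.{u} R} (P : ProjectiveResolution X) (Y : ModuleCat.{u} R) (i : ℕ)

/-- `Hom(P, Y)` as a chain complex in the opposite category. -/
noncomputable abbrev homCx : ChainComplex (ModuleCat.{u} R)ᵒᵖ ℕ :=
  ((homF Y).mapHomologicalComplex (ComplexShape.down ℕ)).obj P.complex

/-- Cocycles. -/
noncomputable abbrev Cocyc : ModuleCat.{u} R := unop ((homCx P Y).opcycles i)

/-- The cochain underlying a cocycle. -/
noncomputable def cochain : Cocyc P Y i →ₗ[R] (P.complex.X i ⟶ Y) :=
  ((homCx P Y).pOpcycles i).unop.hom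

/-- The class of a cocycle. -/
noncomputable def cls : Cocyc P Y i →ₗ[R] (unop ((homCx P Y).homology i) : ModuleCat.{u} R) :=
  ((homCx P Y).homologyι i).unop.hom

theorem d_cochain (z : Cocyc P Y i) : P.complex.d (i + 1) i ≫ cochain P Y i z = 0 := by
  have h := congrArg Quiver.Hom.unop ((homCx P Y).d_pOpcycles (i + 1) i)
  rw [unop_comp, unop_zero] at h
  exact ConcreteCategory.congr_hom h z

theorem cls_surjective : Function.Surjective (cls P Y i) :=
  (ModuleCat.epi_iff_surjective _).1 (inferInstance : Epi ((homCx P Y).homologyι i).unop)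

theorem smul_extMk (r : R) (f : P.complex.X i ⟶ Y) (hf : P.complex.d (i + 1) i ≫ f = 0) :
    r • P.extMk f (i + 1) rfl hf = P.extMk (r • f) (i + 1) rfl (by rw [Linear.comp_smul, hf, smul_zero]) := by
  rw [Abelian.Ext.smul_eq_comp_mk₀, ProjectiveResolution.extMk_comp_mk₀]
  simp

/-- The extension class of a cocycle. -/
noncomputable def extClassOf : Cocyc P Y i →ₗ[R] Abelian.Ext X Y i where
  toFun z := P.extMk (cochain P Y i z) (i + 1) rfl (d_cochain P Y i z)
  map_add' z z' := by
    rw [P.add_extMk]
    congr 1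
    exact map_add _ z z'
  map_smul' r z := by
    rw [RingHom.id_apply, smul_extMk]
    congr 1
    exact map_smul _ r z

theorem exists_cocyc (f : P.complex.X i ⟶ Y) (hf : P.complex.d (i + 1) i ≫ f = 0) :
    ∃ z, cochain P Y i z = f := by
  let T : ShortComplex (ModuleCat.{u} R)ᵒᵖ :=
    ShortComplex.mk _ _ ((homCx P Y).d_pOpcycles (i + 1) i)
  have hT : T.Exact := ShortComplex.exact_of_g_is_cokernel _
    ((homCx P Y).opcyclesIsCokernel (i + 1) i (by simp))
  exact (ShortComplex.moduleCat_exact_iff _).1 hT.unop f hf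

theorem cochain_injective : Function.Injective (cochain P Y i) :=
  (ModuleCat.mono_iff_injective _).1 (inferInstance : Mono ((homCx P Y).pOpcycles i).unop)

theorem extClassOf_surjective : Function.Surjective (extClassOf P Y i) := fun α => by
  obtain ⟨f, hf, rfl⟩ := P.extMk_surjective α (i + 1) rfl
  obtain ⟨z, rfl⟩ := exists_cocyc P Y i f hf
  exact ⟨z, rfl⟩

theorem ker_cls_eq : LinearMap.ker (cls P Y i) = LinearMap.ker (extClassOf P Y i) := by
  let T : ShortComplex (ModuleCat.{u} R)ᵒᵖ :=
    ShortComplex.mk _ _ ((homCx P Y).homologyι_comp_fromOpcycles i ((ComplexShape.down ℕ).next i))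
  have hT : T.Exact := ShortComplex.exact_of_f_is_kernel _
    ((homCx P Y).homologyIsKernel i _ rfl)
  have hTu := (ShortComplex.moduleCat_exact_iff_range_eq_ker _).1 hT.unop
  change LinearMap.range ((homCx P Y).fromOpcycles i _).unop.hom = LinearMap.ker (cls P Y i) at hTu
  rw [← hTu]
  ext z
  rw [LinearMap.mem_range, LinearMap.mem_ker]
  have key : ∀ (j : ℕ) (g : P.complex.X j ⟶ Y),
      cochain P Y i (((homCx P Y).fromOpcycles i j).unop.hom g) = P.complex.d i j ≫ g := by
    intro j g
    have h := congrArg Quiver.Hom.unop ((homCx P Y).p_fromOpcycles i j)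
    rw [unop_comp] at h
    exact ConcreteCategory.congr_hom h g
  rcases i with _ | p
  · constructor
    · rintro ⟨g, rfl⟩
      have : cochain P Y 0 (((homCx P Y).fromOpcycles 0 _).unop.hom g) = 0 := by
        refine (key _ g).trans ?_
        rw [P.complex.shape _ _ (by simp)]
        exact zero_comp
      show P.extMk _ 1 rfl (d_cochain P Y 0 _) = 0
      simp only [this, ProjectiveResolution.extMk_zero]
    · intro hz
      refine ⟨0, cochain_injective P Y 0 ?_⟩
      rw [map_zero, map_zero]
      have hz' : P.extMk (cochain P Y 0 z) 1 rfl (d_cochain P Y 0 z) = 0 := hz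
      rw [← P.extEquivCohomologyClass.apply_eq_iff_eq,
        ProjectiveResolution.extEquivCohomologyClass_extMk,
        ProjectiveResolution.extEquivCohomologyClass_zero,
        CochainComplex.HomComplex.CohomologyClass.mk_eq_zero_iff,
        CochainComplex.HomComplex.Cocycle.toSingleMk_mem_coboundaries_iff _ _ _ _ _ 1 (by simp)] at hz'
      obtain ⟨g, hg⟩ := hz'
      rw [(CochainComplex.isZero_of_isStrictlyLE P.cochainComplex 0 1).eq_of_src g 0, comp_zero] at hg
      rw [← cancel_epi (P.cochainComplexXIso (-(0 : ℕ) : ℤ) 0 rfl).hom, comp_zero]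
      exact hg
  · have hn : (ComplexShape.down ℕ).next (p + 1) = p := ChainComplex.next_nat_succ p
    constructor
    · rintro ⟨g, rfl⟩
      refine (P.extMk_eq_zero_iff _ (p + 2) rfl (d_cochain P Y (p + 1) _) p rfl).2 ?_
      generalize (ComplexShape.down ℕ).next (p + 1) = j at g hn ⊢
      subst j
      exact ⟨g, (key p g).symm⟩
    · intro hz
      obtain ⟨g, hg⟩ := (P.extMk_eq_zero_iff _ (p + 2) rfl (d_cochain P Y (p + 1) z) p rfl).1 hz
      generalize (ComplexShape.down ℕ).next (p + 1) = j at hn
      subst j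
      exact ⟨g, cochain_injective P Y (p + 1) ((key p g).trans hg)⟩

/-- Homology of `Hom(P, Y)` is `Abelian.Ext`. -/
noncomputable def homologyEquiv :
    (unop ((homCx P Y).homology i) : ModuleCat.{u} R) ≃ₗ[R] Abelian.Ext X Y i :=
  (LinearMap.quotKerEquivOfSurjective _ (cls_surjective P Y i)).symm ≪≫ₗ
    Submodule.quotEquivOfEq _ _ (ker_cls_eq P Y i) ≪≫ₗ
    LinearMap.quotKerEquivOfSurjective _ (extClassOf_surjective P Y i)

theorem homologyEquiv_cls (z : Cocyc P Y i) :
    homologyEquiv P Y i (cls P Y i z) = extClassOf P Y i z := by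
  have : (LinearMap.quotKerEquivOfSurjective _ (cls_surjective P Y i)).symm (cls P Y i z) =
      Submodule.Quotient.mk z := (LinearEquiv.symm_apply_eq _).2 rfl
  simp only [homologyEquiv, LinearEquiv.trans_apply, this]
  rfl

/-- The comparison of the two `Ext`s, through a projective resolution. -/
noncomputable def bridge :
    (((Ext R (ModuleCat.{u} R) i).obj (op X)).obj Y) ≃ₗ[R] Abelian.Ext X Y i :=
  ((P.isoLeftDerivedObj (homF Y) i).unop.symm.toLinearEquiv :
    (((Ext R (ModuleCat.{u} R) i).obj (op X)).obj Y) ≃ₗ[R] _) ≪≫ₗ homologyEquiv P Y i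

theorem exists_rep (w : ((Ext R (ModuleCat.{u} R) i).obj (op X)).obj Y) :
    ∃ z, (P.isoLeftDerivedObj (homF Y) i).hom.unop.hom (cls P Y i z) = w := by
  obtain ⟨z, hz⟩ := cls_surjective P Y i ((P.isoLeftDerivedObj (homF Y) i).inv.unop.hom w)
  refine ⟨z, ?_⟩
  rw [hz]
  have h := congrArg Quiver.Hom.unop (P.isoLeftDerivedObj (homF Y) i).hom_inv_id
  rw [unop_comp, unop_id] at h
  exact ConcreteCategory.congr_hom h w

theorem bridge_rep (z : Cocyc P Y i) :
    bridge P Y i ((P.isoLeftDerivedObj (homF Y) i).hom.unop.hom (cls P Y i z)) =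
      extClassOf P Y i z := by
  rw [← homologyEquiv_cls]
  show homologyEquiv P Y i ((P.isoLeftDerivedObj (homF Y) i).inv.unop.hom _) = _
  congr 1
  have h := congrArg Quiver.Hom.unop (P.isoLeftDerivedObj (homF Y) i).inv_hom_id
  rw [unop_comp, unop_id] at h
  exact ConcreteCategory.congr_hom h _

theorem bridge_natural_left {X' : ModuleCat.{u} R} (P' : ProjectiveResolution X') (f : X' ⟶ X)
    (w : ((Ext R (ModuleCat.{u} R) i).obj (op X)).obj Y) :
    bridge P' Y i ((((Ext R (ModuleCat.{u} R) i).map f.op).app Y).hom w) =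
      (Abelian.Ext.mk₀ f).comp (bridge P Y i w) (zero_add _) := by
  obtain ⟨z, rfl⟩ := exists_rep P Y i w
  let φ : ProjectiveResolution.Hom P' P f :=
    ⟨ProjectiveResolution.lift f P' P, by
      simpa using ProjectiveResolution.lift_commutes_zero f P' P⟩
  let T := ((homF Y).mapHomologicalComplex (ComplexShape.down ℕ)).map φ.hom
  have h1 := congrArg Quiver.Hom.unop
    (ProjectiveResolution.isoLeftDerivedObj_hom_naturality f P' P φ.hom
      (ProjectiveResolution.lift_commutes_zero f P' P) (homF Y) i)
  simp only [unop_comp, Functor.comp_map, HomologicalComplex.homologyFunctor_map] at h1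
  have h2 := ConcreteCategory.congr_hom h1 (cls P Y i z)
  have h3 : (HomologicalComplex.homologyMap T i).unop.hom (cls P Y i z) =
      cls P' Y i ((HomologicalComplex.opcyclesMap T i).unop.hom z) := by
    have := congrArg Quiver.Hom.unop (HomologicalComplex.homologyι_naturality T i)
    rw [unop_comp, unop_comp] at this
    exact ConcreteCategory.congr_hom this z
  have h4 : cochain P' Y i ((HomologicalComplex.opcyclesMap T i).unop.hom z) =
      φ.hom.f i ≫ cochain P Y i z := by
    have := congrArg Quiver.Hom.unop (HomologicalComplex.p_opcyclesMap T i)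
    rw [unop_comp, unop_comp] at this
    exact ConcreteCategory.congr_hom this z
  rw [bridge_rep]
  refine (congrArg (bridge P' Y i) (h2.trans (congrArg (P'.isoLeftDerivedObj (homF Y) i).hom.unop.hom h3))).trans ?_
  refine (bridge_rep P' Y i _).trans ?_
  show P'.extMk _ (i + 1) rfl (d_cochain P' Y i _) =
    (Abelian.Ext.mk₀ f).comp (P.extMk _ (i + 1) rfl (d_cochain P Y i z)) (zero_add _)
  rw [ProjectiveResolution.mk₀_comp_extMk _ _ _ _ φ]
  congr 1

theorem bridge_natural_right {Y' : ModuleCat.{u} R} (g : Y ⟶ Y')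
    (w : ((Ext R (ModuleCat.{u} R) i).obj (op X)).obj Y) :
    bridge P Y' i ((((Ext R (ModuleCat.{u} R) i).obj (op X)).map g).hom w) =
      (bridge P Y i w).comp (Abelian.Ext.mk₀ g) (add_zero _) := by
  obtain ⟨z, rfl⟩ := exists_rep P Y i w
  let α : homF Y' ⟶ homF Y := NatTrans.rightOp ((linearYoneda R (ModuleCat.{u} R)).map g)
  let T := (NatTrans.mapHomologicalComplex α (ComplexShape.down ℕ)).app P.complex
  have hmap : ((Ext R (ModuleCat.{u} R) i).obj (op X)).map g =
      ((NatTrans.leftDerived α i).app X).unop := rfl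
  rw [hmap, P.leftDerived_app_eq α i]
  simp only [unop_comp]
  have h3 : (HomologicalComplex.homologyMap T i).unop.hom (cls P Y i z) =
      cls P Y' i ((HomologicalComplex.opcyclesMap T i).unop.hom z) := by
    have := congrArg Quiver.Hom.unop (HomologicalComplex.homologyι_naturality T i)
    rw [unop_comp, unop_comp] at this
    exact ConcreteCategory.congr_hom this z
  have h4 : cochain P Y' i ((HomologicalComplex.opcyclesMap T i).unop.hom z) =
      cochain P Y i z ≫ g := by
    have := congrArg Quiver.Hom.unop (HomologicalComplex.p_opcyclesMap T i)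
    rw [unop_comp, unop_comp] at this
    exact ConcreteCategory.congr_hom this z
  have h5 : (P.isoLeftDerivedObj (homF Y) i).inv.unop.hom
      ((P.isoLeftDerivedObj (homF Y) i).hom.unop.hom (cls P Y i z)) = cls P Y i z := by
    have h := congrArg Quiver.Hom.unop (P.isoLeftDerivedObj (homF Y) i).inv_hom_id
    rw [unop_comp, unop_id] at h
    exact ConcreteCategory.congr_hom h _
  rw [bridge_rep]
  refine (congrArg (bridge P Y' i) (congrArg (P.isoLeftDerivedObj (homF Y') i).hom.unop.hom
    ((congrArg (HomologicalComplex.homologyMap T i).unop.hom h5).trans h3))).trans ?_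
  refine (bridge_rep P Y' i _).trans ?_
  show P.extMk _ (i + 1) rfl (d_cochain P Y' i _) =
    (P.extMk _ (i + 1) rfl (d_cochain P Y i z)).comp (Abelian.Ext.mk₀ g) (add_zero _)
  rw [ProjectiveResolution.extMk_comp_mk₀]
  congr 1

end Groth.Agent.LC.ExtBridge
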