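import Groth.Prelude.Def_Wider
import Groth.Agent.LC.ExtBridge

/-!
# Local cohomology as a direct limit of `Abelian.Ext`

`toH I i M n : Ext^i(R/I^n, M) → H^i_I(M)` with its universal property, naturality and the long
exact sequence.
-/

universe u

open CategoryTheory Limits Opposite

namespace Groth.Agent.LC

variable {R : Type u} [CommRing R] (I : Ideal R)

/-- `R/I^n` as an object of `ModuleCat R`. -/
noncomputable abbrev qObj (n : ℕ) : ModuleCat.{u} R := ModuleCat.of R (R ⧸ I ^ n)

/-- The projection `R/I^m → R/I^n` for `n ≤ m`. -/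
noncomputable def qMap {n m : ℕ} (h : n ≤ m) : qObj I m ⟶ qObj I n :=
  ModuleCat.ofHom (Submodule.mapQ _ _ LinearMap.id (Ideal.pow_le_pow_right h))

theorem qMap_mk {n m : ℕ} (h : n ≤ m) (r : R) :
    (qMap I h).hom (Ideal.Quotient.mk (I ^ m) r) = Ideal.Quotient.mk (I ^ n) r := rfl

theorem qMap_comp {n m k : ℕ} (h : n ≤ m) (h' : m ≤ k) :
    qMap I h' ≫ qMap I h = qMap I (h.trans h') := by
  ext; rfl

theorem qMap_refl (n : ℕ) : qMap I (le_refl n) = 𝟙 _ := by
  ext; rfl

/-- Restriction of extension classes along `R/I^m → R/I^n`. -/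
noncomputable def res {n m : ℕ} (h : n ≤ m) (i : ℕ) (M : ModuleCat.{u} R) :
    Abelian.Ext (qObj I n) M i →ₗ[R] Abelian.Ext (qObj I m) M i :=
  (Abelian.Ext.mk₀ (qMap I h)).precompOfLinear R M (zero_add i)

theorem res_apply {n m : ℕ} (h : n ≤ m) {i : ℕ} {M : ModuleCat.{u} R} (x : Abelian.Ext (qObj I n) M i) :
    res I h i M x = (Abelian.Ext.mk₀ (qMap I h)).comp x (zero_add i) := rfl

theorem res_res {n m k : ℕ} (h : n ≤ m) (h' : m ≤ k) {i : ℕ} {M : ModuleCat.{u} R}
    (x : Abelian.Ext (qObj I n) M i) : res I h' i M (res I h i M x) = res I (h.trans h') i M x := by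
  simp only [res_apply]
  rw [← qMap_comp I h h', ← Abelian.Ext.mk₀_comp_mk₀]
  exact (Abelian.Ext.comp_assoc _ _ _ (zero_add 0) (zero_add i) (by simp)).symm

theorem res_refl (n : ℕ) {i : ℕ} {M : ModuleCat.{u} R} (x : Abelian.Ext (qObj I n) M i) :
    res I (le_refl n) i M x = x := by
  rw [res_apply, qMap_refl, Abelian.Ext.mk₀_id_comp]

theorem res_comp {n m : ℕ} (h : n ≤ m) {i j : ℕ} {M N : ModuleCat.{u} R} {d : ℕ} (hd : i + d = j)
    (x : Abelian.Ext (qObj I n) M i) (β : Abelian.Ext M N d) :
    res I h j N (x.comp β hd) = (res I h i M x).comp β hd := by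
  simp only [res_apply]
  exact (Abelian.Ext.comp_assoc _ _ _ (zero_add i) hd (by omega)).symm

variable (i : ℕ)

instance : PreservesFilteredColimitsOfSize.{0, 0} (forget (ModuleCat.{u} R)) :=
  preservesFilteredColimitsOfSize_shrink _

instance : PreservesColimitsOfShape ℕᵒᵖᵒᵖ (forget (ModuleCat.{u} R)) :=
  PreservesFilteredColimitsOfSize.preserves_filtered_colimits _

/-- The bridge at level `n`. -/
noncomputable def lvl (n : ℕ) (M : ModuleCat.{u} R) :
    (((localCohomology.diagram (localCohomology.idealPowersDiagram I) i).obj (op (op n))).obj M) ≃ₗ[R]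
      Abelian.Ext (qObj I n) M i :=
  ExtBridge.bridge (projectiveResolution (qObj I n)) M i

/-- The structure map `Ext^i(R/I^n, M) → H^i_I(M)`. -/
noncomputable def toH (M : ModuleCat.{u} R) (n : ℕ) :
    Abelian.Ext (qObj I n) M i →ₗ[R] (localCohomology I i).obj M :=
  ((colimit.ι (localCohomology.diagram (localCohomology.idealPowersDiagram I) i) (op (op n))).app M).hom
    ∘ₗ (lvl I i n M).symm.toLinearMap

theorem toH_lvl (M : ModuleCat.{u} R) (n : ℕ)
    (w : ((localCohomology.diagram (localCohomology.idealPowersDiagram I) i).obj (op (op n))).obj M) :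
    toH I i M n (lvl I i n M w) =
      ((colimit.ι (localCohomology.diagram (localCohomology.idealPowersDiagram I) i) (op (op n))).app M).hom w :=
  congrArg _ ((lvl I i n M).symm_apply_apply w)

/-- The arrow `n → m` of the index category. -/
def arr {n m : ℕ} (h : n ≤ m) : (op (op n) : ℕᵒᵖᵒᵖ) ⟶ op (op m) := ((homOfLE h).op).op

theorem lvl_map {n m : ℕ} (h : n ≤ m) (M : ModuleCat.{u} R)
    (w : ((localCohomology.diagram (localCohomology.idealPowersDiagram I) i).obj (op (op n))).obj M) :
    lvl I i m M ((((localCohomology.diagram (localCohomology.idealPowersDiagram I) i).map (arr h)).app M).hom w) =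
      res I h i M (lvl I i n M w) :=
  ExtBridge.bridge_natural_left (projectiveResolution (qObj I n)) M i (projectiveResolution (qObj I m))
    (qMap I h) w

theorem toH_res {n m : ℕ} (h : n ≤ m) {M : ModuleCat.{u} R} (x : Abelian.Ext (qObj I n) M i) :
    toH I i M m (res I h i M x) = toH I i M n x := by
  obtain ⟨w, rfl⟩ := (lvl I i n M).surjective x
  rw [← lvl_map, toH_lvl, toH_lvl]
  exact ConcreteCategory.congr_hom
    (congrArg (fun t => t.app M)
      (colimit.w (localCohomology.diagram (localCohomology.idealPowersDiagram I) i) (arr h))) w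

/-- Evaluation of the colimit at `M` is a colimit. -/
noncomputable def isColimitH (M : ModuleCat.{u} R) :
    IsColimit (((evaluation _ _).obj M).mapCocone
      (colimit.cocone (localCohomology.diagram (localCohomology.idealPowersDiagram I) i))) :=
  isColimitOfPreserves _ (colimit.isColimit _)

theorem exists_toH {M : ModuleCat.{u} R} (z : (localCohomology I i).obj M) :
    ∃ n x, toH I i M n x = z := by
  obtain ⟨j, w, hw⟩ := Concrete.isColimit_exists_rep _ (isColimitH I i M) z
  refine ⟨j.unop.unop, lvl I i _ M w, ?_⟩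
  rw [toH_lvl]
  exact hw

/-- Two elements have representatives at a common level. -/
theorem exists_toH_of_le {M : ModuleCat.{u} R} (z : (localCohomology I i).obj M) (k : ℕ) :
    ∃ n, k ≤ n ∧ ∃ x, toH I i M n x = z := by
  obtain ⟨n, x, rfl⟩ := exists_toH I i z
  exact ⟨max k n, le_max_left _ _, _, toH_res I i (le_max_right k n) x⟩

theorem toH_eq_zero_iff {M : ModuleCat.{u} R} {n : ℕ} (x : Abelian.Ext (qObj I n) M i) :
    toH I i M n x = 0 ↔ ∃ (m : ℕ) (h : n ≤ m), res I h i M x = 0 := by
  refine ⟨fun hx => ?_, fun ⟨m, h, hm⟩ => by rw [← toH_res I i h, hm, map_zero]⟩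
  obtain ⟨k, f, g, hk⟩ := Concrete.isColimit_exists_of_rep_eq _ (isColimitH I i M)
    (i := (op (op n) : ℕᵒᵖᵒᵖ)) (j := (op (op n) : ℕᵒᵖᵒᵖ)) ((lvl I i n M).symm x)
    (0 : ((localCohomology.diagram (localCohomology.idealPowersDiagram I) i).obj (op (op n))).obj M)
    (by
      refine Eq.trans ?_ (map_zero _).symm
      exact hx)
  have h : n ≤ k.unop.unop := f.unop.unop.down.down
  refine ⟨k.unop.unop, h, ?_⟩
  obtain rfl : f = arr h := Subsingleton.elim _ _
  rw [← LinearEquiv.apply_symm_apply (lvl I i n M) x, ← lvl_map, LinearEquiv.map_eq_zero_iff]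
  exact hk.trans (map_zero _)

/-- Naturality in the module. -/
theorem toH_natural {M N : ModuleCat.{u} R} (g : M ⟶ N) {n : ℕ} (x : Abelian.Ext (qObj I n) M i) :
    ((localCohomology I i).map g).hom (toH I i M n x) =
      toH I i N n (x.comp (Abelian.Ext.mk₀ g) (add_zero i)) := by
  obtain ⟨w, rfl⟩ := (lvl I i n M).surjective x
  have h := ExtBridge.bridge_natural_right (projectiveResolution (qObj I n)) M i g w
  rw [show (lvl I i n M w).comp (Abelian.Ext.mk₀ g) (add_zero i) = lvl I i n N
    ((((localCohomology.diagram (localCohomology.idealPowersDiagram I) i).obj (op (op n))).map g).hom w) from h.symm,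
    toH_lvl, toH_lvl]
  exact (ConcreteCategory.congr_hom
    ((colimit.ι (localCohomology.diagram (localCohomology.idealPowersDiagram I) i) (op (op n))).naturality g) w).symm

/-- A compatible family of linear maps out of the `Ext^i(R/I^n, M)` descends to `H^i_I(M)`. -/
theorem exists_descH {M : ModuleCat.{u} R} {T : Type*} [AddCommGroup T] [Module R T]
    (φ : ∀ n, Abelian.Ext (qObj I n) M i →ₗ[R] T)
    (hφ : ∀ n m (h : n ≤ m) x, φ m (res I h i M x) = φ n x) :
    ∃ Φ : (localCohomology I i).obj M →ₗ[R] T, ∀ n x, Φ (toH I i M n x) = φ n x := by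
  choose N X hX using fun z => exists_toH I i (M := M) z
  have key : ∀ z n x, toH I i M n x = z → φ n x = φ (N z) (X z) := by
    intro z n x hx
    have h1 : toH I i M (max n (N z)) (res I (le_max_left n (N z)) i M x -
        res I (le_max_right n (N z)) i M (X z)) = 0 := by
      rw [map_sub, toH_res, toH_res, hx, hX, sub_self]
    obtain ⟨m, hm, hz⟩ := (toH_eq_zero_iff I i _).1 h1
    rw [map_sub, sub_eq_zero, res_res, res_res] at hz
    rw [← hφ _ _ ((le_max_left n (N z)).trans hm) x, hz, hφ]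
  refine ⟨{ toFun := fun z => φ (N z) (X z), map_add' := fun z z' => ?_, map_smul' := fun r z => ?_ },
    fun n x => (key _ n x rfl).symm⟩
  · obtain ⟨n, x, rfl⟩ := exists_toH I i z
    obtain ⟨m, hm, y, rfl⟩ := exists_toH_of_le I i z' n
    rw [← key (toH I i M n x + toH I i M m y) m (res I hm i M x + y) (by rw [map_add, toH_res]),
      ← key (toH I i M n x) n x rfl, ← key (toH I i M m y) m y rfl, map_add, hφ]
  · obtain ⟨n, x, rfl⟩ := exists_toH I i z
    rw [RingHom.id_apply, ← key (r • toH I i M n x) n (r • x) (map_smul _ _ _),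
      ← key (toH I i M n x) n x rfl, map_smul]

theorem hom_ext_H {M : ModuleCat.{u} R} {T : Type*} [AddCommGroup T] [Module R T]
    {Φ Ψ : (localCohomology I i).obj M →ₗ[R] T}
    (h : ∀ n x, Φ (toH I i M n x) = Ψ (toH I i M n x)) : Φ = Ψ :=
  LinearMap.ext fun z => by obtain ⟨n, x, rfl⟩ := exists_toH I i z; exact h n x

section LES

variable {S : ShortComplex (ModuleCat.{u} R)} (hS : S.ShortExact)

include hS in
/-- The connecting homomorphism exists. -/
theorem exists_δH (j : ℕ) (hj : i + 1 = j) :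
    ∃ δ : (localCohomology I i).obj S.X₃ →ₗ[R] (localCohomology I j).obj S.X₁,
      ∀ n x, δ (toH I i S.X₃ n x) = toH I j S.X₁ n (x.comp hS.extClass hj) := by
  refine exists_descH I i (fun n => toH I j S.X₁ n ∘ₗ hS.extClass.postcompOfLinear R (qObj I n) hj)
    fun n m h x => ?_
  show toH I j S.X₁ m ((res I h i S.X₃ x).comp hS.extClass hj) = _
  rw [← res_comp, toH_res]
  rfl

/-- The connecting homomorphism `H^i_I(X₃) → H^j_I(X₁)`. -/
noncomputable def δH (j : ℕ) (hj : i + 1 = j) :
    (localCohomology I i).obj S.X₃ →ₗ[R] (localCohomology I j).obj S.X₁ :=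
  (exists_δH I i hS j hj).choose

theorem δH_toH (j : ℕ) (hj : i + 1 = j) {n : ℕ} (x : Abelian.Ext (qObj I n) S.X₃ i) :
    δH I i hS j hj (toH I i S.X₃ n x) = toH I j S.X₁ n (x.comp hS.extClass hj) :=
  (exists_δH I i hS j hj).choose_spec n x

include hS in
theorem exact₂ : Function.Exact ((localCohomology I i).map S.f).hom ((localCohomology I i).map S.g).hom := by
  intro z
  obtain ⟨n, x, rfl⟩ := exists_toH I i z
  constructor
  · intro hz
    rw [toH_natural, toH_eq_zero_iff] at hz
    obtain ⟨m, hm, hz⟩ := hz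
    rw [res_comp] at hz
    obtain ⟨y, hy⟩ := Abelian.Ext.covariant_sequence_exact₂ (qObj I m) hS _ hz
    exact ⟨toH I i S.X₁ m y, by rw [toH_natural, hy, toH_res]⟩
  · rintro ⟨w, hw⟩
    obtain ⟨m, y, rfl⟩ := exists_toH I i w
    rw [← hw, toH_natural, toH_natural, Abelian.Ext.comp_assoc_of_third_deg_zero,
      Abelian.Ext.mk₀_comp_mk₀, S.zero, Abelian.Ext.mk₀_zero, Abelian.Ext.comp_zero, map_zero]

theorem exact₃ (j : ℕ) (hj : i + 1 = j) :
    Function.Exact ((localCohomology I i).map S.g).hom (δH I i hS j hj) := by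
  intro z
  obtain ⟨n, x, rfl⟩ := exists_toH I i z
  constructor
  · intro hz
    rw [δH_toH, toH_eq_zero_iff] at hz
    obtain ⟨m, hm, hz⟩ := hz
    rw [res_comp] at hz
    obtain ⟨y, hy⟩ := Abelian.Ext.covariant_sequence_exact₃ (qObj I m) hS _ hj hz
    exact ⟨toH I i S.X₂ m y, by rw [toH_natural, hy, toH_res]⟩
  · rintro ⟨w, hw⟩
    obtain ⟨m, y, rfl⟩ := exists_toH I i w
    rw [← hw, toH_natural, δH_toH, Abelian.Ext.comp_assoc _ _ _ (add_zero i) (zero_add 1) (by omega),
      hS.comp_extClass, Abelian.Ext.comp_zero, map_zero]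

theorem exact₁ (j : ℕ) (hj : i + 1 = j) :
    Function.Exact (δH I i hS j hj) ((localCohomology I j).map S.f).hom := by
  intro z
  obtain ⟨n, x, rfl⟩ := exists_toH I j z
  constructor
  · intro hz
    rw [toH_natural, toH_eq_zero_iff] at hz
    obtain ⟨m, hm, hz⟩ := hz
    rw [res_comp] at hz
    obtain ⟨y, hy⟩ := Abelian.Ext.covariant_sequence_exact₁ (qObj I m) hS _ hz hj
    exact ⟨toH I i S.X₃ m y, by rw [δH_toH, hy, toH_res]⟩
  · rintro ⟨w, hw⟩
    obtain ⟨m, y, rfl⟩ := exists_toH I i w
    rw [← hw, δH_toH, toH_natural, Abelian.Ext.comp_assoc _ _ _ hj (add_zero 1) (by omega),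
      hS.extClass_comp, Abelian.Ext.comp_zero, map_zero]

end LES

theorem subsingleton_of_injective (M : ModuleCat.{u} R) [Injective M] (j : ℕ) :
    Subsingleton ((localCohomology I (j + 1)).obj M) :=
  subsingleton_of_forall_eq 0 fun z => by
    obtain ⟨n, x, rfl⟩ := exists_toH I (j + 1) z
    rw [Abelian.Ext.eq_zero_of_injective x, map_zero]

end Groth.Agent.LC
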