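import Groth.Agent.LC.Colimit
import Groth.Agent.LC.CohBasic
import Mathlib.LinearAlgebra.TensorProduct.RightExactness

/-!
# A right exact local cohomology functor is tensoring
-/

universe u

open CategoryTheory Limits TensorProduct

namespace Groth.Agent.LC

variable {R : Type u} [CommRing R] (I : Ideal R) (i : ℕ)

/-- `f ↦ H^i_I(f) h` is linear. -/
theorem map_add_apply {M N : ModuleCat.{u} R} (f g : M ⟶ N) (h : (localCohomology I i).obj M) :
    ((localCohomology I i).map (f + g)).hom h =
      ((localCohomology I i).map f).hom h + ((localCohomology I i).map g).hom h := by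
  obtain ⟨n, x, rfl⟩ := exists_toH I i h
  rw [toH_natural, toH_natural, toH_natural, ← map_add, Abelian.Ext.mk₀_add, Abelian.Ext.comp_add]

theorem map_smul_apply {M N : ModuleCat.{u} R} (r : R) (f : M ⟶ N) (h : (localCohomology I i).obj M) :
    ((localCohomology I i).map (r • f)).hom h = r • ((localCohomology I i).map f).hom h := by
  obtain ⟨n, x, rfl⟩ := exists_toH I i h
  rw [toH_natural, toH_natural, ← map_smul, Abelian.Ext.mk₀_smul, Abelian.Ext.comp_smul]

theorem map_zero_apply {M N : ModuleCat.{u} R} (h : (localCohomology I i).obj M) :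
    ((localCohomology I i).map (0 : M ⟶ N)).hom h = 0 := by
  simpa using map_smul_apply I i (0 : R) (0 : M ⟶ N) h

/-- `m ↦ (1 ↦ m)`. -/
def ptMor (M : ModuleCat.{u} R) : M →ₗ[R] (ModuleCat.of R R ⟶ M) where
  toFun m := ModuleCat.ofHom (LinearMap.toSpanSingleton R M m)
  map_add' a b := ModuleCat.hom_ext (LinearMap.toSpanSingleton_add a b)
  map_smul' r a := ModuleCat.hom_ext (LinearMap.toSpanSingleton_smul r a)

/-- The natural map `H^i_I(R) ⊗ M → H^i_I(M)`. -/
noncomputable def htensor (M : ModuleCat.{u} R) :
    (localCohomology I i).obj (ModuleCat.of R R) ⊗[R] M →ₗ[R] (localCohomology I i).obj M :=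
  TensorProduct.lift <| LinearMap.mk₂ R (fun h m => ((localCohomology I i).map (ptMor M m)).hom h)
    (fun a b m => map_add _ a b) (fun r a m => map_smul _ r a)
    (fun h a b => by rw [map_add, map_add_apply])
    (fun r h a => by rw [map_smul, map_smul_apply])

theorem htensor_tmul (M : ModuleCat.{u} R) (h : (localCohomology I i).obj (ModuleCat.of R R)) (m : M) :
    htensor I i M (h ⊗ₜ m) = ((localCohomology I i).map (ptMor M m)).hom h := rfl

theorem htensor_natural {M N : ModuleCat.{u} R} (f : M ⟶ N)
    (t : (localCohomology I i).obj (ModuleCat.of R R) ⊗[R] M) :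
    htensor I i N (f.hom.lTensor _ t) = ((localCohomology I i).map f).hom (htensor I i M t) := by
  induction t with
  | zero => simp
  | add a b ha hb => simp only [map_add, ha, hb]
  | tmul h m =>
    rw [LinearMap.lTensor_tmul, htensor_tmul, htensor_tmul, ← ModuleCat.comp_apply, ← Functor.map_comp]
    congr 3
    exact ModuleCat.hom_ext (LinearMap.ext fun r => (map_smul f.hom r m).symm)

theorem htensor_bijective_pi (n : ℕ) : Function.Bijective (htensor I i (ModuleCat.of R (Fin n → R))) := by
  let F : ModuleCat.{u} R := ModuleCat.of R (Fin n → R)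
  let e : Fin n → F := fun k => (Pi.single k 1 : Fin n → R)
  let pr : Fin n → (F ⟶ ModuleCat.of R R) := fun k => ModuleCat.ofHom (LinearMap.proj k)
  let Ψ : (localCohomology I i).obj F →ₗ[R] (localCohomology I i).obj (ModuleCat.of R R) ⊗[R] F :=
    ∑ k, (TensorProduct.mk R _ F).flip (e k) ∘ₗ ((localCohomology I i).map (pr k)).hom
  have hΨ : ∀ z, Ψ z = ∑ k, ((localCohomology I i).map (pr k)).hom z ⊗ₜ[R] e k := fun z => by
    simp [Ψ, LinearMap.sum_apply]
  refine Function.bijective_iff_has_inverse.2 ⟨Ψ, fun t => ?_, fun z => ?_⟩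
  · induction t with
    | zero => simp
    | add a b ha hb => simp only [map_add, ha, hb]
    | tmul h v =>
      rw [hΨ]
      have hk : ∀ k, ((localCohomology I i).map (pr k)).hom (htensor I i F (h ⊗ₜ v)) =
          (v : Fin n → R) k • h := by
        intro k
        rw [htensor_tmul, ← ModuleCat.comp_apply, ← Functor.map_comp,
          show ptMor F v ≫ pr k = (v : Fin n → R) k • 𝟙 (ModuleCat.of R R) from
            ModuleCat.hom_ext (LinearMap.ext fun r => mul_comm r ((v : Fin n → R) k)),
          map_smul_apply, CategoryTheory.Functor.map_id]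
        rfl
      refine (Finset.sum_congr rfl fun k _ => (congrArg (· ⊗ₜ[R] e k) (hk k)).trans
        (TensorProduct.smul_tmul _ h (e k))).trans ?_
      rw [← TensorProduct.tmul_sum]
      exact congrArg (fun w : F => h ⊗ₜ[R] w) (pi_eq_sum_univ' (v : Fin n → R)).symm
  · rw [hΨ, map_sum]
    refine (Finset.sum_congr rfl fun k _ => (htensor_tmul I i F _ (e k)).trans
      (show _ = ((localCohomology I i).map (pr k ≫ ptMor F (e k))).hom z by
        rw [Functor.map_comp, ModuleCat.comp_apply])).trans ?_
    have hid : 𝟙 F = ∑ k, pr k ≫ ptMor F (e k) := by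
      refine ModuleCat.hom_ext (LinearMap.ext fun v => ?_)
      rw [ModuleCat.hom_sum, LinearMap.sum_apply]
      exact pi_eq_sum_univ' (v : Fin n → R)
    have hsum : ∀ (s : Finset (Fin n)), ((localCohomology I i).map (∑ k ∈ s, pr k ≫ ptMor F (e k))).hom z =
        ∑ k ∈ s, ((localCohomology I i).map (pr k ≫ ptMor F (e k))).hom z := by
      intro s
      induction s using Finset.cons_induction with
      | empty => simp only [Finset.sum_empty]; exact map_zero_apply I i z
      | cons a s ha ih => rw [Finset.sum_cons, Finset.sum_cons, map_add_apply, ih]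
    rw [← hsum, ← hid, CategoryTheory.Functor.map_id]
    rfl

variable [IsNoetherianRing R]

theorem htensor_bijective_of_finite
    (hvan : ∀ (N : ModuleCat.{u} R), Module.Finite R N → Subsingleton ((localCohomology I (i + 1)).obj N))
    (M : ModuleCat.{u} R) [Module.Finite R M] : Function.Bijective (htensor I i M) := by
  have hsurj : ∀ (M : ModuleCat.{u} R), Module.Finite R M → Function.Surjective (htensor I i M) := by
    intro M _ z
    obtain ⟨n, π, hπ⟩ := Module.Finite.exists_fin' R M
    let S : ShortComplex (ModuleCat.{u} R) := ShortComplex.mk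
      (X₁ := ModuleCat.of R (LinearMap.ker π)) (X₂ := ModuleCat.of R (Fin n → R)) (X₃ := M)
      (ModuleCat.ofHom (LinearMap.ker π).subtype) (ModuleCat.ofHom π)
      (ModuleCat.hom_ext (LinearMap.ext fun z => z.2))
    have hS : S.ShortExact :=
      { exact := (ShortComplex.ShortExact.moduleCat_exact_iff_function_exact _).2
          (LinearMap.exact_subtype_ker_map π)
        mono_f := (ModuleCat.mono_iff_injective _).2 Subtype.val_injective
        epi_g := (ModuleCat.epi_iff_surjective _).2 hπ }
    have := hvan S.X₁ (inferInstanceAs (Module.Finite R (LinearMap.ker π)))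
    obtain ⟨w, rfl⟩ := (exact₃ I i hS (i + 1) rfl z).1 (Subsingleton.elim _ _)
    obtain ⟨t, rfl⟩ := (htensor_bijective_pi I i n).2 w
    exact ⟨π.lTensor _ t, htensor_natural I i S.g t⟩
  refine ⟨(injective_iff_map_eq_zero _).2 fun t ht => ?_, hsurj M inferInstance⟩
  obtain ⟨n, π, hπ⟩ := Module.Finite.exists_fin' R M
  let S : ShortComplex (ModuleCat.{u} R) := ShortComplex.mk
    (X₁ := ModuleCat.of R (LinearMap.ker π)) (X₂ := ModuleCat.of R (Fin n → R)) (X₃ := M)
    (ModuleCat.ofHom (LinearMap.ker π).subtype) (ModuleCat.ofHom π)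
    (ModuleCat.hom_ext (LinearMap.ext fun z => z.2))
  have hS : S.ShortExact :=
    { exact := (ShortComplex.ShortExact.moduleCat_exact_iff_function_exact _).2
        (LinearMap.exact_subtype_ker_map π)
      mono_f := (ModuleCat.mono_iff_injective _).2 Subtype.val_injective
      epi_g := (ModuleCat.epi_iff_surjective _).2 hπ }
  obtain ⟨s, rfl⟩ := LinearMap.lTensor_surjective ((localCohomology I i).obj (ModuleCat.of R R)) hπ t
  have h0 : ((localCohomology I i).map S.g).hom (htensor I i S.X₂ s) = 0 := by
    rw [← htensor_natural]; exact ht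
  obtain ⟨w, hw⟩ := (exact₂ I i hS _).1 h0
  obtain ⟨v, rfl⟩ := hsurj S.X₁ (inferInstanceAs (Module.Finite R (LinearMap.ker π))) w
  rw [← htensor_natural] at hw
  rw [← (htensor_bijective_pi I i n).1 hw, ← LinearMap.comp_apply, ← LinearMap.lTensor_comp]
  have : π ∘ₗ S.f.hom = 0 := LinearMap.ext fun z => z.2
  show (π ∘ₗ S.f.hom).lTensor _ v = 0
  rw [this, LinearMap.lTensor_zero, LinearMap.zero_apply]

theorem exists_fg_tensor {H : Type u} [AddCommGroup H] [Module R H] (M : ModuleCat.{u} R) (t : H ⊗[R] M) :
    ∃ (N : Submodule R M) (_ : N.FG) (s : H ⊗[R] N), N.subtype.lTensor H s = t := by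
  induction t with
  | zero => exact ⟨⊥, Submodule.fg_bot, 0, map_zero _⟩
  | tmul h m => exact ⟨R ∙ m, Submodule.fg_span_singleton m, h ⊗ₜ ⟨m, Submodule.mem_span_singleton_self m⟩, rfl⟩
  | add a b ha hb =>
    obtain ⟨N, hN, s, rfl⟩ := ha
    obtain ⟨N', hN', s', rfl⟩ := hb
    refine ⟨N ⊔ N', hN.sup hN', (Submodule.inclusion le_sup_left).lTensor H s +
      (Submodule.inclusion le_sup_right).lTensor H s', ?_⟩
    simp only [map_add, ← LinearMap.comp_apply, ← LinearMap.lTensor_comp, Submodule.subtype_comp_inclusion]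

/-- If `H^{i+1}_I` vanishes, `H^i_I(M) ≅ H^i_I(R) ⊗ M` for every module. -/
theorem htensor_bijective
    (hvan : ∀ (N : ModuleCat.{u} R), Module.Finite R N → Subsingleton ((localCohomology I (i + 1)).obj N))
    (M : ModuleCat.{u} R) : Function.Bijective (htensor I i M) := by
  have hc := (isElemColim_fgSystem M).localCohomology I i
  refine ⟨(injective_iff_map_eq_zero _).2 fun t ht => ?_, fun z => ?_⟩
  · obtain ⟨N, hN, s, rfl⟩ := exists_fg_tensor M t
    have h0 : ((localCohomology I i).map (ModuleCat.ofHom N.subtype)).hom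
        (htensor I i (ModuleCat.of R N) s) = 0 :=
      (htensor_natural I i (ModuleCat.ofHom N.subtype) s).symm.trans ht
    obtain ⟨N', a, ha⟩ := hc.zero ⟨N, hN⟩ (htensor I i (ModuleCat.of R N) s) h0
    have : Module.Finite R (ModuleCat.of R N'.1) := Module.Finite.iff_fg.2 N'.2
    have h1 : (Submodule.inclusion (leOfHom a)).lTensor _ s = 0 := by
      refine (htensor_bijective_of_finite I i hvan (ModuleCat.of R N'.1)).1 ?_
      rw [map_zero]
      exact (htensor_natural I i (ModuleCat.ofHom (Submodule.inclusion (leOfHom a))) s).trans ha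
    rw [← Submodule.subtype_comp_inclusion N N'.1 (leOfHom a), LinearMap.lTensor_comp,
      LinearMap.comp_apply, h1, map_zero]
  · obtain ⟨N, w, rfl⟩ := hc.rep z
    have : Module.Finite R (ModuleCat.of R N.1) := Module.Finite.iff_fg.2 N.2
    obtain ⟨t, rfl⟩ := (htensor_bijective_of_finite I i hvan (ModuleCat.of R N.1)).2 w
    exact ⟨_, htensor_natural I i (ModuleCat.ofHom N.1.subtype) t⟩

end Groth.Agent.LC
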