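import Groth.Agent.LC.TopDim2
import Groth.Agent.LC.HTensor
import Mathlib.Algebra.Module.LocalizedModule.Int
import Mathlib.RingTheory.LocalRing.Module

/-!
# Top local cohomology: more consequences
-/

universe u

open CategoryTheory Limits IsLocalRing TensorProduct

namespace Groth.Agent.LC

variable {R : Type u} [CommRing R] [IsNoetherianRing R]

theorem supportDim_le_of_ringKrullDim {d : ℕ} (hd : ringKrullDim R ≤ d) (M : Type u) [AddCommGroup M]
    [Module R M] : Module.supportDim R M ≤ (d : WithBot ℕ∞) :=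
  (Module.supportDim_le_ringKrullDim R M).trans hd

theorem coheight_le_of_ringKrullDim {d : ℕ} (hd : ringKrullDim R ≤ d) (q : PrimeSpectrum R) :
    Order.coheight q ≤ (d : ℕ∞) := by
  have := (Order.coheight_le_krullDim q).trans hd
  exact_mod_cast this

theorem coheight_eq_ringKrullDim_quotient (q : PrimeSpectrum R) :
    (Order.coheight q : WithBot ℕ∞) = ringKrullDim (R ⧸ q.asIdeal) := by
  rw [ringKrullDim_quotient, Order.coheight_eq_krullDim_Ici]
  exact Order.krullDim_eq_of_orderIso
    { toFun := fun x => ⟨x.1, x.2⟩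
      invFun := fun x => ⟨x.1, x.2⟩
      left_inv := fun _ => rfl
      right_inv := fun _ => rfl
      map_rel_iff' := Iff.rfl }

/-- A point of maximal coheight is minimal. -/
theorem mem_minimalPrimes_of_coheight {d : ℕ} (hd : ringKrullDim R ≤ d) (q : PrimeSpectrum R)
    (hq : Order.coheight q = (d : ℕ∞)) : q.asIdeal ∈ minimalPrimes R := by
  refine ⟨⟨q.isPrime, bot_le⟩, fun J hJ hle => ?_⟩
  by_contra hne
  have hlt : (⟨J, hJ.1⟩ : PrimeSpectrum R) < q := lt_of_le_of_ne hle fun h => hne (h ▸ le_refl _)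
  have h1 := (Order.coheight_add_one_le hlt).trans (coheight_le_of_ringKrullDim hd _)
  rw [hq] at h1
  exact absurd h1 (by exact_mod_cast Nat.not_succ_le_self d)

/-- `H^d_I(M)` vanishes once it vanishes on the `R/q` with `dim R/q = d` in the support. -/
theorem subsingleton_H_top_of_primes (I : Ideal R) {d : ℕ} (hd : ringKrullDim R ≤ d) (M : Type u)
    [AddCommGroup M] [Module R M] [Module.Finite R M]
    (h : ∀ q : PrimeSpectrum R, q ∈ Module.support R M → Order.coheight q = (d : ℕ∞) →
      Subsingleton ((localCohomology I d).obj (ModuleCat.of R (R ⧸ q.asIdeal)))) :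
    Subsingleton ((localCohomology I d).obj (ModuleCat.of R M)) :=
  subsingleton_H_of_filtration I d M fun q hq =>
    (eq_or_lt_of_le (coheight_le_of_ringKrullDim hd q)).elim (h q hq) (subsingleton_H_quot_prime I q d)

theorem smul_surjective_H_top (I : Ideal R) {d : ℕ} (hd : ringKrullDim R = d) (f : R)
    (hf : ∀ p ∈ minimalPrimes R, ringKrullDim (R ⧸ p) = d → f ∉ p) (M : Type u) [AddCommGroup M]
    [Module R M] [Module.Finite R M] :
    Function.Surjective fun x : (localCohomology I d).obj (ModuleCat.of R M) => f • x := by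
  let φ : M →ₗ[R] M := f • LinearMap.id
  let N := LinearMap.range φ
  have hK : Module.supportDim R (LinearMap.ker φ.rangeRestrict) < ((d + 1 : ℕ) : WithBot ℕ∞) :=
    (supportDim_le_of_ringKrullDim hd.le _).trans_lt (Nat.cast_lt.2 (Nat.lt_succ_self d))
  have h1 := surjective_H_map_of_supportDim_lt I φ.rangeRestrict φ.surjective_rangeRestrict d hK
  have hC : Subsingleton ((localCohomology I d).obj (ModuleCat.of R (M ⧸ N))) := by
    refine subsingleton_H_top_of_primes I hd.le _ fun q hq hc => absurd ?_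
      (hf q.asIdeal (mem_minimalPrimes_of_coheight hd.le q hc)
        (by rw [← coheight_eq_ringKrullDim_quotient, hc]; rfl))
    refine (Set.ext_iff.1 Module.support_eq_zeroLocus _).1 hq (Module.mem_annihilator.2 fun z => ?_)
    obtain ⟨z, rfl⟩ := Submodule.Quotient.mk_surjective _ z
    exact (Submodule.Quotient.mk_eq_zero _).2 ⟨z, rfl⟩
  let S : ShortComplex (ModuleCat.{u} R) := ShortComplex.mk (X₁ := ModuleCat.of R N)
    (X₂ := ModuleCat.of R M) (X₃ := ModuleCat.of R (M ⧸ N)) (ModuleCat.ofHom N.subtype)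
    (ModuleCat.ofHom N.mkQ)
    (ModuleCat.hom_ext (LinearMap.ext fun z => (Submodule.Quotient.mk_eq_zero _).2 z.2))
  have hS : S.ShortExact :=
    { exact := (ShortComplex.ShortExact.moduleCat_exact_iff_function_exact _).2
        (LinearMap.exact_subtype_mkQ N)
      mono_f := (ModuleCat.mono_iff_injective _).2 Subtype.val_injective
      epi_g := (ModuleCat.epi_iff_surjective _).2 (Submodule.mkQ_surjective _) }
  intro z
  obtain ⟨w, rfl⟩ := (exact₂ I d hS z).1
    (Subsingleton.elim (α := (localCohomology I d).obj (ModuleCat.of R (M ⧸ N))) _ _)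
  obtain ⟨v, rfl⟩ := h1 w
  refine ⟨v, ?_⟩
  show f • v = _
  rw [← ModuleCat.comp_apply, ← Functor.map_comp,
    show ModuleCat.ofHom φ.rangeRestrict ≫ S.f = f • 𝟙 (ModuleCat.of R M) from rfl,
    map_smul_apply, CategoryTheory.Functor.map_id]
  rfl

/-- A finite module supported at the prime `q` maps nontrivially to `R/q`. -/
theorem exists_linearMap_quot_ne_zero {M : Type u} [AddCommGroup M] [Module R M] [Module.Finite R M]
    (q : PrimeSpectrum R) (hq : q ∈ Module.support R M) :
    ∃ g : M →ₗ[R] R ⧸ q.asIdeal, g ≠ 0 := by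
  classical
  let κ := q.asIdeal.ResidueField
  have hnt : Nontrivial (κ ⊗[R] M) := (Module.mem_support_iff_nontrivial_residueField_tensorProduct q).1 hq
  obtain ⟨v, hv⟩ := exists_ne (0 : κ ⊗[R] M)
  obtain ⟨L, hL⟩ : ∃ L : Module.Dual κ (κ ⊗[R] M), L v ≠ 0 := by
    by_contra h
    push Not at h
    exact hv ((Module.forall_dual_apply_eq_zero_iff κ v).1 h)
  let g₀ : M →ₗ[R] κ := L.restrictScalars R ∘ₗ TensorProduct.mk R κ M 1
  have hg₀ : g₀ ≠ 0 := fun h => hL (by
    have h1 : L = 0 := by
      refine TensorProduct.AlgebraTensorModule.ext fun c m => ?_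
      have hm : L (1 ⊗ₜ m) = 0 := LinearMap.congr_fun h m
      rw [show c ⊗ₜ[R] m = c • ((1 : κ) ⊗ₜ[R] m) by rw [TensorProduct.smul_tmul', smul_eq_mul, mul_one],
        map_smul, hm, smul_zero]
      rfl
    rw [h1]; rfl)
  obtain ⟨n, e, he⟩ := Module.Finite.exists_fin (R := R) (M := M)
  obtain ⟨c, hc⟩ := IsLocalization.exist_integer_multiples_of_finite
    (nonZeroDivisors (R ⧸ q.asIdeal)) (fun k => g₀ (e k))
  let ι : (R ⧸ q.asIdeal) →ₗ[R] κ := (Algebra.linearMap (R ⧸ q.asIdeal) κ).restrictScalars R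
  have hι : Function.Injective ι := q.asIdeal.injective_algebraMap_quotient_residueField
  obtain ⟨r, hr⟩ := Ideal.Quotient.mk_surjective (c : R ⧸ q.asIdeal)
  have hrκ : ∀ x : κ, r • x = (c : R ⧸ q.asIdeal) • x := fun x => by
    rw [← hr, ← Ideal.Quotient.algebraMap_eq, algebraMap_smul]
  have hrange : ∀ m, (r • g₀) m ∈ LinearMap.range ι := by
    intro m
    have hm : m ∈ (⊤ : Submodule R M) := trivial
    rw [← he] at hm
    induction hm using Submodule.span_induction with
    | mem x hx =>
      obtain ⟨k, rfl⟩ := hx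
      obtain ⟨a, ha⟩ := hc k
      exact ⟨a, ha.trans (hrκ _).symm⟩
    | zero => simp
    | add x y _ _ hx hy => rw [map_add]; exact add_mem hx hy
    | smul a x _ hx => rw [map_smul]; exact Submodule.smul_mem _ a hx
  refine ⟨(LinearEquiv.ofInjective ι hι).symm.toLinearMap ∘ₗ (r • g₀).codRestrict _ hrange, fun h => hg₀ ?_⟩
  refine LinearMap.ext fun m => ?_
  have hm := congrArg (LinearEquiv.ofInjective ι hι) (LinearMap.congr_fun h m)
  simp only [LinearMap.comp_apply, LinearEquiv.coe_coe, LinearEquiv.apply_symm_apply,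
    LinearMap.zero_apply, map_zero] at hm
  have hm' : r • g₀ m = 0 := congrArg Subtype.val hm
  rw [hrκ, Algebra.smul_def, mul_eq_zero] at hm'
  refine hm'.resolve_left fun hc0 => nonZeroDivisors.coe_ne_zero c ?_
  exact hι (hc0.trans (map_zero _).symm)

theorem subsingleton_H_ring_of_faithful (I : Ideal R) {d : ℕ} (hd : ringKrullDim R ≤ d) (M : Type u)
    [AddCommGroup M] [Module R M] [Module.Finite R M]
    (hsupp : ∀ q : PrimeSpectrum R, Order.coheight q = (d : ℕ∞) → q ∈ Module.support R M)
    (hvan : Subsingleton ((localCohomology I d).obj (ModuleCat.of R M))) :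
    Subsingleton ((localCohomology I d).obj (ModuleCat.of R R)) := by
  refine subsingleton_H_top_of_primes I hd R fun q _ hq => ?_
  obtain ⟨g, hg⟩ := exists_linearMap_quot_ne_zero q (hsupp q hq)
  have hK : Module.supportDim R (LinearMap.ker g.rangeRestrict) < ((d + 1 : ℕ) : WithBot ℕ∞) :=
    (supportDim_le_of_ringKrullDim hd _).trans_lt (Nat.cast_lt.2 (Nat.lt_succ_self d))
  have h1 := surjective_H_map_of_supportDim_lt I g.rangeRestrict g.surjective_rangeRestrict d hK
  have : Subsingleton ((localCohomology I d).obj (ModuleCat.of R (LinearMap.range g))) := h1.subsingleton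
  let N : Submodule R (R ⧸ q.asIdeal) := LinearMap.range g
  let S : ShortComplex (ModuleCat.{u} R) := ShortComplex.mk (X₁ := ModuleCat.of R N)
    (X₂ := ModuleCat.of R (R ⧸ q.asIdeal)) (X₃ := ModuleCat.of R ((R ⧸ q.asIdeal) ⧸ N))
    (ModuleCat.ofHom N.subtype) (ModuleCat.ofHom N.mkQ)
    (ModuleCat.hom_ext (LinearMap.ext fun z => (Submodule.Quotient.mk_eq_zero _).2 z.2))
  have hS : S.ShortExact :=
    { exact := (ShortComplex.ShortExact.moduleCat_exact_iff_function_exact _).2
        (LinearMap.exact_subtype_mkQ N)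
      mono_f := (ModuleCat.mono_iff_injective _).2 Subtype.val_injective
      epi_g := (ModuleCat.epi_iff_surjective _).2 (Submodule.mkQ_surjective _) }
  refine subsingleton_H_of_shortExact I hS d ‹_› (subsingleton_H_of_filtration I d _ fun q' hq' => ?_)
  refine subsingleton_H_quot_prime I q' d ((eq_or_lt_of_le (coheight_le_of_ringKrullDim hd q')).resolve_left ?_)
  intro hq'd
  obtain ⟨z, hz, hz0⟩ : ∃ z ∈ N, z ≠ (0 : R ⧸ q.asIdeal) :=
    Submodule.exists_mem_ne_zero_of_ne_bot fun hbot =>
      hg (LinearMap.range_eq_bot.1 hbot)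
  obtain ⟨a, rfl⟩ := Ideal.Quotient.mk_surjective z
  have hq'' := (Set.ext_iff.1 Module.support_eq_zeroLocus _).1 hq'
  have hle : q.asIdeal ≤ q'.asIdeal := fun b hb => hq'' (Module.mem_annihilator.2 fun w => by
    obtain ⟨w, rfl⟩ := Submodule.Quotient.mk_surjective _ w
    obtain ⟨w, rfl⟩ := Ideal.Quotient.mk_surjective w
    rw [← Submodule.Quotient.mk_smul, Algebra.smul_def, Ideal.Quotient.algebraMap_eq, ← map_mul,
      Ideal.Quotient.eq_zero_iff_mem.2 (Ideal.mul_mem_right _ _ hb)]
    rfl)
  have ha : a ∈ q'.asIdeal := hq'' (Module.mem_annihilator.2 fun w => by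
    obtain ⟨w, rfl⟩ := Submodule.Quotient.mk_surjective _ w
    obtain ⟨w, rfl⟩ := Ideal.Quotient.mk_surjective w
    rw [← Submodule.Quotient.mk_smul, Submodule.Quotient.mk_eq_zero]
    have : a • Ideal.Quotient.mk q.asIdeal w = w • Ideal.Quotient.mk q.asIdeal a := by
      simp [Algebra.smul_def, mul_comm]
    rw [this]
    exact Submodule.smul_mem _ _ hz)
  have hne : q' = q := by
    by_contra hne
    have h1 := (Order.coheight_add_one_le (lt_of_le_of_ne (show q ≤ q' from hle) fun h => hne h.symm))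
    rw [hq'd, hq] at h1
    exact absurd h1 (by exact_mod_cast Nat.not_succ_le_self d)
  exact hz0 (Ideal.Quotient.eq_zero_iff_mem.2 (hne ▸ ha))

/-- With `H^d_I(R) = 0`, `H^d_I` vanishes on all modules. -/
theorem subsingleton_H_top_of_ring (I : Ideal R) {d : ℕ} (hd : ringKrullDim R ≤ d)
    (h : Subsingleton ((localCohomology I d).obj (ModuleCat.of R R))) (N : Type u) [AddCommGroup N]
    [Module R N] (i : ℕ) (hi : d ≤ i) : Subsingleton ((localCohomology I i).obj (ModuleCat.of R N)) := by
  rcases eq_or_lt_of_le hi with rfl | hlt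
  · exact (htensor_bijective I d
      (fun N _ => cdLE_of_ringKrullDim_le I hd N (d + 1) (Nat.lt_succ_self d)) (ModuleCat.of R N)).2.subsingleton
  · exact cdLE_of_ringKrullDim_le I hd N i hlt

theorem subsingleton_H_of_le_of_subsingleton {I J : Ideal R} (hIJ : I ≤ J)
    (hJ : J ≤ (⊥ : Ideal R).jacobson) {d i : ℕ} (hd : ringKrullDim R ≤ d) (hi : d ≤ i)
    (h : Subsingleton ((localCohomology J i).obj (ModuleCat.of R R))) :
    Subsingleton ((localCohomology I i).obj (ModuleCat.of R R)) :=
  (exists_surjective_H_of_le hIJ hJ R d i (supportDim_le_of_ringKrullDim hd R) hi).choose_spec.subsingleton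

theorem exists_prime_dim_one [IsLocalRing R] {I : Ideal R} (hI : 0 < ringKrullDim (R ⧸ I)) :
    ∃ q : PrimeSpectrum R, I ≤ q.asIdeal ∧ ringKrullDim (R ⧸ q.asIdeal) = 1 := by
  have hex : ({J | ∃ q : PrimeSpectrum R, q.asIdeal = J ∧ I ≤ J ∧ J ≠ maximalIdeal R} : Set (Ideal R)).Nonempty := by
    by_contra hne
    rw [Set.not_nonempty_iff_eq_empty] at hne
    have : Subsingleton (PrimeSpectrum.zeroLocus (I : Set R)) := by
      have key : ∀ q : PrimeSpectrum.zeroLocus (I : Set R), q.1.asIdeal = maximalIdeal R := fun q => by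
        by_contra h
        exact (Set.eq_empty_iff_forall_notMem.1 hne _) ⟨q.1, rfl, q.2, h⟩
      exact ⟨fun a b => Subtype.ext (PrimeSpectrum.ext ((key a).trans (key b).symm))⟩
    have h0 : ringKrullDim (R ⧸ I) ≤ 0 := by
      rw [ringKrullDim_quotient]; exact Order.krullDim_nonpos_of_subsingleton
    exact (hI.trans_le h0).ne rfl
  obtain ⟨J, ⟨q, rfl, hIq, hqm⟩, hmax⟩ := set_has_maximal_iff_noetherian.2 ‹_› _ hex
  refine ⟨q, hIq, ?_⟩
  rw [← coheight_eq_ringKrullDim_quotient]
  have h1 : Order.coheight q ≤ 1 := (Order.coheight_le_coe_iff (n := 1)).2 fun y hy => by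
    have hym : y.asIdeal = maximalIdeal R := by
      by_contra h
      exact hmax y.asIdeal ⟨y, rfl, hIq.trans hy.le, h⟩ hy
    have : Order.coheight y = 0 := Order.coheight_eq_zero.2 fun z hz => by
      show z.asIdeal ≤ y.asIdeal
      rw [hym]; exact IsLocalRing.le_maximalIdeal z.isPrime.ne_top
    rw [this]; exact Nat.cast_lt.2 Nat.one_pos |>.trans_le le_rfl
  have h2 : 1 ≤ Order.coheight q := by
    have hlt : q < IsLocalRing.closedPoint R :=
      lt_of_le_of_ne (IsLocalRing.le_maximalIdeal q.isPrime.ne_top) fun h =>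
        hqm (congrArg PrimeSpectrum.asIdeal h)
    exact le_trans le_add_self (Order.coheight_add_one_le hlt)
  rw [le_antisymm h1 h2]
  rfl

end Groth.Agent.LC
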