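import Groth.Agent.LC.LocalDualityCM
import Groth.Agent.LC.LiaisonGor
import Groth.Agent.LC.TopDim3
import Groth.Agent.LC.Matlis
import Groth.Agent.S5765

/-!
# The dual of top local cohomology: elementary properties
-/

set_option autoImplicit false

universe u

open CategoryTheory Limits IsLocalRing RingTheory.Sequence
open scoped Pointwise

namespace Groth.Agent.LC.Canon

section Dim

variable {R : Type u} [CommRing R] [IsNoetherianRing R]

theorem ringKrullDim_quot_le_of_primes {I : Ideal R} {m : ℕ}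
    (h : ∀ q : Ideal R, q.IsPrime → I ≤ q → ringKrullDim (R ⧸ q) ≤ m) : ringKrullDim (R ⧸ I) ≤ m := by
  rw [ringKrullDim_quotient]
  refine iSup_le fun l => ?_
  let l' : LTSeries (PrimeSpectrum R) := l.map Subtype.val fun _ _ h => h
  have h1 := Order.length_le_coheight (x := l'.head) (p := l') le_rfl
  have h2 := h l'.head.asIdeal l'.head.isPrime l.head.2
  rw [← coheight_eq_ringKrullDim_quotient] at h2
  have h3 : ((l'.length : ℕ∞) : WithBot ℕ∞) ≤ ((m : ℕ∞) : WithBot ℕ∞) := (WithBot.coe_le_coe.2 h1).trans h2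
  exact_mod_cast h3

theorem exists_ringKrullDim_quot_eq_nat [IsLocalRing R] {n : ℕ} (hn : ringKrullDim R ≤ n) {I : Ideal R}
    (hI : I ≠ ⊤) : ∃ m : ℕ, m ≤ n ∧ ringKrullDim (R ⧸ I) = m := by
  have h1 := (ringKrullDim_quotient_le I).trans hn
  haveI : Nontrivial (R ⧸ I) := Ideal.Quotient.nontrivial_iff.2 hI
  have h0 : (0 : WithBot ℕ∞) ≤ ringKrullDim (R ⧸ I) := ringKrullDim_nonneg_of_nontrivial
  revert h0 h1
  cases ringKrullDim (R ⧸ I) with
  | bot => intro h1 h0; exact absurd h0 (by simp)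
  | coe d =>
    intro h1 _
    have h1' : d ≤ (n : ℕ∞) := WithBot.coe_le_coe.1 h1
    lift d to ℕ using ne_top_of_le_ne_top (ENat.natCast_ne_top n) h1'
    exact ⟨d, by exact_mod_cast h1', rfl⟩

/-- Avoidance: a prime of smaller dimension contains an element cutting the dimension. -/
theorem exists_mem_dim_lt [IsLocalRing R] {I : Ideal R} {m : ℕ} (hI : ringKrullDim (R ⧸ I) ≤ (m + 1 : ℕ))
    {p : Ideal R} [p.IsPrime] (hIp : I ≤ p) (hp : ringKrullDim (R ⧸ p) ≤ m) :
    ∃ x ∈ p, ringKrullDim (R ⧸ (I ⊔ Ideal.span {x})) ≤ m := by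
  let T : Set (Ideal R) := {q | q ∈ I.minimalPrimes ∧ ringKrullDim (R ⧸ q) = ((m + 1 : ℕ) : WithBot ℕ∞)}
  have hTfin : T.Finite := (Ideal.finite_minimalPrimes_of_isNoetherianRing R I).subset fun q hq => hq.1
  have hnot : ¬ ((p : Set R) ⊆ ⋃ q ∈ hTfin.toFinset, (q : Set R)) := by
    intro hsub
    obtain ⟨q, hq, hpq⟩ := (Ideal.subset_union_prime (s := hTfin.toFinset) (f := fun q : Ideal R => q) ⊤ ⊤
      fun q hq _ _ => ((hTfin.mem_toFinset).1 hq).1.1.1).1 hsub
    have hq' := (hTfin.mem_toFinset).1 hq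
    haveI := hq'.1.1.1
    have : q = p := le_antisymm (hq'.1.2 ⟨‹_›, hIp⟩ hpq) hpq
    rw [this] at hq'
    have := hq'.2.symm.trans_le hp
    exact absurd (by exact_mod_cast this : m + 1 ≤ m) (by omega)
  obtain ⟨x, hxp, hx⟩ := Set.not_subset.1 hnot
  refine ⟨x, hxp, ringKrullDim_quot_le_of_primes fun q hq hle => ?_⟩
  haveI := hq
  have hIq : I ≤ q := le_sup_left.trans hle
  haveI : Nontrivial (R ⧸ I) := Ideal.Quotient.nontrivial_iff.2 (ne_top_of_le_ne_top hq.ne_top hIq)
  haveI : IsLocalRing (R ⧸ I) := .of_surjective' _ Ideal.Quotient.mk_surjective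
  have hxq : x ∈ q := hle (Submodule.mem_sup_right (Ideal.mem_span_singleton_self x))
  obtain ⟨d, hd, hdq⟩ := exists_ringKrullDim_quot_eq_nat (R := R ⧸ I) hI
    (I := q.map (Ideal.Quotient.mk I)) (fun htop => hq.ne_top (by
      have := congrArg (Ideal.comap (Ideal.Quotient.mk I)) htop
      rwa [Ideal.comap_map_of_surjective' _ Ideal.Quotient.mk_surjective, Ideal.mk_ker, sup_eq_left.2 hIq,
        Ideal.comap_top] at this))
  have hdq' : ringKrullDim (R ⧸ q) = d :=
    (ringKrullDim_eq_of_ringEquiv (DoubleQuot.quotQuotEquivQuotOfLE hIq)).symm.trans hdq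
  rw [hdq']
  by_contra hlt
  obtain rfl : d = m + 1 := by
    have : ¬ d ≤ m := fun h => hlt (by exact_mod_cast h)
    omega
  refine hx (Set.mem_iUnion₂.2 ⟨q, hTfin.mem_toFinset.2 ⟨⟨⟨hq, hIq⟩, fun q' hq' hle' => ?_⟩, hdq'⟩, hxq⟩)
  by_contra hne
  haveI := hq'.1
  have hlt' : (⟨q', hq'.1⟩ : PrimeSpectrum R) < ⟨q, hq⟩ := lt_of_le_of_ne hle' fun h => hne (by
    rw [show q' = q from congrArg PrimeSpectrum.asIdeal h])
  have h1 := Order.coheight_add_one_le hlt'
  have h2 : ringKrullDim (R ⧸ q') ≤ ((m + 1 : ℕ) : WithBot ℕ∞) :=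
    (ringKrullDim_le_of_surjective (Ideal.Quotient.factor hq'.2) (Ideal.Quotient.factor_surjective hq'.2)).trans hI
  rw [← coheight_eq_ringKrullDim_quotient ⟨q', hq'.1⟩] at h2
  rw [← coheight_eq_ringKrullDim_quotient ⟨q, hq⟩] at hdq'
  have h2' : Order.coheight (⟨q', hq'.1⟩ : PrimeSpectrum R) ≤ ((m + 1 : ℕ) : ℕ∞) := WithBot.coe_le_coe.1 h2
  have hdq'' : Order.coheight (⟨q, hq⟩ : PrimeSpectrum R) = ((m + 1 : ℕ) : ℕ∞) := WithBot.coe_injective hdq'
  rw [hdq''] at h1
  exact absurd (h1.trans h2') (by exact_mod_cast Nat.not_succ_le_self (m + 1))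

theorem supportDim_le_quot {M : Type u} [AddCommGroup M] [Module R M] [Module.Finite R M] {J : Ideal R}
    (h : ∀ r ∈ J, ∀ z : M, r • z = 0) : Module.supportDim R M ≤ ringKrullDim (R ⧸ J) := by
  rw [Module.supportDim_eq_ringKrullDim_quotient_annihilator]
  have hJ : J ≤ Module.annihilator R M := fun r hr => Module.mem_annihilator.2 (h r hr)
  exact ringKrullDim_le_of_surjective (Ideal.Quotient.factor hJ) (Ideal.Quotient.factor_surjective hJ)

theorem smul_surjective_H [IsLocalRing R] (I : Ideal R) {i : ℕ} (M : Type u) [AddCommGroup M] [Module R M]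
    [Module.Finite R M] (hM : Module.supportDim R M ≤ i) {x : R}
    (hx : Module.supportDim R (M ⧸ x • (⊤ : Submodule R M)) < i) :
    Function.Surjective fun z : (localCohomology I i).obj (ModuleCat.of R M) => x • z := by
  let μ : M →ₗ[R] M := x • LinearMap.id
  let S : ShortComplex (ModuleCat.{u} R) := ShortComplex.mk
    (X₁ := ModuleCat.of R (LinearMap.range μ)) (X₂ := ModuleCat.of R M) (X₃ := ModuleCat.of R (M ⧸ LinearMap.range μ))
    (ModuleCat.ofHom (LinearMap.range μ).subtype) (ModuleCat.ofHom (LinearMap.range μ).mkQ)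
    (ModuleCat.hom_ext (LinearMap.ext fun z => (Submodule.Quotient.mk_eq_zero _).2 z.2))
  have hS : S.ShortExact :=
    { exact := (ShortComplex.ShortExact.moduleCat_exact_iff_function_exact _).2 (LinearMap.exact_subtype_mkQ _)
      mono_f := (ModuleCat.mono_iff_injective _).2 Subtype.val_injective
      epi_g := (ModuleCat.epi_iff_surjective _).2 (Submodule.mkQ_surjective _) }
  have hr : LinearMap.range μ = x • (⊤ : Submodule R M) := by
    ext z
    rw [LinearMap.mem_range, Submodule.mem_smul_pointwise_iff_exists]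
    exact ⟨fun ⟨y, hy⟩ => ⟨y, trivial, hy⟩, fun ⟨y, _, hy⟩ => ⟨y, hy⟩⟩
  have hQ : Subsingleton ((localCohomology I i).obj (ModuleCat.of R (M ⧸ LinearMap.range μ))) :=
    subsingleton_H_of_supportDim_lt I _ i (by
      rw [Module.supportDim_eq_of_equiv (Submodule.quotEquivOfEq _ _ hr)]; exact hx)
  have hsurj := surjective_H_map_of_supportDim_lt I μ.rangeRestrict μ.surjective_rangeRestrict i
    (((Module.supportDim_le_of_injective (LinearMap.ker μ.rangeRestrict).subtype Subtype.val_injective).trans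
      hM).trans_lt (by exact_mod_cast Nat.lt_succ_self i))
  intro z
  obtain ⟨w, rfl⟩ := (exact₂ I i hS z).1 (@Subsingleton.elim _ hQ _ _)
  obtain ⟨v, rfl⟩ := hsurj w
  refine ⟨v, ?_⟩
  refine ((map_smul_id I i (ModuleCat.of R M) x v).symm.trans ?_)
  show ((localCohomology I i).map (x • 𝟙 (ModuleCat.of R M))).hom v = _
  exact Liaison.H_map_comp I i μ.rangeRestrict (LinearMap.range μ).subtype v

end Dim

section Dual

variable {R : Type u} [CommRing R] [IsNoetherianRing R] [IsLocalRing R] {n : ℕ} (hn : ringKrullDim R = n)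
variable {E : Type u} [AddCommGroup E] [Module R E] {f : ResidueField R →ₗ[R] E} (hf : InjHull.IsInjectiveHull f)
variable {K : Type u} [AddCommGroup K] [Module R K]
variable (eK : (K →ₗ[R] E) ≃ₗ[R] (localCohomology (maximalIdeal R) n).obj (ModuleCat.of R R))

include hn hf eK

omit hf in
theorem exists_topDual (hf : InjHull.IsInjectiveHull f) :
    ∃ ψ : ∀ (M : Type u) [AddCommGroup M] [Module R M] [Module.Finite R M],
        (localCohomology (maximalIdeal R) n).obj (ModuleCat.of R M) ≃ₗ[R] ((M →ₗ[R] K) →ₗ[R] E),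
      ∀ (M N : Type u) [AddCommGroup M] [Module R M] [Module.Finite R M] [AddCommGroup N] [Module R N]
        [Module.Finite R N] (g : M →ₗ[R] N) z,
        ψ N (((localCohomology (maximalIdeal R) n).map (ModuleCat.ofHom g)).hom z) =
          LinearMap.lcomp R E (LinearMap.lcomp R K g) (ψ M z) := by
  haveI := hf.isInjective
  exact exists_topDuality (maximalIdeal R) n K E eK fun N _ => subsingleton_H_succ_of_ringKrullDim _ hn.le N

/-- An element cutting the dimension is regular on the dual. -/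
theorem isSMulRegular_of_dim_lt {x : R} (hx : ringKrullDim (R ⧸ Ideal.span {x}) < n) : IsSMulRegular K x := by
  have hs := smul_surjective_H (maximalIdeal R) (i := n) R (x := x)
    (by rw [Module.supportDim_self_eq_ringKrullDim, hn]) (by
      rw [← Submodule.ideal_span_singleton_smul, smul_eq_mul, Ideal.mul_top,
        Module.supportDim_quotient_eq_ringKrullDim]
      exact hx)
  refine isSMulRegular_iff_right_eq_zero_of_smul.2 fun z hz => ?_
  by_contra hz0
  obtain ⟨φ, hφ⟩ := exists_dual_ne_zero hf hz0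
  obtain ⟨w, hw⟩ := hs (eK φ)
  have e : φ = x • eK.symm w := by
    rw [← map_smul]; exact (eK.symm_apply_eq.2 hw).symm
  rw [e, LinearMap.smul_apply, ← map_smul, hz, map_zero] at hφ
  exact hφ rfl

theorem nontrivial_dual : Nontrivial K := by
  have h := (nontrivial_and_not_finite_H n R (by rw [Module.supportDim_self_eq_ringKrullDim, hn])).1
  by_contra hK
  rw [not_nontrivial_iff_subsingleton] at hK
  haveI : Subsingleton (K →ₗ[R] E) := ⟨fun a b => LinearMap.ext fun z => by
    rw [Subsingleton.elim z 0, map_zero, map_zero]⟩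
  exact not_subsingleton _ eK.symm.injective.subsingleton

theorem associatedPrimes_dual (hn0 : 0 < n) :
    associatedPrimes R K = {p : Ideal R | p.IsPrime ∧ ringKrullDim (R ⧸ p) = n} := by
  ext p
  constructor
  · intro hp
    obtain ⟨hpp, z, hz⟩ := Alg6.mem_ass_iff.1 hp
    refine ⟨hpp, ?_⟩
    obtain ⟨m, hm, hdim⟩ := exists_ringKrullDim_quot_eq_nat (R := R) hn.le hpp.ne_top
    rcases eq_or_lt_of_le hm with rfl | hlt
    · exact hdim
    exfalso
    obtain ⟨k, rfl⟩ : ∃ k, n = k + 1 := ⟨n - 1, by omega⟩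
    obtain ⟨x, hxp, hx⟩ := exists_mem_dim_lt (R := R) (I := ⊥) (m := k)
      ((ringKrullDim_quotient_le ⊥).trans hn.le) (p := p) bot_le
      (hdim.le.trans (by exact_mod_cast Nat.lt_succ_iff.1 hlt))
    rw [bot_sup_eq] at hx
    have hreg := isSMulRegular_of_dim_lt hn hf eK (hx.trans_lt (by exact_mod_cast Nat.lt_succ_self k))
    have h0 : z = 0 := hreg (show x • z = x • (0 : K) by rw [(hz x).1 hxp, smul_zero])
    exact hpp.ne_top ((Ideal.eq_top_iff_one p).2 ((hz 1).2 (by rw [h0, smul_zero])))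
  · rintro ⟨hpp, hdim⟩
    haveI := hpp
    obtain ⟨ψ, -⟩ := exists_topDual hn eK hf
    have h := (nontrivial_and_not_finite_H n (R ⧸ p)
      (by rw [Module.supportDim_quotient_eq_ringKrullDim, hdim])).1
    have hne : Nontrivial ((R ⧸ p) →ₗ[R] K) := by
      by_contra hK
      rw [not_nontrivial_iff_subsingleton] at hK
      haveI : Subsingleton (((R ⧸ p) →ₗ[R] K) →ₗ[R] E) := ⟨fun a b => LinearMap.ext fun z => by
        rw [Subsingleton.elim z 0, map_zero, map_zero]⟩
      exact not_subsingleton _ (ψ (R ⧸ p)).injective.subsingleton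
    obtain ⟨g, hg⟩ := exists_ne (0 : (R ⧸ p) →ₗ[R] K)
    have hz0 : g (Submodule.Quotient.mk 1) ≠ 0 := fun h0 => hg (Submodule.linearMap_qext _ (LinearMap.ext_ring (by
      simpa using h0)))
    obtain ⟨q, hq, hle⟩ := exists_le_isAssociatedPrime_of_isNoetherianRing R _ hz0
    have hpq : p ≤ q := fun a ha => hle (by
      rw [Submodule.mem_colon_singleton, Submodule.mem_bot, ← map_smul, ← Submodule.Quotient.mk_smul,
        (Submodule.Quotient.mk_eq_zero p).2 (by simpa using ha), map_zero])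
    haveI := hq.isPrime
    have heq : p = q := by
      by_contra hne'
      have hlt : (⟨p, hpp⟩ : PrimeSpectrum R) < ⟨q, hq.isPrime⟩ :=
        lt_of_le_of_ne hpq fun h => hne' (congrArg PrimeSpectrum.asIdeal h)
      have h1 := Order.coheight_add_one_le hlt
      have h2 : Order.coheight (⟨p, hpp⟩ : PrimeSpectrum R) = (n : ℕ∞) :=
        WithBot.coe_injective ((coheight_eq_ringKrullDim_quotient ⟨p, hpp⟩).trans hdim)
      obtain ⟨m, -, hdimq⟩ := exists_ringKrullDim_quot_eq_nat (R := R) hn.le hq.isPrime.ne_top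
      obtain ⟨hmn, -, -⟩ : m ≥ n ∧ True ∧ True := by
        refine ⟨?_, trivial, trivial⟩
        by_contra hlt2
        obtain ⟨k, rfl⟩ : ∃ k, n = k + 1 := ⟨n - 1, by omega⟩
        obtain ⟨x, hxq, hx⟩ := exists_mem_dim_lt (R := R) (I := ⊥) (m := k)
          ((ringKrullDim_quotient_le ⊥).trans hn.le) (p := q) bot_le
          (hdimq.le.trans (by exact_mod_cast (by omega : m ≤ k)))
        rw [bot_sup_eq] at hx
        have hreg := isSMulRegular_of_dim_lt hn hf eK (hx.trans_lt (by exact_mod_cast Nat.lt_succ_self k))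
        obtain ⟨hqp, z, hz⟩ := Alg6.mem_ass_iff.1 ((AssociatedPrimes.mem_iff).2 hq)
        have h0 : z = 0 := hreg (show x • z = x • (0 : K) by rw [(hz x).1 hxq, smul_zero])
        exact hqp.ne_top ((Ideal.eq_top_iff_one q).2 ((hz 1).2 (by rw [h0, smul_zero])))
      have h3 : Order.coheight (⟨q, hq.isPrime⟩ : PrimeSpectrum R) = (m : ℕ∞) :=
        WithBot.coe_injective ((coheight_eq_ringKrullDim_quotient ⟨q, hq.isPrime⟩).trans hdimq)
      rw [h3, h2] at h1
      exact absurd h1 (by exact_mod_cast (by omega : ¬ m + 1 ≤ n))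
    rw [heq]
    exact (AssociatedPrimes.mem_iff).2 hq

theorem supportDim_dual_le [Module.Finite R K] : Module.supportDim R K ≤ n :=
  (Module.supportDim_le_ringKrullDim R K).trans hn.le

/-- The second element of a parameter pair is regular modulo the first. -/
theorem isWeaklyRegular_pair {m : ℕ} (hm : n = m + 1) {x y : R}
    (hx : ringKrullDim (R ⧸ Ideal.span {x}) ≤ m) (hxy : ringKrullDim (R ⧸ (Ideal.span {x} ⊔ Ideal.span {y})) < m) :
    IsWeaklyRegular K [x, y] := by
  subst hm
  have hxreg : IsSMulRegular K x :=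
    isSMulRegular_of_dim_lt hn hf eK (hx.trans_lt (by exact_mod_cast Nat.lt_succ_self m))
  rw [isWeaklyRegular_cons_iff, isWeaklyRegular_cons_iff]
  refine ⟨hxreg, ?_, IsWeaklyRegular.nil R _⟩
  let μ : R →ₗ[R] R := x • LinearMap.id
  let Q := R ⧸ LinearMap.range μ
  have hr : LinearMap.range μ = Ideal.span {x} := by
    ext z
    rw [LinearMap.mem_range, Ideal.mem_span_singleton']
    exact ⟨fun ⟨a, ha⟩ => ⟨a, by rw [← ha]; exact mul_comm a x⟩, fun ⟨a, ha⟩ => ⟨a, by rw [← ha]; exact mul_comm x a⟩⟩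
  have hQdim : Module.supportDim R Q ≤ (m : WithBot ℕ∞) := by
    rw [Module.supportDim_eq_of_equiv (Submodule.quotEquivOfEq _ _ hr), Module.supportDim_quotient_eq_ringKrullDim]
    exact hx
  have hQy : Module.supportDim R (Q ⧸ y • (⊤ : Submodule R Q)) < (m : WithBot ℕ∞) := by
    refine lt_of_le_of_lt (supportDim_le_quot (J := Ideal.span {x} ⊔ Ideal.span {y}) fun r hr' z => ?_) hxy
    obtain ⟨z, rfl⟩ := Submodule.Quotient.mk_surjective _ z
    obtain ⟨z, rfl⟩ := Submodule.Quotient.mk_surjective _ z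
    obtain ⟨p, hp, q, hq, rfl⟩ := Submodule.mem_sup.1 hr'
    obtain ⟨a, rfl⟩ := Ideal.mem_span_singleton'.1 hp
    obtain ⟨b, rfl⟩ := Ideal.mem_span_singleton'.1 hq
    rw [add_smul, ← Submodule.Quotient.mk_smul, ← Submodule.Quotient.mk_smul (LinearMap.range μ),
      (Submodule.Quotient.mk_eq_zero (LinearMap.range μ)).2
        (show (a * x) • z ∈ LinearMap.range μ from ⟨a * z, by show x • (a * z) = (a * x) * z; rw [smul_eq_mul]; ring⟩),
      Submodule.Quotient.mk_zero, zero_add, ← Submodule.Quotient.mk_smul, Submodule.Quotient.mk_eq_zero,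
      Submodule.mem_smul_pointwise_iff_exists]
    exact ⟨b • Submodule.Quotient.mk z, trivial, by rw [← mul_smul, mul_comm]⟩
  have hsQ := smul_surjective_H (maximalIdeal R) Q hQdim hQy
  let S : ShortComplex (ModuleCat.{u} R) := ShortComplex.mk
    (X₁ := ModuleCat.of R (LinearMap.range μ)) (X₂ := ModuleCat.of R R) (X₃ := ModuleCat.of R Q)
    (ModuleCat.ofHom (LinearMap.range μ).subtype) (ModuleCat.ofHom (LinearMap.range μ).mkQ)
    (ModuleCat.hom_ext (LinearMap.ext fun z => (Submodule.Quotient.mk_eq_zero _).2 z.2))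
  have hS : S.ShortExact :=
    { exact := (ShortComplex.ShortExact.moduleCat_exact_iff_function_exact _).2 (LinearMap.exact_subtype_mkQ _)
      mono_f := (ModuleCat.mono_iff_injective _).2 Subtype.val_injective
      epi_g := (ModuleCat.epi_iff_surjective _).2 (Submodule.mkQ_surjective _) }
  let I := maximalIdeal R
  have hkerdim : Module.supportDim R (LinearMap.ker μ.rangeRestrict) < ((m + 1 : ℕ) : WithBot ℕ∞) := by
    refine lt_of_le_of_lt ((supportDim_le_quot (J := Ideal.span {x}) fun r hr' z => ?_).trans hx)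
      (by exact_mod_cast Nat.lt_succ_self m)
    obtain ⟨a, rfl⟩ := Ideal.mem_span_singleton'.1 hr'
    refine Subtype.ext ?_
    have hz : x • (z : R) = 0 := congrArg Subtype.val (show μ.rangeRestrict z.1 = 0 from z.2)
    show (a * x) • (z : R) = 0
    rw [mul_smul, hz, smul_zero]
  have hsurj := surjective_H_map_of_supportDim_lt I μ.rangeRestrict μ.surjective_rangeRestrict (m + 1)
    (hkerdim.trans (by exact_mod_cast Nat.lt_succ_self (m + 1)))
  have hπinj : Function.Injective ((localCohomology I (m + 1)).map (ModuleCat.ofHom μ.rangeRestrict)).hom := by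
    let T : ShortComplex (ModuleCat.{u} R) := ShortComplex.mk
      (X₁ := ModuleCat.of R (LinearMap.ker μ.rangeRestrict)) (X₂ := ModuleCat.of R R)
      (X₃ := ModuleCat.of R (LinearMap.range μ)) (ModuleCat.ofHom (LinearMap.ker μ.rangeRestrict).subtype)
      (ModuleCat.ofHom μ.rangeRestrict) (ModuleCat.hom_ext (LinearMap.ext fun z => z.2))
    have hT : T.ShortExact :=
      { exact := (ShortComplex.ShortExact.moduleCat_exact_iff_function_exact _).2
          (LinearMap.exact_subtype_ker_map μ.rangeRestrict)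
        mono_f := (ModuleCat.mono_iff_injective _).2 Subtype.val_injective
        epi_g := (ModuleCat.epi_iff_surjective _).2 μ.surjective_rangeRestrict }
    have h0 := subsingleton_H_of_supportDim_lt I (LinearMap.ker μ.rangeRestrict) (m + 1) hkerdim
    refine (injective_iff_map_eq_zero _).2 fun z hz => ?_
    obtain ⟨w, rfl⟩ := (exact₂ I (m + 1) hT z).1 hz
    exact (congrArg _ (@Subsingleton.elim _ h0 w 0)).trans (map_zero _)
  refine isSMulRegular_iff_right_eq_zero_of_smul.2 fun z hz => ?_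
  by_contra hz0
  haveI := hf.isInjective
  obtain ⟨φ, hφ⟩ := exists_dual_ne_zero hf hz0
  let φ' : K →ₗ[R] E := φ ∘ₗ (x • (⊤ : Submodule R K)).mkQ
  have hφx : x • φ' = 0 := by
    refine LinearMap.ext fun a => ?_
    show x • φ (Submodule.Quotient.mk a) = 0
    rw [← map_smul, ← Submodule.Quotient.mk_smul, (Submodule.Quotient.mk_eq_zero _).2
      (Submodule.smul_mem_pointwise_smul a x ⊤ trivial), map_zero]
  set v := eK φ'
  have hv : x • v = 0 := by rw [← map_smul, hφx, map_zero]
  have hv1 : ((localCohomology I (m + 1)).map S.f).hom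
      (((localCohomology I (m + 1)).map (ModuleCat.ofHom μ.rangeRestrict)).hom v) = 0 := by
    refine (Liaison.H_map_comp I (m + 1) μ.rangeRestrict (LinearMap.range μ).subtype v).symm.trans ?_
    show ((localCohomology I (m + 1)).map (x • 𝟙 (ModuleCat.of R R))).hom v = 0
    exact (map_smul_id I (m + 1) (ModuleCat.of R R) x v).trans hv
  obtain ⟨w, hw⟩ := (exact₁ I m hS (m + 1) rfl _).1 hv1
  obtain ⟨w', hw'⟩ := hsQ w
  obtain ⟨v', hv'⟩ := hsurj (δH I m hS (m + 1) rfl w')
  have hv'x : x • v' = 0 := by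
    refine (map_smul_id I (m + 1) (ModuleCat.of R R) x v').symm.trans ?_
    show ((localCohomology I (m + 1)).map (x • 𝟙 (ModuleCat.of R R))).hom v' = 0
    refine (Liaison.H_map_comp I (m + 1) μ.rangeRestrict (LinearMap.range μ).subtype v').trans ?_
    rw [hv']
    exact (exact₁ I m hS (m + 1) rfl _).2 ⟨w', rfl⟩
  have hvy : v = y • v' := by
    refine hπinj ?_
    rw [map_smul, hv', ← hw, ← map_smul]
    exact congrArg _ hw'.symm
  let ψ := eK.symm v'
  have hψ : x • ψ = 0 := by rw [← map_smul, hv'x, map_zero]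
  have e : φ' = y • ψ := by rw [← map_smul]; exact (eK.symm_apply_eq.2 hvy.symm).symm
  obtain ⟨z, rfl⟩ := Submodule.Quotient.mk_surjective _ z
  rw [← Submodule.Quotient.mk_smul, Submodule.Quotient.mk_eq_zero, Submodule.mem_smul_pointwise_iff_exists] at hz
  obtain ⟨a, -, ha⟩ := hz
  refine hφ ?_
  show φ' z = 0
  rw [e, LinearMap.smul_apply, ← map_smul, ← ha, map_smul, ← LinearMap.smul_apply, hψ, LinearMap.zero_apply]

theorem isRegular_pair [Module.Finite R K] {m : ℕ} (hm : n = m + 1) {x y : R} (hxm : x ∈ maximalIdeal R)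
    (hym : y ∈ maximalIdeal R) (hx : ringKrullDim (R ⧸ Ideal.span {x}) ≤ m)
    (hxy : ringKrullDim (R ⧸ (Ideal.span {x} ⊔ Ideal.span {y})) < m) : IsRegular K [x, y] := by
  haveI := nontrivial_dual hn hf eK
  exact (IsLocalRing.isRegular_iff_isWeaklyRegular_of_subset_maximalIdeal (by intro r hr; simp at hr; rcases hr with rfl | rfl <;> assumption)).2
    (isWeaklyRegular_pair hn hf eK hm hx hxy)

/-- The dual satisfies `S₂`. -/
theorem hasSk_two [Module.Finite R K] : LocCoh.HasSk 2 R K := by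
  intro p _
  let Kp := LocalizedModule p.primeCompl K
  haveI : Module.Finite (Localization.AtPrime p) Kp :=
    Module.Finite.of_isLocalizedModule p.primeCompl (LocalizedModule.mkLinearMap p.primeCompl K)
  by_cases hK : Subsingleton Kp
  · rw [Module.supportDim_eq_bot_of_subsingleton, min_eq_right bot_le]
    exact bot_le
  rw [not_subsingleton_iff_nontrivial] at hK
  have hsupp : (⟨p, ‹_›⟩ : PrimeSpectrum R) ∈ Module.support R K :=
    Module.mem_support_iff.2 hK
  obtain ⟨e, he, hedim⟩ := exists_ringKrullDim_quot_eq_nat (R := R) hn.le (Ideal.IsPrime.ne_top ‹p.IsPrime›)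
  have hsd : Module.supportDim (Localization.AtPrime p) Kp + (e : WithBot ℕ∞) ≤ (n : WithBot ℕ∞) := by
    refine le_trans ?_ ((S5765.result R K p).trans (supportDim_dual_le hn hf eK))
    refine add_le_add le_rfl ?_
    rw [← hedim, ← coheight_eq_ringKrullDim_quotient ⟨p, ‹_›⟩]
    refine coheight_le_supportDim ?_
    rw [Module.support_quotient]
    exact ⟨hsupp, (PrimeSpectrum.mem_zeroLocus _ _).2 (SetLike.coe_subset_coe.2 le_rfl)⟩
  have hdepth : ∀ rs : List R, IsWeaklyRegular K rs → (∀ r ∈ rs, r ∈ p) →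
      ((rs.length : ℕ) : ℕ∞) ≤ LocCoh.depth (Localization.AtPrime p) Kp := by
    intro rs hrs hmem
    have h1 := hrs.of_isLocalizedModule (Localization.AtPrime p) p.primeCompl
      (LocalizedModule.mkLinearMap p.primeCompl K)
    have h2 := Alg6.length_le_idealDepth (I := maximalIdeal (Localization.AtPrime p)) h1 fun r hr => by
      obtain ⟨r, hr', rfl⟩ := List.mem_map.1 hr
      exact (IsLocalization.AtPrime.to_map_mem_maximal_iff _ p r).2 (hmem r hr')
    rwa [List.length_map] at h2
  rcases eq_or_lt_of_le he with rfl | hlt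
  · refine (min_le_right _ _).trans ?_
    generalize Module.supportDim (Localization.AtPrime p) Kp = d at hsd
    cases d with
    | bot => exact bot_le
    | coe d =>
      have h1 : d + (e : ℕ∞) ≤ 0 + (e : ℕ∞) := by rw [zero_add]; exact_mod_cast hsd
      exact WithBot.coe_le_coe.2 (((ENat.add_le_add_iff_right (ENat.natCast_ne_top e)).1 h1).trans bot_le)
  obtain ⟨m, rfl⟩ : ∃ m, n = m + 1 := ⟨n - 1, by omega⟩
  obtain ⟨x, hxp, hx⟩ := exists_mem_dim_lt (R := R) (I := ⊥) (m := m) ((ringKrullDim_quotient_le ⊥).trans hn.le)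
    (p := p) bot_le (hedim.le.trans (by exact_mod_cast (by omega : e ≤ m)))
  rw [bot_sup_eq] at hx
  have hxreg : IsWeaklyRegular K [x] := (isWeaklyRegular_cons_iff K x []).2
    ⟨isSMulRegular_of_dim_lt hn hf eK (hx.trans_lt (by exact_mod_cast Nat.lt_succ_self m)), IsWeaklyRegular.nil R _⟩
  rcases Nat.lt_or_ge e m with hlt' | hge
  · obtain ⟨k, rfl⟩ : ∃ k, m = k + 1 := ⟨m - 1, by omega⟩
    obtain ⟨y, hyp, hxy⟩ := exists_mem_dim_lt (R := R) (I := Ideal.span {x}) (m := k) hx (p := p)
      ((Ideal.span_singleton_le_iff_mem _).2 hxp) (hedim.le.trans (by exact_mod_cast (by omega : e ≤ k)))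
    have := hdepth [x, y] (isWeaklyRegular_pair hn hf eK rfl hx
      (hxy.trans_lt (by exact_mod_cast Nat.lt_succ_self k))) (by intro r hr; simp at hr; rcases hr with rfl | rfl <;> assumption)
    exact (min_le_left _ _).trans (WithBot.coe_le_coe.2 this)
  · obtain rfl : e = m := by omega
    have h1 := hdepth [x] hxreg (by intro r hr; simp at hr; subst hr; assumption)
    refine (min_le_right _ _).trans (le_trans ?_ (WithBot.coe_le_coe.2 h1))
    generalize Module.supportDim (Localization.AtPrime p) Kp = d at hsd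
    cases d with
    | bot => exact bot_le
    | coe d =>
      have h2 : d + (e : ℕ∞) ≤ 1 + (e : ℕ∞) := by
        rw [add_comm (1 : ℕ∞)]; exact_mod_cast hsd
      exact WithBot.coe_le_coe.2 ((ENat.add_le_add_iff_right (ENat.natCast_ne_top e)).1 h2)

end Dual

end Groth.Agent.LC.Canon
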