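import Mathlib.RingTheory.LocalRing.Basic
import Mathlib.RingTheory.Artinian.Module
import Mathlib.RingTheory.Noetherian.Basic
import Mathlib.RingTheory.Ideal.Operations
import Mathlib.RingTheory.Noetherian.Basic
import Mathlib.RingTheory.Noetherian.Nilpotent

/-!
# A consequence of secondary representations of Artinian modules
-/

universe u

namespace Groth.Agent.LC

variable {R : Type u} [CommRing R] {B : Type*} [AddCommGroup B] [Module R B]

/-- For an Artinian module there is, outside finitely many primes, an element `x` whose powers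
dominate the powers of `m`. -/
theorem exists_finset_primes_smul [IsArtinian R B] (m : Ideal R) (hm : m.FG) (S : Submodule R B) :
    ∃ (T : Finset (Ideal R)) (k₀ : ℕ), (∀ P ∈ T, P.IsPrime ∧ ¬ m ≤ P) ∧
      ∀ x : R, (∀ P ∈ T, x ∉ P) → ∀ k, k₀ ≤ k → ∀ c ∈ m ^ k, ∀ b ∈ S, ∃ b' ∈ S, x ^ k • b' = c • b := by
  classical
  induction S using WellFoundedLT.induction with
  | ind S ih =>
  by_cases hsec : ∀ x : R, (∀ s ∈ S, ∃ t ∈ S, x • t = s) ∨ ∃ n : ℕ, ∀ s ∈ S, x ^ n • s = 0
  · let P : Ideal R :=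
      { carrier := {x | ∃ n : ℕ, ∀ s ∈ S, x ^ n • s = 0}
        zero_mem' := ⟨1, fun s _ => by simp⟩
        add_mem' := by
          rintro a b ⟨n, hn⟩ ⟨n', hn'⟩
          refine ⟨n + n', fun s hs => ?_⟩
          rw [add_pow, Finset.sum_smul]
          refine Finset.sum_eq_zero fun i _ => ?_
          rcases le_or_gt n i with h | h
          · obtain ⟨q, rfl⟩ := Nat.exists_eq_add_of_le h
            rw [show a ^ (n + q) * b ^ (n + n' - (n + q)) * ((n + n').choose (n + q) : R) =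
              (a ^ q * b ^ (n + n' - (n + q)) * ((n + n').choose (n + q) : R)) * a ^ n by ring,
              mul_smul, hn s hs, smul_zero]
          · obtain ⟨q, hq⟩ := Nat.exists_eq_add_of_le (show n' ≤ n + n' - i by omega)
            rw [hq, show a ^ i * b ^ (n' + q) * ((n + n').choose i : R) =
              (a ^ i * b ^ q * ((n + n').choose i : R)) * b ^ n' by ring,
              mul_smul, hn' s hs, smul_zero]
        smul_mem' := by
          rintro r a ⟨n, hn⟩
          exact ⟨n, fun s hs => by rw [smul_eq_mul, mul_pow, mul_smul, hn s hs, smul_zero]⟩ }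
    have hsurj : ∀ x ∉ P, ∀ k : ℕ, ∀ s ∈ S, ∃ t ∈ S, x ^ k • t = s := by
      intro x hx k
      induction k with
      | zero => exact fun s hs => ⟨s, hs, by simp⟩
      | succ k ihk =>
        intro s hs
        obtain ⟨t, ht, rfl⟩ := ((hsec x).resolve_right hx) s hs
        obtain ⟨t', ht', rfl⟩ := ihk t ht
        exact ⟨t', ht', by rw [pow_succ', mul_smul]⟩
    by_cases hmP : m ≤ P
    · obtain ⟨N, hN⟩ : ∃ N, ∀ c ∈ m ^ N, ∀ s ∈ S, c • s = 0 := by
        obtain ⟨s, hs⟩ := hm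
        let A : Ideal R := S.annihilator
        have hrad : m ≤ A.radical := fun x hx => by
          obtain ⟨n, hn⟩ := hmP hx
          exact ⟨n, Submodule.mem_annihilator.2 hn⟩
        obtain ⟨N, hN⟩ := Ideal.exists_pow_le_of_le_radical_of_fg hrad ⟨s, hs⟩
        exact ⟨N, fun c hc s hs => Submodule.mem_annihilator.1 (hN hc) s hs⟩
      refine ⟨∅, N, by simp, fun x _ k hk c hc b hb => ⟨0, zero_mem _, ?_⟩⟩
      rw [smul_zero, hN c (Ideal.pow_le_pow_right hk hc) b hb]
    · refine ⟨{P}, 0, fun Q hQ => ?_, fun x hx k _ c _ b hb => ?_⟩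
      · rw [Finset.mem_singleton.1 hQ]
        refine ⟨⟨fun h => hmP (h ▸ le_top), fun {a b} hab => ?_⟩, hmP⟩
        by_contra h
        push Not at h
        obtain ⟨n, hn⟩ := hab
        refine hmP ?_
        have hbot : ∀ s ∈ S, s = 0 := fun s hs => by
          obtain ⟨t, ht, rfl⟩ := hsurj a h.1 n s hs
          obtain ⟨t', ht', rfl⟩ := hsurj b h.2 n t ht
          rw [← mul_smul, ← mul_pow, hn t' ht']
        exact fun x _ => ⟨1, fun s hs => by rw [hbot s hs, smul_zero]⟩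
      · exact hsurj x (hx P (Finset.mem_singleton_self P)) k (c • b) (S.smul_mem c hb)
  · push Not at hsec
    obtain ⟨x, ⟨s₀, hs₀, hs₀'⟩, hnil⟩ := hsec
    -- descending chain `x ^ n • S` stabilises
    let F : ℕ → Submodule R B := fun n => S.map (LinearMap.lsmul R B (x ^ n))
    obtain ⟨n, hn⟩ := IsArtinian.monotone_stabilizes (R := R) (M := B)
      ⟨fun n => OrderDual.toDual (F n), fun a b hab z hz => by
        obtain ⟨s, hs, rfl⟩ := hz
        obtain ⟨q, rfl⟩ := Nat.exists_eq_add_of_le hab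
        exact ⟨x ^ q • s, S.smul_mem _ hs, by rw [LinearMap.lsmul_apply, LinearMap.lsmul_apply, ← mul_smul, ← pow_add]⟩⟩
    let k := n + 1
    let S₁ := F k
    let S₂ : Submodule R B := S ⊓ LinearMap.ker (LinearMap.lsmul R B (x ^ k))
    have h1 : S₁ ≤ S := by rintro _ ⟨s, hs, rfl⟩; exact S.smul_mem _ hs
    have hsup : ∀ s ∈ S, ∃ s₁ ∈ S₁, ∃ s₂ ∈ S₂, s = s₁ + s₂ := by
      intro s hs
      have hmem : x ^ k • s ∈ F (k + k) := by
        have e : F k = F (k + k) :=
          ((hn k (by omega)).symm.trans (hn (k + k) (by omega)))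
        exact e ▸ ⟨s, hs, rfl⟩
      obtain ⟨t, ht, hts⟩ := hmem
      refine ⟨x ^ k • t, ⟨t, ht, rfl⟩, s - x ^ k • t,
        ⟨S.sub_mem hs (S.smul_mem _ ht), ?_⟩, by abel⟩
      rw [SetLike.mem_coe, LinearMap.mem_ker, LinearMap.lsmul_apply, smul_sub, ← mul_smul, ← pow_add]
      exact sub_eq_zero.2 hts.symm
    have hlt1 : S₁ < S := lt_of_le_of_ne h1 fun h => by
      obtain ⟨t, ht, hts⟩ : s₀ ∈ S₁ := h ▸ hs₀
      refine hs₀' (x ^ n • t) (S.smul_mem _ ht) ?_
      rw [← mul_smul, ← pow_succ']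
      exact hts
    have hlt2 : S₂ < S := lt_of_le_of_ne inf_le_left fun h => by
      obtain ⟨s, hs, hne⟩ := hnil k
      exact hne (LinearMap.mem_ker.1 (h.symm ▸ hs : s ∈ S₂).2)
    obtain ⟨T₁, k₁, hT₁, hx₁⟩ := ih S₁ hlt1
    obtain ⟨T₂, k₂, hT₂, hx₂⟩ := ih S₂ hlt2
    refine ⟨T₁ ∪ T₂, max k₁ k₂, fun P hP => (Finset.mem_union.1 hP).elim (hT₁ P) (hT₂ P),
      fun y hy l hl c hc b hb => ?_⟩
    obtain ⟨b₁, hb₁, b₂, hb₂, rfl⟩ := hsup b hb
    obtain ⟨u₁, hu₁, e₁⟩ := hx₁ y (fun P hP => hy P (Finset.mem_union_left _ hP)) l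
      ((le_max_left _ _).trans hl) c hc b₁ hb₁
    obtain ⟨u₂, hu₂, e₂⟩ := hx₂ y (fun P hP => hy P (Finset.mem_union_right _ hP)) l
      ((le_max_right _ _).trans hl) c hc b₂ hb₂
    exact ⟨u₁ + u₂, S.add_mem (h1 hu₁) hu₂.1, by rw [smul_add, e₁, e₂, smul_add]⟩

end Groth.Agent.LC
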