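import Groth.Agent.LC.CdDim
import Groth.Agent.LC.DepthExt
import Groth.Agent.LC.Artinian
import Groth.Agent.LC.Matlis
import Groth.Agent.LC.Secondary
import Mathlib.RingTheory.HopkinsLevitzki
import Mathlib.RingTheory.KrullDimension.Regular

/-!
# Local cohomology at the maximal ideal: Artinianness and nonvanishing in degree `dim M`
-/

universe u

open CategoryTheory Limits IsLocalRing

namespace Groth.Agent.LC

variable {R : Type u} [CommRing R] [IsNoetherianRing R]

theorem isArtinian_of_kill (J : Ideal R) [IsArtinianRing (R ⧸ J)] (M : Type u) [AddCommGroup M]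
    [Module R M] [Module.Finite R M] (h : ∀ a ∈ J, ∀ z : M, a • z = 0) : IsArtinian R M := by
  have hJ : Module.IsTorsionBySet R M (J : Set R) := fun z ⟨a, ha⟩ => h a ha z
  letI : Module (R ⧸ J) M := hJ.module
  haveI : IsScalarTower R (R ⧸ J) M := hJ.isScalarTower
  have : Module.Finite (R ⧸ J) M := Module.Finite.of_restrictScalars_finite R _ _
  exact isArtinian_of_surjective_algebraMap (R := R ⧸ J) (S := R) (Ideal.Quotient.mk_surjective (I := J))

theorem finite_of_kill (J : Ideal R) [IsArtinianRing (R ⧸ J)] (M : Type u) [AddCommGroup M]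
    [Module R M] [IsArtinian R M] (h : ∀ a ∈ J, ∀ z : M, a • z = 0) : Module.Finite R M := by
  have hJ : Module.IsTorsionBySet R M (J : Set R) := fun z ⟨a, ha⟩ => h a ha z
  letI : Module (R ⧸ J) M := hJ.module
  haveI : IsScalarTower R (R ⧸ J) M := hJ.isScalarTower
  have : IsArtinian (R ⧸ J) M := isArtinian_of_tower R inferInstance
  have : IsNoetherian (R ⧸ J) M := IsSemiprimaryRing.isNoetherian_iff_isArtinian.2 ‹_›
  have : Module.Finite (R ⧸ J) M := inferInstance
  exact Module.Finite.trans (R ⧸ J) M

/-- The short exact sequence of multiplication by a regular element, on `H`. -/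
theorem exact_smul {M : Type u} [AddCommGroup M] [Module R M] (I : Ideal R) {x : R}
    (hreg : IsSMulRegular M x) (i : ℕ) :
    ∃ δ : (localCohomology I i).obj (ModuleCat.of R (QuotSMulTop x M)) →ₗ[R]
        (localCohomology I (i + 1)).obj (ModuleCat.of R M),
      Function.Exact δ (fun z => x • z) ∧
      ∃ π : (localCohomology I i).obj (ModuleCat.of R M) →ₗ[R]
          (localCohomology I i).obj (ModuleCat.of R (QuotSMulTop x M)),
        Function.Exact π δ ∧ Function.Exact (fun z => x • z) π := by
  have hS := IsSMulRegular.smulShortComplex_shortExact (M := ModuleCat.of R M) hreg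
  have hsmul : ∀ j (w : (localCohomology I j).obj (ModuleCat.of R M)),
      ((localCohomology I j).map ((ModuleCat.of R M).smulShortComplex x).f).hom w = x • w := fun j w => by
    obtain ⟨n, y, rfl⟩ := exists_toH I j w
    refine (toH_natural I j ((ModuleCat.of R M).smulShortComplex x).f (M := ModuleCat.of R M) y).trans ?_
    rw [ModuleCat.smulShortComplex_f_eq_smul_id]
    exact (congrArg _ (Abelian.Ext.smul_eq_comp_mk₀ y x).symm).trans (map_smul _ x y)
  refine ⟨δH I i hS (i + 1) rfl, ?_, ((localCohomology I i).map ((ModuleCat.of R M).smulShortComplex x).g).hom,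
    exact₃ I i hS (i + 1) rfl, ?_⟩
  · exact fun z => (show x • z = 0 ↔ _ from (hsmul (i + 1) z) ▸ exact₁ I i hS (i + 1) rfl z)
  · intro z
    refine (exact₂ I i hS z).trans ⟨?_, ?_⟩
    · rintro ⟨w, rfl⟩; exact ⟨w, (hsmul i w).symm⟩
    · rintro ⟨w, rfl⟩; exact ⟨w, hsmul i w⟩

variable [IsLocalRing R]

local notation "𝔪" => IsLocalRing.maximalIdeal R

instance : IsArtinianRing (R ⧸ 𝔪) := by
  letI := Ideal.Quotient.field 𝔪
  infer_instance

theorem isArtinian_H0 (M : Type u) [AddCommGroup M] [Module R M] [Module.Finite R M] :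
    IsArtinian R ((localCohomology 𝔪 0).obj (ModuleCat.of R M)) := by
  have hΓ : IsArtinian R (DRing.torsionSub 𝔪 M) :=
    isArtinian_of_isArtinian_torsionBy 𝔪 (IsNoetherian.noetherian _) (isPowerTorsion_torsionSub 𝔪 M)
      (isArtinian_of_kill 𝔪 _ fun a ha z => Subtype.ext
        ((Submodule.mem_torsionBySet_iff _ _).1 z.2 ⟨a, ha⟩))
  exact isArtinian_of_linearEquiv (H0Equiv 𝔪 (ModuleCat.of R M)).symm

theorem isArtinian_H (i : ℕ) :
    ∀ (M : Type u) [AddCommGroup M] [Module R M] [Module.Finite R M],
      IsArtinian R ((localCohomology 𝔪 i).obj (ModuleCat.of R M)) := by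
  induction i with
  | zero => intro M _ _ _; exact isArtinian_H0 M
  | succ i ih =>
    intro M _ _ _
    let e := LinearEquiv.ofBijective _ (map_mkQ_bijective 𝔪 M i)
    suffices IsArtinian R ((localCohomology 𝔪 (i + 1)).obj (ModuleCat.of R (M ⧸ DRing.torsionSub 𝔪 M))) from
      isArtinian_of_linearEquiv e.symm
    let M' := M ⧸ DRing.torsionSub 𝔪 M
    by_cases hreg : ∃ x ∈ 𝔪, IsSMulRegular M' x
    · obtain ⟨x, hx, hxr⟩ := hreg
      obtain ⟨δ, hδ, -⟩ := exact_smul 𝔪 hxr i
      have := ih (QuotSMulTop x M')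
      let H := (localCohomology 𝔪 (i + 1)).obj (ModuleCat.of R M')
      have hle : LocCoh.torsionBy 𝔪 H ≤ LinearMap.range δ := fun z hz =>
        (hδ z).1 ((Submodule.mem_torsionBySet_iff _ _).1 hz ⟨x, hx⟩)
      have : IsArtinian R (LinearMap.range δ) :=
        isArtinian_of_surjective _ δ.rangeRestrict δ.surjective_rangeRestrict
      exact isArtinian_of_isArtinian_torsionBy 𝔪 (IsNoetherian.noetherian _) (isPowerTorsion_obj 𝔪 (i + 1) _)
        (isArtinian_of_injective (Submodule.inclusion hle) (Submodule.inclusion_injective hle))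
    · rw [Groth.Agent.Alg6.exists_isSMulRegular_mem_iff] at hreg
      push Not at hreg
      obtain ⟨p, hp, hle⟩ := hreg
      obtain ⟨hpp, z, hz⟩ := Groth.Agent.Alg6.mem_ass_iff.1 hp
      exfalso
      have hzt : z ∈ DRing.torsionSub 𝔪 M' := ⟨1, fun a ha => (hz a).1 (hle (by simpa using ha))⟩
      have h0 : DRing.torsionSub 𝔪 M' = ⊥ := by
        rw [Submodule.eq_bot_iff]
        intro y hy
        obtain ⟨x, rfl⟩ := Submodule.Quotient.mk_surjective _ y
        obtain ⟨n, hn⟩ := hy
        obtain ⟨l, v, hv⟩ := Submodule.fg_iff_exists_fin_generating_family.1 (IsNoetherian.noetherian (𝔪 ^ n))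
        have hmem : ∀ t : Fin l, ∃ q, ∀ a ∈ 𝔪 ^ q, a • v t • x = 0 := fun t => by
          have := hn (v t) (hv ▸ Submodule.subset_span ⟨t, rfl⟩)
          rw [← Submodule.Quotient.mk_smul, Submodule.Quotient.mk_eq_zero] at this
          exact this
        choose q hq using hmem
        refine (Submodule.Quotient.mk_eq_zero _).2 ⟨n + Finset.univ.sup q, fun a ha => ?_⟩
        rw [pow_add] at ha
        refine Submodule.mul_induction_on ha (fun b hb c hc => ?_) fun y z hy hz => by
          rw [add_smul, hy, hz, add_zero]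
        rw [← hv] at hb
        induction hb using Submodule.span_induction with
        | mem b hb =>
          obtain ⟨t, rfl⟩ := hb
          rw [mul_comm, mul_smul]
          exact hq t c (Ideal.pow_le_pow_right (Finset.le_sup (Finset.mem_univ t)) hc)
        | zero => rw [zero_mul, zero_smul]
        | add y z _ _ hy hz => rw [add_mul, add_smul, hy, hz, add_zero]
        | smul r y _ hy => rw [smul_eq_mul, mul_assoc, mul_smul, hy, smul_zero]
      have hz0 : z = 0 := (Submodule.eq_bot_iff _).1 h0 z hzt
      exact hpp.ne_top ((Ideal.eq_top_iff_one p).2 ((hz 1).2 (by rw [hz0, smul_zero])))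

omit [IsLocalRing R] in
/-- Surjectivity of `H^n` on surjections, for `n ≥ dim`. -/
theorem surjective_H_map_of_supportDim_lt (I : Ideal R) {M N : Type u} [AddCommGroup M] [Module R M]
    [AddCommGroup N] [Module R N] (g : M →ₗ[R] N) (hg : Function.Surjective g) (n : ℕ)
    (hK : Module.supportDim R (LinearMap.ker g) < ((n + 1 : ℕ) : WithBot ℕ∞)) :
    Function.Surjective ((localCohomology I n).map (ModuleCat.ofHom g)).hom := by
  let S : ShortComplex (ModuleCat.{u} R) := ShortComplex.mk
    (X₁ := ModuleCat.of R (LinearMap.ker g)) (X₂ := ModuleCat.of R M) (X₃ := ModuleCat.of R N)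
    (ModuleCat.ofHom (LinearMap.ker g).subtype) (ModuleCat.ofHom g)
    (ModuleCat.hom_ext (LinearMap.ext fun z => z.2))
  have hS : S.ShortExact :=
    { exact := (ShortComplex.ShortExact.moduleCat_exact_iff_function_exact _).2
        (LinearMap.exact_subtype_ker_map g)
      mono_f := (ModuleCat.mono_iff_injective _).2 Subtype.val_injective
      epi_g := (ModuleCat.epi_iff_surjective _).2 hg }
  have := subsingleton_H_of_supportDim_lt I (LinearMap.ker g) (n + 1) hK
  exact fun z => (exact₃ I n hS (n + 1) rfl z).1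
    (Subsingleton.elim (α := (localCohomology I (n + 1)).obj (ModuleCat.of R (LinearMap.ker g))) _ _)

omit [IsNoetherianRing R] [IsLocalRing R] in
theorem withBot_eq_of_add_one {a : WithBot ℕ∞} {n : ℕ} (h : a + 1 = ((n + 1 : ℕ) : WithBot ℕ∞)) :
    a = n := by
  induction a with
  | bot => rw [WithBot.bot_add] at h; exact absurd h WithBot.bot_ne_coe
  | coe a =>
    have h' : a + 1 = ((n + 1 : ℕ) : ℕ∞) := by exact_mod_cast h
    rw [Nat.cast_add, Nat.cast_one] at h'
    rw [ENat.add_left_injective_of_ne_top ENat.one_ne_top h']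
    rfl

/-- Passing the conclusion along a surjection. -/
theorem top_of_surjective {M G : Type u} [AddCommGroup M] [Module R M] [AddCommGroup G] [Module R G]
    (g : M →ₗ[R] G) (hg : Function.Surjective g) (n : ℕ) (hd : Module.supportDim R M ≤ (n : WithBot ℕ∞))
    (key : ¬ Module.Finite R ((localCohomology 𝔪 n).obj (ModuleCat.of R G))) :
    Nontrivial ((localCohomology 𝔪 n).obj (ModuleCat.of R M)) ∧
      (0 < n → ¬ Module.Finite R ((localCohomology 𝔪 n).obj (ModuleCat.of R M))) := by
  have hle : Module.supportDim R (LinearMap.ker g) ≤ Module.supportDim R M :=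
    Module.supportDim_le_of_injective (LinearMap.ker g).subtype Subtype.val_injective
  have hlt : Module.supportDim R (LinearMap.ker g) < ((n + 1 : ℕ) : WithBot ℕ∞) :=
    (hle.trans hd).trans_lt (Nat.cast_lt.2 (Nat.lt_succ_self n))
  have hsurj := surjective_H_map_of_supportDim_lt 𝔪 g hg n hlt
  refine ⟨?_, fun _ hfin => key (Module.Finite.of_surjective _ hsurj)⟩
  by_contra hnt
  rw [not_nontrivial_iff_subsingleton] at hnt
  have := hsurj.subsingleton
  exact key inferInstance

/-- The inductive step, for a module on which everything outside a prime is regular. -/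
theorem not_finite_H_of_prime {d : ℕ} (p : PrimeSpectrum R) {G : Type u} [AddCommGroup G] [Module R G]
    [Module.Finite R G] (_hGP : ∀ a ∈ p.asIdeal, ∀ z : G, a • z = 0)
    (hGreg : ∀ x ∉ p.asIdeal, IsSMulRegular G x)
    (hGdim : Module.supportDim R G = ((d + 1 : ℕ) : WithBot ℕ∞))
    (ih : ∀ (M : Type u) [AddCommGroup M] [Module R M] [Module.Finite R M],
      Module.supportDim R M = d →
        Nontrivial ((localCohomology 𝔪 d).obj (ModuleCat.of R M)) ∧
        (0 < d → ¬ Module.Finite R ((localCohomology 𝔪 d).obj (ModuleCat.of R M)))) :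
    ¬ Module.Finite R ((localCohomology 𝔪 (d + 1)).obj (ModuleCat.of R G)) := by
  let P : Ideal R := p.asIdeal
  intro hfin
  set H := (localCohomology 𝔪 (d + 1)).obj (ModuleCat.of R G)
  have hquot : ∀ x ∈ 𝔪, x ∉ P → Module.supportDim R (QuotSMulTop x G) = (d : WithBot ℕ∞) := by
    intro x hx hxP
    have h1 := Module.supportDim_quotSMulTop_succ_eq_supportDim (hGreg x hxP) hx
    rw [hGdim] at h1
    exact withBot_eq_of_add_one h1
  have hmP : ¬ 𝔪 ≤ P := fun hle => by
    have : Nontrivial G := (Module.supportDim_ne_bot_iff_nontrivial R G).1 (by rw [hGdim]; simp)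
    obtain ⟨z, hz⟩ := exists_ne (0 : G)
    have hsub : Module.support R G ⊆ {IsLocalRing.closedPoint R} := fun q hq => by
      have hle' : 𝔪 ≤ q.asIdeal := hle.trans fun a ha => by
        rw [Module.support_eq_zeroLocus] at hq
        exact hq (Module.mem_annihilator.2 fun z => _hGP a ha z)
      exact PrimeSpectrum.ext (le_antisymm (IsLocalRing.le_maximalIdeal q.isPrime.ne_top) hle')
    have : Subsingleton (Module.support R G) :=
      ⟨fun a b => Subtype.ext ((hsub a.2).trans (hsub b.2).symm)⟩
    have h0 : Module.supportDim R G ≤ 0 := Order.krullDim_nonpos_of_subsingleton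
    rw [hGdim] at h0
    exact absurd h0 (by simp)
  obtain ⟨x, hx, hxP⟩ := SetLike.not_le_iff_exists.1 hmP
  -- `x` is surjective on a finite `H`, so `H = 0`
  have hH0 : Subsingleton H := by
    obtain ⟨-, -, π, -, hπ⟩ := exact_smul 𝔪 (hGreg x hxP) (d + 1)
    have := subsingleton_H_of_supportDim_lt 𝔪 (QuotSMulTop x G) (d + 1)
      ((hquot x hx hxP).trans_lt (by exact_mod_cast Nat.lt_succ_self d))
    have htop : (⊤ : Submodule R H) ≤ 𝔪 • ⊤ := fun z _ => by
      obtain ⟨w, rfl⟩ := (hπ z).1 (Subsingleton.elim _ _)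
      exact Submodule.smul_mem_smul hx trivial
    have h0 := Submodule.eq_bot_of_le_smul_of_le_jacobson_bot 𝔪 ⊤
      Module.Finite.fg_top htop (IsLocalRing.maximalIdeal_le_jacobson _)
    exact subsingleton_of_forall_eq 0 fun z => (Submodule.eq_bot_iff _).1 h0 z trivial
  rcases Nat.eq_zero_or_pos d with rfl | hd0
  · obtain ⟨δ, -, π, hπδ, -⟩ := exact_smul 𝔪 (hGreg x hxP) 0
    have hnt := (ih (QuotSMulTop x G) (hquot x hx hxP)).1
    have : Subsingleton ((localCohomology 𝔪 0).obj (ModuleCat.of R G)) := by
      rw [subsingleton_H0_iff, Submodule.eq_bot_iff]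
      rintro z ⟨n, hn⟩
      exact hGreg (x ^ n) (fun h => hxP (p.isPrime.mem_of_pow_mem n h))
        (show x ^ n • z = x ^ n • (0 : G) by rw [smul_zero, hn _ (Ideal.pow_mem_pow hx n)])
    refine (not_subsingleton ((localCohomology 𝔪 0).obj (ModuleCat.of R (QuotSMulTop x G))))
      (subsingleton_of_forall_eq 0 fun z => ?_)
    obtain ⟨w, rfl⟩ := (hπδ z).1 (Subsingleton.elim _ _)
    rw [Subsingleton.elim w 0, map_zero]
  · have := isArtinian_H (R := R) d G
    obtain ⟨T, k₀, hT, hdiv⟩ := exists_finset_primes_smul 𝔪 (IsNoetherian.noetherian _)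
      (⊤ : Submodule R ((localCohomology 𝔪 d).obj (ModuleCat.of R G)))
    obtain ⟨y, hy, hyT⟩ : ∃ y ∈ 𝔪, ∀ Q ∈ insert P T, y ∉ Q := by
      by_contra h
      push Not at h
      obtain ⟨Q, hQ, hle⟩ := (Ideal.subset_union_prime P P (f := fun Q : Ideal R => Q)
        (s := insert P T) (fun Q hQ _ _ => (Finset.mem_insert.1 hQ).elim (fun h => h ▸ p.isPrime) fun h => (hT Q h).1)).1 (fun y hy => by
          obtain ⟨Q, hQ, hyQ⟩ := h y hy
          exact Set.mem_biUnion (Finset.mem_coe.2 hQ) hyQ)
      · rcases Finset.mem_insert.1 hQ with rfl | hQ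
        · exact hmP hle
        · exact (hT Q hQ).2 hle
    let k := k₀ + 1
    have hyk : y ^ k ∈ 𝔪 := Ideal.pow_mem_of_mem _ hy k (Nat.succ_pos _)
    have hykP : y ^ k ∉ P := fun h => hyT P (Finset.mem_insert_self _ _) (p.isPrime.mem_of_pow_mem k h)
    obtain ⟨δ, -, π, hπδ, hπ⟩ := exact_smul 𝔪 (hGreg _ hykP) d
    have hπsurj : Function.Surjective π := fun z => (hπδ z).1
      (Subsingleton.elim (α := (localCohomology 𝔪 (d + 1)).obj (ModuleCat.of R G)) _ _)
    refine (ih (QuotSMulTop (y ^ k) G) (hquot _ hyk hykP)).2 hd0 ?_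
    have := isArtinian_of_surjective _ π hπsurj
    have : IsArtinianRing (R ⧸ 𝔪 ^ k) := by
      have := Groth.Agent.LC.isFiniteLength_quot_pow (R := R) k
      exact isArtinian_of_tower R ((isFiniteLength_iff_isNoetherian_isArtinian.1 this).2)
    refine finite_of_kill (𝔪 ^ k) _ fun c hc z => ?_
    obtain ⟨w, rfl⟩ := hπsurj z
    obtain ⟨w', -, hw'⟩ := hdiv y (fun Q hQ => hyT Q (Finset.mem_insert_of_mem hQ)) k
      (Nat.le_succ _) c hc w trivial
    rw [← map_smul, ← hw']
    exact (hπ _).2 ⟨w', rfl⟩


/-- Grothendieck's nonvanishing theorem, with its strengthening in positive dimension. -/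
theorem nontrivial_and_not_finite_H (d : ℕ) :
    ∀ (M : Type u) [AddCommGroup M] [Module R M] [Module.Finite R M],
      Module.supportDim R M = d →
        Nontrivial ((localCohomology 𝔪 d).obj (ModuleCat.of R M)) ∧
        (0 < d → ¬ Module.Finite R ((localCohomology 𝔪 d).obj (ModuleCat.of R M))) := by
  induction d with
  | zero =>
    intro M _ _ _ hd
    have : Nontrivial M := (Module.supportDim_ne_bot_iff_nontrivial R M).1 (by rw [hd]; simp)
    refine ⟨?_, fun h => absurd h (lt_irrefl 0)⟩
    by_contra hnt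
    rw [not_nontrivial_iff_subsingleton, subsingleton_H0_iff] at hnt
    obtain ⟨p, hp⟩ := associatedPrimes.nonempty R M
    obtain ⟨hpp, z, hz⟩ := Groth.Agent.Alg6.mem_ass_iff.1 hp
    have hps : (⟨p, hpp⟩ : PrimeSpectrum R) ∈ Module.support R M :=
      Module.mem_support_iff_exists_annihilator.2 ⟨z, fun a ha => (hz a).2 (by
        simpa [Submodule.mem_annihilator_span_singleton] using ha)⟩
    have hmax : 𝔪 ≤ p := by
      by_contra hlt
      let mP : PrimeSpectrum R := IsLocalRing.closedPoint R
      have hlt' : (⟨p, hpp⟩ : PrimeSpectrum R) < mP :=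
        lt_of_le_of_ne (IsLocalRing.le_maximalIdeal hpp.ne_top) fun h =>
          hlt (congrArg PrimeSpectrum.asIdeal h).ge
      have h1 := (coheight_le_supportDim hps).trans_eq hd
      have h2 : (1 : ℕ∞) ≤ Order.coheight (⟨p, hpp⟩ : PrimeSpectrum R) :=
        le_trans le_add_self (Order.coheight_add_one_le hlt')
      have h3 : ((1 : ℕ∞) : WithBot ℕ∞) ≤ ((0 : ℕ) : WithBot ℕ∞) := (WithBot.coe_le_coe.2 h2).trans h1
      exact absurd h3 (by decide)
    have hz0 : z = 0 := (Submodule.eq_bot_iff _).1 hnt z
      ⟨1, fun a ha => (hz a).1 (hmax (by simpa using ha))⟩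
    exact hpp.ne_top ((Ideal.eq_top_iff_one p).2 ((hz 1).2 (by rw [hz0, smul_zero])))
  | succ d ih =>
    intro M _ _ _ hd
    -- a point `p` of the support with `coheight p = d + 1`
    obtain ⟨p, hp, hcp⟩ : ∃ p ∈ Module.support R M, Order.coheight p = ((d + 1 : ℕ) : ℕ∞) := by
      obtain ⟨l, hl⟩ := Order.le_krullDim_iff.1 (show ((d + 1 : ℕ) : WithBot ℕ∞) ≤
        Order.krullDim (Module.support R M) from hd.ge)
      refine ⟨l.head.1, l.head.2, le_antisymm ?_ ?_⟩
      · have := (coheight_le_supportDim l.head.2).trans_eq hd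
        exact_mod_cast this
      · let l' : LTSeries (PrimeSpectrum R) := l.map Subtype.val fun _ _ h => h
        have := Order.length_le_coheight (p := l') (x := l.head.1) (le_of_eq (LTSeries.head_map _ _ _).symm)
        rw [← hl]
        exact this
    -- the image `G` of `M` in `(M / p M)_p`
    let P : Ideal R := p.asIdeal
    let Q := M ⧸ (P • ⊤ : Submodule R M)
    let ψ : M →ₗ[R] LocalizedModule P.primeCompl Q :=
      LocalizedModule.mkLinearMap P.primeCompl Q ∘ₗ (P • ⊤ : Submodule R M).mkQ
    let G := LinearMap.range ψ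
    have hQ : p ∈ Module.support R Q := by
      rw [Module.support_quotient]
      exact ⟨hp, fun a ha => ha⟩
    have hGP : ∀ a ∈ P, ∀ z : G, a • z = 0 := fun a ha => by
      rintro ⟨_, m, rfl⟩
      refine Subtype.ext ?_
      show a • ψ m = 0
      rw [← map_smul]
      show LocalizedModule.mkLinearMap P.primeCompl Q (Submodule.Quotient.mk (a • m)) = 0
      rw [(Submodule.Quotient.mk_eq_zero _).2 (Submodule.smul_mem_smul ha (Submodule.mem_top : m ∈ ⊤)), map_zero]
    have hGreg : ∀ x ∉ P, IsSMulRegular G x := fun x hx a b hab => by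
      have := (Module.End.isUnit_iff _).1 (IsLocalizedModule.map_units
        (LocalizedModule.mkLinearMap P.primeCompl Q) (⟨x, hx⟩ : P.primeCompl))
      exact Subtype.ext (this.1 (congrArg Subtype.val hab))
    have hGne : Nontrivial G := by
      rw [Submodule.nontrivial_iff_ne_bot]
      intro hbot
      refine not_subsingleton_iff_nontrivial.2 (Module.mem_support_iff.1 hQ) (subsingleton_of_forall_eq 0 fun z => ?_)
      induction z using LocalizedModule.induction_on with
      | h q s =>
        obtain ⟨m, rfl⟩ := Submodule.Quotient.mk_surjective _ q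
        have h0 : LocalizedModule.mkLinearMap P.primeCompl Q (Submodule.Quotient.mk m) = 0 :=
          (Submodule.eq_bot_iff _).1 hbot _ ⟨m, rfl⟩
        rw [LocalizedModule.mkLinearMap_apply] at h0
        rw [show LocalizedModule.mk (Submodule.Quotient.mk m : Q) s =
          Localization.mk 1 s • LocalizedModule.mk (Submodule.Quotient.mk m : Q) 1 by
            rw [LocalizedModule.mk_smul_mk, one_smul, mul_one], h0, smul_zero]
    have hGdim : Module.supportDim R G = ((d + 1 : ℕ) : WithBot ℕ∞) := by
      refine le_antisymm ((Module.supportDim_le_of_surjective ψ.rangeRestrict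
        ψ.surjective_rangeRestrict).trans_eq hd) ?_
      have hpG : p ∈ Module.support R G := by
        rw [Module.support_eq_zeroLocus]
        intro a ha
        by_contra ha'
        obtain ⟨z, hz⟩ := exists_ne (0 : G)
        exact hz (hGreg a ha' (show a • z = a • 0 by rw [Module.mem_annihilator.1 ha z, smul_zero]))
      have := coheight_le_supportDim hpG
      rw [hcp] at this
      exact this
    -- it suffices to see that the top cohomology of `G` is not finite
    have hψ : Function.Surjective ψ.rangeRestrict := ψ.surjective_rangeRestrict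
    refine top_of_surjective (R := R) (M := M) (G := G) ψ.rangeRestrict hψ (d + 1) hd.le ?_
    exact not_finite_H_of_prime p hGP hGreg hGdim ih

end Groth.Agent.LC
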