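import Groth.Agent.LC.Annihilator
import Groth.Agent.LC.TopDim

/-!
# Local duality after localization: support of local cohomology modules
-/

universe u

open CategoryTheory Limits IsLocalRing

namespace Groth.Agent.LC

theorem map_maximalIdeal_of_surjective {A B : Type u} [CommRing A] [CommRing B] [IsLocalRing A] [IsLocalRing B]
    (f : A →+* B) (hf : Function.Surjective f) : (maximalIdeal A).map f = maximalIdeal B := by
  have := IsLocalHom.of_surjective f hf
  exact (Ideal.map_eq_top_or_isMaximal_of_surjective _ hf (maximalIdeal.isMaximal A)).elim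
    (fun h => absurd h (map_maximalIdeal_lt_top f).ne) eq_maximalIdeal

section Comap

variable {S R : Type u} [CommRing S] [CommRing R] [Algebra S R]
variable {M : Type u} [AddCommGroup M] [Module R M] [Module S M] [IsScalarTower S R M]
variable (hπ : Function.Surjective (algebraMap S R)) (p : Ideal R) [p.IsPrime]

include hπ in
theorem exists_semilinear_localized :
    ∃ e : LocalizedModule (p.comap (algebraMap S R)).primeCompl M ≃+ LocalizedModule p.primeCompl M,
      ∀ z x, e (z • x) = Localization.localRingHom (p.comap (algebraMap S R)) p (algebraMap S R) rfl z • e x := by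
  let P := p.comap (algebraMap S R)
  have := isLocalizedModule_comap (M := M) hπ p
  let f := (LocalizedModule.mkLinearMap p.primeCompl M).restrictScalars S
  let e := IsLocalizedModule.iso P.primeCompl f
  let σ := Localization.localRingHom P p (algebraMap S R) rfl
  refine ⟨e.toAddEquiv, fun z x => ?_⟩
  obtain ⟨⟨a, t⟩, hat⟩ := IsLocalization.surj P.primeCompl z
  have hu : IsUnit (algebraMap R (Localization.AtPrime p) (algebraMap S R (t : S))) :=
    IsLocalization.map_units (Localization.AtPrime p) (⟨algebraMap S R t, t.2⟩ : p.primeCompl)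
  refine hu.smul_left_cancel.1 ?_
  have h1 : algebraMap R (Localization.AtPrime p) (algebraMap S R (t : S)) * σ z =
      algebraMap R (Localization.AtPrime p) (algebraMap S R a) := by
    rw [← Localization.localRingHom_to_map P p (algebraMap S R) rfl a,
      ← Localization.localRingHom_to_map P p (algebraMap S R) rfl (t : S), ← map_mul, mul_comm _ z, hat]
  have h2 : (t : S) • z • x = a • x := by
    rw [← algebraMap_smul (Localization.AtPrime P) (t : S) (z • x), smul_smul, mul_comm]
    exact (congrArg (fun c => c • x) hat).trans (algebraMap_smul _ a x)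
  rw [smul_smul, h1, algebraMap_smul, algebraMap_smul, algebraMap_smul, algebraMap_smul]
  show (t : S) • e (z • x) = a • e x
  rw [← map_smul, h2, map_smul]

variable [IsNoetherianRing S] [IsNoetherianRing R]

include hπ in
theorem subsingleton_H_localized_comap (j : ℕ) :
    Subsingleton (LocCoh.H (maximalIdeal (Localization.AtPrime (p.comap (algebraMap S R)))) j
        (LocalizedModule (p.comap (algebraMap S R)).primeCompl M)) ↔
      Subsingleton (LocCoh.H (maximalIdeal (Localization.AtPrime p)) j (LocalizedModule p.primeCompl M)) := by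
  let P := p.comap (algebraMap S R)
  let A := Localization.AtPrime P
  let B := Localization.AtPrime p
  have hσ : Function.Surjective (Localization.localRingHom P p (algebraMap S R) rfl) :=
    RingHom.surjective_localRingHom_of_surjective (algebraMap S R) hπ p
  letI : Algebra A B := (Localization.localRingHom P p (algebraMap S R) rfl).toAlgebra
  letI : Module A (LocalizedModule p.primeCompl M) :=
    Module.compHom _ (Localization.localRingHom P p (algebraMap S R) rfl)
  have : IsScalarTower A B (LocalizedModule p.primeCompl M) :=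
    IsScalarTower.of_algebraMap_smul fun _ _ => rfl
  obtain ⟨e, he⟩ := exists_semilinear_localized (M := M) hπ p
  let el : LocalizedModule P.primeCompl M ≃ₗ[A] LocalizedModule p.primeCompl M :=
    { e with map_smul' := fun z x => he z x }
  have : IsNoetherianRing A := IsLocalization.isNoetherianRing P.primeCompl A inferInstance
  have : IsNoetherianRing B := IsLocalization.isNoetherianRing p.primeCompl B inferInstance
  have hmax : (maximalIdeal A).map (algebraMap A B) = maximalIdeal B := map_maximalIdeal_of_surjective _ hσ
  obtain ⟨φ, -⟩ := exists_indep (R := A) (R' := B) (maximalIdeal A) j (LocalizedModule p.primeCompl M)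
  rw [hmax] at φ
  rw [((localCohomology (maximalIdeal A) j).mapIso el.toModuleIso).toLinearEquiv.toEquiv.subsingleton_congr,
    φ.toEquiv.subsingleton_congr]

end Comap

section Gor

variable {S : Type u} [CommRing S] [LocCoh.IsGorensteinLocalRing S]
variable (M : Type u) [AddCommGroup M] [Module S M] [Module.Finite S M]

/-- A prime avoids the annihilator of `H^i_m(M)` iff the corresponding local cohomology at the prime vanishes. -/
theorem not_annihilator_H_le_iff (P : Ideal S) [P.IsPrime] (i : ℕ) :
    ¬ Module.annihilator S (LocCoh.H (maximalIdeal S) i M) ≤ P ↔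
      ∀ j : ℕ, (j : WithBot ℕ∞) + ringKrullDim (S ⧸ P) = i →
        Subsingleton (LocCoh.H (maximalIdeal (Localization.AtPrime P)) j (LocalizedModule P.primeCompl M)) := by
  have := isCohenMacaulayLocalRing_of_gorenstein (R := S)
  let A := Localization.AtPrime P
  have : IsNoetherianRing A := IsLocalization.isNoetherianRing P.primeCompl A inferInstance
  have := gorenstein_localized P
  have : Module.Finite A (LocalizedModule P.primeCompl M) :=
    Module.Finite.of_isLocalizedModule P.primeCompl (LocalizedModule.mkLinearMap P.primeCompl M)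
  obtain ⟨d, hd, -, -⟩ := gorenstein_basic (R := S)
  obtain ⟨h, hh, -, hv⟩ := gorenstein_basic (R := A)
  have hht : (P.height : WithBot ℕ∞) = h := (IsLocalization.AtPrime.ringKrullDim_eq_height P A).symm.trans hh
  have hsum := height_add_ringKrullDim_quotient P ‹P.IsPrime›.ne_top
  have : Nontrivial (S ⧸ P) := Ideal.Quotient.nontrivial_iff.2 ‹P.IsPrime›.ne_top
  obtain ⟨e, he⟩ := exists_supportDim_eq_nat (R := S) (S ⧸ P)
  rw [Module.supportDim_quotient_eq_ringKrullDim] at he
  rw [he, hht, hd] at hsum
  have hsum : e + h = d := by exact_mod_cast hsum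
  rw [he]
  obtain ⟨E, _, _, fE, hE⟩ := exists_injectiveHull S (ResidueField S)
  obtain ⟨E', _, _, fE', hE'⟩ := exists_injectiveHull A (ResidueField A)
  rcases lt_or_ge d i with hi | hi
  · constructor
    · intro _ j hj
      have hj : j + e = i := by exact_mod_cast hj
      exact subsingleton_H_of_supportDim_lt _ _ j
        (((Module.supportDim_le_ringKrullDim A _).trans hh.le).trans_lt (by exact_mod_cast (by omega : h < j)))
    · intro _ hle
      have := subsingleton_H_of_supportDim_lt (maximalIdeal S) (ModuleCat.of S M) i
        (((Module.supportDim_le_ringKrullDim S M).trans hd.le).trans_lt (by exact_mod_cast hi))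
      rw [Module.annihilator_eq_top_iff.2 this] at hle
      exact ‹P.IsPrime›.ne_top (top_le_iff.1 hle)
  · let X := Abelian.Ext (ModuleCat.of S M) (ModuleCat.of S S) (d - i)
    obtain ⟨φ⟩ := exists_localDuality_gorenstein d hd E hE M (d - i) i (by omega)
    rw [φ.annihilator_eq, ← annihilator_dual hE X]
    have hfin : Module.Finite S X :=
      inferInstanceAs (Module.Finite S (Abelian.Ext (ModuleCat.of S M) (ModuleCat.of S S) (d - i)))
    have hsupp : ¬ Module.annihilator S X ≤ P ↔ Subsingleton (LocalizedModule P.primeCompl X) := by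
      rw [← not_nontrivial_iff_subsingleton, not_iff_not]
      exact ((Set.ext_iff.1 Module.support_eq_zeroLocus (⟨P, ‹_›⟩ : PrimeSpectrum S)).symm.trans
        (Module.mem_support_iff (p := ⟨P, ‹_›⟩)))
    rw [hsupp]
    obtain ⟨ψ⟩ := exists_extLoc_ring P.primeCompl M (d - i)
    rw [ψ.toEquiv.subsingleton_congr]
    rcases lt_or_ge i e with hie | hie
    · exact ⟨fun _ j hj => by have hj : j + e = i := (by exact_mod_cast hj); omega,
        fun _ => hv _ (d - i) (by omega)⟩
    · obtain ⟨χ⟩ := exists_localDuality_gorenstein h hh E' hE' (LocalizedModule P.primeCompl M) (d - i) (i - e)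
        (by omega)
      rw [← subsingleton_iff_dual hE', ← χ.toEquiv.subsingleton_congr]
      exact ⟨fun hs j hj => by
          have hj : j + e = i := by exact_mod_cast hj
          obtain rfl : j = i - e := by omega
          exact hs,
        fun hs => hs (i - e) (by exact_mod_cast (by omega : i - e + e = i))⟩

end Gor

section Quot

variable {S R : Type u} [CommRing S] [LocCoh.IsGorensteinLocalRing S] [CommRing R] [IsLocalRing R]
  [IsNoetherianRing R] [Algebra S R]
variable (M : Type u) [AddCommGroup M] [Module R M] [Module.Finite R M]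

omit [LocCoh.IsGorensteinLocalRing S] [IsLocalRing R] [IsNoetherianRing R] in
theorem ringKrullDim_quotient_comap (hπ : Function.Surjective (algebraMap S R)) (p : Ideal R) :
    ringKrullDim (S ⧸ p.comap (algebraMap S R)) = ringKrullDim (R ⧸ p) := by
  refine ringKrullDim_eq_of_ringEquiv ((Ideal.quotEquivOfEq ?_).trans
    (RingHom.quotientKerEquivOfSurjective (f := (Ideal.Quotient.mk p).comp (algebraMap S R))
      (Ideal.Quotient.mk_surjective.comp hπ)))
  rw [← RingHom.comap_ker, Ideal.mk_ker]

/-- Over a quotient of a Gorenstein local ring. -/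
theorem le_radical_annihilator_H_iff (hπ : Function.Surjective (algebraMap S R)) (J : Ideal R) (i : ℕ) :
    J ≤ (Module.annihilator R (LocCoh.H (maximalIdeal R) i M)).radical ↔
      ∀ (p : Ideal R) [p.IsPrime], ¬ J ≤ p → ∀ j : ℕ, (j : WithBot ℕ∞) + ringKrullDim (R ⧸ p) = i →
        Subsingleton (LocCoh.H (maximalIdeal (Localization.AtPrime p)) j (LocalizedModule p.primeCompl M)) := by
  letI : Module S M := Module.compHom M (algebraMap S R)
  have : IsScalarTower S R M := IsScalarTower.of_algebraMap_smul fun _ _ => rfl
  have : Module.Finite S R := Module.Finite.of_surjective (Algebra.linearMap S R) hπ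
  have : Module.Finite S M := Module.Finite.trans R M
  have hmax : (maximalIdeal S).map (algebraMap S R) = maximalIdeal R := map_maximalIdeal_of_surjective _ hπ
  have hann : (Module.annihilator R (LocCoh.H (maximalIdeal R) i M)).comap (algebraMap S R) =
      Module.annihilator S (LocCoh.H (maximalIdeal S) i M) := by
    obtain ⟨ψ, hψ⟩ : ∃ ψ : LocCoh.H (maximalIdeal R) i M ≃+ LocCoh.H (maximalIdeal S) i M,
        ∀ (r : S) x, ψ (algebraMap S R r • x) = r • ψ x := by
      rw [← hmax]
      exact exists_indep (R := S) (R' := R) (maximalIdeal S) i M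
    ext r
    rw [Ideal.mem_comap, Module.mem_annihilator, Module.mem_annihilator]
    constructor
    · intro hr y
      obtain ⟨x, rfl⟩ := ψ.surjective y
      rw [← hψ, hr, map_zero]
    · intro hr x
      exact ψ.injective (by rw [hψ, hr, map_zero])
  have hsur := Ideal.comap_le_comap_iff_of_surjective (algebraMap S R) hπ
  constructor
  · intro hJ p hp hJp j hj
    rw [← subsingleton_H_localized_comap hπ p j]
    refine (not_annihilator_H_le_iff M (p.comap (algebraMap S R)) i).1 (fun hle => hJp (hJ.trans ?_)) j ?_
    · rw [← hann, hsur] at hle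
      exact hp.radical_le_iff.2 hle
    · rw [ringKrullDim_quotient_comap hπ p, hj]
  · intro h
    rw [Ideal.radical_eq_sInf]
    refine le_sInf fun p ⟨hle, hp⟩ => ?_
    by_contra hJp
    have h' := h p hJp
    refine (not_annihilator_H_le_iff M (p.comap (algebraMap S R)) i).2 (fun j hj => ?_) ?_
    · rw [subsingleton_H_localized_comap hπ p j]
      exact h' j (by rw [← hj, ringKrullDim_quotient_comap hπ p])
    · rw [← hann, hsur]
      exact hle

omit [Module.Finite R M] in
theorem isFiniteLength_of_artinian_of_pow_smul (X : Type u) [AddCommGroup X] [Module R X] [IsArtinian R X]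
    (k : ℕ) (hk : maximalIdeal R ^ k ≤ Module.annihilator R X) : IsFiniteLength R X := by
  let Q := R ⧸ maximalIdeal R ^ k
  have htor : Module.IsTorsionBySet R X ((maximalIdeal R ^ k : Ideal R) : Set R) :=
    fun x a => Module.mem_annihilator.1 (hk a.2) x
  letI : Module Q X := htor.module
  have : IsScalarTower R Q X := htor.isScalarTower
  obtain ⟨_, _⟩ := isFiniteLength_iff_isNoetherian_isArtinian.1 (isFiniteLength_quot_pow (R := R) k)
  have : IsArtinianRing Q := isArtinian_of_tower R inferInstance
  have : IsArtinian Q X := isArtinian_of_tower R inferInstance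
  have : IsNoetherian Q X := IsSemiprimaryRing.isNoetherian_iff_isArtinian.2 inferInstance
  have : Module.Finite R X := Module.Finite.trans Q X
  exact isFiniteLength_iff_isNoetherian_isArtinian.2 ⟨inferInstance, inferInstance⟩

omit [Module.Finite R M] in
theorem isFiniteLength_iff_maximalIdeal_le_radical (X : Type u) [AddCommGroup X] [Module R X] [IsArtinian R X] :
    IsFiniteLength R X ↔ maximalIdeal R ≤ (Module.annihilator R X).radical := by
  constructor
  · intro hX
    obtain ⟨_, _⟩ := isFiniteLength_iff_isNoetherian_isArtinian.1 hX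
    obtain ⟨k, hk⟩ := IsArtinian.monotone_stabilizes
      (⟨fun n => OrderDual.toDual (maximalIdeal R ^ n • (⊤ : Submodule R X)),
        fun a b hab => Submodule.smul_mono_left (Ideal.pow_le_pow_right hab)⟩ : ℕ →o (Submodule R X)ᵒᵈ)
    have h : maximalIdeal R ^ k • (⊤ : Submodule R X) = maximalIdeal R ^ (k + 1) • ⊤ :=
      OrderDual.toDual.injective (hk (k + 1) (Nat.le_succ k))
    have h0 : maximalIdeal R ^ k • (⊤ : Submodule R X) = ⊥ :=
      Submodule.eq_bot_of_le_smul_of_le_jacobson_bot (maximalIdeal R) _ (IsNoetherian.noetherian _)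
        (by rw [← Submodule.mul_smul, ← pow_succ']; exact h.le) (maximalIdeal_le_jacobson ⊥)
    refine fun x hx => ⟨k, Module.mem_annihilator.2 fun z => ?_⟩
    have := Submodule.smul_mem_smul (Ideal.pow_mem_pow hx k) (Submodule.mem_top (x := z) (R := R))
    rw [h0] at this
    exact this
  · intro h
    obtain ⟨k, hk⟩ := Ideal.exists_pow_le_of_le_radical_of_fg h (maximalIdeal R).fg_of_isNoetherianRing
    exact isFiniteLength_of_artinian_of_pow_smul X k hk

theorem isFiniteLength_H_iff (hπ : Function.Surjective (algebraMap S R)) (i : ℕ) :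
    IsFiniteLength R (LocCoh.H (maximalIdeal R) i M) ↔
      ∀ (p : Ideal R) [p.IsPrime], p ≠ maximalIdeal R → ∀ e j : ℕ, ringKrullDim (R ⧸ p) = e → j + e = i →
        Subsingleton (LocCoh.H (maximalIdeal (Localization.AtPrime p)) j (LocalizedModule p.primeCompl M)) := by
  have : IsArtinian R (LocCoh.H (maximalIdeal R) i M) := isArtinian_H i M
  rw [isFiniteLength_iff_maximalIdeal_le_radical, le_radical_annihilator_H_iff M hπ]
  have hiff : ∀ (p : Ideal R), p.IsPrime → (¬ maximalIdeal R ≤ p ↔ p ≠ maximalIdeal R) := fun p hp =>
    ⟨fun h e => h e.ge, fun h h' => h (le_antisymm (le_maximalIdeal hp.ne_top) h')⟩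
  refine ⟨fun h p hp hne e j he hj => h p ((hiff p hp).2 hne) j ?_, fun h p hp hne j hj => ?_⟩
  · rw [he, ← hj, Nat.cast_add]
  · have : Nontrivial (R ⧸ p) := Ideal.Quotient.nontrivial_iff.2 hp.ne_top
    obtain ⟨e, he⟩ := exists_supportDim_eq_nat (R := R) (R ⧸ p)
    rw [Module.supportDim_quotient_eq_ringKrullDim] at he
    rw [he] at hj
    exact h p ((hiff p hp).1 hne) e j he (by exact_mod_cast hj)

theorem forall_isFiniteLength_H_iff (hπ : Function.Surjective (algebraMap S R)) (n : ℕ) :
    (∀ i < n, IsFiniteLength R (LocCoh.H (maximalIdeal R) i M)) ↔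
      ∀ (p : Ideal R) [p.IsPrime], p ≠ maximalIdeal R → ∀ e : ℕ, ringKrullDim (R ⧸ p) = e →
        (n : ℕ∞) ≤ LocCoh.depth (Localization.AtPrime p) (LocalizedModule p.primeCompl M) + e := by
  have key : ∀ (p : Ideal R) [p.IsPrime] (e : ℕ),
      ((n : ℕ∞) ≤ LocCoh.depth (Localization.AtPrime p) (LocalizedModule p.primeCompl M) + e ↔
        ∀ j, j + e < n → Subsingleton (LocCoh.H (maximalIdeal (Localization.AtPrime p)) j
          (LocalizedModule p.primeCompl M))) := by
    intro p _ e
    have : IsNoetherianRing (Localization.AtPrime p) :=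
      IsLocalization.isNoetherianRing p.primeCompl _ inferInstance
    have : Module.Finite (Localization.AtPrime p) (LocalizedModule p.primeCompl M) :=
      Module.Finite.of_isLocalizedModule p.primeCompl (LocalizedModule.mkLinearMap p.primeCompl M)
    have h := le_idealDepth_iff_H (maximalIdeal (Localization.AtPrime p)) (LocalizedModule p.primeCompl M) (n - e)
    rw [ENat.natCast_sub] at h
    rw [← tsub_le_iff_right, LocCoh.depth]
    exact h.trans ⟨fun h j hj => h j (by omega), fun h j hj => h j (by omega)⟩
  constructor
  · intro h p hp hne e he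
    exact (key p e).2 fun j hj => (isFiniteLength_H_iff M hπ (j + e)).1 (h _ hj) p hne e j he rfl
  · intro h i hi
    exact (isFiniteLength_H_iff M hπ i).2 fun p hp hne e j he hj =>
      (key p e).1 (h p hne e he) j (hj ▸ hi)

end Quot

end Groth.Agent.LC
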