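import Groth.Agent.LC.GorRows
import Groth.Agent.LC.DualLocal
import Groth.Agent.LC.MatlisExtra

/-!
# Existence of the dual of top local cohomology for quotients of Gorenstein rings
-/

set_option autoImplicit false

universe u

open CategoryTheory Limits IsLocalRing

namespace Groth.Agent.LC.Canon

/-- `Hom_B(X, E_B) ≅ Hom_A(X, E_A)` for a surjection `A → B`. -/
theorem exists_homHull_equiv {A B : Type u} [CommRing A] [IsLocalRing A] [IsNoetherianRing A] [CommRing B]
    [IsLocalRing B] [Algebra A B] (hπ : Function.Surjective (algebraMap A B)) {E' : Type u} [AddCommGroup E']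
    [Module A E'] {f' : ResidueField A →ₗ[A] E'} (hf' : InjHull.IsInjectiveHull f') {E : Type u} [AddCommGroup E]
    [Module B E] {f : ResidueField B →ₗ[B] E} (hf : InjHull.IsInjectiveHull f) (X : Type u) [AddCommGroup X]
    [Module A X] [Module B X] [IsScalarTower A B X] :
    ∃ Φ : (X →ₗ[B] E) ≃+ (X →ₗ[A] E'), ∀ (a : A) φ, Φ (algebraMap A B a • φ) = a • Φ φ := by
  haveI : Module.Finite A B := Module.Finite.of_surjective (Algebra.linearMap A B) hπ
  obtain ⟨g, hg⟩ := coextend_hull (A := A) (B := B) hf'
  obtain ⟨θ, -⟩ := hull_unique hf hg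
  let ev := ModuleCat.CoextendScalars.equiv (algebraMap A B) (ModuleCat.of A E')
  let ε : E → E' := fun z => ev (θ z) (1 : B)
  have hε_add : ∀ z w, ε (z + w) = ε z + ε w := fun z w => by simp [ε]
  have hε_smul : ∀ (b : B) z, ε (b • z) = ev (θ z) ((1 : B) * b : B) := fun b z => by
    show ev (θ (b • z)) (1 : B) = _
    rw [map_smul, map_smul]
    rfl
  have hε_alg : ∀ (a : A) z, ε (algebraMap A B a • z) = a • ε z := fun a z => by
    rw [hε_smul, one_mul]
    show ev (θ z) (algebraMap A B a : B) = a • ev (θ z) (1 : B)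
    exact (congrArg (ev (θ z)) (mul_one (algebraMap A B a)).symm).trans ((ev (θ z)).map_smul a (1 : B))
  let Φ0 : (X →ₗ[B] E) → (X →ₗ[A] E') := fun φ =>
    { toFun := fun x => ε (φ x)
      map_add' := fun x y => by rw [map_add, hε_add]
      map_smul' := fun a x => by rw [RingHom.id_apply, ← algebraMap_smul B a x, map_smul, hε_alg] }
  have hbij : Function.Bijective Φ0 := by
    constructor
    · intro φ φ' h
      refine LinearMap.ext fun x => θ.injective (ev.injective (LinearMap.ext fun b : B => ?_))
      have h1 : ε (φ (b • x)) = ε (φ' (b • x)) := LinearMap.congr_fun h (b • x)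
      rw [map_smul, map_smul, hε_smul, hε_smul, one_mul] at h1
      exact h1
    · intro ψ
      let mk : X → ((ModuleCat.restrictScalars (algebraMap A B)).obj (ModuleCat.of B B) →ₗ[A] E') := fun x =>
        { toFun := fun b : B => ψ (b • x)
          map_add' := fun b c : B => by
            show ψ ((b + c) • x) = _
            rw [add_smul, map_add]
          map_smul' := fun a (b : B) => by
            show ψ ((algebraMap A B a * b) • x) = a • ψ (b • x)
            rw [mul_smul, algebraMap_smul, map_smul] }
      refine ⟨{ toFun := fun x => θ.symm (ev.symm (mk x)), map_add' := fun x y => ?_, map_smul' := fun b x => ?_ },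
        LinearMap.ext fun x => ?_⟩
      · rw [show mk (x + y) = mk x + mk y from LinearMap.ext fun b : B => by
          show ψ (b • (x + y)) = ψ (b • x) + ψ (b • y)
          rw [smul_add, map_add], map_add, map_add]
      · rw [RingHom.id_apply, show mk (b • x) = b • mk x from LinearMap.ext fun c : B => by
          rw [ModuleCat.CoextendScalars.smul_apply']
          show ψ (c • b • x) = ψ ((c * b) • x)
          rw [mul_smul], map_smul, map_smul]
      · show ev (θ (θ.symm (ev.symm (mk x)))) (1 : B) = ψ x
        rw [θ.apply_symm_apply]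
        refine (congrFun (congrArg DFunLike.coe (ev.apply_symm_apply (mk x))) (1 : B)).trans ?_
        show ψ ((1 : B) • x) = ψ x
        rw [one_smul]
  let Φ : (X →ₗ[B] E) →+ (X →ₗ[A] E') :=
    { toFun := Φ0
      map_zero' := LinearMap.ext fun x => show ε ((0 : X →ₗ[B] E) x) = 0 by simp [ε]
      map_add' := fun φ φ' => LinearMap.ext fun x => hε_add (φ x) (φ' x) }
  exact ⟨AddEquiv.ofBijective Φ hbij, fun a φ => LinearMap.ext fun x => hε_alg a (φ x)⟩

/-- A module isomorphic to `Ext^{dim S - dim R}_S(R, S)` is canonical. -/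
theorem canon_of_ext {R : Type u} [CommRing R] [IsNoetherianRing R] [IsLocalRing R] {n : ℕ}
    {E : Type u} [AddCommGroup E] [Module R E] {f : ResidueField R →ₗ[R] E}
    (hf : InjHull.IsInjectiveHull f) {S : Type u} [CommRing S] [LocCoh.IsGorensteinLocalRing S] [Algebra S R]
    (hπ : Function.Surjective (algebraMap S R)) {N : ℕ} (hN : ringKrullDim S = N) {c : ℕ} (hc : n + c = N)
    (K : Type u) [AddCommGroup K] [Module R K] [Module S K] [IsScalarTower S R K]
    (ι : K ≃ₗ[S] Abelian.Ext (ModuleCat.of S R) (ModuleCat.of S S) c) :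
    Nonempty ((K →ₗ[R] E) ≃ₗ[R] (localCohomology (maximalIdeal R) n).obj (ModuleCat.of R R)) := by
  haveI : Module.Finite S R := Module.Finite.of_surjective (Algebra.linearMap S R) hπ
  obtain ⟨E', _, _, fE', hE'⟩ := exists_injectiveHull S (ResidueField S)
  obtain ⟨φ⟩ := exists_localDuality_gorenstein (R := S) N hN E' hE' R c n hc
  obtain ⟨ψ, hψ⟩ : ∃ ψ : (localCohomology (maximalIdeal R) n).obj (ModuleCat.of R R) ≃+
      (localCohomology (maximalIdeal S) n).obj (ModuleCat.of S R),
      ∀ (a : S) x, ψ (algebraMap S R a • x) = a • ψ x := by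
    rw [← map_maximalIdeal_of_surjective _ hπ]
    exact exists_indep (R := S) (R' := R) (maximalIdeal S) n R
  obtain ⟨Φ, hΦ⟩ := exists_homHull_equiv hπ hE' hf K
  let φ' := (LinearEquiv.congrLeft E' S ι).trans φ.symm
  let e := Φ.trans (φ'.toAddEquiv.trans ψ.symm)
  refine ⟨AddEquiv.toLinearEquiv e fun r x => ?_⟩
  obtain ⟨a, rfl⟩ := hπ r
  apply ψ.injective
  rw [hψ]
  show ψ (ψ.symm (φ' (Φ (algebraMap S R a • x)))) = a • ψ (ψ.symm (φ' (Φ x)))
  rw [ψ.apply_symm_apply, ψ.apply_symm_apply, hΦ, map_smul]

/-- `Ext^c_S(R, S)` is a module over the quotient `R`. -/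
theorem exists_extModule {R S : Type u} [CommRing R] [CommRing S] [IsNoetherianRing S] [Algebra S R]
    (hπ : Function.Surjective (algebraMap S R)) (c : ℕ) :
    ∃ K : ModuleCat.{u} R, ∃ (_ : Module S K) (_ : IsScalarTower S R K), Module.Finite R K ∧
      Nonempty (K ≃ₗ[S] Abelian.Ext (ModuleCat.of S R) (ModuleCat.of S S) c) := by
  haveI : Module.Finite S R := Module.Finite.of_surjective (Algebra.linearMap S R) hπ
  let X := Abelian.Ext (ModuleCat.of S R) (ModuleCat.of S S) c
  haveI : Module.Finite S X :=
    inferInstanceAs (Module.Finite S (Abelian.Ext (ModuleCat.of S R) (ModuleCat.of S S) c))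
  have hkill : ∀ a : S, algebraMap S R a = 0 → ∀ x : X, a • x = 0 := fun a ha x =>
    smul_ext_eq_zero_of_smul (fun z => by
      show a • (z : R) = 0
      rw [Algebra.smul_def, ha, zero_mul]) x
  let s := Function.surjInv hπ
  letI : SMul R X := ⟨fun r x => s r • x⟩
  have hs : ∀ (c : S) (x : X), algebraMap S R c • x = c • x := fun c x => by
    show s (algebraMap S R c) • x = c • x
    rw [← sub_eq_zero, ← sub_smul]
    exact hkill _ (by rw [map_sub, Function.surjInv_eq hπ, sub_self]) x
  letI : Module R X := Function.Surjective.moduleLeft (algebraMap S R) hπ hs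
  haveI : IsScalarTower S R X := IsScalarTower.of_algebraMap_smul hs
  haveI : Module.Finite R X := Module.Finite.of_restrictScalars_finite S R X
  exact ⟨ModuleCat.of R X, inferInstanceAs (Module S X), inferInstanceAs (IsScalarTower S R X), inferInstance,
    ⟨LinearEquiv.refl S X⟩⟩

/-- A quotient of a Gorenstein local ring has a canonical module. -/
theorem exists_canon_of_surjective {R : Type u} [CommRing R] [IsNoetherianRing R] [IsLocalRing R] {n : ℕ}
    (hn : ringKrullDim R = n) {E : Type u} [AddCommGroup E] [Module R E] {f : ResidueField R →ₗ[R] E}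
    (hf : InjHull.IsInjectiveHull f) {S : Type u} [CommRing S] [LocCoh.IsGorensteinLocalRing S] [Algebra S R]
    (hπ : Function.Surjective (algebraMap S R)) :
    ∃ K : ModuleCat.{u} R, Module.Finite R K ∧
      Nonempty ((K →ₗ[R] E) ≃ₗ[R] (localCohomology (maximalIdeal R) n).obj (ModuleCat.of R R)) := by
  obtain ⟨N, hN, -, -⟩ := gorenstein_basic (R := S)
  have hnN : n ≤ N := by
    have := ringKrullDim_le_of_surjective (algebraMap S R) hπ
    rw [hn, hN] at this
    exact_mod_cast this
  obtain ⟨K, _, _, hK, ⟨ι⟩⟩ := exists_extModule (S := S) hπ (N - n)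
  exact ⟨K, hK, canon_of_ext hf hπ hN (by omega) K ι⟩

end Groth.Agent.LC.Canon
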