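import Groth.Agent.LC.HlvtMain
import Groth.Agent.LC.GorHullBC
import Groth.Agent.LC.CanonGor
import Groth.Agent.LC.CanonBasic

/-!
# Canonical modules and completion
-/

set_option autoImplicit false

universe u

open CategoryTheory Limits IsLocalRing TensorProduct

namespace Groth.Agent.LC.Canon

variable {R : Type u} [CommRing R] [IsNoetherianRing R] [IsLocalRing R]

theorem isNoetherianRing_completion :
    IsNoetherianRing (AdicCompletion (maximalIdeal R) R) := by
  have hmax : maximalIdeal R = (maximalIdeal R).map (algebraMap R R) := by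
    rw [Algebra.algebraMap_self, Ideal.map_id]
  exact LocalCrit.isNoetherianRing_completion (A := R) (C := R) hmax

theorem faithfullyFlat_completion :
    Module.FaithfullyFlat R (AdicCompletion (maximalIdeal R) R) := by
  have : IsLocalHom (algebraMap R (AdicCompletion (maximalIdeal R) R)) :=
    AdicCompletion.algebraMap_isLocalHom_of_fg (IsNoetherian.noetherian _)
  exact Module.FaithfullyFlat.of_flat_of_isLocalHom

theorem ringKrullDim_completion {n : ℕ} (hn : ringKrullDim R = n) :
    ringKrullDim (AdicCompletion (maximalIdeal R) R) = n := by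
  haveI := isNoetherianRing_completion (R := R)
  haveI : IsLocalHom (algebraMap R (AdicCompletion (maximalIdeal R) R)) :=
    AdicCompletion.algebraMap_isLocalHom_of_fg (IsNoetherian.noetherian _)
  rw [← hn]
  exact Hensel.ringKrullDim_eq_of_flat_of_map_maximalIdeal_eq (R := R)
    (S := AdicCompletion (maximalIdeal R) R) (AdicCompletion.maximalIdeal_eq_map (R := R)).symm

/-- The completion is a quotient of a regular local ring. -/
theorem exists_gorenstein_surjection (A : Type u) [CommRing A] [IsLocalRing A] [IsNoetherianRing A]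
    [IsAdicComplete (maximalIdeal A) A] :
    ∃ (S : Type u) (_ : CommRing S) (_ : LocCoh.IsGorensteinLocalRing S) (π : S →+* A), Function.Surjective π := by
  obtain ⟨Λ, _, m, g, hΛ, hg⟩ := CohenLib.exists_surjective A (IsNoetherian.noetherian _)
  obtain ⟨_, hreg, -⟩ := CohenLib.isRegular_complete_mvPowerSeries hΛ m
  exact ⟨MvPowerSeries (Fin m) Λ, inferInstance, gorenstein_of_isRegularLocalRing, g, hg⟩

/-- The base change of a canonical module to the completion is canonical. -/
theorem exists_completion_canon {n : ℕ} {E : Type u} [AddCommGroup E] [Module R E]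
    {f : ResidueField R →ₗ[R] E} (hf : InjHull.IsInjectiveHull f) {K : Type u} [AddCommGroup K] [Module R K]
    (eK : (K →ₗ[R] E) ≃ₗ[R] (localCohomology (maximalIdeal R) n).obj (ModuleCat.of R R)) :
    ∃ g : ResidueField (AdicCompletion (maximalIdeal R) R) →ₗ[AdicCompletion (maximalIdeal R) R]
        AdicCompletion (maximalIdeal R) R ⊗[R] E, InjHull.IsInjectiveHull g ∧
      Nonempty ((AdicCompletion (maximalIdeal R) R ⊗[R] K →ₗ[AdicCompletion (maximalIdeal R) R]
          AdicCompletion (maximalIdeal R) R ⊗[R] E) ≃ₗ[AdicCompletion (maximalIdeal R) R]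
        (localCohomology (maximalIdeal (AdicCompletion (maximalIdeal R) R)) n).obj
          (ModuleCat.of (AdicCompletion (maximalIdeal R) R) (AdicCompletion (maximalIdeal R) R))) := by
  haveI := isNoetherianRing_completion (R := R)
  haveI := faithfullyFlat_completion (R := R)
  set B := AdicCompletion (maximalIdeal R) R
  haveI : IsLocalHom (algebraMap R B) := AdicCompletion.algebraMap_isLocalHom_of_fg (IsNoetherian.noetherian _)
  obtain ⟨g, hg⟩ := exists_hull_baseChange_unramified R B (AdicCompletion.maximalIdeal_eq_map (R := R)).symm E hf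
  refine ⟨g, hg, ?_⟩
  have hmkE := mk_one_bijective_of_powerTorsion E (hull_isPowerTorsion hf)
  have htors : LocCoh.IsPowerTorsion (maximalIdeal R) (K →ₗ[R] E) := fun φ => by
    obtain ⟨t, ht⟩ := isPowerTorsion_obj (maximalIdeal R) n (ModuleCat.of R R) (eK φ)
    exact ⟨t, fun a ha => eK.injective (by rw [map_smul, map_zero]; exact ht a ha)⟩
  have hmkH := mk_one_bijective_of_powerTorsion (K →ₗ[R] E) htors
  let ιE : E ≃ₗ[R] B ⊗[R] E := LinearEquiv.ofBijective (TensorProduct.mk R B E 1) hmkE
  let T := B ⊗[R] K →ₗ[B] B ⊗[R] E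
  let g0 : (K →ₗ[R] E) →ₗ[R] T := LinearMap.baseChangeHom R B K E
  have hg0 : Function.Bijective g0 := by
    have e : ∀ φ, g0 φ = LinearMap.liftBaseChangeEquiv B (ιE.toLinearMap ∘ₗ φ) := fun φ => by
      refine TensorProduct.AlgebraTensorModule.curry_injective (LinearMap.ext_ring (LinearMap.ext fun k => ?_))
      show (φ.baseChange B) (1 ⊗ₜ k) = _
      rw [LinearMap.baseChange_tmul]
      exact (LinearMap.liftBaseChange_one_tmul B (ιE.toLinearMap ∘ₗ φ) k).symm
    refine ⟨fun φ φ' h => LinearMap.ext fun k => ιE.injective ?_, fun t => ?_⟩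
    · rw [e, e] at h
      exact LinearMap.congr_fun ((LinearMap.liftBaseChangeEquiv B).injective h) k
    · obtain ⟨l, rfl⟩ := (LinearMap.liftBaseChangeEquiv (R := R) B).surjective t
      refine ⟨ιE.symm.toLinearMap ∘ₗ l, ?_⟩
      rw [e]
      congr 1
      exact LinearMap.ext fun k => ιE.apply_symm_apply _
  let ν : B ⊗[R] (K →ₗ[R] E) →ₗ[B] T := LinearMap.liftBaseChange B g0
  have hν : Function.Bijective ν := by
    have h : ν ∘ (fun φ => TensorProduct.mk R B (K →ₗ[R] E) 1 φ) = g0 := funext fun φ =>
      LinearMap.liftBaseChange_one_tmul B g0 φ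
    exact (Function.Bijective.of_comp_iff _ hmkH).1 (h ▸ hg0)
  obtain ⟨eH⟩ := exists_baseChange (R' := B) (maximalIdeal R) n R
  rw [← AdicCompletion.maximalIdeal_eq_map (R := R)] at eH
  exact ⟨(LinearEquiv.ofBijective ν hν).symm.trans ((LinearEquiv.baseChange R B _ _ eK).trans (eH.trans
    ((localCohomology (maximalIdeal B) n).mapIso
      (TensorProduct.AlgebraTensorModule.rid R B B).toModuleIso).toLinearEquiv))⟩

end Groth.Agent.LC.Canon
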