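import Groth.Agent.LC.ExtDim
import Groth.Agent.LC.ExtHom
import Groth.Agent.LC.CdBase
import Groth.Agent.Alg6.LocLoc

/-!
# Depth and localization
-/

universe u

open CategoryTheory TensorProduct IsLocalRing

namespace Groth.Agent.LC

variable {R : Type u} [CommRing R] [IsNoetherianRing R] (I : Ideal R) (M : Type u) [AddCommGroup M]
  [Module R M]

/-- `(H^i_I M)_p ≅ H^i_{IR_p}(M_p)`. -/
theorem exists_localizedH (p : Ideal R) [p.IsPrime] (i : ℕ) :
    Nonempty (LocalizedModule p.primeCompl ((localCohomology I i).obj (ModuleCat.of R M)) ≃ₗ[Localization.AtPrime p]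
      (localCohomology (I.map (algebraMap R (Localization.AtPrime p))) i).obj
        (ModuleCat.of (Localization.AtPrime p) (LocalizedModule p.primeCompl M))) := by
  obtain ⟨e⟩ := exists_baseChange (R' := Localization.AtPrime p) I i M
  exact ⟨(LocalizedModule.equivTensorProduct p.primeCompl _).trans (e.trans
    (((localCohomology _ i).mapIso (LocalizedModule.equivTensorProduct p.primeCompl M).symm.toModuleIso).toLinearEquiv))⟩

theorem subsingleton_H_localizedModule (p : Ideal R) [p.IsPrime] (i : ℕ)
    (h : Subsingleton ((localCohomology I i).obj (ModuleCat.of R M))) :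
    Subsingleton ((localCohomology (I.map (algebraMap R (Localization.AtPrime p))) i).obj
        (ModuleCat.of (Localization.AtPrime p) (LocalizedModule p.primeCompl M))) := by
  obtain ⟨e⟩ := exists_localizedH I M p i
  have : Subsingleton (LocalizedModule p.primeCompl ((localCohomology I i).obj (ModuleCat.of R M))) :=
    subsingleton_of_forall_eq 0 fun z => by
      induction z using LocalizedModule.induction_on with
      | h m s => rw [Subsingleton.elim m 0, LocalizedModule.zero_mk]
  exact e.toEquiv.symm.subsingleton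

theorem le_prime_of_mem_support_H {p : PrimeSpectrum R} {i : ℕ}
    (hp : p ∈ Module.support R ((localCohomology I i).obj (ModuleCat.of R M))) : I ≤ p.asIdeal :=
  (Groth.Agent.S7038.result I _).1 (isPowerTorsion_obj I i _) hp

variable [Module.Finite R M]

/-- No socle in `H^i_I(M)` below the depth, when the lower degrees vanish. -/
theorem eq_zero_of_maximal_smul [IsLocalRing R] (hI : I ≠ ⊤) (i : ℕ)
    (hlow : ∀ j < i, Subsingleton ((localCohomology I j).obj (ModuleCat.of R M)))
    (hi : (i : ℕ∞) < LocCoh.depth R M) (z : (localCohomology I i).obj (ModuleCat.of R M))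
    (hz : ∀ a ∈ maximalIdeal R, a • z = 0) : z = 0 := by
  have hF : LocCoh.IsPowerTorsion I (R ⧸ maximalIdeal R) := fun q => ⟨1, fun a ha => by
    rw [pow_one] at ha
    obtain ⟨q, rfl⟩ := Ideal.Quotient.mk_surjective q
    rw [Algebra.smul_def, Ideal.Quotient.algebraMap_eq, ← map_mul,
      Ideal.Quotient.eq_zero_iff_mem.2 (Ideal.mul_mem_right _ _ (le_maximalIdeal hI ha))]⟩
  obtain ⟨e⟩ := nonempty_ext_linearEquiv_hom (prevVanish_of_H hlow) (R ⧸ maximalIdeal R) hF
  have := (le_idealDepth_iff_ext (maximalIdeal R) M (i + 1)).1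
    (by rw [Nat.cast_add, Nat.cast_one, ENat.add_one_le_iff (ENat.natCast_ne_top i)]; exact hi) i
    (Nat.lt_succ_self i)
  have : Subsingleton ((R ⧸ maximalIdeal R) →ₗ[R] (localCohomology I i).obj (ModuleCat.of R M)) :=
    e.symm.toEquiv.subsingleton
  have h := LinearMap.congr_fun (Subsingleton.elim ((maximalIdeal R).liftQ
    (LinearMap.toSpanSingleton R _ z) fun a ha => hz a ha) 0) (Submodule.Quotient.mk 1)
  exact (one_smul R z).symm.trans h

omit [Module.Finite R M] in
theorem idealDepth_le_of_le {J : Ideal R} (hIJ : I ≤ J) :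
    LocCoh.idealDepth I M ≤ LocCoh.idealDepth J M := by
  by_cases hJ : J • (⊤ : Submodule R M) = ⊤
  · rw [show LocCoh.idealDepth J M = ⊤ by rw [LocCoh.idealDepth, if_pos hJ]]; exact le_top
  have hI : I • (⊤ : Submodule R M) ≠ ⊤ := fun h => hJ (top_le_iff.1 (h.ge.trans (Submodule.smul_mono_left hIJ)))
  refine ENat.forall_natCast_le_iff_le.1 fun n hn => ?_
  obtain ⟨rs, hreg, hmem, hlen⟩ := Groth.Agent.Alg6.exists_length_ge_of_le_idealDepth hI hn
  exact (Nat.cast_le.2 hlen).trans (Groth.Agent.Alg6.length_le_idealDepth hreg fun r hr => hIJ (hmem r hr))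

theorem idealDepth_le_idealDepth_map (p : Ideal R) [p.IsPrime] :
    LocCoh.idealDepth I M ≤ LocCoh.idealDepth (I.map (algebraMap R (Localization.AtPrime p)))
      (LocalizedModule p.primeCompl M) :=
  ENat.forall_natCast_le_iff_le.1 fun n hn => (le_idealDepth_iff_H _ _ n).2 fun i hi =>
    subsingleton_H_localizedModule I M p i ((le_idealDepth_iff_H I M n).1 hn i hi)

theorem idealDepth_le_depth_localized (p : Ideal R) [p.IsPrime] (hp : I ≤ p) :
    LocCoh.idealDepth I M ≤ LocCoh.depth (Localization.AtPrime p) (LocalizedModule p.primeCompl M) :=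
  (idealDepth_le_idealDepth_map I M p).trans (idealDepth_le_of_le _ _
    ((Ideal.map_mono hp).trans Localization.AtPrime.map_eq_maximalIdeal.le))

omit [IsNoetherianRing R] in
theorem smul_eq_zero_of_mem_map {A : Type u} [CommRing A] [Algebra R A] {N : Type*} [AddCommGroup N]
    [Module R N] [Module A N] [IsScalarTower R A N] (J : Ideal R) (x : N) (h : ∀ b ∈ J, b • x = 0)
    {a : A} (ha : a ∈ J.map (algebraMap R A)) : a • x = 0 := by
  refine Submodule.span_induction ?_ ?_ ?_ ?_ ha
  · rintro _ ⟨b, hb, rfl⟩
    rw [algebraMap_smul, h b hb]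
  · rw [zero_smul]
  · intro x y _ _ hx hy; rw [add_smul, hx, hy, add_zero]
  · intro r x _ hx; rw [smul_assoc, hx, smul_zero]

theorem idealDepth_eq_iInf_depth :
    LocCoh.idealDepth I M = ⨅ (p : PrimeSpectrum R) (_ : I ≤ p.asIdeal),
      LocCoh.depth (Localization.AtPrime p.asIdeal) (LocalizedModule p.asIdeal.primeCompl M) := by
  refine le_antisymm (le_iInf₂ fun p hp => idealDepth_le_depth_localized I M p.asIdeal hp) ?_
  refine ENat.forall_natCast_le_iff_le.1 fun n hn => (le_idealDepth_iff_H I M n).2 ?_
  intro i
  induction i using Nat.strong_induction_on with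
  | _ i ih =>
  intro hi
  by_contra hne
  rw [not_subsingleton_iff_nontrivial] at hne
  obtain ⟨P, hP⟩ := associatedPrimes.nonempty R ((localCohomology I i).obj (ModuleCat.of R M))
  obtain ⟨hPp, z, hz⟩ := Groth.Agent.Alg6.mem_ass_iff.1 hP
  have hsupp : (⟨P, hPp⟩ : PrimeSpectrum R) ∈
      Module.support R ((localCohomology I i).obj (ModuleCat.of R M)) :=
    Module.mem_support_iff_exists_annihilator.2 ⟨z, fun a ha =>
      (hz a).2 ((Submodule.mem_annihilator_span_singleton z a).1 ha)⟩
  have hIP := le_prime_of_mem_support_H I M hsupp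
  obtain ⟨e⟩ := exists_localizedH I M P i
  let A := Localization.AtPrime P
  let ι := LocalizedModule.mkLinearMap P.primeCompl ((localCohomology I i).obj (ModuleCat.of R M))
  have hzP : ι z ≠ 0 := by
    intro h0
    obtain ⟨t, ht⟩ := (IsLocalizedModule.eq_zero_iff P.primeCompl ι).1 h0
    exact t.2 ((hz t).2 ht)
  have hne : I.map (algebraMap R A) ≠ ⊤ := fun htop =>
    (IsLocalRing.maximalIdeal.isMaximal A).ne_top
      (top_le_iff.1 (htop.ge.trans ((Ideal.map_mono hIP).trans Localization.AtPrime.map_eq_maximalIdeal.le)))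
  have hkill : ∀ a ∈ maximalIdeal A, a • e (ι z) = 0 := by
    intro a ha
    rw [← Localization.AtPrime.map_eq_maximalIdeal] at ha
    have h1 : a • ι z = 0 :=
      smul_eq_zero_of_mem_map P (ι z) (fun b hb => by rw [← map_smul, (hz b).1 hb, map_zero]) ha
    rw [← map_smul, h1, map_zero]
  have hdepth : (i : ℕ∞) < LocCoh.depth A (LocalizedModule P.primeCompl M) :=
    lt_of_lt_of_le (Nat.cast_lt.2 hi) (hn.trans (iInf₂_le (⟨P, hPp⟩ : PrimeSpectrum R) hIP))
  have h0 := eq_zero_of_maximal_smul (I.map (algebraMap R A)) (LocalizedModule P.primeCompl M) hne i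
    (fun j hj => subsingleton_H_localizedModule I M P j (ih j hj (hj.trans hi))) hdepth (e (ι z)) hkill
  exact hzP (e.injective (h0.trans (map_zero e).symm))

theorem height_supp_add_coheight_le {p : PrimeSpectrum R} (hp : p ∈ Module.support R M) :
    Module.supportDim (Localization.AtPrime p.asIdeal) (LocalizedModule p.asIdeal.primeCompl M) +
      (Order.coheight p : WithBot ℕ∞) ≤ Module.supportDim R M := by
  let A := Localization.AtPrime p.asIdeal
  let P : Module.support R M := ⟨p, hp⟩
  have : Nonempty (Module.support R M) := ⟨P⟩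
  have h1 : Module.supportDim A (LocalizedModule p.asIdeal.primeCompl M) ≤ (Order.height P : WithBot ℕ∞) := by
    refine iSup_le fun l => ?_
    have : Module.Finite A (LocalizedModule p.asIdeal.primeCompl M) :=
      Module.Finite.of_isLocalizedModule p.asIdeal.primeCompl (LocalizedModule.mkLinearMap _ M)
    let c : Module.support A (LocalizedModule p.asIdeal.primeCompl M) → Module.support R M := fun q =>
      ⟨PrimeSpectrum.comap (algebraMap R A) q.1, by
        refine (Set.ext_iff.1 Module.support_eq_zeroLocus _).2 fun a ha => ?_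
        show algebraMap R A a ∈ q.1.asIdeal
        refine ((Set.ext_iff.1 Module.support_eq_zeroLocus _).1 q.2) (Module.mem_annihilator.2 fun z => ?_)
        induction z using LocalizedModule.induction_on with
        | h z s => rw [algebraMap_smul, LocalizedModule.smul'_mk, Module.mem_annihilator.1 ha z, LocalizedModule.zero_mk]⟩
    have hc : StrictMono c := fun q q' h => lt_of_le_of_ne (fun a ha => (le_of_lt h) ha) fun he =>
      h.ne (Subtype.ext (PrimeSpectrum.localization_comap_injective A p.asIdeal.primeCompl
        (congrArg Subtype.val he)))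
    have hlast : (l.map c hc).last ≤ P := by
      rw [LTSeries.last_map]
      show (algebraMap R A) ⁻¹' (l.last.1.asIdeal : Set A) ⊆ p.asIdeal
      intro a ha
      by_contra hap
      exact l.last.1.isPrime.ne_top (Ideal.eq_top_of_isUnit_mem _ ha
        (IsLocalization.map_units A (⟨a, hap⟩ : p.asIdeal.primeCompl)))
    have := Order.length_le_height hlast
    exact_mod_cast this
  have h2 : Order.coheight p ≤ Order.coheight P := by
    rw [← WithBot.coe_le_coe, Order.coheight_eq_krullDim_Ici, Order.coheight_eq_krullDim_Ici]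
    exact Order.krullDim_le_of_strictMono
      (fun x => ⟨⟨x.1, Module.mem_support_mono x.2 hp⟩, x.2⟩) fun _ _ h => h
  calc _ ≤ ((Order.height P : ℕ∞) : WithBot ℕ∞) + (Order.coheight P : WithBot ℕ∞) :=
        add_le_add h1 (WithBot.coe_le_coe.2 h2)
    _ ≤ Module.supportDim R M := by
      rw [Module.supportDim, Order.krullDim_eq_iSup_height_add_coheight_of_nonempty, ← WithBot.coe_add]
      exact WithBot.coe_le_coe.2 (le_iSup (fun a => Order.height a + Order.coheight a) P)

/-- Localizations of Cohen–Macaulay modules are Cohen–Macaulay. -/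
theorem isCM_localized [IsLocalRing R] (hM : LocCoh.IsCohenMacaulayModule R M) {p : PrimeSpectrum R}
    (hp : p ∈ Module.support R M) :
    LocCoh.IsCohenMacaulayModule (Localization.AtPrime p.asIdeal) (LocalizedModule p.asIdeal.primeCompl M) := by
  let A := Localization.AtPrime p.asIdeal
  let Mp := LocalizedModule p.asIdeal.primeCompl M
  have : Module.Finite A Mp :=
    Module.Finite.of_isLocalizedModule p.asIdeal.primeCompl (LocalizedModule.mkLinearMap _ M)
  have : Nontrivial Mp := Module.mem_support_iff.1 hp
  have := nontrivial_of_isCM M hM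
  have h1 := supportDim_eq_add_idealDepth M hM p.isPrime.ne_top
  have h2 : (Order.coheight p : WithBot ℕ∞) = Module.supportDim R (M ⧸ (p.asIdeal • (⊤ : Submodule R M))) := by
    refine le_antisymm (coheight_le_supportDim ?_) ?_
    · rw [Module.support_quotient]; exact ⟨hp, fun a ha => ha⟩
    · rw [Order.coheight_eq_krullDim_Ici]
      have hsub : Module.support R (M ⧸ (p.asIdeal • (⊤ : Submodule R M))) ⊆ Set.Ici p := by
        rw [Module.support_quotient]; exact fun q hq => hq.2
      exact Order.krullDim_le_of_strictMono (fun x => ⟨x.1, hsub x.2⟩) fun _ _ h => h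
  rw [← h2] at h1
  have h3 := height_supp_add_coheight_le M hp
  obtain ⟨d, hd⟩ := exists_supportDim_eq_nat (R := A) Mp
  obtain ⟨e, he⟩ := exists_depth_eq_nat (R := A) Mp
  obtain ⟨D, hD⟩ := exists_supportDim_eq_nat (R := R) M
  obtain ⟨rs, -, -, hn⟩ := exists_idealDepth_eq_length p.asIdeal (M := M)
    (smul_top_ne_top_of_le_maximal (le_maximalIdeal p.isPrime.ne_top))
  have h4 := idealDepth_le_depth_localized p.asIdeal M p.asIdeal le_rfl
  have h5 := depth_le_supportDim (R := A) Mp
  rw [hn, he] at h4
  rw [hD, hn] at h1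
  rw [hd, hD] at h3
  rw [hd, he] at h5
  have hc : Order.coheight p ≠ ⊤ := by
    have h6 := (coheight_le_supportDim hp).trans_eq hD
    exact ne_top_of_le_ne_top (ENat.natCast_ne_top D) (by exact_mod_cast h6)
  lift Order.coheight p to ℕ using hc with c
  unfold LocCoh.IsCohenMacaulayModule
  rw [hd, he]
  have e1 : D = c + rs.length := by exact_mod_cast h1
  have e3 : d + c ≤ D := by exact_mod_cast h3
  have e4 : rs.length ≤ e := by exact_mod_cast h4
  have e5 : e ≤ d := by exact_mod_cast h5
  exact_mod_cast (by omega : d = e)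

/-- `depth M_s ≤ depth M_p + ht(s/p)`. -/
theorem depth_localized_le_add_height (p s : Ideal R) [p.IsPrime] [s.IsPrime] (hps : p ≤ s) :
    LocCoh.depth (Localization.AtPrime s) (LocalizedModule s.primeCompl M) ≤
      LocCoh.depth (Localization.AtPrime p) (LocalizedModule p.primeCompl M) +
        (s.map (Ideal.Quotient.mk p)).height := by
  let A := Localization.AtPrime s
  let Ms := LocalizedModule s.primeCompl M
  have : Module.Finite A Ms :=
    Module.Finite.of_isLocalizedModule s.primeCompl (LocalizedModule.mkLinearMap _ M)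
  have : IsNoetherianRing A := IsLocalization.isNoetherianRing s.primeCompl A inferInstance
  have hdisj : Disjoint (s.primeCompl : Set R) (p : Set R) :=
    Set.disjoint_left.2 fun a ha hap => ha (hps hap)
  let P : Ideal A := p.map (algebraMap R A)
  have hPp : P.IsPrime := IsLocalization.isPrime_of_isPrime_disjoint s.primeCompl A p inferInstance hdisj
  have hcomap : P.comap (algebraMap R A) = p :=
    IsLocalization.comap_map_of_isPrime_disjoint s.primeCompl A inferInstance hdisj
  have hloc : LocCoh.depth (Localization.AtPrime P) (LocalizedModule P.primeCompl Ms) =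
      LocCoh.depth (Localization.AtPrime p) (LocalizedModule p.primeCompl M) := by
    have key : ∀ (q : Ideal R) [q.IsPrime], P.comap (algebraMap R A) = q →
        LocCoh.depth (Localization.AtPrime P) (LocalizedModule P.primeCompl Ms) =
          LocCoh.depth (Localization.AtPrime q) (LocalizedModule q.primeCompl M) := by
      intro q _ hq
      subst hq
      exact Groth.Agent.Alg6.depth_locLoc s.primeCompl M P
    exact key p hcomap
  have h1 := idealDepth_le_depth_localized P Ms P le_rfl
  rw [hloc] at h1
  have hco : Order.coheight (⟨P, hPp⟩ : PrimeSpectrum A) ≤ (s.map (Ideal.Quotient.mk p)).height := by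
    have : (s.map (Ideal.Quotient.mk p)).IsPrime :=
      Ideal.map_isPrime_of_surjective Ideal.Quotient.mk_surjective (by rw [Ideal.mk_ker]; exact hps)
    let sbar : PrimeSpectrum (R ⧸ p) := ⟨_, this⟩
    rw [show (s.map (Ideal.Quotient.mk p)).height = sbar.asIdeal.height from rfl,
      PrimeSpectrum.height_eq_orderHeight]
    refine Order.coheight_le fun l hl => ?_
    have hge : ∀ k, p ≤ (l k).asIdeal.comap (algebraMap R A) := fun k => by
      rw [← hcomap]
      refine Ideal.comap_mono ?_
      have := l.monotone (Fin.zero_le k)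
      rw [show l 0 = l.head from rfl, hl] at this
      exact this
    let c : Fin (l.length + 1) → PrimeSpectrum (R ⧸ p) := fun k =>
      ⟨((l k).asIdeal.comap (algebraMap R A)).map (Ideal.Quotient.mk p),
        Ideal.map_isPrime_of_surjective Ideal.Quotient.mk_surjective (by rw [Ideal.mk_ker]; exact hge k)⟩
    have hback : ∀ k, (c k).asIdeal.comap (Ideal.Quotient.mk p) = (l k).asIdeal.comap (algebraMap R A) := by
      intro k
      rw [Ideal.comap_map_of_surjective _ Ideal.Quotient.mk_surjective, ← RingHom.ker_eq_comap_bot,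
        Ideal.mk_ker, sup_eq_left.2 (hge k)]
    have hc : StrictMono c := fun a b hab => by
      refine lt_of_le_of_ne (Ideal.map_mono (Ideal.comap_mono (l.strictMono hab).le)) fun he => ?_
      have := congrArg (fun q : PrimeSpectrum (R ⧸ p) => q.asIdeal.comap (Ideal.Quotient.mk p)) he
      simp only [hback] at this
      exact (l.strictMono hab).ne (PrimeSpectrum.localization_comap_injective A s.primeCompl
        (PrimeSpectrum.ext this))
    have hlast : (LTSeries.mk l.length c hc).last ≤ sbar := by
      refine Ideal.map_mono (fun a ha => ?_)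
      by_contra has
      exact (l (Fin.last _)).isPrime.ne_top (Ideal.eq_top_of_isUnit_mem _ ha
        (IsLocalization.map_units A (⟨a, has⟩ : s.primeCompl)))
    exact Order.length_le_height hlast
  suffices h2 : LocCoh.depth A Ms ≤ LocCoh.idealDepth P Ms + Order.coheight (⟨P, hPp⟩ : PrimeSpectrum A) from
    h2.trans (add_le_add h1 hco)
  rcases subsingleton_or_nontrivial Ms with hs | hn
  · have : LocCoh.idealDepth P Ms = ⊤ := by
      rw [LocCoh.idealDepth, if_pos (Subsingleton.elim _ _)]
    rw [this, top_add]; exact le_top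
  obtain ⟨rs, -, -, hd⟩ := exists_idealDepth_eq_length P (M := Ms)
    (smul_top_ne_top_of_le_maximal (le_maximalIdeal hPp.ne_top))
  rw [hd]
  by_contra hcon
  rw [not_le] at hcon
  have h2 : ((rs.length + 1 : ℕ) : ℕ∞) ≤ LocCoh.idealDepth P Ms := by
    refine (le_idealDepth_iff_ext P Ms _).2 fun i hi => subsingleton_ext_quot_prime Ms ⟨P, hPp⟩ i
      (lt_of_le_of_lt ?_ hcon)
    gcongr
    exact Nat.le_of_lt_succ hi
  rw [hd, Nat.cast_le] at h2
  omega

end Groth.Agent.LC
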