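import Mathlib

/-!
# Selecting primes and elements in Noetherian rings
-/

set_option autoImplicit false
universe u

namespace Groth.Agent.LC



variable {R : Type u} [CommRing R]

theorem exists_prime_between_domain [IsNoetherianRing R] [IsDomain R] (q : Ideal R) [q.IsPrime]
    (hq : 1 < q.height) {a : R} (haq : a ∈ q) (ha : a ≠ 0) :
    ∃ t : Ideal R, t.IsPrime ∧ t ≠ ⊥ ∧ t < q ∧ a ∉ t := by
  classical
  by_contra hcon
  push Not at hcon
  have hfin : ((Ideal.span {a}).minimalPrimes).Finite :=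
    Ideal.finite_minimalPrimes_of_isNoetherianRing R _
  let Ps : Finset (Ideal R) := hfin.toFinset
  have hPs : ∀ P ∈ Ps, P.IsPrime ∧ ¬ q ≤ P := by
    intro P hP
    have hP' : P ∈ (Ideal.span {a}).minimalPrimes := hfin.mem_toFinset.1 hP
    have : P.IsPrime := hP'.1.1
    refine ⟨this, fun hle => ?_⟩
    have hqa : Ideal.span {a} ≤ q := (Ideal.span_singleton_le_iff_mem _).2 haq
    have heq : q = P := le_antisymm hle (hP'.2 ⟨‹q.IsPrime›, hqa⟩ hle)
    have := Ideal.height_le_one_of_isPrincipal_of_mem_minimalPrimes (Ideal.span {a}) P hP'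
    rw [← heq] at this
    exact absurd this (not_le.2 hq)
  have hnot : ¬ ((q : Set R) ⊆ ⋃ P ∈ (↑Ps : Set (Ideal R)), (P : Set R)) := by
    rw [Ideal.subset_union_prime (⊥ : Ideal R) ⊥ (fun P hP _ _ => (hPs P hP).1)]
    rintro ⟨P, hP, hle⟩
    exact (hPs P hP).2 hle
  obtain ⟨b, hbq, hb⟩ := Set.not_subset.1 hnot
  simp only [Set.mem_iUnion, not_exists] at hb
  obtain ⟨t, ht, htq⟩ := Ideal.exists_minimalPrimes_le
    ((Ideal.span_singleton_le_iff_mem q).2 hbq)
  have htp : t.IsPrime := ht.1.1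
  have hb0 : b ≠ 0 := by
    obtain ⟨P, hP, -⟩ := Ideal.exists_minimalPrimes_le
      ((Ideal.span_singleton_le_iff_mem q).2 haq)
    rintro rfl
    exact hb P (hfin.mem_toFinset.2 hP) P.zero_mem
  have htbot : t ≠ ⊥ := by
    rintro rfl
    exact hb0 ((Ideal.span_singleton_le_iff_mem _).1 ht.1.2)
  have hth : t.height ≤ 1 :=
    Ideal.height_le_one_of_isPrincipal_of_mem_minimalPrimes (Ideal.span {b}) t ht
  have htlt : t < q := lt_of_le_of_ne htq (by rintro rfl; exact absurd hth (not_le.2 hq))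
  have hat : a ∈ t := hcon t htp htbot htlt
  obtain ⟨P, hP, hPt⟩ := Ideal.exists_minimalPrimes_le
    ((Ideal.span_singleton_le_iff_mem t).2 hat)
  have hPp : P.IsPrime := hP.1.1
  have hPne : P ≠ ⊥ := by
    rintro rfl
    exact ha ((Ideal.span_singleton_le_iff_mem _).1 hP.1.2)
  have hPt' : P < t := lt_of_le_of_ne hPt fun h =>
    hb P (hfin.mem_toFinset.2 hP) (h ▸ (Ideal.span_singleton_le_iff_mem _).1 ht.1.2)
  have h1 := Ideal.height_strict_mono_of_isPrime (I := P) hPt'
  have h0 := Ideal.height_strict_mono_of_isPrime (I := (⊥ : Ideal R)) (bot_lt_iff_ne_bot.2 hPne)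
  have hP1 : 1 ≤ P.height := ENat.one_le_iff_ne_zero.2 (ne_bot_of_gt h0)
  exact absurd (lt_of_le_of_lt hP1 h1) (not_lt.2 hth)

theorem exists_prime_between [IsNoetherianRing R] (s q : Ideal R) [s.IsPrime] [q.IsPrime]
    (hsq : s < q) (hht : 1 < (q.map (Ideal.Quotient.mk s)).height) {a : R} (haq : a ∈ q)
    (has : a ∉ s) : ∃ t : Ideal R, t.IsPrime ∧ s < t ∧ t < q ∧ a ∉ t := by
  have : (q.map (Ideal.Quotient.mk s)).IsPrime :=
    Ideal.map_isPrime_of_surjective Ideal.Quotient.mk_surjective (by rw [Ideal.mk_ker]; exact hsq.le)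
  obtain ⟨t, htp, htbot, htlt, hat⟩ := exists_prime_between_domain (q.map (Ideal.Quotient.mk s)) hht
    (Ideal.mem_map_of_mem _ haq) (a := Ideal.Quotient.mk s a)
    (by rwa [Ne, Ideal.Quotient.eq_zero_iff_mem])
  have hq : (q.map (Ideal.Quotient.mk s)).comap (Ideal.Quotient.mk s) = q := by
    rw [Ideal.comap_map_of_surjective _ Ideal.Quotient.mk_surjective, ← RingHom.ker_eq_comap_bot,
      Ideal.mk_ker, sup_eq_left]
    exact hsq.le
  refine ⟨t.comap (Ideal.Quotient.mk s), inferInstance, ?_, ?_, hat⟩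
  · refine lt_of_le_of_ne (fun x hx => ?_) ?_
    · rw [Ideal.mem_comap, Ideal.Quotient.eq_zero_iff_mem.2 hx]; exact t.zero_mem
    · intro h
      apply htbot
      have := congrArg (Ideal.map (Ideal.Quotient.mk s)) h
      rw [Ideal.map_quotient_self, Ideal.map_comap_of_surjective _ Ideal.Quotient.mk_surjective]
        at this
      exact this.symm
  · rw [← hq]
    refine lt_of_le_of_ne (Ideal.comap_mono htlt.le) fun h => htlt.ne ?_
    exact Ideal.comap_injective_of_surjective _ Ideal.Quotient.mk_surjective h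

theorem exists_gens_height_lt [IsNoetherianRing R] (I : Ideal R) (r : ℕ) :
    ∃ f : Fin r → R, (∀ i, f i ∈ I) ∧
      ∀ (p : Ideal R) [p.IsPrime], p.height < r → (I ≤ p ↔ Ideal.span (Set.range f) ≤ p) := by
  classical
  induction r with
  | zero => exact ⟨fun i => i.elim0, fun i => i.elim0, fun p _ h => absurd h (not_lt.2 (zero_le))⟩
  | succ r ih =>
    obtain ⟨f, hfI, hf⟩ := ih
    let J := Ideal.span (Set.range f)
    have hfin := Ideal.finite_minimalPrimes_of_isNoetherianRing R J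
    let Ps : Finset (Ideal R) := hfin.toFinset.filter (fun P => ¬ I ≤ P)
    have hnot : ¬ ((I : Set R) ⊆ ⋃ P ∈ (↑Ps : Set (Ideal R)), (P : Set R)) := by
      rw [Ideal.subset_union_prime (⊥ : Ideal R) ⊥
        (fun P hP _ _ => (hfin.mem_toFinset.1 (Finset.mem_filter.1 hP).1).1.1)]
      rintro ⟨P, hP, hle⟩
      exact (Finset.mem_filter.1 hP).2 hle
    obtain ⟨x, hxI, hx⟩ := Set.not_subset.1 hnot
    simp only [Set.mem_iUnion, not_exists] at hx
    refine ⟨Fin.snoc f x, ?_, fun p hp hlt => ?_⟩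
    · intro i
      induction i using Fin.lastCases with
      | last => simpa using hxI
      | cast i => simpa using hfI i
    · constructor
      · intro h
        rw [Ideal.span_le]
        rintro _ ⟨i, rfl⟩
        induction i using Fin.lastCases with
        | last => simpa using h hxI
        | cast i => simpa using h (hfI i)
      · intro h
        by_contra hI
        have hJp : J ≤ p := by
          refine le_trans (Ideal.span_mono ?_) h
          rintro _ ⟨i, rfl⟩
          exact ⟨i.castSucc, by simp⟩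
        obtain ⟨P, hP, hPp⟩ := Ideal.exists_minimalPrimes_le hJp
        have : P.IsPrime := hP.1.1
        have hIP : ¬ I ≤ P := fun hh => hI (hh.trans hPp)
        have hxP : x ∉ P := hx P (Finset.mem_filter.2 ⟨hfin.mem_toFinset.2 hP, hIP⟩)
        have hxp : x ∈ p := h (Ideal.subset_span ⟨Fin.last r, by simp⟩)
        have hlt' := Ideal.height_strict_mono_of_isPrime (I := P)
          (lt_of_le_of_ne hPp (fun hh => hxP (hh ▸ hxp)))
        have hPr : P.height < r := by
          have h2 : p.height ≤ r := by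
            have h3 : p.height < (r : ℕ∞) + 1 := by exact_mod_cast hlt
            exact Order.le_of_lt_add_one h3
          exact lt_of_lt_of_le hlt' h2
        exact hIP ((hf P hPr).2 hP.1.2)

theorem exists_gens_radical_eq_succ [IsNoetherianRing R] (d : ℕ) (hd : ringKrullDim R = d)
    (I : Ideal R) :
    ∃ f : Fin (d + 1) → R, (∀ i, f i ∈ I) ∧ I.radical = (Ideal.span (Set.range f)).radical := by
  obtain ⟨f, hfI, hf⟩ := exists_gens_height_lt I (d + 1)
  refine ⟨f, hfI, ?_⟩
  rw [Ideal.radical_eq_sInf, Ideal.radical_eq_sInf]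
  congr 1
  ext p
  simp only [Set.mem_setOf_eq]
  refine and_congr_left fun hp => ?_
  apply hf
  have h := Ideal.height_le_ringKrullDim_of_isPrime (I := p)
  rw [hd] at h
  have h' : p.height ≤ d := by exact_mod_cast h
  exact lt_of_le_of_lt h' (by exact_mod_cast Nat.lt_succ_self d)

theorem exists_gens_radical_eq_of_local [IsNoetherianRing R] [IsLocalRing R] (d : ℕ)
    (hd : ringKrullDim R = d) (I : Ideal R) (hI : I ≠ ⊤) :
    ∃ f : Fin d → R, (∀ i, f i ∈ I) ∧ I.radical = (Ideal.span (Set.range f)).radical := by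
  obtain ⟨f, hfI, hf⟩ := exists_gens_height_lt I d
  have hsI : Ideal.span (Set.range f) ≤ I := Ideal.span_le.2 (by rintro _ ⟨i, rfl⟩; exact hfI i)
  refine ⟨f, hfI, ?_⟩
  rw [Ideal.radical_eq_sInf, Ideal.radical_eq_sInf]
  congr 1
  ext p
  simp only [Set.mem_setOf_eq]
  refine and_congr_left fun hp => ?_
  rcases eq_or_ne p (IsLocalRing.maximalIdeal R) with rfl | hne
  · exact ⟨fun h => hsI.trans h, fun _ => IsLocalRing.le_maximalIdeal hI⟩
  · apply hf
    have hlt := Ideal.height_strict_mono_of_isPrime (I := p)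
      (lt_of_le_of_ne (IsLocalRing.le_maximalIdeal hp.ne_top) hne)
    have hm : (IsLocalRing.maximalIdeal R).height = d := by
      have := IsLocalRing.maximalIdeal_height_eq_ringKrullDim (R := R)
      rw [hd] at this
      exact_mod_cast this
    rwa [hm] at hlt

theorem exists_dim_one_not_containing [IsLocalRing R] [IsNoetherianRing R] (I : Ideal R)
    (hI : I ≠ ⊤) (hdense : ∀ q ∈ minimalPrimes R, ¬ I ≤ q) :
    ∃ p : PrimeSpectrum R, ¬ I ≤ p.asIdeal ∧ ringKrullDim (R ⧸ p.asIdeal) = 1 := by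
  classical
  have hne : {p : Ideal R | p.IsPrime ∧ ¬ I ≤ p}.Nonempty := by
    obtain ⟨q, hq⟩ := Ideal.nonempty_minimalPrimes (I := (⊥ : Ideal R)) bot_ne_top
    exact ⟨q, hq.1.1, hdense q hq⟩
  obtain ⟨p, ⟨hp, hIp⟩, hmax⟩ := set_has_maximal_iff_noetherian.2 ‹IsNoetherianRing R› _ hne
  refine ⟨⟨p, hp⟩, hIp, ?_⟩
  have hmI : I ≤ IsLocalRing.maximalIdeal R := IsLocalRing.le_maximalIdeal hI
  have hpm : p < IsLocalRing.maximalIdeal R :=
    lt_of_le_of_ne (IsLocalRing.le_maximalIdeal hp.ne_top) (fun h => hIp (h ▸ hmI))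
  show ringKrullDim (R ⧸ p) = 1
  obtain ⟨a, haI, hap⟩ := SetLike.not_le_iff_exists.1 hIp
  have : IsLocalRing (R ⧸ p) :=
    IsLocalRing.of_surjective' (Ideal.Quotient.mk p) Ideal.Quotient.mk_surjective
  have hmax' : (IsLocalRing.maximalIdeal R).map (Ideal.Quotient.mk p)
      = IsLocalRing.maximalIdeal (R ⧸ p) :=
    IsLocalRing.map_maximalIdeal_of_surjective _ Ideal.Quotient.mk_surjective
  rw [← IsLocalRing.maximalIdeal_height_eq_ringKrullDim]
  have hle : (IsLocalRing.maximalIdeal (R ⧸ p)).height ≤ 1 := by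
    by_contra h
    rw [not_le, ← hmax'] at h
    obtain ⟨t, ht, hpt, -, hat⟩ :=
      exists_prime_between p (IsLocalRing.maximalIdeal R) hpm h (hmI haI) hap
    exact hmax t ⟨ht, fun hIt => hat (hIt haI)⟩ hpt
  have hge : 1 ≤ (IsLocalRing.maximalIdeal (R ⧸ p)).height := by
    have hb : (⊥ : Ideal (R ⧸ p)) < IsLocalRing.maximalIdeal (R ⧸ p) := by
      rw [bot_lt_iff_ne_bot, ← hmax', Ne, Ideal.map_eq_bot_iff_le_ker, Ideal.mk_ker]
      exact not_le_of_gt hpm
    exact ENat.one_le_iff_ne_zero.2 (ne_bot_of_gt (Ideal.height_strict_mono_of_isPrime hb))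
  rw [le_antisymm hle hge]
  rfl

end Groth.Agent.LC
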