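import Groth.Agent.LC.AssFilt
import Groth.Agent.LC.DepthLoc
import Groth.Agent.LC.PrimeSel
import Groth.Prelude.Def_W4bk5brsh7111920

/-!
# Finiteness dimension and adjusted depth
-/

universe u

open CategoryTheory Limits IsLocalRing
open scoped Pointwise

namespace Groth.Agent.LC

theorem height_add_le_of_strictMono {α β : Type*} [Preorder α] [Preorder β] (f : β → α) (hf : StrictMono f)
    (a : α) (h : ∀ b, a ≤ f b) (n : ℕ) :
    ∀ b, (n : ℕ∞) ≤ Order.height b → Order.height a + n ≤ Order.height (f b) := by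
  induction n with
  | zero => intro b _; simpa using Order.height_mono (h b)
  | succ n ih =>
    intro b hb
    obtain ⟨l, hl, hlen⟩ := Order.exists_series_of_le_height b hb
    let c := l ⟨n, by omega⟩
    have hc : (n : ℕ∞) ≤ Order.height c := by
      simpa using Order.index_le_height l ⟨n, by omega⟩
    have hcb : c < b := by
      rw [← hl]
      exact l.strictMono (by simp [Fin.lt_def, Fin.last, hlen])
    have h1 := ih c hc
    rcases eq_or_ne (Order.height (f c)) ⊤ with htop | htop
    · have := Order.height_mono (hf hcb).le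
      rw [htop, top_le_iff] at this
      rw [this]; exact le_top
    · have h2 := Order.height_strictMono (hf hcb) (lt_top_iff_ne_top.2 htop)
      calc Order.height a + (n + 1 : ℕ) = Order.height a + n + 1 := by
            rw [Nat.cast_add, Nat.cast_one, add_assoc]
        _ ≤ Order.height (f c) + 1 := by gcongr
        _ ≤ Order.height (f b) := Order.add_one_le_of_lt h2

variable {R : Type u} [CommRing R]

theorem height_map_mk_add_le [IsNoetherianRing R] (p s q : Ideal R) [p.IsPrime] [s.IsPrime] [q.IsPrime]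
    (hps : p ≤ s) (hsq : s ≤ q) :
    (s.map (Ideal.Quotient.mk p)).height + (q.map (Ideal.Quotient.mk s)).height ≤
      (q.map (Ideal.Quotient.mk p)).height := by
  let g : R ⧸ p →+* R ⧸ s := Ideal.Quotient.factor hps
  have hsp : (s.map (Ideal.Quotient.mk p)).IsPrime :=
    Ideal.map_isPrime_of_surjective Ideal.Quotient.mk_surjective (by rw [Ideal.mk_ker]; exact hps)
  have hqp : (q.map (Ideal.Quotient.mk p)).IsPrime :=
    Ideal.map_isPrime_of_surjective Ideal.Quotient.mk_surjective (by rw [Ideal.mk_ker]; exact hps.trans hsq)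
  have hqs : (q.map (Ideal.Quotient.mk s)).IsPrime :=
    Ideal.map_isPrime_of_surjective Ideal.Quotient.mk_surjective (by rw [Ideal.mk_ker]; exact hsq)
  have hgs : Function.Surjective g := Ideal.Quotient.factor_surjective hps
  have hmono : StrictMono (PrimeSpectrum.comap g) := fun a b hab =>
    lt_of_le_of_ne (Ideal.comap_mono (f := g) hab.le) fun he =>
      hab.ne (PrimeSpectrum.comap_injective_of_surjective g hgs he)
  have hker : (⟨_, hsp⟩ : PrimeSpectrum (R ⧸ p)).asIdeal = RingHom.ker g := by
    ext y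
    obtain ⟨y, rfl⟩ := Ideal.Quotient.mk_surjective y
    show Ideal.Quotient.mk p y ∈ s.map (Ideal.Quotient.mk p) ↔ g (Ideal.Quotient.mk p y) = 0
    rw [Ideal.Quotient.factor_mk, Ideal.Quotient.eq_zero_iff_mem, ← Ideal.mem_comap,
      Ideal.comap_map_of_surjective _ Ideal.Quotient.mk_surjective, ← RingHom.ker_eq_comap_bot,
      Ideal.mk_ker, sup_eq_left.2 hps]
  have htop : (PrimeSpectrum.comap g ⟨_, hqs⟩).asIdeal = q.map (Ideal.Quotient.mk p) := by
    ext y
    obtain ⟨y, rfl⟩ := Ideal.Quotient.mk_surjective y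
    show g (Ideal.Quotient.mk p y) ∈ q.map (Ideal.Quotient.mk s) ↔ _
    rw [Ideal.Quotient.factor_mk, ← Ideal.mem_comap, ← Ideal.mem_comap,
      Ideal.comap_map_of_surjective _ Ideal.Quotient.mk_surjective,
      Ideal.comap_map_of_surjective _ Ideal.Quotient.mk_surjective, ← RingHom.ker_eq_comap_bot,
      ← RingHom.ker_eq_comap_bot, Ideal.mk_ker, Ideal.mk_ker, sup_eq_left.2 hsq,
      sup_eq_left.2 (hps.trans hsq)]
  rw [← htop, show (s.map (Ideal.Quotient.mk p)).height = (⟨_, hsp⟩ : PrimeSpectrum (R ⧸ p)).asIdeal.height from rfl,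
    show (q.map (Ideal.Quotient.mk s)).height = (⟨_, hqs⟩ : PrimeSpectrum (R ⧸ s)).asIdeal.height from rfl,
    PrimeSpectrum.height_eq_orderHeight, PrimeSpectrum.height_eq_orderHeight,
    PrimeSpectrum.height_eq_orderHeight]
  have hle : ∀ b, (⟨_, hsp⟩ : PrimeSpectrum (R ⧸ p)) ≤ PrimeSpectrum.comap g b := fun b x hx => by
    rw [hker, RingHom.mem_ker] at hx
    show g x ∈ b.asIdeal
    rw [hx]; exact b.asIdeal.zero_mem
  rcases eq_or_ne (Order.height (⟨_, hqs⟩ : PrimeSpectrum (R ⧸ s))) ⊤ with h | h
  · rw [h, add_top]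
    refine le_of_eq (top_unique (le_trans h.ge ?_)).symm
    exact Order.height_le_height_apply_of_strictMono _ hmono _
  · lift Order.height (⟨_, hqs⟩ : PrimeSpectrum (R ⧸ s)) to ℕ using h with n hn
    exact height_add_le_of_strictMono _ hmono _ hle n _ hn.le

theorem one_le_height_map_mk (p s : Ideal R) [p.IsPrime] [s.IsPrime] (hps : p < s) [IsNoetherianRing R] :
    1 ≤ (s.map (Ideal.Quotient.mk p)).height := by
  have hb : (⊥ : Ideal (R ⧸ p)) < s.map (Ideal.Quotient.mk p) := by
    rw [bot_lt_iff_ne_bot, Ne, Ideal.map_eq_bot_iff_le_ker, Ideal.mk_ker]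
    exact not_le_of_gt hps
  exact ENat.one_le_iff_ne_zero.2 (ne_bot_of_gt (Ideal.height_strict_mono_of_isPrime hb))

/-- A minimal prime over `a + p` computing the height of `(a + p)/p`. -/
theorem exists_minimalPrimes_height_eq [IsNoetherianRing R] (a p : Ideal R) [p.IsPrime] (h : a ⊔ p ≠ ⊤) :
    ∃ q ∈ (a ⊔ p).minimalPrimes,
      (q.map (Ideal.Quotient.mk p)).height = ((a ⊔ p).map (Ideal.Quotient.mk p)).height := by
  let f := Ideal.Quotient.mk p
  have hne : (a ⊔ p).map f ≠ ⊤ := by
    intro ht
    apply h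
    have := congrArg (Ideal.comap f) ht
    rwa [Ideal.comap_map_of_surjective _ Ideal.Quotient.mk_surjective, ← RingHom.ker_eq_comap_bot,
      Ideal.mk_ker, sup_assoc, sup_idem, Ideal.comap_top] at this
  have hfin := Ideal.finite_minimalPrimes_of_isNoetherianRing (R ⧸ p) ((a ⊔ p).map f)
  obtain ⟨Q, hQ, hmin⟩ := Set.exists_min_image _ (fun Q : Ideal (R ⧸ p) => Q.height) hfin
    (Set.nonempty_coe_sort.1 (Ideal.nonempty_minimalPrimes hne))
  refine ⟨Q.comap f, ?_, ?_⟩
  · have h1 := Ideal.comap_minimalPrimes_eq_of_surjective (f := f) Ideal.Quotient.mk_surjective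
      ((a ⊔ p).map f)
    rw [Ideal.comap_map_of_surjective _ Ideal.Quotient.mk_surjective, ← RingHom.ker_eq_comap_bot,
      Ideal.mk_ker, sup_assoc, sup_idem] at h1
    rw [h1]
    exact ⟨Q, hQ, rfl⟩
  · rw [Ideal.map_comap_of_surjective _ Ideal.Quotient.mk_surjective]
    refine le_antisymm ?_ (Ideal.height_mono hQ.1.2)
    show Q.height ≤ ((a ⊔ p).map f).height
    rw [Ideal.height_eq_inf_minimalPrimes ((a ⊔ p).map f)]
    exact le_iInf₂ hmin

variable [IsNoetherianRing R]

theorem adjDepth_le_of_between (a : Ideal R) (M : Type u) [AddCommGroup M] [Module R M] [Module.Finite R M]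
    (p q : PrimeSpectrum R) (hq : q.asIdeal ∈ (a ⊔ p.asIdeal).minimalPrimes)
    (hht : (q.asIdeal.map (Ideal.Quotient.mk p.asIdeal)).height =
      ((a ⊔ p.asIdeal).map (Ideal.Quotient.mk p.asIdeal)).height)
    (s : PrimeSpectrum R) (hps : p ≤ s) (hsq : s ≤ q) : LocCoh.adjDepth a M s ≤ LocCoh.adjDepth a M p := by
  unfold LocCoh.adjDepth
  refine le_trans (add_le_add (depth_localized_le_add_height M p.asIdeal s.asIdeal hps)
    (Ideal.height_mono (Ideal.map_mono (show a ⊔ s.asIdeal ≤ q.asIdeal from
      sup_le (le_sup_left.trans hq.1.2) hsq)))) ?_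
  rw [add_assoc, ← hht]
  gcongr
  exact height_map_mk_add_le p.asIdeal s.asIdeal q.asIdeal hps hsq

section Localized

variable (M : Type u) [AddCommGroup M] [Module R M] [Module.Finite R M]

/-- Localization commutes with `M ↦ M/xM`. -/
theorem exists_localized_quotSMulTop (p : Ideal R) [p.IsPrime] (x : R) :
    Nonempty (QuotSMulTop (algebraMap R (Localization.AtPrime p) x) (LocalizedModule p.primeCompl M)
      ≃ₗ[Localization.AtPrime p] LocalizedModule p.primeCompl (QuotSMulTop x M)) := by
  let f : M →ₗ[R] M := x • LinearMap.id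
  let g : M →ₗ[R] QuotSMulTop x M := Submodule.mkQ _
  have hex : Function.Exact f g := fun z => by
    show Submodule.Quotient.mk z = (0 : QuotSMulTop x M) ↔ _
    rw [Groth.Agent.Alg6.mem_pointwise_smul_top_iff]
    exact Iff.rfl
  have hexS := LocalizedModule.map_exact p.primeCompl f g hex
  have hfS : ∀ z, LocalizedModule.map p.primeCompl f z = algebraMap R (Localization.AtPrime p) x • z := by
    intro z
    induction z using LocalizedModule.induction_on with
    | h z s => rw [LocalizedModule.map_mk, algebraMap_smul, LocalizedModule.smul'_mk]; rfl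
  have hsurj := LocalizedModule.map_surjective p.primeCompl g (Submodule.mkQ_surjective _)
  refine ⟨(Submodule.quotEquivOfEq _ _ ?_).trans
    (LinearMap.quotKerEquivOfSurjective (LocalizedModule.map p.primeCompl g) hsurj)⟩
  ext z
  refine Iff.trans ?_ (hexS z).symm
  rw [← Submodule.Quotient.mk_eq_zero, Groth.Agent.Alg6.mem_pointwise_smul_top_iff]
  exact exists_congr fun w => Eq.congr_left (hfS w).symm

theorem depth_localized_congr {N : Type u} [AddCommGroup N] [Module R N] [Module.Finite R N]
    (p : Ideal R) [p.IsPrime]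
    (e : LocalizedModule p.primeCompl M ≃ₗ[Localization.AtPrime p] LocalizedModule p.primeCompl N) :
    LocCoh.depth (Localization.AtPrime p) (LocalizedModule p.primeCompl M) =
      LocCoh.depth (Localization.AtPrime p) (LocalizedModule p.primeCompl N) := by
  have : Module.Finite (Localization.AtPrime p) (LocalizedModule p.primeCompl M) :=
    Module.Finite.of_isLocalizedModule p.primeCompl (LocalizedModule.mkLinearMap _ M)
  have : Module.Finite (Localization.AtPrime p) (LocalizedModule p.primeCompl N) :=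
    Module.Finite.of_isLocalizedModule p.primeCompl (LocalizedModule.mkLinearMap _ N)
  exact idealDepth_congr _ e

theorem depth_localized_quot_add_one (p : Ideal R) [p.IsPrime] {x : R} (hx : x ∈ p)
    (hreg : IsSMulRegular M x) :
    LocCoh.depth (Localization.AtPrime p) (LocalizedModule p.primeCompl (QuotSMulTop x M)) + 1 =
      LocCoh.depth (Localization.AtPrime p) (LocalizedModule p.primeCompl M) := by
  obtain ⟨e⟩ := exists_localized_quotSMulTop M p x
  have : Module.Finite (Localization.AtPrime p) (LocalizedModule p.primeCompl M) :=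
    Module.Finite.of_isLocalizedModule p.primeCompl (LocalizedModule.mkLinearMap _ M)
  have : Module.Finite (Localization.AtPrime p) (LocalizedModule p.primeCompl (QuotSMulTop x M)) :=
    Module.Finite.of_isLocalizedModule p.primeCompl (LocalizedModule.mkLinearMap _ _)
  unfold LocCoh.depth
  rw [← idealDepth_quotSMulTop_add_one (maximalIdeal (Localization.AtPrime p))
    ((Groth.Agent.Alg6.mem_maximalIdeal_iff p).2 hx) (Groth.Agent.Alg6.isSMulRegular_localized p hreg)]
  congr 1
  exact (idealDepth_congr _ e).symm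

theorem depth_localized_torsionQuot (a p : Ideal R) [p.IsPrime] (hap : ¬ a ≤ p) :
    LocCoh.depth (Localization.AtPrime p) (LocalizedModule p.primeCompl (M ⧸ DRing.torsionSub a M)) =
      LocCoh.depth (Localization.AtPrime p) (LocalizedModule p.primeCompl M) := by
  let g : M →ₗ[R] M ⧸ DRing.torsionSub a M := (DRing.torsionSub a M).mkQ
  obtain ⟨x, hxa, hxp⟩ := SetLike.not_le_iff_exists.1 hap
  have hinj : Function.Injective (LocalizedModule.map p.primeCompl g) := by
    rw [injective_iff_map_eq_zero]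
    intro z hz
    induction z using LocalizedModule.induction_on with
    | h z s =>
      rw [LocalizedModule.map_mk, ← LocalizedModule.zero_mk s, LocalizedModule.mk_eq] at hz
      obtain ⟨t, ht⟩ := hz
      rw [smul_zero, smul_zero] at ht
      have h2 : (t : R) • (s : R) • z ∈ DRing.torsionSub a M :=
        (Submodule.Quotient.mk_eq_zero _).1 ht
      obtain ⟨k, hk⟩ := h2
      rw [← LocalizedModule.zero_mk s, LocalizedModule.mk_eq]
      refine ⟨⟨x ^ k, p.primeCompl.pow_mem hxp k⟩ * t, ?_⟩
      rw [smul_zero, smul_zero]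
      show ((x ^ k) * (t : R)) • (s : R) • z = 0
      rw [mul_smul]
      exact hk _ (Ideal.pow_mem_pow hxa k)
  exact (depth_localized_congr M p (LinearEquiv.ofBijective _
    ⟨hinj, LocalizedModule.map_surjective p.primeCompl g (Submodule.mkQ_surjective _)⟩)).symm

end Localized

section Core

variable [IsLocalRing R] (a b p : Ideal R) [p.IsPrime]

theorem core (hp : ∀ Q : Ideal R, Q.IsPrime → p ≤ Q → Q = p ∨ Q = maximalIdeal R)
    (hap : ¬ a ≤ p) (hbp : ¬ b ≤ p) (ham : a ≤ maximalIdeal R) (s : ℕ) :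
    ∀ (M : Type u) [AddCommGroup M] [Module R M] [Module.Finite R M],
      LocCoh.depth (Localization.AtPrime p) (LocalizedModule p.primeCompl M) = s →
      (∀ i ≤ s, ∃ n, ∀ c ∈ b ^ n, ∀ z : (localCohomology a (i + 1)).obj (ModuleCat.of R M), c • z = 0) →
      False := by
  induction s with
  | zero =>
    intro M _ _ _ hs hk
    let M' := M ⧸ DRing.torsionSub a M
    have hs' := (depth_localized_torsionQuot M a p hap).trans hs
    have hass : p ∈ associatedPrimes R M' := by
      by_contra hcon
      have := (Groth.Agent.Alg6.one_le_depth_atPrime_iff (M := M') p).2 hcon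
      rw [hs'] at this
      simp at this
    obtain ⟨-, g, hg⟩ := (isAssociatedPrime_iff_exists_injective_linearMap p M').1
      ((AssociatedPrimes.mem_iff).1 hass)
    obtain ⟨n, hn⟩ := hk 0 le_rfl
    let T : ShortComplex (ModuleCat.{u} R) := ShortComplex.mk (X₁ := ModuleCat.of R (R ⧸ p))
      (X₂ := ModuleCat.of R M') (X₃ := ModuleCat.of R (M' ⧸ LinearMap.range g)) (ModuleCat.ofHom g)
      (ModuleCat.ofHom (LinearMap.range g).mkQ)
      (ModuleCat.hom_ext (LinearMap.ext fun z => (Submodule.Quotient.mk_eq_zero _).2 ⟨z, rfl⟩))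
    have hT : T.ShortExact :=
      { exact := (ShortComplex.ShortExact.moduleCat_exact_iff_function_exact _).2
          (LinearMap.exact_map_mkQ_range g)
        mono_f := (ModuleCat.mono_iff_injective _).2 hg
        epi_g := (ModuleCat.epi_iff_surjective _).2 (Submodule.mkQ_surjective _) }
    have := finite_H0 a (M' ⧸ LinearMap.range g)
    obtain ⟨k, hk0⟩ := exists_pow_smul_eq_zero_of_finite a _
      (isPowerTorsion_obj a 0 (ModuleCat.of R (M' ⧸ LinearMap.range g)))
    have hkill' : ∀ c ∈ b ^ n, ∀ z : (localCohomology a 1).obj (ModuleCat.of R M'), c • z = 0 := by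
      intro c hc z
      obtain ⟨w, rfl⟩ := (map_mkQ_bijective a M 0).2 z
      rw [← map_smul, hn c hc w, map_zero]
    obtain ⟨x, hxa, hxp⟩ := SetLike.not_le_iff_exists.1 hap
    obtain ⟨c, hcb, hcp⟩ := SetLike.not_le_iff_exists.1 hbp
    let y := x ^ (k + 1) * c ^ n
    have hyp : y ∉ p := p.primeCompl.mul_mem (p.primeCompl.pow_mem hxp _) (p.primeCompl.pow_mem hcp n)
    have hym : y ∈ maximalIdeal R :=
      Ideal.mul_mem_right _ _ (Ideal.pow_mem_of_mem _ (ham hxa) _ (Nat.succ_pos k))
    have hy : ∀ z : (localCohomology a 1).obj (ModuleCat.of R (R ⧸ p)), y • z = 0 := by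
      intro z
      have h1 : ((localCohomology a 1).map T.f).hom (c ^ n • z) = 0 := by
        rw [map_smul]; exact hkill' _ (Ideal.pow_mem_pow hcb n) _
      obtain ⟨w, hw⟩ := (exact₁ a 0 hT 1 rfl _).1 h1
      rw [mul_smul]
      refine (congrArg (x ^ (k + 1) • ·) hw.symm).trans ?_
      show x ^ (k + 1) • δH a 0 hT 1 rfl w = 0
      rw [← map_smul, hk0 _ (Ideal.pow_le_pow_right (Nat.le_succ k) (Ideal.pow_mem_pow hxa _)) w,
        map_zero]
    have hreg : IsSMulRegular (R ⧸ p) (y ^ 2) := by
      refine IsSMulRegular.pow 2 (isSMulRegular_iff_right_eq_zero_of_smul.2 fun z hz => ?_)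
      obtain ⟨z, rfl⟩ := Ideal.Quotient.mk_surjective z
      rw [← Ideal.Quotient.mkₐ_eq_mk R, ← map_smul, Ideal.Quotient.mkₐ_eq_mk,
        Ideal.Quotient.eq_zero_iff_mem, smul_eq_mul] at hz
      exact Ideal.Quotient.eq_zero_iff_mem.2 ((‹p.IsPrime›.mem_or_mem hz).resolve_left hyp)
    obtain ⟨δ, -, π, hπ, -⟩ := exact_smul a hreg 0
    have hrad : a ≤ (p ⊔ Ideal.span {y ^ 2}).radical := by
      rw [Ideal.radical_eq_sInf]
      refine le_sInf fun Q ⟨hQ, hQp⟩ => ?_
      rcases hp Q hQp (le_sup_left.trans hQ) with rfl | rfl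
      · exact absurd (hQp.mem_of_pow_mem 2 (hQ (Ideal.mem_sup_right (Ideal.mem_span_singleton_self _))))
          hyp
      · exact ham
    obtain ⟨j, hj⟩ := Ideal.exists_pow_le_of_le_radical_of_fg hrad (IsNoetherian.noetherian a)
    let w : QuotSMulTop (y ^ 2) (R ⧸ p) := Submodule.Quotient.mk (Ideal.Quotient.mk p 1)
    have hw : ∀ d ∈ p ⊔ Ideal.span {y ^ 2}, d • w = 0 := by
      intro d hd
      obtain ⟨d1, h1, d2, h2, rfl⟩ := Submodule.mem_sup.1 hd
      obtain ⟨r, rfl⟩ := Ideal.mem_span_singleton'.1 h2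
      show Submodule.Quotient.mk ((d1 + r * y ^ 2) • (Ideal.Quotient.mk p 1 : R ⧸ p)) = _
      rw [Groth.Agent.Alg6.mem_pointwise_smul_top_iff]
      refine ⟨Ideal.Quotient.mk p r, ?_⟩
      rw [← Ideal.Quotient.mkₐ_eq_mk R, ← map_smul, ← map_smul]
      refine Ideal.Quotient.eq.2 ?_
      have : y ^ 2 • r - (d1 + r * y ^ 2) • (1 : R) = -d1 := by rw [smul_eq_mul, smul_eq_mul]; ring
      rw [this]
      exact p.neg_mem h1
    let e := H0Equiv a (ModuleCat.of R (QuotSMulTop (y ^ 2) (R ⧸ p)))
    let z := e.symm ⟨w, j, fun d hd => hw d (hj hd)⟩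
    have hδ : δ (y • z) = 0 := by rw [map_smul]; exact hy _
    obtain ⟨v, hv⟩ := (hπ _).1 hδ
    have hH0 : Subsingleton ((localCohomology a 0).obj (ModuleCat.of R (R ⧸ p))) := by
      refine (subsingleton_H0_iff a (ModuleCat.of R (R ⧸ p))).2 ((Submodule.eq_bot_iff _).2 ?_)
      rintro u ⟨m, hm⟩
      obtain ⟨u, rfl⟩ := Ideal.Quotient.mk_surjective u
      have := hm _ (Ideal.pow_mem_pow hxa m)
      rw [← Ideal.Quotient.mkₐ_eq_mk R, ← map_smul, Ideal.Quotient.mkₐ_eq_mk,
        Ideal.Quotient.eq_zero_iff_mem, smul_eq_mul] at this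
      exact Ideal.Quotient.eq_zero_iff_mem.2
        ((‹p.IsPrime›.mem_or_mem this).resolve_left fun h => hxp (‹p.IsPrime›.mem_of_pow_mem _ h))
    rw [Subsingleton.elim v 0, map_zero] at hv
    have h3 : (⟨y • w, _⟩ : DRing.torsionSub a (QuotSMulTop (y ^ 2) (R ⧸ p))) = 0 :=
      (LinearEquiv.map_eq_zero_iff e.symm).1 ((map_smul e.symm y _).trans hv.symm)
    have h4 : y • w = 0 := congrArg Subtype.val h3
    change Submodule.Quotient.mk (y • (Ideal.Quotient.mk p 1 : R ⧸ p)) = _ at h4
    rw [Groth.Agent.Alg6.mem_pointwise_smul_top_iff] at h4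
    obtain ⟨u, hu⟩ := h4
    obtain ⟨u, rfl⟩ := Ideal.Quotient.mk_surjective u
    rw [← Ideal.Quotient.mkₐ_eq_mk R, ← map_smul, ← map_smul, Ideal.Quotient.mkₐ_eq_mk,
      Ideal.Quotient.eq, smul_eq_mul, smul_eq_mul] at hu
    have hu' : y * (y * u - 1) ∈ p := by convert hu using 1; ring
    have := (‹p.IsPrime›.mem_or_mem hu').resolve_left hyp
    refine (maximalIdeal.isMaximal R).ne_top ((Ideal.eq_top_iff_one _).2 ?_)
    have h1 : (1 : R) = y * u - (y * u - 1) := by ring
    rw [h1]
    exact sub_mem (Ideal.mul_mem_right _ _ hym) (le_maximalIdeal ‹p.IsPrime›.ne_top this)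
  | succ s ih =>
    intro M _ _ _ hs hk
    let M' := M ⧸ DRing.torsionSub a M
    have hs' := (depth_localized_torsionQuot M a p hap).trans hs
    have hk' : ∀ i ≤ s + 1, ∃ n, ∀ c ∈ b ^ n,
        ∀ z : (localCohomology a (i + 1)).obj (ModuleCat.of R M'), c • z = 0 := by
      intro i hi
      obtain ⟨n, hn⟩ := hk i hi
      refine ⟨n, fun c hc z => ?_⟩
      obtain ⟨w, rfl⟩ := (map_mkQ_bijective a M i).2 z
      rw [← map_smul, hn c hc w, map_zero]
    obtain ⟨x, hx, hreg⟩ : ∃ x ∈ p, IsSMulRegular M' x := by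
      rw [Groth.Agent.Alg6.exists_isSMulRegular_mem_iff]
      intro P hP hle
      obtain ⟨hPp, z, hz⟩ := Groth.Agent.Alg6.mem_ass_iff.1 hP
      rcases hp P hPp hle with rfl | rfl
      · have h1 : (1 : ℕ∞) ≤ LocCoh.depth (Localization.AtPrime P) (LocalizedModule P.primeCompl M') := by
          rw [hs']; simp
        exact (Groth.Agent.Alg6.one_le_depth_atPrime_iff (M := M') P).1 h1 hP
      · have hz0 : z = 0 := (Submodule.eq_bot_iff _).1 (torsionSub_quot_eq_bot a M) z
          ⟨1, fun c hc => (hz c).1 (ham (by simpa using hc))⟩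
        exact hPp.ne_top ((Ideal.eq_top_iff_one _).2 ((hz 1).2 (by rw [hz0, smul_zero])))
    refine ih (QuotSMulTop x M') ?_ ?_
    · have := depth_localized_quot_add_one M' p hx hreg
      rw [hs', Nat.cast_add, Nat.cast_one] at this
      exact (ENat.add_left_injective_of_ne_top (by simp)) this
    · intro i hi
      obtain ⟨n₁, h₁⟩ := hk' i (by omega)
      obtain ⟨n₂, h₂⟩ := hk' (i + 1) (by omega)
      refine ⟨n₁ + n₂, fun c hc z => ?_⟩
      obtain ⟨δ, -, π, hπ, -⟩ := exact_smul a hreg (i + 1)
      rw [pow_add] at hc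
      refine Submodule.mul_induction_on hc (fun d hd e he => ?_) fun u v hu hv => by
        rw [add_smul, hu, hv, add_zero]
      have h3 : δ (e • z) = 0 := by rw [map_smul]; exact h₂ e he _
      obtain ⟨w, hw⟩ := (hπ _).1 h3
      rw [mul_smul, ← hw, ← map_smul, h₁ d hd w, map_zero]

end Core

theorem smul_localized_eq_zero {H : Type u} [AddCommGroup H] [Module R H] (q : Ideal R) [q.IsPrime]
    (J : Ideal R) (h : ∀ c ∈ J, ∀ z : H, c • z = 0) {c' : Localization.AtPrime q}
    (hc : c' ∈ J.map (algebraMap R (Localization.AtPrime q))) (y : LocalizedModule q.primeCompl H) :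
    c' • y = 0 := by
  refine smul_eq_zero_of_mem_map J y (fun c hcJ => ?_) hc
  induction y using LocalizedModule.induction_on with
  | h z t => rw [LocalizedModule.smul'_mk, h c hcJ z, LocalizedModule.zero_mk]

theorem finDimRel_le_adjDepth (a b : Ideal R) (M : Type u) [AddCommGroup M] [Module R M] [Module.Finite R M]
    (p : PrimeSpectrum R) (hb : ¬ b ≤ p.asIdeal) :
    LocCoh.finDimRel a b M ≤ LocCoh.adjDepth a M p := by
  by_cases htop : a ⊔ p.asIdeal = ⊤
  · rw [LocCoh.adjDepth, htop, Ideal.map_top, Ideal.height_top, add_top]; exact le_top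
  obtain ⟨q, hq, hqh⟩ := exists_minimalPrimes_height_eq a p.asIdeal htop
  have hqp : q.IsPrime := hq.1.1
  have haq : a ≤ q := le_sup_left.trans hq.1.2
  have hpq : p.asIdeal ≤ q := le_sup_right.trans hq.1.2
  by_cases hdtop : LocCoh.adjDepth a M p = ⊤
  · rw [hdtop]; exact le_top
  obtain ⟨D, hD⟩ := WithTop.ne_top_iff_exists.1 hdtop
  have hD' : LocCoh.adjDepth a M p = (D : ℕ∞) := hD.symm
  rw [hD']
  by_contra hcon
  rw [not_le] at hcon
  have hk : ∀ i ≤ D, ∃ n, ∀ c ∈ b ^ n, ∀ z : (localCohomology a i).obj (ModuleCat.of R M), c • z = 0 := by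
    intro i hi
    have h1 : b ≤ (Module.annihilator R (LocCoh.H a i M)).radical := by
      by_contra h1
      have h2 : LocCoh.finDimRel a b M ≤ (i : ℕ∞) := iInf₂_le i h1
      exact absurd (h2.trans (Nat.cast_le.2 hi)) (not_le.2 hcon)
    obtain ⟨n, hn⟩ := Ideal.exists_pow_le_of_le_radical_of_fg h1 (IsNoetherian.noetherian b)
    exact ⟨n, fun c hc z => Module.mem_annihilator.1 (hn hc) z⟩
  let A := Localization.AtPrime q
  have : IsNoetherianRing A := IsLocalization.isNoetherianRing q.primeCompl A inferInstance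
  let Mq := LocalizedModule q.primeCompl M
  have : Module.Finite A Mq :=
    Module.Finite.of_isLocalizedModule q.primeCompl (LocalizedModule.mkLinearMap _ M)
  have hkA : ∀ i ≤ D, ∃ n, ∀ c ∈ (b.map (algebraMap R A)) ^ n,
      ∀ z : (localCohomology (a.map (algebraMap R A)) i).obj (ModuleCat.of A Mq), c • z = 0 := by
    intro i hi
    obtain ⟨n, hn⟩ := hk i hi
    obtain ⟨e⟩ := exists_localizedH a M q i
    refine ⟨n, fun c hc z => ?_⟩
    obtain ⟨y, rfl⟩ := e.surjective z
    rw [← Ideal.map_pow] at hc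
    exact (map_smul e c y).symm.trans (by rw [smul_localized_eq_zero q (b ^ n) hn hc y, map_zero])
  by_cases hbq : b ≤ q
  swap
  · -- the localization at `q` has vanishing cohomology up to `D`
    have hb1 : b.map (algebraMap R A) = ⊤ := by
      obtain ⟨c, hcb, hcq⟩ := SetLike.not_le_iff_exists.1 hbq
      exact Ideal.eq_top_of_isUnit_mem _ (Ideal.mem_map_of_mem _ hcb)
        (IsLocalization.map_units A (⟨c, hcq⟩ : q.primeCompl))
    have hvan : ((D + 1 : ℕ) : ℕ∞) ≤ LocCoh.idealDepth (a.map (algebraMap R A)) Mq := by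
      refine (le_idealDepth_iff_H _ Mq (D + 1)).2 fun i hi => subsingleton_of_forall_eq 0 fun z => ?_
      obtain ⟨n, hn⟩ := hkA i (by omega)
      rw [← one_smul A z]
      exact hn 1 (by rw [hb1, Ideal.top_pow]; trivial) z
    have h1 := hvan.trans (idealDepth_le_of_le _ _ (J := maximalIdeal A)
      ((Ideal.map_mono haq).trans Localization.AtPrime.map_eq_maximalIdeal.le))
    have h2 := depth_localized_le_add_height M p.asIdeal q hpq
    rw [hqh] at h2
    have h3 : ((D + 1 : ℕ) : ℕ∞) ≤ (D : ℕ∞) := by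
      rw [← hD']; exact h1.trans h2
    exact absurd (Nat.cast_le.1 h3) (by omega)
  · -- choose `s` between `p` and `q` not containing `b`, maximal
    let S : Set (Ideal R) := {s : Ideal R | s.IsPrime ∧ p.asIdeal ≤ s ∧ s ≤ q ∧ ¬ b ≤ s}
    have hex : ∃ s : Ideal R, s ∈ S ∧ ∀ t ∈ S, ¬ s < t :=
      set_has_maximal_iff_noetherian.2 ‹IsNoetherianRing R› S ⟨p.asIdeal, p.isPrime, le_rfl, hpq, hb⟩
    obtain ⟨s, ⟨hsp, hps, hsq, hbs⟩, hmax⟩ := hex
    have hsq' : s < q := lt_of_le_of_ne hsq fun h => hbs (h ▸ hbq)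
    obtain ⟨c, hcb, hcs⟩ := SetLike.not_le_iff_exists.1 hbs
    have hbetween : ∀ t : Ideal R, t.IsPrime → s ≤ t → t ≤ q → t = s ∨ t = q := by
      intro t ht hst htq
      by_contra hne
      rw [not_or] at hne
      have hst' : s < t := lt_of_le_of_ne hst (Ne.symm hne.1)
      have htq' : t < q := lt_of_le_of_ne htq hne.2
      have h1 : 1 < (q.map (Ideal.Quotient.mk s)).height :=
        lt_of_lt_of_le (lt_of_lt_of_le (by norm_num : (1 : ℕ∞) < 1 + 1)
          (add_le_add (one_le_height_map_mk s t hst') (one_le_height_map_mk t q htq')))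
          (height_map_mk_add_le s t q hst htq)
      obtain ⟨u, hu, hsu, huq, hcu⟩ := exists_prime_between s q hsq' h1 (hbq hcb) hcs
      exact hmax u ⟨hu, hps.trans hsu.le, huq.le, fun hbu => hcu (hbu hcb)⟩ hsu
    have has : ¬ a ≤ s := fun h =>
      hsq'.not_ge (hq.2 ⟨hsp, sup_le h hps⟩ hsq)
    have hdepth : LocCoh.depth (Localization.AtPrime s) (LocalizedModule s.primeCompl M) + 1 ≤ (D : ℕ∞) := by
      rw [← hD', LocCoh.adjDepth, ← hqh]
      refine le_trans (add_le_add (depth_localized_le_add_height M p.asIdeal s hps)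
        (one_le_height_map_mk s q hsq')) ?_
      rw [add_assoc]
      gcongr
      exact height_map_mk_add_le p.asIdeal s q hps hsq
    have hne : LocCoh.depth (Localization.AtPrime s) (LocalizedModule s.primeCompl M) ≠ ⊤ := fun h => by
      rw [h, top_add] at hdepth
      exact ENat.natCast_ne_top D (top_le_iff.1 hdepth)
    obtain ⟨σ, hσ⟩ := WithTop.ne_top_iff_exists.1 hne
    have hσ' : LocCoh.depth (Localization.AtPrime s) (LocalizedModule s.primeCompl M) = (σ : ℕ∞) := hσ.symm
    rw [hσ'] at hdepth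
    have hσD : σ + 1 ≤ D := by exact_mod_cast hdepth
    have hdisj : Disjoint (q.primeCompl : Set R) (s : Set R) :=
      Set.disjoint_left.2 fun x hx hxs => hx (hsq hxs)
    let P : Ideal A := s.map (algebraMap R A)
    have hPp : P.IsPrime := IsLocalization.isPrime_of_isPrime_disjoint q.primeCompl A s inferInstance hdisj
    have hcomap : P.comap (algebraMap R A) = s :=
      IsLocalization.comap_map_of_isPrime_disjoint q.primeCompl A inferInstance hdisj
    have hloc : LocCoh.depth (Localization.AtPrime P) (LocalizedModule P.primeCompl Mq) = (σ : ℕ∞) := by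
      rw [← hσ']
      have key : ∀ (r : Ideal R) [r.IsPrime], P.comap (algebraMap R A) = r →
          LocCoh.depth (Localization.AtPrime P) (LocalizedModule P.primeCompl Mq) =
            LocCoh.depth (Localization.AtPrime r) (LocalizedModule r.primeCompl M) := by
        intro r _ hr
        subst hr
        exact Groth.Agent.Alg6.depth_locLoc q.primeCompl M P
      exact key s hcomap
    refine core (a.map (algebraMap R A)) (b.map (algebraMap R A)) P ?_ ?_ ?_
      ((Ideal.map_mono haq).trans Localization.AtPrime.map_eq_maximalIdeal.le) σ Mq hloc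
      fun i hi => hkA (i + 1) (by omega)
    · intro Q hQ hPQ
      have hle : Q.comap (algebraMap R A) ≤ q := fun x hx => by
        by_contra hxq
        exact hQ.ne_top (Ideal.eq_top_of_isUnit_mem _ hx
          (IsLocalization.map_units A (⟨x, hxq⟩ : q.primeCompl)))
      rcases hbetween _ (hQ.comap _) (hcomap ▸ Ideal.comap_mono hPQ) hle with h | h
      · left
        rw [← IsLocalization.map_comap q.primeCompl A Q]; exact congrArg (Ideal.map (algebraMap R A)) h
      · right
        rw [← IsLocalization.map_comap q.primeCompl A Q]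
        exact (congrArg (Ideal.map (algebraMap R A)) h).trans Localization.AtPrime.map_eq_maximalIdeal
    · rw [Ideal.map_le_iff_le_comap, hcomap]; exact has
    · rw [Ideal.map_le_iff_le_comap, hcomap]; exact hbs

theorem finDimRel_le_minAdjDepth (a b : Ideal R) (M : Type u) [AddCommGroup M] [Module R M]
    [Module.Finite R M] : LocCoh.finDimRel a b M ≤ LocCoh.minAdjDepth a b M :=
  le_iInf₂ fun p hp => finDimRel_le_adjDepth a b M p hp

/-- At an associated prime `p` with `(a + p)/p` of height one, `b ⊄ p` does not kill `H¹_a`. -/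
theorem not_le_radical_of_ass (a b : Ideal R) (M : Type u) [AddCommGroup M] [Module R M]
    [Module.Finite R M] (p : Ideal R) [p.IsPrime] (hp : p ∈ associatedPrimes R M) (hb : ¬ b ≤ p)
    (hht : ((a ⊔ p).map (Ideal.Quotient.mk p)).height = 1) :
    ¬ b ≤ (Module.annihilator R (LocCoh.H a 1 M)).radical := by
  intro hrad
  have htop : a ⊔ p ≠ ⊤ := fun h => by rw [h, Ideal.map_top, Ideal.height_top] at hht; simp at hht
  have hap : ¬ a ≤ p := fun h => by
    rw [sup_eq_right.2 h, Ideal.map_quotient_self] at hht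
    simp at hht
  obtain ⟨q, hq, hqh⟩ := exists_minimalPrimes_height_eq a p htop
  have hqp : q.IsPrime := hq.1.1
  have haq : a ≤ q := le_sup_left.trans hq.1.2
  have hpq : p ≤ q := le_sup_right.trans hq.1.2
  rw [hht] at hqh
  let A := Localization.AtPrime q
  have : IsNoetherianRing A := IsLocalization.isNoetherianRing q.primeCompl A inferInstance
  let Mq := LocalizedModule q.primeCompl M
  have : Module.Finite A Mq :=
    Module.Finite.of_isLocalizedModule q.primeCompl (LocalizedModule.mkLinearMap _ M)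
  have hdisj : Disjoint (q.primeCompl : Set R) (p : Set R) :=
    Set.disjoint_left.2 fun x hx hxs => hx (hpq hxs)
  let P : Ideal A := p.map (algebraMap R A)
  have hPp : P.IsPrime := IsLocalization.isPrime_of_isPrime_disjoint q.primeCompl A p inferInstance hdisj
  have hcomap : P.comap (algebraMap R A) = p :=
    IsLocalization.comap_map_of_isPrime_disjoint q.primeCompl A inferInstance hdisj
  have hloc : LocCoh.depth (Localization.AtPrime P) (LocalizedModule P.primeCompl Mq) = ((0 : ℕ) : ℕ∞) := by
    have key : ∀ (r : Ideal R) [r.IsPrime], P.comap (algebraMap R A) = r →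
        r ∈ associatedPrimes R M →
        LocCoh.depth (Localization.AtPrime P) (LocalizedModule P.primeCompl Mq) = ((0 : ℕ) : ℕ∞) := by
      intro r _ hr hass
      subst hr
      rw [Groth.Agent.Alg6.depth_locLoc q.primeCompl M P, Nat.cast_zero]
      by_contra h0
      exact (Groth.Agent.Alg6.one_le_depth_atPrime_iff (M := M) _).1 (ENat.one_le_iff_ne_zero.2 h0) hass
    exact key p hcomap hp
  refine core (a.map (algebraMap R A)) (b.map (algebraMap R A)) P ?_ ?_ ?_
    ((Ideal.map_mono haq).trans Localization.AtPrime.map_eq_maximalIdeal.le) 0 Mq hloc ?_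
  · intro Q hQ hPQ
    have hle : Q.comap (algebraMap R A) ≤ q := fun x hx => by
      by_contra hxq
      exact hQ.ne_top (Ideal.eq_top_of_isUnit_mem _ hx
        (IsLocalization.map_units A (⟨x, hxq⟩ : q.primeCompl)))
    have := hQ.comap (algebraMap R A)
    rcases eq_or_ne (Q.comap (algebraMap R A)) p with h | h
    · left; rw [← IsLocalization.map_comap q.primeCompl A Q]; exact congrArg (Ideal.map (algebraMap R A)) h
    · right
      have hlt : p < Q.comap (algebraMap R A) :=
        lt_of_le_of_ne (hcomap ▸ Ideal.comap_mono hPQ) (Ne.symm h)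
      have heq : Q.comap (algebraMap R A) = q := by
        by_contra hne
        have h1 := le_trans (add_le_add (one_le_height_map_mk p _ hlt)
          (one_le_height_map_mk _ q (lt_of_le_of_ne hle hne))) (height_map_mk_add_le p _ q hlt.le hle)
        rw [hqh] at h1
        exact absurd h1 (by norm_num)
      rw [← IsLocalization.map_comap q.primeCompl A Q]
      exact (congrArg (Ideal.map (algebraMap R A)) heq).trans Localization.AtPrime.map_eq_maximalIdeal
  · rw [Ideal.map_le_iff_le_comap, hcomap]; exact hap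
  · rw [Ideal.map_le_iff_le_comap, hcomap]; exact hb
  · intro i hi
    obtain rfl : i = 0 := by omega
    obtain ⟨n, hn⟩ := Ideal.exists_pow_le_of_le_radical_of_fg hrad (IsNoetherian.noetherian b)
    obtain ⟨e⟩ := exists_localizedH a M q 1
    refine ⟨n, fun c hc z => ?_⟩
    obtain ⟨y, rfl⟩ := e.surjective z
    rw [← Ideal.map_pow] at hc
    exact (map_smul e c y).symm.trans
      (by rw [smul_localized_eq_zero q (b ^ n) (fun c hc z => Module.mem_annihilator.1 (hn hc) z) hc y,
        map_zero])

end Groth.Agent.LC
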