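import Groth.Agent.LC.ExtDim
import Groth.Agent.LC.AdjDepth

/-!
# Systems of parameters in Cohen–Macaulay local rings
-/

universe u

open IsLocalRing RingTheory.Sequence

namespace Groth.Agent.LC

variable {R : Type u} [CommRing R] [IsLocalRing R] [IsNoetherianRing R]

/-- `dim R/P ≤ #s` if `P + (s)` is primary to the maximal ideal. -/
theorem ringKrullDim_quotient_le_card (P : Ideal R) (s : Finset R) (hP : P ≠ ⊤)
    (h : (P ⊔ Ideal.span (s : Set R)).radical = maximalIdeal R) : ringKrullDim (R ⧸ P) ≤ (s.card : WithBot ℕ∞) := by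
  classical
  let f := Ideal.Quotient.mk P
  have hf : Function.Surjective f := Ideal.Quotient.mk_surjective
  have : Nontrivial (R ⧸ P) := Ideal.Quotient.nontrivial_iff.2 hP
  have : IsLocalRing (R ⧸ P) := IsLocalRing.of_surjective' f hf
  have hmin : maximalIdeal (R ⧸ P) ∈ (Ideal.span ((s.image f : Finset (R ⧸ P)) : Set (R ⧸ P))).minimalPrimes := by
    have hle : ∀ J : Ideal (R ⧸ P), J.IsPrime → Ideal.span ((s.image f : Finset (R ⧸ P)) : Set (R ⧸ P)) ≤ J →
        J = maximalIdeal (R ⧸ P) := by
      intro J hJ hsJ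
      refine le_antisymm (le_maximalIdeal hJ.ne_top) fun x hx => ?_
      obtain ⟨y, rfl⟩ := hf x
      have hle : (P ⊔ Ideal.span (s : Set R)) ≤ J.comap f := by
        refine sup_le (fun z hz => ?_) (Ideal.span_le.2 fun z hz => hsJ (Ideal.subset_span ?_))
        · show f z ∈ J
          rw [Ideal.Quotient.eq_zero_iff_mem.2 hz]
          exact zero_mem _
        · exact Finset.mem_image_of_mem f hz
      have hy : y ∈ maximalIdeal R := fun hu => hx (hu.map f)
      rw [← h] at hy
      exact (hJ.comap f).radical_le_iff.2 hle hy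
    refine ⟨⟨inferInstance, Ideal.span_le.2 fun x hx => ?_⟩, fun J hJ _ => (hle J hJ.1 hJ.2).ge⟩
    obtain ⟨y, hy, rfl⟩ := Finset.mem_image.1 hx
    intro hu
    have hyu : y ∈ maximalIdeal R := h ▸ Ideal.le_radical (Ideal.mem_sup_right (Ideal.subset_span hy))
    obtain ⟨z, hz⟩ := hu
    obtain ⟨w, hw⟩ := hf (↑z⁻¹ : R ⧸ P)
    have h1 : y * w - 1 ∈ maximalIdeal R := by
      refine le_maximalIdeal hP ?_
      rw [← Ideal.Quotient.eq_zero_iff_mem, map_sub, map_mul, map_one, hw, ← hz, Units.mul_inv, sub_self]
    have h2 := Ideal.sub_mem _ (Ideal.mul_mem_right w _ hyu) h1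
    rw [sub_sub_cancel] at h2
    exact (maximalIdeal.isMaximal R).ne_top ((Ideal.eq_top_iff_one _).2 h2)
  rw [← maximalIdeal_height_eq_ringKrullDim]
  have := (Ideal.height_le_card_of_mem_minimalPrimes_span_finset hmin).trans
    (Nat.cast_le.2 (Finset.card_image_le (f := f)))
  exact_mod_cast this

/-- A system of parameters of a Cohen–Macaulay local ring is a regular sequence. -/
theorem isWeaklyRegular_of_sop (hCM : LocCoh.IsCohenMacaulayModule R R) (D : ℕ) (hD : ringKrullDim R = D)
    (rs : List R) (hlen : rs.length = D) (hrad : (Ideal.ofList rs).radical = maximalIdeal R) :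
    IsWeaklyRegular R rs := by
  classical
  suffices h : ∀ k, k ≤ rs.length → IsWeaklyRegular R (rs.take k) by
    simpa using h rs.length le_rfl
  have hmem : ∀ r ∈ rs, r ∈ maximalIdeal R := fun r hr => hrad ▸ Ideal.le_radical (Ideal.subset_span hr)
  intro k
  induction k with
  | zero => intro _; rw [List.take_zero]; exact IsWeaklyRegular.nil R R
  | succ k ih =>
    intro hk
    have hpre := ih (by omega)
    rw [List.take_succ_eq_append_getElem (by omega), isWeaklyRegular_append_iff, isWeaklyRegular_singleton_iff]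
    refine ⟨hpre, ?_⟩
    let M' := R ⧸ (Ideal.ofList (rs.take k) • ⊤ : Submodule R R)
    have hmem' : ∀ r ∈ rs.take k, r ∈ maximalIdeal R := fun r hr => hmem r (List.mem_of_mem_take hr)
    have hM' := isCM_quot_ofList R hCM hpre hmem'
    have : Nontrivial M' := nontrivial_of_isCM M' hM'
    have hdim := Module.supportDim_add_length_eq_supportDim_of_isRegular (rs.take k)
      (IsRegular.of_isWeaklyRegular_of_mem_maximalIdeal R hmem' hpre)
    rw [Module.supportDim_self_eq_ringKrullDim, hD, List.length_take, min_eq_left (by omega)] at hdim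
    by_contra hreg
    have hx : rs[k] ∈ ⋃ p ∈ associatedPrimes R M', (p : Set R) := by
      rw [biUnion_associatedPrimes_eq_compl_regular]; exact hreg
    simp only [Set.mem_iUnion] at hx
    obtain ⟨p, hp, hxp⟩ := hx
    have hco := coheight_eq_of_ass_of_isCM M' hM' (p := ⟨p, hp.isPrime⟩) hp
    have hsupp : (⟨p, hp.isPrime⟩ : PrimeSpectrum R) ∈ Module.support R M' := by
      obtain ⟨_, z, hz⟩ := Groth.Agent.Alg6.mem_ass_iff.1 hp
      exact Module.mem_support_iff_exists_annihilator.2 ⟨z, fun a ha => (hz a).2 (by
        simpa [Submodule.mem_annihilator_span_singleton] using ha)⟩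
    have hple : ∀ r ∈ rs.take (k + 1), r ∈ p := by
      intro r hr
      rw [List.take_succ_eq_append_getElem (by omega), List.mem_append, List.mem_singleton] at hr
      rcases hr with hr | rfl
      · rw [Module.support_quotient] at hsupp
        exact hsupp.2 (Ideal.subset_span hr)
      · exact hxp
    have hbound : ringKrullDim (R ⧸ p) ≤ ((rs.drop (k + 1)).toFinset.card : WithBot ℕ∞) := by
      refine ringKrullDim_quotient_le_card p _ hp.isPrime.ne_top (le_antisymm ?_ ?_)
      · rw [← (maximalIdeal.isMaximal R).isPrime.isRadical.radical]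
        refine Ideal.radical_mono (sup_le (le_maximalIdeal hp.isPrime.ne_top) (Ideal.span_le.2 fun r hr => ?_))
        exact hmem r (List.mem_of_mem_drop (List.mem_toFinset.1 hr))
      · rw [← hrad]
        refine Ideal.radical_mono (Ideal.span_le.2 fun r hr => ?_)
        rcases List.mem_append.1 ((List.take_append_drop (k + 1) rs).symm ▸ hr :
          r ∈ rs.take (k + 1) ++ rs.drop (k + 1)) with h | h
        · exact Ideal.mem_sup_left (hple r h)
        · exact Ideal.mem_sup_right (Ideal.subset_span (List.mem_toFinset.2 h))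
    have hcard : (rs.drop (k + 1)).toFinset.card ≤ rs.length - (k + 1) :=
      (List.toFinset_card_le _).trans_eq List.length_drop
    have hcoh : (Order.coheight (⟨p, hp.isPrime⟩ : PrimeSpectrum R) : WithBot ℕ∞) = ringKrullDim (R ⧸ p) := by
      rw [ringKrullDim_quotient, Order.coheight_eq_krullDim_Ici]
      exact Order.krullDim_eq_of_orderIso
        { toFun := fun x => ⟨x.1, x.2⟩
          invFun := fun x => ⟨x.1, x.2⟩
          left_inv := fun _ => rfl
          right_inv := fun _ => rfl
          map_rel_iff' := Iff.rfl }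
    obtain ⟨E, hE⟩ := exists_supportDim_eq_nat (R := R) M'
    rw [hE] at hdim hco
    rw [← hcoh, hco] at hbound
    have e1 : E + k = D := by exact_mod_cast hdim
    have e2 : E ≤ (rs.drop (k + 1)).toFinset.card := by exact_mod_cast hbound
    omega

/-- The element of a system of parameters left out is regular modulo the others. -/
theorem mem_of_mul_mem_of_sop (hCM : LocCoh.IsCohenMacaulayModule R R) (D : ℕ) (hD : ringKrullDim R = D)
    (l : List R) (x : R) (hlen : l.length + 1 = D) (hrad : (Ideal.ofList l ⊔ Ideal.span {x}).radical = maximalIdeal R)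
    {z : R} (hz : x * z ∈ Ideal.ofList l) : z ∈ Ideal.ofList l := by
  have h := isWeaklyRegular_of_sop hCM D hD (l ++ [x]) (by rw [List.length_append]; exact hlen)
    (by rwa [Ideal.ofList_append, Ideal.ofList_singleton])
  rw [isWeaklyRegular_append_iff, isWeaklyRegular_singleton_iff] at h
  have he : (Ideal.ofList l • ⊤ : Submodule R R) = Ideal.ofList l := by rw [smul_eq_mul, Ideal.mul_top]
  have h1 : Submodule.Quotient.mk (p := (Ideal.ofList l • ⊤ : Submodule R R)) z = 0 := by
    refine h.2 ?_
    show x • Submodule.Quotient.mk z = x • (0 : R ⧸ (Ideal.ofList l • ⊤ : Submodule R R))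
    rw [smul_zero, ← Submodule.Quotient.mk_smul, Submodule.Quotient.mk_eq_zero, he]
    exact hz
  rw [Submodule.Quotient.mk_eq_zero, he] at h1
  exact h1

end Groth.Agent.LC
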