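import Groth.Agent.LC.GorFlat
import Groth.Agent.LC.GorLoc
import Groth.Agent.FlatLoc6.TensorField

/-!
# Gorenstein rings: flat maps, polynomial rings, monic quotients, field tensor products
-/

set_option autoImplicit false

universe u

open IsLocalRing TensorProduct

namespace Groth.Agent.LC

theorem gorensteinRing_of_atPrime {A : Type u} [CommRing A] [IsNoetherianRing A]
    (h : ∀ (p : Ideal A) [p.IsPrime], LocCoh.IsGorensteinLocalRing (Localization.AtPrime p)) :
    LocCoh.IsGorensteinRing A :=
  { isGorensteinLocalRing_localization := h }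

theorem isNoetherianRing_atPrime {A : Type u} [CommRing A] [IsNoetherianRing A] (p : Ideal A) [p.IsPrime] :
    IsNoetherianRing (Localization.AtPrime p) :=
  IsLocalization.isNoetherianRing p.primeCompl _ inferInstance

theorem gorensteinRing_of_isRegularRing (A : Type u) [CommRing A] [IsRegularRing A] :
    LocCoh.IsGorensteinRing A :=
  gorensteinRing_of_atPrime fun p _ =>
    haveI := IsRegularRing.isRegularLocalRing_localization (R := A) p
    gorenstein_of_isRegularLocalRing

theorem gorensteinRing_of_local (A : Type u) [CommRing A] [LocCoh.IsGorensteinLocalRing A] :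
    LocCoh.IsGorensteinRing A :=
  gorensteinRing_of_atPrime fun p _ => gorenstein_localized p

theorem gorensteinRing_of_isLocalization {B : Type u} [CommRing B] [LocCoh.IsGorensteinRing B]
    (M : Submonoid B) (C : Type u) [CommRing C] [Algebra B C] [IsLocalization M C] :
    LocCoh.IsGorensteinRing C := by
  haveI : IsNoetherianRing C := IsLocalization.isNoetherianRing M C inferInstance
  refine gorensteinRing_of_atPrime fun P _ => ?_
  let p := P.comap (algebraMap B C)
  haveI : IsLocalization.AtPrime (Localization.AtPrime P) p :=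
    IsLocalization.isLocalization_isLocalization_atPrime_isLocalization M (Localization.AtPrime P) P
  haveI := LocCoh.IsGorensteinRing.isGorensteinLocalRing_localization (A := B) p
  haveI : IsNoetherianRing (Localization.AtPrime P) := isNoetherianRing_atPrime P
  exact gorenstein_of_ringEquiv
    (IsLocalization.algEquiv p.primeCompl (Localization.AtPrime p) (Localization.AtPrime P)).toRingEquiv

theorem gorensteinRing_of_ringEquiv {A B : Type u} [CommRing A] [CommRing B] (e : A ≃+* B)
    (h : LocCoh.IsGorensteinRing A) : LocCoh.IsGorensteinRing B := by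
  letI : Algebra A B := e.toRingHom.toAlgebra
  haveI : IsLocalization (⊥ : Submonoid A) A := IsLocalization.self fun x hx => by
    rw [Submonoid.mem_bot.1 hx]; exact isUnit_one
  haveI : IsLocalization (⊥ : Submonoid A) B := by
    exact IsLocalization.isLocalization_of_algEquiv (⊥ : Submonoid A) (S := A)
      (AlgEquiv.ofRingEquiv (f := e) fun _ => rfl)
  exact gorensteinRing_of_isLocalization (⊥ : Submonoid A) B

/-- Local form: `B_q` is Gorenstein iff `A_p` and the local ring of the fibre are. -/
theorem atPrime_iff {A B : Type u} [CommRing A] [IsNoetherianRing A] [CommRing B] [IsNoetherianRing B]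
    [Algebra A B] [Module.Flat A B] (q : Ideal B) [q.IsPrime] :
    LocCoh.IsGorensteinLocalRing (Localization.AtPrime q) ↔
      (LocCoh.IsGorensteinLocalRing (Localization.AtPrime (q.comap (algebraMap A B))) ∧
        LocCoh.IsGorensteinLocalRing (EGA4.FibLocRing A B q)) := by
  let p := q.comap (algebraMap A B)
  letI := (Localization.localRingHom p q (algebraMap A B) rfl).toAlgebra
  haveI : IsScalarTower A (Localization.AtPrime p) (Localization.AtPrime q) :=
    IsScalarTower.of_algebraMap_eq fun a => by
      rw [RingHom.algebraMap_toAlgebra, Localization.localRingHom_to_map, ← IsScalarTower.algebraMap_apply]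
  haveI : IsLocalHom (algebraMap (Localization.AtPrime p) (Localization.AtPrime q)) :=
    Localization.isLocalHom_localRingHom p q (algebraMap A B) rfl
  haveI : IsNoetherianRing (Localization.AtPrime p) := isNoetherianRing_atPrime p
  haveI : IsNoetherianRing (Localization.AtPrime q) := isNoetherianRing_atPrime q
  haveI : Module.Flat B (Localization.AtPrime q) := IsLocalization.flat _ q.primeCompl
  haveI : Module.Flat A (Localization.AtPrime q) := Module.Flat.trans A B _
  haveI : Module.Flat (Localization.AtPrime p) (Localization.AtPrime q) :=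
    (Module.flat_iff_of_isLocalization (Localization.AtPrime p) p.primeCompl _).mpr inferInstance
  have hJ : (maximalIdeal (Localization.AtPrime p)).map
      (algebraMap (Localization.AtPrime p) (Localization.AtPrime q)) =
        p.map (algebraMap A (Localization.AtPrime q)) := by
    rw [← Localization.AtPrime.map_eq_maximalIdeal, Ideal.map_map, ← IsScalarTower.algebraMap_eq]
  let e := Ideal.quotEquivOfEq hJ
  rw [gorenstein_flat_local_iff (Localization.AtPrime p) (Localization.AtPrime q)]
  refine and_congr_right fun _ => ⟨fun h => ?_, fun h => ?_⟩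
  · haveI : IsLocalRing (EGA4.FibLocRing A B q) := e.isLocalRing
    exact gorenstein_of_ringEquiv e
  · haveI := e.symm.isLocalRing
    exact gorenstein_of_ringEquiv e.symm

theorem fibLoc_of_fiber {A B : Type u} [CommRing A] [IsNoetherianRing A] [CommRing B] [IsNoetherianRing B]
    [Algebra A B] (q : Ideal B) [q.IsPrime]
    (h : ∀ (p : Ideal A) [p.IsPrime], LocCoh.IsGorensteinRing (p.Fiber B)) :
    LocCoh.IsGorensteinLocalRing (EGA4.FibLocRing A B q) := by
  let p := q.comap (algebraMap A B)
  obtain ⟨Q, hQ⟩ := FlatLoc6.exists_fiber_prime p q rfl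
  suffices key : ∀ (q' : Ideal B) [q'.IsPrime], Q.asIdeal.comap Algebra.TensorProduct.includeRight = q' →
      LocCoh.IsGorensteinLocalRing (EGA4.FibLocRing A B q') from key q hQ
  rintro _ _ rfl
  obtain ⟨e⟩ := FlatLoc6.exists_fibLocEquiv p Q.asIdeal
  haveI := (h p).isGorensteinLocalRing_localization Q.asIdeal
  haveI : IsLocalRing (EGA4.FibLocRing A B (Q.asIdeal.comap Algebra.TensorProduct.includeRight)) :=
    e.isLocalRing
  exact gorenstein_of_ringEquiv (A := Localization.AtPrime Q.asIdeal) e

theorem fiber_of_fibLoc {A B : Type u} [CommRing A] [CommRing B] [IsNoetherianRing B]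
    [Algebra A B] (p : Ideal A) [p.IsPrime]
    (h : ∀ (q : Ideal B) [q.IsPrime], q.comap (algebraMap A B) = p →
      LocCoh.IsGorensteinLocalRing (EGA4.FibLocRing A B q)) :
    LocCoh.IsGorensteinRing (p.Fiber B) := by
  haveI : IsNoetherianRing (p.Fiber B) := FlatLoc6.isNoetherianRing_fiber p
  refine gorensteinRing_of_atPrime fun Q _ => ?_
  obtain ⟨e⟩ := FlatLoc6.exists_fibLocEquiv p Q
  haveI := h _ (FlatLoc6.comap_fiber_prime p Q)
  haveI := isNoetherianRing_atPrime Q
  exact gorenstein_of_ringEquiv e.symm

/-- Ascent along a flat map with Gorenstein fibres. -/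
theorem gorensteinRing_of_flat (A B : Type u) [CommRing A] [CommRing B] [IsNoetherianRing B] [Algebra A B]
    [Module.Flat A B] [LocCoh.IsGorensteinRing A]
    (h : ∀ (p : Ideal A) [p.IsPrime], LocCoh.IsGorensteinRing (p.Fiber B)) : LocCoh.IsGorensteinRing B :=
  gorensteinRing_of_atPrime fun q _ => (atPrime_iff q).2
    ⟨LocCoh.IsGorensteinRing.isGorensteinLocalRing_localization _, fibLoc_of_fiber q h⟩

theorem gorensteinRing_mvPolynomial (A : Type u) [CommRing A] [LocCoh.IsGorensteinRing A] (ι : Type u)
    [Finite ι] : LocCoh.IsGorensteinRing (MvPolynomial ι A) :=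
  gorensteinRing_of_flat A _ fun p _ =>
    gorensteinRing_of_ringEquiv (MvPolynomial.algebraTensorAlgEquiv (σ := ι) A p.ResidueField).toRingEquiv.symm
      (gorensteinRing_of_isRegularRing _)

theorem gorensteinRing_polynomial (A : Type u) [CommRing A] [LocCoh.IsGorensteinRing A] :
    LocCoh.IsGorensteinRing (Polynomial A) :=
  gorensteinRing_of_flat A _ fun p _ =>
    gorensteinRing_of_ringEquiv (polyEquivTensor' A p.ResidueField).toRingEquiv
      (gorensteinRing_of_isRegularRing _)

/-- The quotient of a Gorenstein ring by a nonzerodivisor is Gorenstein. -/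
theorem gorensteinRing_of_surjective {A C : Type u} [CommRing A] [LocCoh.IsGorensteinRing A] [CommRing C]
    (π : A →+* C) (hπ : Function.Surjective π) {f : A} (hf : IsSMulRegular A f)
    (hker : RingHom.ker π = Ideal.span {f}) : LocCoh.IsGorensteinRing C := by
  haveI : IsNoetherianRing C := isNoetherianRing_of_surjective A C π hπ
  refine gorensteinRing_of_atPrime fun q _ => ?_
  let Q := q.comap π
  haveI := LocCoh.IsGorensteinRing.isGorensteinLocalRing_localization (A := A) Q
  haveI := isNoetherianRing_atPrime q
  let σ := Localization.localRingHom Q q π rfl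
  have hσ : Function.Surjective σ := by
    intro z
    obtain ⟨c, ⟨t, ht⟩, rfl⟩ := IsLocalization.exists_mk'_eq q.primeCompl z
    obtain ⟨a, rfl⟩ := hπ c
    obtain ⟨s, rfl⟩ := hπ t
    exact ⟨IsLocalization.mk' _ a (⟨s, ht⟩ : Q.primeCompl), Localization.localRingHom_mk' _ _ _ _ _ _⟩
  refine gorenstein_of_surjective_span_singleton σ hσ (x := algebraMap A _ f) ?_ ?_ ?_
  · rw [IsLocalization.AtPrime.to_map_mem_maximal_iff _ Q, Ideal.mem_comap,
      (RingHom.mem_ker (f := π)).1 (hker ▸ Ideal.mem_span_singleton_self f)]
    exact q.zero_mem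
  · haveI : Module.Flat A (Localization.AtPrime Q) := IsLocalization.flat _ Q.primeCompl
    exact hf.of_flat
  · refine le_antisymm (fun z hz => ?_) ?_
    · obtain ⟨a, ⟨s, hs⟩, rfl⟩ := IsLocalization.exists_mk'_eq Q.primeCompl z
      rw [RingHom.mem_ker, Localization.localRingHom_mk', IsLocalization.mk'_eq_zero_iff] at hz
      obtain ⟨⟨u, hu⟩, hu'⟩ := hz
      obtain ⟨v, rfl⟩ := hπ u
      have hva : v * a ∈ Ideal.span {f} := hker ▸ (RingHom.mem_ker (f := π)).2 (by rw [map_mul]; exact hu')
      obtain ⟨w, hw⟩ := Ideal.mem_span_singleton'.1 hva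
      refine Ideal.mem_span_singleton'.2
        ⟨IsLocalization.mk' _ w ((⟨v, hu⟩ : Q.primeCompl) * ⟨s, hs⟩), ?_⟩
      rw [mul_comm, IsLocalization.mul_mk'_eq_mk'_of_mul, mul_comm f w, hw]
      rw [IsLocalization.mk'_eq_iff_eq]
      exact congrArg _ (show s * (v * a) = v * s * a by ring)
    · rw [Ideal.span_singleton_le_iff_mem, RingHom.mem_ker, Localization.localRingHom_to_map,
        (RingHom.mem_ker (f := π)).1 (hker ▸ Ideal.mem_span_singleton_self f), map_zero]

theorem gorensteinRing_adjoinRoot (A : Type u) [CommRing A] [LocCoh.IsGorensteinRing A] (g : Polynomial A)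
    (hg : g.Monic) : LocCoh.IsGorensteinRing (AdjoinRoot g) := by
  haveI := gorensteinRing_polynomial A
  refine gorensteinRing_of_surjective (AdjoinRoot.mk g) AdjoinRoot.mk_surjective (f := g) ?_ Ideal.mk_ker
  exact fun a b hab => hg.isRegular.left hab

section FieldTensor

variable (k R : Type u) [Field k] [CommRing R] [Algebra k R]

theorem gorensteinRing_fractionRing_tensor [LocCoh.IsGorensteinRing R] (ι : Type u) [Finite ι] :
    LocCoh.IsGorensteinRing (FractionRing (MvPolynomial ι k) ⊗[k] R) := by
  let P := MvPolynomial ι k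
  let F := FractionRing (MvPolynomial ι k)
  haveI := gorensteinRing_mvPolynomial R ι
  haveI : LocCoh.IsGorensteinRing (P ⊗[k] R) :=
    gorensteinRing_of_ringEquiv ((Algebra.TensorProduct.comm k P R).toRingEquiv.trans
      (MvPolynomial.algebraTensorAlgEquiv k R).toRingEquiv).symm inferInstance
  haveI : LocCoh.IsGorensteinRing ((P ⊗[k] R) ⊗[P] F) :=
    gorensteinRing_of_isLocalization (Algebra.algebraMapSubmonoid (P ⊗[k] R) (nonZeroDivisors P)) _
  exact gorensteinRing_of_ringEquiv (A := (P ⊗[k] R) ⊗[P] F) ((Algebra.TensorProduct.comm P (P ⊗[k] R) F).toRingEquiv.trans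
    (Algebra.TensorProduct.cancelBaseChange k P F F R).toRingEquiv) inferInstance

/-- A monogenic finite step. -/
theorem gorensteinRing_tensor_step (E : Type u) [Field E] [Algebra k E] (g : Polynomial E) (hg : g.Monic)
    (E' : Type u) [Field E'] [Algebra k E'] [Algebra E E'] [IsScalarTower k E E']
    (e : AdjoinRoot g ≃ₐ[E] E') (h : LocCoh.IsGorensteinRing (E ⊗[k] R)) :
    LocCoh.IsGorensteinRing (E' ⊗[k] R) := by
  let S := E ⊗[k] R
  haveI : LocCoh.IsGorensteinRing (S ⊗[E] E) :=
    gorensteinRing_of_ringEquiv (Algebra.TensorProduct.rid E S S).toRingEquiv.symm h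
  let q := g.map (Algebra.TensorProduct.includeRight (R := E) (A := S) (B := E)).toRingHom
  haveI := gorensteinRing_adjoinRoot (S ⊗[E] E) q (hg.map _)
  haveI : LocCoh.IsGorensteinRing (S ⊗[E] E') :=
    gorensteinRing_of_ringEquiv ((AdjoinRoot.tensorAlgEquiv (R := E) (T := S) g q rfl).symm.toRingEquiv.trans
      (Algebra.TensorProduct.congr (AlgEquiv.refl (R := E) (A₁ := S)) e).toRingEquiv) inferInstance
  exact gorensteinRing_of_ringEquiv (A := S ⊗[E] E') ((Algebra.TensorProduct.comm E S E').toRingEquiv.trans
    (Algebra.TensorProduct.cancelBaseChange k E E' E' R).toRingEquiv) inferInstance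

/-- A finitely generated field extension tensored with a Gorenstein ring is Gorenstein. -/
theorem gorensteinRing_field_tensor (L : Type u) [Field L] [Algebra k L] [Algebra.EssFiniteType k L]
    [LocCoh.IsGorensteinRing R] : LocCoh.IsGorensteinRing (L ⊗[k] R) := by
  obtain ⟨s, hs⟩ := exists_isTranscendenceBasis k L
  haveI : Finite s := by
    refine Cardinal.lt_aleph0_iff_finite.mp ?_
    rw [hs.cardinalMk_eq_trdeg]
    exact finTrdeg_iff_trdeg.mp inferInstance
  let F₀ := IntermediateField.adjoin k (Set.range ((↑) : s → L))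
  haveI : Algebra.IsAlgebraic F₀ L := hs.isAlgebraic_field
  haveI : Algebra.EssFiniteType F₀ L := Algebra.EssFiniteType.of_comp k F₀ L
  haveI : Module.Finite F₀ L := Algebra.finite_of_essFiniteType_of_isAlgebraic (F := F₀) (E := L)
  haveI := gorensteinRing_fractionRing_tensor k R s
  haveI hF : LocCoh.IsGorensteinRing (F₀ ⊗[k] R) :=
    gorensteinRing_of_ringEquiv
      (Algebra.TensorProduct.congr hs.1.aevalEquivField (AlgEquiv.refl (R := k) (A₁ := R))).toRingEquiv
      inferInstance
  suffices h : ∀ K : IntermediateField F₀ L, LocCoh.IsGorensteinRing (K ⊗[k] R) from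
    gorensteinRing_of_ringEquiv (Algebra.TensorProduct.congr
      ((IntermediateField.topEquiv (F := F₀) (E := L)).restrictScalars k)
      (AlgEquiv.refl (R := k) (A₁ := R))).toRingEquiv (h ⊤)
  intro K
  induction K using IntermediateField.induction_on_adjoin with
  | base =>
    exact gorensteinRing_of_ringEquiv (Algebra.TensorProduct.congr
      ((IntermediateField.botEquiv F₀ L).restrictScalars k).symm
      (AlgEquiv.refl (R := k) (A₁ := R))).toRingEquiv hF
  | ih K x hK =>
    have hx : IsIntegral K x := Algebra.IsIntegral.isIntegral x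
    haveI : IsScalarTower k K L := IsScalarTower.of_algebraMap_eq fun _ => rfl
    change LocCoh.IsGorensteinRing (↥(IntermediateField.adjoin K ({x} : Set L)) ⊗[k] R)
    exact gorensteinRing_tensor_step k R K (minpoly K x) (minpoly.monic hx) _
      (IntermediateField.adjoinRootEquivAdjoin K hx) hK

end FieldTensor

end Groth.Agent.LC
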