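import Groth.Agent.LC.GorHull
import Groth.Agent.LC.Matlis
import Groth.Agent.LC.DepthLoc

/-!
# Gorenstein local rings: criteria and local duality
-/

universe u

open CategoryTheory Limits IsLocalRing Opposite

namespace Groth.Agent.LC

variable {R : Type u} [CommRing R]

theorem gorenstein_of_isRegularLocalRing [IsRegularLocalRing R] : LocCoh.IsGorensteinLocalRing R := by
  obtain ⟨rs, hreg, hrs⟩ := Groth.Agent.RegLoc6.exists_regularSequence_maximalIdeal R
  have h : ∀ j, rs.length < j →
      Subsingleton (Abelian.Ext (ModuleCat.of R (R ⧸ maximalIdeal R)) (ModuleCat.of R R) j) := fun j hj =>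
    ext_vanish_of_linearEquiv
      (Submodule.quotEquivOfEq _ _ (by rw [smul_eq_mul, Ideal.mul_top, hrs])) (ModuleCat.of R R) j
      (ext_quot_ofList_vanish (ModuleCat.of R R) rs R 0 hreg.toIsWeaklyRegular
        (fun l hl => subsingleton_ext_self _ hl) j (by omega))
  exact { exists_hasInjectiveDimensionLT := ⟨_, hasInjectiveDimensionLE_of_residue R rs.length h⟩ }

variable [IsNoetherianRing R]

theorem gorenstein_iff_ext_residue [IsLocalRing R] :
    LocCoh.IsGorensteinLocalRing R ↔ ∃ N : ℕ, ∀ i : ℕ, N ≤ i →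
      Subsingleton (Abelian.Ext (ModuleCat.of R (R ⧸ maximalIdeal R)) (ModuleCat.of R R) i) := by
  constructor
  · intro h
    obtain ⟨n, hn⟩ := h.exists_hasInjectiveDimensionLT
    exact ⟨n, fun i hi => subsingleton_of_forall_eq 0 fun e => e.eq_zero_of_hasInjectiveDimensionLT n hi⟩
  · rintro ⟨N, hN⟩
    exact { exists_hasInjectiveDimensionLT :=
      ⟨_, hasInjectiveDimensionLE_of_residue R N fun j hj => hN j hj.le⟩ }

/-- If `H^i_I(X) = 0` for `i ≠ d` and `H^d_I(X)` is injective, `Ext^j(T, X) = 0` for torsion `T`, `j > d`. -/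
theorem ext_vanish_of_H_injective (I : Ideal R) (d : ℕ) :
    ∀ (X : Type u) [AddCommGroup X] [Module R X],
      (∀ i, i ≠ d → Subsingleton ((localCohomology I i).obj (ModuleCat.of R X))) →
      Module.Injective R ((localCohomology I d).obj (ModuleCat.of R X)) →
      ∀ (T : ModuleCat.{u} R), LocCoh.IsPowerTorsion I T → ∀ j, d < j →
        Subsingleton (Abelian.Ext T (ModuleCat.of R X) j) := by
  induction d with
  | zero =>
    intro X _ _ hv hinj T hT j hj
    let Γ := DRing.torsionSub I X
    have hΓ : Module.Injective R Γ := injective_of_linearEquiv (H0Equiv I (ModuleCat.of R X))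
    let S : ShortComplex (ModuleCat.{u} R) := ShortComplex.mk (X₁ := ModuleCat.of R Γ)
      (X₂ := ModuleCat.of R X) (X₃ := ModuleCat.of R (X ⧸ Γ)) (ModuleCat.ofHom Γ.subtype)
      (ModuleCat.ofHom Γ.mkQ)
      (ModuleCat.hom_ext (LinearMap.ext fun z => (Submodule.Quotient.mk_eq_zero _).2 z.2))
    have hS : S.ShortExact :=
      { exact := (ShortComplex.ShortExact.moduleCat_exact_iff_function_exact _).2
          (LinearMap.exact_subtype_mkQ Γ)
        mono_f := (ModuleCat.mono_iff_injective _).2 Subtype.val_injective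
        epi_g := (ModuleCat.epi_iff_surjective _).2 (Submodule.mkQ_surjective _) }
    have hH : ∀ i, Subsingleton ((localCohomology I i).obj (ModuleCat.of R (X ⧸ Γ))) := by
      rintro (_ | i)
      · exact (subsingleton_H0_iff I _).2 (torsionSub_quot_eq_bot I X)
      · have := hv (i + 1) (Nat.succ_ne_zero i)
        exact (LinearEquiv.ofBijective _ (map_mkQ_bijective I X i)).symm.toEquiv.subsingleton
    have h3 := ext_subsingleton_of_H I (j + 1) (ModuleCat.of R (X ⧸ Γ)) (fun i _ => hH i) T hT j
      (Nat.lt_succ_self j)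
    have : CategoryTheory.Injective S.X₁ := Module.injective_object_of_injective_module R Γ
    refine subsingleton_of_forall_eq 0 fun e => ?_
    obtain ⟨y, rfl⟩ := Abelian.Ext.covariant_sequence_exact₂ T hS e (@Subsingleton.elim _ h3 _ _)
    obtain ⟨j, rfl⟩ : ∃ k, j = k + 1 := ⟨j - 1, by omega⟩
    rw [Abelian.Ext.eq_zero_of_injective y, Abelian.Ext.zero_comp]
  | succ d ih =>
    intro X _ _ hv hinj T hT j hj
    obtain ⟨E, _, _, f, hf⟩ := exists_injectiveHull R X
    have hEi : Module.Injective R E := hf.isInjective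
    have hΓX : DRing.torsionSub I X = ⊥ :=
      (subsingleton_H0_iff I (ModuleCat.of R X)).1 (hv 0 (Nat.succ_ne_zero d).symm)
    have hΓE : Subsingleton ((localCohomology I 0).obj (ModuleCat.of R E)) :=
      (subsingleton_H0_iff I (ModuleCat.of R E)).2 (torsion_eq_bot_of_essential I hf.toIsEssentialInj hΓX)
    let S : ShortComplex (ModuleCat.{u} R) := ShortComplex.mk (X₁ := ModuleCat.of R X)
      (X₂ := ModuleCat.of R E) (X₃ := ModuleCat.of R (E ⧸ LinearMap.range f)) (ModuleCat.ofHom f)
      (ModuleCat.ofHom (LinearMap.range f).mkQ)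
      (ModuleCat.hom_ext (LinearMap.ext fun z => (Submodule.Quotient.mk_eq_zero _).2 ⟨z, rfl⟩))
    have hS : S.ShortExact :=
      { exact := (ShortComplex.ShortExact.moduleCat_exact_iff_function_exact _).2
          (LinearMap.exact_map_mkQ_range f)
        mono_f := (ModuleCat.mono_iff_injective _).2 hf.injective
        epi_g := (ModuleCat.epi_iff_surjective _).2 (Submodule.mkQ_surjective _) }
    have : CategoryTheory.Injective S.X₂ := Module.injective_object_of_injective_module R E
    have hE : ∀ i, Subsingleton ((localCohomology I i).obj S.X₂) := by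
      rintro (_ | i)
      · exact hΓE
      · exact subsingleton_of_injective I S.X₂ i
    have hδ : ∀ i, Function.Bijective (δH I i hS (i + 1) rfl) := fun i => by
      refine ⟨(injective_iff_map_eq_zero _).2 fun u hu => ?_,
        fun v => (exact₁ I i hS (i + 1) rfl v).1 (@Subsingleton.elim _ (hE (i + 1)) _ _)⟩
      obtain ⟨w, hw⟩ := (exact₃ I i hS (i + 1) rfl u).1 hu
      rw [← hw, @Subsingleton.elim _ (hE i) w 0, map_zero]
    let e := fun i => LinearEquiv.ofBijective _ (hδ i)
    have hC : Subsingleton (Abelian.Ext T S.X₃ (j - 1)) := by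
      refine ih (E ⧸ LinearMap.range f) (fun i hi => ?_) ?_ T hT (j - 1) (by omega)
      · have := hv (i + 1) (by omega)
        exact (e i).toEquiv.subsingleton
      · exact injective_of_linearEquiv (e d).symm
    refine subsingleton_of_forall_eq 0 fun x => ?_
    obtain ⟨j, rfl⟩ : ∃ k, j = k + 1 := ⟨j - 1, by omega⟩
    obtain ⟨y, rfl⟩ := Abelian.Ext.covariant_sequence_exact₁ T hS x (n₀ := j)
      (Abelian.Ext.eq_zero_of_injective _) rfl
    rw [show y = 0 from @Subsingleton.elim _ hC _ _, Abelian.Ext.zero_comp]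

variable [IsLocalRing R]

theorem gorenstein_iff_H :
    LocCoh.IsGorensteinLocalRing R ↔ ∃ d : ℕ,
      (∀ i : ℕ, i ≠ d → Subsingleton ((localCohomology (maximalIdeal R) i).obj (ModuleCat.of R R))) ∧
      Module.Injective R ((localCohomology (maximalIdeal R) d).obj (ModuleCat.of R R)) := by
  constructor
  · intro h
    obtain ⟨d, hd, hδ, -⟩ := gorenstein_basic (R := R)
    refine ⟨d, fun i hi => ?_, injective_H_gorenstein hd hδ⟩
    rcases Nat.lt_or_gt_of_ne hi with h' | h'
    · exact subsingleton_H_low_of_depth hδ.ge i h'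
    · obtain ⟨k, rfl⟩ : ∃ k, i = k + 1 := ⟨i - 1, by omega⟩
      exact subsingleton_H_succ_of_ringKrullDim _
        (hd.le.trans (by exact_mod_cast Nat.lt_succ_iff.1 h')) _
  · rintro ⟨d, hv, hinj⟩
    refine gorenstein_iff_ext_residue.2 ⟨d + 1, fun i hi => ?_⟩
    refine ext_vanish_of_H_injective (maximalIdeal R) d R hv hinj _ (fun z => ⟨1, fun a ha => ?_⟩) i hi
    obtain ⟨z, rfl⟩ := Ideal.Quotient.mk_surjective z
    exact Ideal.Quotient.eq_zero_iff_mem.2 (Ideal.mul_mem_right z _ (by simpa using ha))

/-- Local duality over a Gorenstein local ring. -/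
theorem exists_localDuality_gorenstein [LocCoh.IsGorensteinLocalRing R] (d : ℕ) (hd : ringKrullDim R = d)
    (E : Type u) [AddCommGroup E] [Module R E] {f : ResidueField R →ₗ[R] E} (hf : InjHull.IsInjectiveHull f)
    (M : Type u) [AddCommGroup M] [Module R M] [Module.Finite R M] (i j : ℕ) (hij : j + i = d) :
    Nonempty ((localCohomology (maximalIdeal R) j).obj (ModuleCat.of R M) ≃ₗ[R]
      (Abelian.Ext (ModuleCat.of R M) (ModuleCat.of R R) i →ₗ[R] E)) := by
  obtain ⟨d', hd', hδ, -⟩ := gorenstein_basic (R := R)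
  obtain rfl : d = d' := by rw [hd] at hd'; exact_mod_cast hd'
  have : Module.Injective R E := hf.isInjective
  obtain ⟨g, hg⟩ := isInjectiveHull_H_gorenstein (R := R) hd
  obtain ⟨e, -⟩ := hull_unique hf hg
  exact exists_localDuality (maximalIdeal R) d R E ((LinearMap.ringLmapEquivSelf R R E).trans e)
    (subsingleton_H_low_of_depth hδ.ge) (fun N _ => subsingleton_H_succ_of_ringKrullDim _ hd.le N) i M j hij

omit [IsNoetherianRing R] in
theorem subsingleton_iff_dual {E : Type u} [AddCommGroup E] [Module R E] {f : ResidueField R →ₗ[R] E}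
    (hf : InjHull.IsInjectiveHull f) (X : Type u) [AddCommGroup X] [Module R X] :
    Subsingleton (X →ₗ[R] E) ↔ Subsingleton X :=
  ⟨fun _ => (applyₗ_injective hf X).subsingleton, fun _ => inferInstance⟩

theorem depth_pos_iff_ext_subsingleton [LocCoh.IsGorensteinLocalRing R] (n : ℕ) (hn : ringKrullDim R = n)
    (M : Type u) [AddCommGroup M] [Module R M] [Module.Finite R M] :
    0 < LocCoh.depth R M ↔ Subsingleton (Abelian.Ext (ModuleCat.of R M) (ModuleCat.of R R) n) := by
  obtain ⟨E, _, _, f, hf⟩ := exists_injectiveHull R (ResidueField R)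
  obtain ⟨e⟩ := exists_localDuality_gorenstein n hn E hf M n 0 (by omega)
  rw [← subsingleton_iff_dual hf (Abelian.Ext (ModuleCat.of R M) (ModuleCat.of R R) n),
    ← e.toEquiv.subsingleton_congr]
  have h := le_idealDepth_iff_H (maximalIdeal R) M 1
  rw [Nat.cast_one] at h
  rw [← Order.one_le_iff_pos]
  exact h.trans ⟨fun h => h 0 zero_lt_one, fun h i hi => by obtain rfl : i = 0 := (by omega); exact h⟩

end Groth.Agent.LC
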