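import Groth.Agent.LC.GorQuot
import Groth.Agent.LC.Matlis
import Groth.Agent.FlatLoc6.Regular
import Groth.Agent.Alg6.AssDepth

/-!
# Gorenstein property along flat local homomorphisms
-/

set_option autoImplicit false

universe u

open CategoryTheory IsLocalRing TensorProduct

namespace Groth.Agent.LC

section Basics

variable {A : Type u} [CommRing A] [IsLocalRing A] [IsNoetherianRing A]

theorem gorenstein_of_ringEquiv [LocCoh.IsGorensteinLocalRing A] {B : Type u} [CommRing B]
    [IsLocalRing B] [IsNoetherianRing B] (e : A ≃+* B) : LocCoh.IsGorensteinLocalRing B := by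
  letI : Algebra A B := e.toRingHom.toAlgebra
  have hσ : Function.Surjective (algebraMap A B) := e.surjective
  have hb : Function.Bijective (Algebra.linearMap A B) := e.bijective
  obtain ⟨N, hv, hinj⟩ := gorenstein_iff_H.1 (inferInstance : LocCoh.IsGorensteinLocalRing A)
  have hφ : ∀ i, ∃ φ : (localCohomology (maximalIdeal B) i).obj (ModuleCat.of B B) ≃+
      (localCohomology (maximalIdeal A) i).obj (ModuleCat.of A A),
      ∀ a t, φ (algebraMap A B a • t) = a • φ t := by
    intro i
    have h := exists_indep (R := A) (R' := B) (maximalIdeal A) i B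
    rw [map_maximalIdeal_of_surjective (algebraMap A B) hσ] at h
    obtain ⟨φ, hφ⟩ := h
    let le : A ≃ₗ[A] B := LinearEquiv.ofBijective (Algebra.linearMap A B) hb
    let e' := ((localCohomology (maximalIdeal A) i).mapIso le.toModuleIso).toLinearEquiv
    exact ⟨φ.trans e'.symm.toAddEquiv, fun a t => (congrArg e'.symm (hφ a t)).trans (map_smul e'.symm a _)⟩
  refine gorenstein_iff_H.2 ⟨N, fun i hi => ?_, ?_⟩
  · obtain ⟨φ, -⟩ := hφ i
    exact @Function.Injective.subsingleton _ _ φ φ.injective (hv i hi)
  · obtain ⟨φ, hφ'⟩ := hφ N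
    have hker : RingHom.ker (algebraMap A B) = Ideal.span {0} := by
      rw [Ideal.span_singleton_eq_bot.2 rfl, (RingHom.injective_iff_ker_eq_bot (algebraMap A B)).1 e.injective]
    exact injective_of_semilinear (algebraMap A B) hσ (x := 0) hker φ.toAddMonoidHom hφ' φ.injective
      fun w _ => ⟨φ.symm w, φ.apply_symm_apply w⟩

theorem gorenstein_iff_of_surjective {B : Type u} [CommRing B] [IsLocalRing B] [IsNoetherianRing B]
    (σ : A →+* B) (hσ : Function.Surjective σ) {x : A} (hx : x ∈ maximalIdeal A)
    (hreg : IsSMulRegular A x) (hker : RingHom.ker σ = Ideal.span {x}) :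
    LocCoh.IsGorensteinLocalRing A ↔ LocCoh.IsGorensteinLocalRing B := by
  constructor
  · intro h
    exact gorenstein_of_surjective_span_singleton σ hσ hx hreg hker
  · intro h
    let e : A ⧸ Ideal.span {x} ≃+* B :=
      (Ideal.quotEquivOfEq hker.symm).trans (RingHom.quotientKerEquivOfSurjective hσ)
    haveI : IsLocalRing (A ⧸ Ideal.span {x}) := e.symm.isLocalRing
    haveI : LocCoh.IsGorensteinLocalRing (A ⧸ Ideal.span {x}) := gorenstein_of_ringEquiv e.symm
    exact gorenstein_of_quotient hx hreg

variable (A) in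
theorem exists_regular_or_socle :
    (∃ x ∈ maximalIdeal A, IsSMulRegular A x) ∨
      ∃ s : A, s ≠ 0 ∧ ∀ r ∈ maximalIdeal A, r * s = 0 := by
  by_cases h : maximalIdeal A ∈ associatedPrimes A A
  · right
    obtain ⟨hp, s, hs⟩ := Alg6.mem_ass_iff.mp h
    refine ⟨s, fun h0 => ?_, fun r hr => (hs r).mp hr⟩
    exact hp.ne_top ((Ideal.eq_top_iff_one _).2 ((hs 1).mpr (by rw [h0, smul_zero])))
  · left
    refine (Alg6.exists_isSMulRegular_mem_iff (M := A) (maximalIdeal A)).mpr fun p hp hle => h ?_
    rwa [(maximalIdeal.isMaximal A).eq_of_le (IsAssociatedPrime.isPrime hp).ne_top hle]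

theorem depth_eq_zero_of_socle {s : A} (hs : s ≠ 0) (hms : ∀ r ∈ maximalIdeal A, r * s = 0) :
    LocCoh.depth A A = 0 := by
  by_contra h
  obtain ⟨x, hx, hreg⟩ := (Alg6.exists_isSMulRegular_mem_iff (M := A) (maximalIdeal A)).mpr
    (fun p hp hle => Alg6.one_le_depth_iff.mp (Order.one_le_iff_ne_zero.mpr h) (by
      rwa [(maximalIdeal.isMaximal A).eq_of_le (IsAssociatedPrime.isPrime hp).ne_top hle]))
  exact hs (hreg (show x • s = x • (0 : A) by rw [smul_zero, smul_eq_mul, hms x hx]))

/-- A Gorenstein local ring of depth zero has nilpotent maximal ideal and simple socle. -/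
theorem socle_of_gorenstein [LocCoh.IsGorensteinLocalRing A] {s : A} (hs : s ≠ 0)
    (hms : ∀ r ∈ maximalIdeal A, r * s = 0) :
    IsNilpotent (maximalIdeal A) ∧ ∀ t : A, (∀ r ∈ maximalIdeal A, r * t = 0) → ∃ c, t = c * s := by
  obtain ⟨d, hd, hδ, hv⟩ := gorenstein_basic (R := A)
  rw [depth_eq_zero_of_socle hs hms] at hδ
  obtain rfl : d = 0 := by exact_mod_cast hδ.symm
  haveI : Ring.KrullDimLE 0 A := Ring.krullDimLE_iff.2 hd.le
  refine ⟨?_, fun t ht => ?_⟩
  · exact (isArtinianRing_iff_isNilpotent_maximalIdeal A).1 (isArtinianRing_iff_krullDimLE_zero.2 inferInstance)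
  haveI : Module.Injective A A :=
    (Groth.Agent.CAlgGlobalDim.baer_of_ext_one (ModuleCat.of A A)
      fun I => hv (A ⧸ I) 1 Nat.one_pos).injective
  have hker : ∀ u : A, (∀ r ∈ maximalIdeal A, r * u = 0) →
      maximalIdeal A ≤ LinearMap.ker (LinearMap.toSpanSingleton A A u) := fun u hu r hr => hu r hr
  let fs : A ⧸ maximalIdeal A →ₗ[A] A := Submodule.liftQ _ (LinearMap.toSpanSingleton A A s) (hker s hms)
  have hfs : Function.Injective fs := by
    rw [injective_iff_map_eq_zero]
    intro c hc
    obtain ⟨c, rfl⟩ := Submodule.Quotient.mk_surjective _ c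
    rw [Submodule.Quotient.mk_eq_zero]
    by_contra hcu
    have hu : IsUnit c := notMem_maximalIdeal.1 hcu
    exact hs (hu.mul_right_eq_zero.1 (show c * s = 0 from hc))
  obtain ⟨h, hh⟩ := exists_extension fs hfs
    (Submodule.liftQ _ (LinearMap.toSpanSingleton A A t) (hker t ht))
  refine ⟨h 1, ?_⟩
  have h1 : h (1 * s) = 1 * t := LinearMap.congr_fun hh (Submodule.Quotient.mk 1)
  rw [one_mul, one_mul] at h1
  rw [← h1, mul_comm, ← smul_eq_mul, ← map_smul, smul_eq_mul, mul_one]

/-- A local ring with nilpotent maximal ideal and simple socle is Gorenstein. -/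
theorem gorenstein_of_socle {s : A} (hnil : IsNilpotent (maximalIdeal A)) (hs : s ≠ 0)
    (hms : ∀ r ∈ maximalIdeal A, r * s = 0)
    (hsoc : ∀ t : A, (∀ r ∈ maximalIdeal A, r * t = 0) → ∃ c, t = c * s) :
    LocCoh.IsGorensteinLocalRing A := by
  obtain ⟨N, hN⟩ := hnil
  obtain ⟨E, _, _, f, hf⟩ := exists_injectiveHull A (ResidueField A)
  haveI := hf.isInjective
  let fs : ResidueField A →ₗ[A] A :=
    Submodule.liftQ (maximalIdeal A) (LinearMap.toSpanSingleton A A s) fun r hr => hms r hr
  have hfs : Function.Injective fs := by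
    rw [injective_iff_map_eq_zero]
    intro c hc
    obtain ⟨c, rfl⟩ := residue_surjective c
    rw [residue_eq_zero_iff]
    by_contra hcu
    exact hs ((notMem_maximalIdeal.1 hcu).mul_right_eq_zero.1 (show c * s = 0 from hc))
  obtain ⟨ψ, hψ⟩ := exists_extension fs hfs f
  have hψs : ψ s ≠ 0 := by
    have : ψ (fs 1) = f 1 := LinearMap.congr_fun hψ 1
    rw [show fs 1 = (1 : A) * s from rfl, one_mul] at this
    rw [this]
    exact hull_f_one_ne_zero hf
  have hψi : Function.Injective ψ := by
    rw [injective_iff_map_eq_zero]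
    by_contra hne
    push Not at hne
    obtain ⟨z, hz, hz0⟩ := hne
    classical
    have hex : ∃ n, ∀ r ∈ maximalIdeal A ^ n, r * z = 0 := ⟨N, fun r hr => by
      rw [hN] at hr; rw [show r = 0 from hr, zero_mul]⟩
    have hn0 : Nat.find hex ≠ 0 := fun h0 => hz0 (by
      have := Nat.find_spec hex
      rw [h0] at this
      simpa using this 1 (by simp))
    obtain ⟨k, hk⟩ := Nat.exists_eq_succ_of_ne_zero hn0
    have hspec := Nat.find_spec hex
    rw [hk] at hspec
    have hmin := Nat.find_min hex (show k < Nat.find hex by omega)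
    push Not at hmin
    obtain ⟨r, hr, hrz⟩ := hmin
    obtain ⟨c, hc⟩ := hsoc (r * z) fun a ha => by
      rw [← mul_assoc]
      exact hspec _ (by rw [Nat.succ_eq_add_one, pow_succ']; exact Ideal.mul_mem_mul ha hr)
    have hψ0 : c • ψ s = 0 := by
      rw [← map_smul, smul_eq_mul, ← hc, ← smul_eq_mul, map_smul, hz, smul_zero]
    have hcu : IsUnit c := by
      by_contra hcu
      exact hrz (hc.trans (hms c ((mem_maximalIdeal c).2 hcu)))
    exact hψs (hcu.smul_eq_zero.1 hψ0)
  haveI : IsArtinianRing A := (isArtinianRing_iff_isNilpotent_maximalIdeal A).2 ⟨N, hN⟩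
  have hfin : IsFiniteLength A A :=
    isFiniteLength_iff_isNoetherian_isArtinian.2 ⟨inferInstance, inferInstance⟩
  have hlen : Module.length A E = Module.length A A :=
    ((LinearMap.ringLmapEquivSelf A A E).length_eq.symm).trans (length_dual hf A hfin)
  obtain ⟨hnoe, hart⟩ := isFiniteLength_iff_isNoetherian_isArtinian.1
    (Module.length_ne_top_iff.1 (hlen ▸ Module.length_ne_top_iff.2 hfin : Module.length A E ≠ ⊤))
  have hψs' : Function.Surjective ψ := by
    rw [← LinearMap.range_eq_top]
    by_contra hne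
    have h1 := Submodule.length_lt hne
    rw [← (LinearEquiv.ofInjective ψ hψi).length_eq, hlen] at h1
    exact lt_irrefl _ h1
  have hinj : Module.Injective A A :=
    injective_of_linearEquiv (LinearEquiv.ofBijective ψ ⟨hψi, hψs'⟩).symm
  haveI : Injective (ModuleCat.of A A) :=
    (Module.injective_iff_injective_object A A).1 hinj
  exact { exists_hasInjectiveDimensionLT := ⟨1, inferInstance⟩ }

end Basics

section Flat

variable {A B : Type u} [CommRing A] [IsLocalRing A] [CommRing B] [Algebra A B] [Module.Flat A B]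

/-- If `z ≠ 0` is killed by `m` then `b ⊗ z = 0` forces `b ∈ mB`. -/
theorem mem_map_of_tmul_eq_zero {M : Type u} [AddCommGroup M] [Module A M] {z : M} (hz : z ≠ 0)
    (hmz : ∀ r ∈ maximalIdeal A, r • z = 0) {b : B} (h : b ⊗ₜ[A] z = 0) :
    b ∈ (maximalIdeal A).map (algebraMap A B) := by
  let ι : A ⧸ maximalIdeal A →ₗ[A] M :=
    Submodule.liftQ _ (LinearMap.toSpanSingleton A M z) fun r hr => hmz r hr
  have hι : Function.Injective ι := by
    rw [injective_iff_map_eq_zero]
    intro c hc
    obtain ⟨c, rfl⟩ := Submodule.Quotient.mk_surjective _ c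
    rw [Submodule.Quotient.mk_eq_zero]
    by_contra hcu
    exact hz ((notMem_maximalIdeal.1 hcu).smul_eq_zero.1 hc)
  have h1 : b ⊗ₜ[A] (Submodule.Quotient.mk 1 : A ⧸ maximalIdeal A) = 0 := by
    refine (Module.Flat.lTensor_preserves_injective_linearMap (M := B) ι hι) ?_
    rw [map_zero, LinearMap.lTensor_tmul]
    rw [show ι (Submodule.Quotient.mk 1) = (1 : A) • z from rfl, one_smul]
    exact h
  have h2 := congrArg (TensorProduct.tensorQuotEquivQuotSMul B (maximalIdeal A)) h1
  rw [map_zero] at h2
  rw [show (Submodule.Quotient.mk 1 : A ⧸ maximalIdeal A) = Ideal.Quotient.mk (maximalIdeal A) 1 from rfl,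
    TensorProduct.tensorQuotEquivQuotSMul_tmul_mk, one_smul, Submodule.Quotient.mk_eq_zero] at h2
  rwa [Ideal.smul_top_eq_map, Submodule.restrictScalars_mem] at h2

theorem mem_map_of_smul_eq_zero {s : A} (hs : s ≠ 0) (hms : ∀ r ∈ maximalIdeal A, r * s = 0) {b : B}
    (h : s • b = 0) : b ∈ (maximalIdeal A).map (algebraMap A B) :=
  mem_map_of_tmul_eq_zero hs hms ((TensorProduct.rid A B).injective (by simpa using h))

variable [IsNoetherianRing A] [IsLocalRing B] [IsNoetherianRing B] [IsLocalHom (algebraMap A B)]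

omit [IsNoetherianRing A] [IsNoetherianRing B] [Module.Flat A B] in
theorem mem_maximalIdeal_of_mem_map {b : B} (hb : b ∈ (maximalIdeal A).map (algebraMap A B)) :
    b ∈ maximalIdeal B := IsLocalRing.map_maximalIdeal_le (algebraMap A B) hb

/-- Both depths zero: socle comparison. -/
theorem gorenstein_flat_socle_case {s : A} (hs : s ≠ 0) (hms : ∀ r ∈ maximalIdeal A, r * s = 0)
    {f : B} (hf : f ∉ (maximalIdeal A).map (algebraMap A B))
    (hmf : ∀ b ∈ maximalIdeal B, b * f ∈ (maximalIdeal A).map (algebraMap A B))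
    [IsLocalRing (B ⧸ (maximalIdeal A).map (algebraMap A B))] :
    LocCoh.IsGorensteinLocalRing B ↔ (LocCoh.IsGorensteinLocalRing A ∧
      LocCoh.IsGorensteinLocalRing (B ⧸ (maximalIdeal A).map (algebraMap A B))) := by
  set J := (maximalIdeal A).map (algebraMap A B) with hJ
  have hsJ : ∀ b ∈ J, s • b = 0 := by
    intro b hb
    induction hb using Submodule.span_induction with
    | mem x hx =>
      obtain ⟨r, hr, rfl⟩ := hx
      rw [Algebra.smul_def, ← map_mul, mul_comm, hms r hr, map_zero]
    | zero => exact smul_zero _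
    | add x y _ _ hx hy => rw [smul_add, hx, hy, add_zero]
    | smul c x _ hx => rw [smul_comm, hx, smul_zero]
  let w : B := s • f
  have hw : w ≠ 0 := fun h => hf (mem_map_of_smul_eq_zero hs hms h)
  have hmw : ∀ b ∈ maximalIdeal B, b * w = 0 := fun b hb => by
    rw [show b * w = s • (b * f) from mul_smul_comm s b f, hsJ _ (hmf b hb)]
  have hm : ∀ b : B, Ideal.Quotient.mk J b ∈ maximalIdeal (B ⧸ J) ↔ b ∈ maximalIdeal B := by
    intro b
    simp only [mem_maximalIdeal, mem_nonunits_iff]
    haveI := IsLocalHom.of_surjective (Ideal.Quotient.mk J) Ideal.Quotient.mk_surjective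
    exact ⟨fun h hu => h (hu.map _), fun h hu => h (isUnit_of_map_unit _ _ hu)⟩
  have hf0 : Ideal.Quotient.mk J f ≠ 0 := fun h => hf (Ideal.Quotient.eq_zero_iff_mem.1 h)
  have hmf' : ∀ r ∈ maximalIdeal (B ⧸ J), r * Ideal.Quotient.mk J f = 0 := by
    intro r hr
    obtain ⟨b, rfl⟩ := Ideal.Quotient.mk_surjective r
    rw [← map_mul, Ideal.Quotient.eq_zero_iff_mem]
    exact hmf b ((hm b).1 hr)
  constructor
  · intro hB
    obtain ⟨⟨N, hN⟩, hsoc⟩ := socle_of_gorenstein hw hmw
    haveI : Module.FaithfullyFlat A B := Module.FaithfullyFlat.of_flat_of_isLocalHom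
    have hinj : Function.Injective (algebraMap A B) := FaithfulSMul.algebraMap_injective A B
    refine ⟨gorenstein_of_socle ⟨N, ?_⟩ hs hms fun t ht => ?_,
      gorenstein_of_socle ⟨N, ?_⟩ hf0 hmf' fun t ht => ?_⟩
    · rw [Submodule.zero_eq_bot, eq_bot_iff]
      intro r hr
      have : algebraMap A B r ∈ maximalIdeal B ^ N :=
        Ideal.pow_right_mono (IsLocalRing.map_maximalIdeal_le (algebraMap A B)) N
          (by rw [← Ideal.map_pow]; exact Ideal.mem_map_of_mem _ hr)
      rw [hN] at this
      exact hinj (show algebraMap A B r = algebraMap A B 0 from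
        (show algebraMap A B r = 0 from this).trans (map_zero _).symm)
    · -- socle of A
      have htJ : ∀ b ∈ J, t • b = 0 := by
        intro b hb
        induction hb using Submodule.span_induction with
        | mem x hx =>
          obtain ⟨r, hr, rfl⟩ := hx
          rw [Algebra.smul_def, ← map_mul, mul_comm, ht r hr, map_zero]
        | zero => exact smul_zero _
        | add x y _ _ hx hy => rw [smul_add, hx, hy, add_zero]
        | smul c x _ hx => rw [smul_comm, hx, smul_zero]
      obtain ⟨c, hc⟩ := hsoc (t • f) fun b hb => by rw [mul_smul_comm, htJ _ (hmf b hb)]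
      by_contra hne
      push Not at hne
      let S : Submodule A A := A ∙ s
      have hz : (Submodule.Quotient.mk t : A ⧸ S) ≠ 0 := by
        rw [Ne, Submodule.Quotient.mk_eq_zero, Submodule.mem_span_singleton]
        rintro ⟨a, ha⟩
        exact hne a ha.symm
      refine hf (mem_map_of_tmul_eq_zero hz (fun r hr => ?_) ?_)
      · rw [← Submodule.Quotient.mk_smul, smul_eq_mul, ht r hr, Submodule.Quotient.mk_zero]
      · have h1 : ∀ (a : A) (b : B), (a • b) ⊗ₜ[A] (Submodule.Quotient.mk 1 : A ⧸ S) =
            b ⊗ₜ[A] (Submodule.Quotient.mk a : A ⧸ S) := fun a b => by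
          rw [TensorProduct.smul_tmul, ← Submodule.Quotient.mk_smul, smul_eq_mul, mul_one]
        rw [← h1, hc, show c * w = s • (c * f) from mul_smul_comm s c f, h1,
          (Submodule.Quotient.mk_eq_zero S).2 (Submodule.mem_span_singleton_self s), TensorProduct.tmul_zero]
    · rw [← map_maximalIdeal_of_surjective (Ideal.Quotient.mk J) Ideal.Quotient.mk_surjective,
        ← Ideal.map_pow, hN, Submodule.zero_eq_bot, Ideal.map_bot, Submodule.zero_eq_bot]
    · -- socle of the fibre
      obtain ⟨v, rfl⟩ := Ideal.Quotient.mk_surjective t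
      have hv : ∀ b ∈ maximalIdeal B, b * v ∈ J := fun b hb => by
        have := ht _ ((hm b).2 hb)
        rwa [← map_mul, Ideal.Quotient.eq_zero_iff_mem] at this
      obtain ⟨c, hc⟩ := hsoc (s • v) fun b hb => by rw [mul_smul_comm, hsJ _ (hv b hb)]
      refine ⟨Ideal.Quotient.mk J c, ?_⟩
      rw [← map_mul, Ideal.Quotient.eq]
      refine mem_map_of_smul_eq_zero hs hms ?_
      rw [smul_sub, hc, show c * w = s • (c * f) from mul_smul_comm s c f, sub_self]
  · rintro ⟨hA, hF⟩
    obtain ⟨⟨a, ha⟩, hsocA⟩ := socle_of_gorenstein hs hms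
    obtain ⟨⟨N, hN⟩, hsocF⟩ := socle_of_gorenstein hf0 hmf'
    have hpow : maximalIdeal B ^ N ≤ J := by
      intro b hb
      have h1 : Ideal.Quotient.mk J b ∈ maximalIdeal (B ⧸ J) ^ N := by
        rw [← map_maximalIdeal_of_surjective (Ideal.Quotient.mk J) Ideal.Quotient.mk_surjective,
          ← Ideal.map_pow]
        exact Ideal.mem_map_of_mem _ hb
      rw [hN] at h1
      exact Ideal.Quotient.eq_zero_iff_mem.1 h1
    refine gorenstein_of_socle ⟨N * a, ?_⟩ hw hmw fun t ht => ?_
    · rw [Submodule.zero_eq_bot, eq_bot_iff, pow_mul]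
      refine (Ideal.pow_right_mono hpow a).trans ?_
      rw [hJ, ← Ideal.map_pow, ha, Submodule.zero_eq_bot, Ideal.map_bot]
    · obtain ⟨n, g, hg⟩ := Submodule.fg_iff_exists_fin_generating_family.1
        (IsNoetherian.noetherian (maximalIdeal A))
      let μ : A →ₗ[A] (Fin n → A) := LinearMap.pi fun i => LinearMap.toSpanSingleton A A (g i)
      have hex : Function.Exact (LinearMap.toSpanSingleton A A s) μ := by
        intro x
        constructor
        · intro hx
          obtain ⟨c, hc⟩ := hsocA x fun r hr => by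
            rw [← hg] at hr
            induction hr using Submodule.span_induction with
            | mem y hy =>
              obtain ⟨i, rfl⟩ := hy
              have := congrFun hx i
              simpa [μ, mul_comm] using this
            | zero => exact zero_mul _
            | add y z _ _ hy hz => rw [add_mul, hy, hz, add_zero]
            | smul c y _ hy => rw [smul_eq_mul, mul_assoc, hy, mul_zero]
          exact ⟨c, hc.symm⟩
        · rintro ⟨c, rfl⟩
          funext i
          show (c * s) * g i = 0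
          rw [mul_assoc, mul_comm s, hms (g i) (hg ▸ Submodule.subset_span ⟨i, rfl⟩), mul_zero]
      have hex' := Module.Flat.lTensor_exact B hex
      have ht0 : μ.lTensor B (t ⊗ₜ[A] (1 : A)) = 0 := by
        refine (TensorProduct.piRight A A B fun _ : Fin n => A).injective ?_
        rw [map_zero, LinearMap.lTensor_tmul, TensorProduct.piRight_apply]
        funext i
        rw [TensorProduct.piRightHom_tmul, Pi.zero_apply]
        refine (TensorProduct.rid A B).injective ?_
        rw [map_zero, TensorProduct.rid_tmul]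
        show ((1 : A) * g i) • t = 0
        rw [one_mul, Algebra.smul_def, ht _ (map_nonunit (algebraMap A B) _
          (hg ▸ Submodule.subset_span ⟨i, rfl⟩))]
      obtain ⟨z, hz⟩ := (hex' _).1 ht0
      obtain ⟨u, rfl⟩ := (TensorProduct.rid A B).symm.surjective z
      have htu : t = s • u := by
        have := congrArg (TensorProduct.rid A B) hz
        simpa [LinearMap.toSpanSingleton_apply] using this.symm
      obtain ⟨c, hc⟩ := hsocF (Ideal.Quotient.mk J u) fun r hr => by
        obtain ⟨b, rfl⟩ := Ideal.Quotient.mk_surjective r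
        rw [← map_mul, Ideal.Quotient.eq_zero_iff_mem]
        refine mem_map_of_smul_eq_zero hs hms ?_
        rw [← mul_smul_comm, ← htu, ht b ((hm b).1 hr)]
      obtain ⟨c, rfl⟩ := Ideal.Quotient.mk_surjective c
      rw [← map_mul, Ideal.Quotient.eq] at hc
      refine ⟨c, ?_⟩
      rw [show c * w = s • (c * f) from mul_smul_comm s c f, htu, ← sub_eq_zero, ← smul_sub, hsJ _ hc]

end Flat

section Main

theorem exists_quotientMap_flat {A B : Type u} [CommRing A] [CommRing B] [Algebra A B]
    [Module.Flat A B] (I : Ideal A) : Module.Flat (A ⧸ I) (B ⧸ I.map (algebraMap A B)) := by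
  haveI : IsScalarTower A (A ⧸ I) (B ⧸ I.map (algebraMap A B)) :=
    IsScalarTower.of_algebraMap_eq fun _ => rfl
  let e : (A ⧸ I) ⊗[A] B ≃ₗ[A] B ⧸ I.map (algebraMap A B) :=
    ((TensorProduct.quotTensorEquivQuotSMul B I).trans
      (Submodule.quotEquivOfEq _ _ (Ideal.smul_top_eq_map I))).trans
      (Submodule.Quotient.restrictScalarsEquiv A _)
  exact Module.Flat.of_linearEquiv (e.extendScalarsOfSurjective Ideal.Quotient.mk_surjective).symm

theorem flat_local_aux : ∀ (n : ℕ) (A B : Type u) [CommRing A] [IsLocalRing A] [IsNoetherianRing A]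
    [CommRing B] [IsLocalRing B] [IsNoetherianRing B] [Algebra A B]
    [IsLocalHom (algebraMap A B)] [Module.Flat A B] (a b : ℕ),
    a + b = n → ringKrullDim A = a →
    ringKrullDim (B ⧸ (maximalIdeal A).map (algebraMap A B)) = b →
    (LocCoh.IsGorensteinLocalRing B ↔ (LocCoh.IsGorensteinLocalRing A ∧
      LocCoh.IsGorensteinLocalRing (B ⧸ (maximalIdeal A).map (algebraMap A B)))) := by
  intro n
  induction n using Nat.strong_induction_on with
  | _ n ih =>
  intro A B _ _ _ _ _ _ _ _ _ a b hab ha hb
  set J := (maximalIdeal A).map (algebraMap A B) with hJ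
  haveI hJloc : IsLocalRing (B ⧸ J) := by
    have : Nontrivial (B ⧸ J) := Ideal.Quotient.nontrivial_iff.2 fun h =>
      (maximalIdeal.isMaximal B).ne_top (top_unique (h ▸ IsLocalRing.map_maximalIdeal_le (algebraMap A B)))
    exact .of_surjective' _ Ideal.Quotient.mk_surjective
  have hm : ∀ b : B, Ideal.Quotient.mk J b ∈ maximalIdeal (B ⧸ J) ↔ b ∈ maximalIdeal B := by
    intro b
    simp only [mem_maximalIdeal, mem_nonunits_iff]
    haveI := IsLocalHom.of_surjective (Ideal.Quotient.mk J) Ideal.Quotient.mk_surjective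
    exact ⟨fun h hu => h (hu.map _), fun h hu => h (isUnit_of_map_unit _ _ hu)⟩
  rcases exists_regular_or_socle A with ⟨x, hx, hxreg⟩ | ⟨s, hs, hms⟩
  · let A' := A ⧸ Ideal.span {x}
    let B' := B ⧸ (Ideal.span {x}).map (algebraMap A B)
    have hspan : (Ideal.span {x}).map (algebraMap A B) = Ideal.span {algebraMap A B x} := by
      rw [Ideal.map_span, Set.image_singleton]
    have hxB : IsSMulRegular B (algebraMap A B x) := hxreg.of_flat
    have hxmB : algebraMap A B x ∈ maximalIdeal B := map_nonunit (algebraMap A B) x hx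
    haveI : IsLocalRing A' := by
      have : Nontrivial A' := Ideal.Quotient.nontrivial_iff.2 fun h =>
        (maximalIdeal.isMaximal A).ne_top (top_unique (h ▸ (Ideal.span_singleton_le_iff_mem _).2 hx))
      exact .of_surjective' _ Ideal.Quotient.mk_surjective
    haveI : IsLocalRing B' := by
      have : Nontrivial B' := Ideal.Quotient.nontrivial_iff.2 fun h =>
        (maximalIdeal.isMaximal B).ne_top
          (top_unique (h ▸ hspan ▸ (Ideal.span_singleton_le_iff_mem _).2 hxmB))
      exact .of_surjective' _ Ideal.Quotient.mk_surjective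
    haveI : IsLocalHom (algebraMap A' B') := ⟨fun z hz => by
      obtain ⟨z, rfl⟩ := Ideal.Quotient.mk_surjective z
      haveI := IsLocalHom.of_surjective (Ideal.Quotient.mk ((Ideal.span {x}).map (algebraMap A B)))
        Ideal.Quotient.mk_surjective
      rw [Ideal.Quotient.algebraMap_quotient_map_quotient] at hz
      exact (isUnit_of_map_unit (algebraMap A B) _ (isUnit_of_map_unit _ _ hz)).map _⟩
    haveI : Module.Flat A' B' := exists_quotientMap_flat (Ideal.span {x})
    -- the fibre does not change
    let π : B →+* B' ⧸ (maximalIdeal A').map (algebraMap A' B') :=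
      (Ideal.Quotient.mk _).comp (Ideal.Quotient.mk _)
    have hπ : RingHom.ker π = J := by
      rw [← RingHom.comap_ker, Ideal.mk_ker, ← map_maximalIdeal_of_surjective
        (Ideal.Quotient.mk (Ideal.span {x})) Ideal.Quotient.mk_surjective, Ideal.map_map,
        show (algebraMap A' B').comp (Ideal.Quotient.mk (Ideal.span {x})) =
          (Ideal.Quotient.mk ((Ideal.span {x}).map (algebraMap A B))).comp (algebraMap A B) from rfl,
        ← Ideal.map_map, Ideal.comap_map_of_surjective' _ Ideal.Quotient.mk_surjective, Ideal.mk_ker,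
        sup_eq_left.2 (Ideal.map_mono ((Ideal.span_singleton_le_iff_mem _).2 hx))]
    let eF : B ⧸ J ≃+* B' ⧸ (maximalIdeal A').map (algebraMap A' B') :=
      (Ideal.quotEquivOfEq hπ.symm).trans (RingHom.quotientKerEquivOfSurjective
        (f := π) (Ideal.Quotient.mk_surjective.comp Ideal.Quotient.mk_surjective))
    haveI : IsLocalRing (B' ⧸ (maximalIdeal A').map (algebraMap A' B')) := eF.isLocalRing
    obtain ⟨a', rfl⟩ : ∃ a', a = a' + 1 := by
      refine ⟨a - 1, ?_⟩
      rcases Nat.eq_zero_or_pos a with rfl | hpos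
      · exfalso
        have h := ringKrullDim_quotient_span_singleton_succ_eq_ringKrullDim hxreg hx
        rw [ha] at h
        obtain ⟨k, hk⟩ := exists_supportDim_eq_nat (R := A') A'
        rw [Module.supportDim_self_eq_ringKrullDim] at hk
        rw [hk] at h
        have : k + 1 = 0 := by exact_mod_cast h
        omega
      · omega
    have ha' : ringKrullDim A' = a' := by
      have h := ringKrullDim_quotient_span_singleton_succ_eq_ringKrullDim hxreg hx
      obtain ⟨k, hk⟩ := exists_supportDim_eq_nat (R := A') A'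
      rw [Module.supportDim_self_eq_ringKrullDim] at hk
      rw [hk, ha] at h
      rw [hk]
      have : k + 1 = a' + 1 := by exact_mod_cast h
      exact_mod_cast (by omega : k = a')
    have key := ih (a' + b) (by omega) A' B' a' b rfl ha'
      ((ringKrullDim_eq_of_ringEquiv eF).symm.trans hb)
    rw [gorenstein_iff_of_surjective (Ideal.Quotient.mk (Ideal.span {x})) Ideal.Quotient.mk_surjective
        hx hxreg (Ideal.mk_ker),
      gorenstein_iff_of_surjective (Ideal.Quotient.mk ((Ideal.span {x}).map (algebraMap A B)))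
        Ideal.Quotient.mk_surjective hxmB hxB (Ideal.mk_ker.trans hspan), key]
    exact and_congr_right fun _ => ⟨fun h => gorenstein_of_ringEquiv eF.symm, fun h => gorenstein_of_ringEquiv eF⟩
  rcases exists_regular_or_socle (B ⧸ J) with ⟨y, hy, hyreg⟩ | ⟨f, hf, hmf⟩
  · obtain ⟨y, rfl⟩ := Ideal.Quotient.mk_surjective y
    have hym : y ∈ maximalIdeal B := (hm y).1 hy
    let B' := B ⧸ Ideal.span {y}
    have hfib : FlatLoc6.RegFib A B y := by
      intro z hz
      have hmem : ∀ c : B, c ∈ FlatLoc6.mN A B B ↔ c ∈ J := fun c => by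
        rw [FlatLoc6.mN, smul_eq_mul, Ideal.mul_top]
      rw [hmem] at hz ⊢
      rw [smul_eq_mul, ← Ideal.Quotient.eq_zero_iff_mem, map_mul] at hz
      rw [← Ideal.Quotient.eq_zero_iff_mem]
      exact hyreg (hz.trans (smul_zero _).symm)
    have hyB : IsSMulRegular B y := FlatLoc6.regular_self hfib
    haveI : Module.Flat A B' :=
      FlatLoc6.flat_of_cokernel hfib B' (Submodule.mkQ _) (Submodule.mkQ_surjective _) fun z => by
        rw [Submodule.mkQ_apply, Submodule.Quotient.mk_eq_zero, Ideal.mem_span_singleton']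
        exact ⟨fun ⟨k, hk⟩ => ⟨k, by rw [smul_eq_mul, mul_comm]; exact hk⟩,
          fun ⟨k, hk⟩ => ⟨k, by rw [← hk, smul_eq_mul, mul_comm]⟩⟩
    haveI : IsLocalRing B' := by
      have : Nontrivial B' := Ideal.Quotient.nontrivial_iff.2 fun h =>
        (maximalIdeal.isMaximal B).ne_top (top_unique (h ▸ (Ideal.span_singleton_le_iff_mem _).2 hym))
      exact .of_surjective' _ Ideal.Quotient.mk_surjective
    haveI : IsLocalHom (algebraMap A B') := ⟨fun z hz => by
      haveI := IsLocalHom.of_surjective (Ideal.Quotient.mk (Ideal.span {y})) Ideal.Quotient.mk_surjective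
      rw [← Ideal.Quotient.mk_algebraMap] at hz
      exact isUnit_of_map_unit (algebraMap A B) _ (isUnit_of_map_unit _ _ hz)⟩
    let J' := (maximalIdeal A).map (algebraMap A B')
    have hJ' : J' = J.map (Ideal.Quotient.mk (Ideal.span {y})) := by
      rw [hJ, Ideal.map_map]; rfl
    let π : B →+* B' ⧸ J' := (Ideal.Quotient.mk _).comp (Ideal.Quotient.mk _)
    have hπker : RingHom.ker π = J ⊔ Ideal.span {y} := by
      rw [← RingHom.comap_ker, Ideal.mk_ker, hJ',
        Ideal.comap_map_of_surjective' _ Ideal.Quotient.mk_surjective, Ideal.mk_ker]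
    have hπ : Function.Surjective π := Ideal.Quotient.mk_surjective.comp Ideal.Quotient.mk_surjective
    let τ : B ⧸ J →+* B' ⧸ J' := Ideal.Quotient.lift J π fun z hz =>
      (RingHom.mem_ker (f := π)).1 (hπker ▸ Ideal.mem_sup_left hz)
    have hτ : Function.Surjective τ := fun z => by
      obtain ⟨z, rfl⟩ := hπ z
      exact ⟨Ideal.Quotient.mk J z, rfl⟩
    have hτker : RingHom.ker τ = Ideal.span {Ideal.Quotient.mk J y} := by
      ext z
      obtain ⟨z, rfl⟩ := Ideal.Quotient.mk_surjective z
      rw [RingHom.mem_ker, show τ (Ideal.Quotient.mk J z) = π z from rfl, ← RingHom.mem_ker, hπker,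
        ← Set.image_singleton, ← Ideal.map_span, Ideal.mem_quotient_iff_mem_sup, sup_comm]
    haveI : IsLocalRing (B' ⧸ J') := by
      have : Nontrivial (B' ⧸ J') := Ideal.Quotient.nontrivial_iff.2 fun h =>
        (maximalIdeal.isMaximal B').ne_top (top_unique (h ▸ IsLocalRing.map_maximalIdeal_le (algebraMap A B')))
      exact .of_surjective' _ Ideal.Quotient.mk_surjective
    let eτ : (B ⧸ J) ⧸ Ideal.span {Ideal.Quotient.mk J y} ≃+* B' ⧸ J' :=
      (Ideal.quotEquivOfEq hτker.symm).trans (RingHom.quotientKerEquivOfSurjective hτ)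
    obtain ⟨k, hk⟩ := exists_supportDim_eq_nat (R := B' ⧸ J') (B' ⧸ J')
    rw [Module.supportDim_self_eq_ringKrullDim] at hk
    have hkb : k + 1 = b := by
      have h := ringKrullDim_quotient_span_singleton_succ_eq_ringKrullDim hyreg hy
      rw [ringKrullDim_eq_of_ringEquiv eτ, hk, hb] at h
      exact_mod_cast h
    have key := ih (a + k) (by omega) A B' a k rfl ha hk
    rw [gorenstein_iff_of_surjective (Ideal.Quotient.mk (Ideal.span {y})) Ideal.Quotient.mk_surjective
        hym hyB Ideal.mk_ker, key,
      gorenstein_iff_of_surjective τ hτ hy hyreg hτker]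
  · obtain ⟨f, rfl⟩ := Ideal.Quotient.mk_surjective f
    refine gorenstein_flat_socle_case hs hms (f := f)
      (fun h => hf (Ideal.Quotient.eq_zero_iff_mem.2 h)) fun c hc => ?_
    have := hmf _ ((hm c).2 hc)
    rwa [← map_mul, Ideal.Quotient.eq_zero_iff_mem] at this

theorem gorenstein_flat_local_iff (A B : Type u) [CommRing A] [IsLocalRing A] [IsNoetherianRing A]
    [CommRing B] [IsLocalRing B] [IsNoetherianRing B] [Algebra A B]
    [IsLocalHom (algebraMap A B)] [Module.Flat A B] :
    LocCoh.IsGorensteinLocalRing B ↔ (LocCoh.IsGorensteinLocalRing A ∧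
      LocCoh.IsGorensteinLocalRing (B ⧸ (maximalIdeal A).map (algebraMap A B))) := by
  haveI : IsLocalRing (B ⧸ (maximalIdeal A).map (algebraMap A B)) := by
    have : Nontrivial (B ⧸ (maximalIdeal A).map (algebraMap A B)) := Ideal.Quotient.nontrivial_iff.2 fun h =>
      (maximalIdeal.isMaximal B).ne_top (top_unique (h ▸ IsLocalRing.map_maximalIdeal_le (algebraMap A B)))
    exact .of_surjective' _ Ideal.Quotient.mk_surjective
  obtain ⟨a, ha⟩ := exists_supportDim_eq_nat (R := A) A
  obtain ⟨b, hb⟩ := exists_supportDim_eq_nat (R := B ⧸ (maximalIdeal A).map (algebraMap A B))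
    (B ⧸ (maximalIdeal A).map (algebraMap A B))
  rw [Module.supportDim_self_eq_ringKrullDim] at ha hb
  exact flat_local_aux (a + b) A B a b rfl ha hb

end Main

end Groth.Agent.LC
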