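import Groth.Agent.LC.GorLoc
import Groth.Agent.LC.DepthExt
import Groth.Agent.FlatLoc6.Regular
import Groth.Agent.Alg6.AssDepth

/-!
# Depth along the closed fibre of a flat module
-/

set_option autoImplicit false

universe u

open IsLocalRing RingTheory.Sequence
open scoped Pointwise

namespace Groth.Agent.LC

variable {A B : Type u} [CommRing A] [IsLocalRing A] [IsNoetherianRing A] [CommRing B] [IsLocalRing B]
  [IsNoetherianRing B] [Algebra A B] [IsLocalHom (algebraMap A B)]

theorem le_idealDepth_of_fibre (I : Ideal B) (hI : I ≠ ⊤) : ∀ (n : ℕ) (N : Type u) [AddCommGroup N] [Module B N]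
    [Module A N] [IsScalarTower A B N] [Module.Finite B N] [Module.Flat A N] [Nontrivial N],
    (n : ℕ∞) ≤ LocCoh.idealDepth I (N ⧸ FlatLoc6.mN A B N) → (n : ℕ∞) ≤ LocCoh.idealDepth I N := by
  intro n
  induction n with
  | zero => intros; exact bot_le
  | succ k ih =>
    intro N _ _ _ _ _ _ _ h
    let Nb := N ⧸ FlatLoc6.mN A B N
    haveI : Nontrivial Nb := Submodule.Quotient.nontrivial_iff.2 (smul_top_ne_top_of_le_maximal (R := B) (M := N)
      (J := (maximalIdeal A).map (algebraMap A B)) (IsLocalRing.map_maximalIdeal_le (algebraMap A B)))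
    have hne : I • (⊤ : Submodule B Nb) ≠ ⊤ := smul_top_ne_top_of_le_maximal (J := I) (le_maximalIdeal hI)
    obtain ⟨rs, hrs, hmem, hlen⟩ := Alg6.exists_length_ge_of_le_idealDepth hne h
    rcases rs with _ | ⟨y, rs⟩
    · simp at hlen
    have hy : y ∈ I := hmem y List.mem_cons_self
    have hyreg : IsSMulRegular Nb y := ((isWeaklyRegular_cons_iff _ _ _).1 hrs).1
    have hfib : FlatLoc6.RegFib A N y := FlatLoc6.regFib_iff.2 hyreg
    have hN := FlatLoc6.regular_self hfib
    haveI := FlatLoc6.flat_quotSMulTop hfib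
    haveI : Nontrivial (QuotSMulTop y N) := Submodule.Quotient.nontrivial_iff.2 (by
      rw [← Submodule.ideal_span_singleton_smul]
      exact smul_top_ne_top_of_le_maximal (R := B) (M := N) (J := Ideal.span {y})
        ((Ideal.span_singleton_le_iff_mem _).2 (le_maximalIdeal hI hy)))
    let e1 : (QuotSMulTop y N ⧸ FlatLoc6.mN A B (QuotSMulTop y N)) ≃ₗ[B] N ⧸ (y • ⊤ ⊔ FlatLoc6.mN A B N) :=
      (Submodule.quotEquivOfEq _ _ (by
        show _ = Submodule.map (y • (⊤ : Submodule B N)).mkQ (FlatLoc6.mN A B N)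
        rw [Submodule.map_smul'', Submodule.map_top, Submodule.range_mkQ])).trans
        (Submodule.quotientQuotientEquivQuotientSup _ _)
    let e2 : QuotSMulTop y Nb ≃ₗ[B] N ⧸ (FlatLoc6.mN A B N ⊔ y • ⊤) :=
      (Submodule.quotEquivOfEq _ _ (by
        show _ = Submodule.map (FlatLoc6.mN A B N).mkQ (y • (⊤ : Submodule B N))
        rw [Submodule.map_pointwise_smul, Submodule.map_top, Submodule.range_mkQ])).trans
        (Submodule.quotientQuotientEquivQuotientSup _ _)
    have h' : (k : ℕ∞) ≤ LocCoh.idealDepth I (QuotSMulTop y Nb) :=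
      (le_idealDepth_quotSMulTop_iff I hy hyreg k).2 h
    rw [idealDepth_congr I (e2.trans ((Submodule.quotEquivOfEq _ _ (sup_comm _ _)).trans e1.symm))] at h'
    exact (le_idealDepth_quotSMulTop_iff I hy hN k).1 (ih (QuotSMulTop y N) h')

theorem idealDepth_quot_self_le (J I : Ideal B) :
    LocCoh.idealDepth I (B ⧸ J) = LocCoh.idealDepth (I.map (Ideal.Quotient.mk J)) (B ⧸ J) := by
  refine enat_eq_of_nat_le_iff fun k => ?_
  rw [le_idealDepth_iff_H, le_idealDepth_iff_H]
  refine forall₂_congr fun i _ => ?_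
  obtain ⟨φ, -⟩ := exists_indep (R := B) (R' := B ⧸ J) I i (B ⧸ J)
  exact φ.toEquiv.subsingleton_congr.symm

theorem dim_fibre_le [Module.Flat A B]
    (hCM : LocCoh.IsCohenMacaulayLocalRing (B ⧸ (maximalIdeal A).map (algebraMap A B))) (I : Ideal B) (hI : I ≠ ⊤) :
    ringKrullDim (B ⧸ (maximalIdeal A).map (algebraMap A B)) ≤
      ringKrullDim (B ⧸ ((maximalIdeal A).map (algebraMap A B) ⊔ I)) +
        ((LocCoh.idealDepth I B : ℕ∞) : WithBot ℕ∞) := by
  let J := (maximalIdeal A).map (algebraMap A B)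
  have hJ : J ≤ maximalIdeal B := IsLocalRing.map_maximalIdeal_le (algebraMap A B)
  let Ib := I.map (Ideal.Quotient.mk J)
  have hIb : Ib ≠ ⊤ := by
    intro h
    have h2 := congrArg (Ideal.comap (Ideal.Quotient.mk J)) h
    rw [Ideal.comap_map_of_surjective' _ Ideal.Quotient.mk_surjective, Ideal.mk_ker, Ideal.comap_top] at h2
    exact (maximalIdeal.isMaximal B).ne_top (top_unique (h2.ge.trans (sup_le (le_maximalIdeal hI) hJ)))
  rw [← height_add_ringKrullDim_quotient (R := B ⧸ J) Ib hIb]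
  refine add_le_add (le_of_eq ?_) (WithBot.coe_le_coe.2 ?_)
  · exact (ringKrullDim_eq_of_ringEquiv (DoubleQuot.quotQuotEquivQuotSup J I))
  rw [← idealDepth_self_eq_height, ← idealDepth_quot_self_le J I]
  have hmN : (FlatLoc6.mN A B B) = J := by
    show J • (⊤ : Submodule B B) = J
    rw [smul_eq_mul, Ideal.mul_top]
  refine (ENat.forall_natCast_le_iff_le).1 fun k hk => ?_
  refine le_idealDepth_of_fibre (A := A) I hI k B ?_
  rwa [idealDepth_congr I (Submodule.quotEquivOfEq _ _ hmN)]

end Groth.Agent.LC
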