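import Groth.Agent.LC.Annihilator
import Groth.Prelude.Def_SGA2

/-!
# Finiteness criteria for local cohomology
-/

universe u

open CategoryTheory Limits IsLocalRing

namespace Groth.Agent.LC

variable {A : Type u} [CommRing A]

theorem height_Ici_eq (p q : PrimeSpectrum A) (h : p ≤ q) :
    Order.height (⟨q, h⟩ : Set.Ici p) = (q.asIdeal.map (Ideal.Quotient.mk p.asIdeal)).height := by
  let e0 := p.asIdeal.primeSpectrumQuotientOrderIsoZeroLocus
  let e : PrimeSpectrum (A ⧸ p.asIdeal) ≃o Set.Ici p :=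
    { toFun := fun x => ⟨(e0 x).1, fun a ha => (e0 x).2 ha⟩
      invFun := fun y => e0.symm ⟨y.1, fun a ha => y.2 ha⟩
      left_inv := fun x => e0.symm_apply_apply x
      right_inv := fun y => by simp
      map_rel_iff' := fun {a b} => e0.map_rel_iff' }
  have hq : (q.asIdeal.map (Ideal.Quotient.mk p.asIdeal)).IsPrime :=
    Ideal.map_isPrime_of_surjective Ideal.Quotient.mk_surjective (by rw [Ideal.mk_ker]; exact h)
  have he : e ⟨_, hq⟩ = ⟨q, h⟩ := by
    refine Subtype.ext (PrimeSpectrum.ext ?_)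
    show Ideal.comap (Ideal.Quotient.mk p.asIdeal) (q.asIdeal.map (Ideal.Quotient.mk p.asIdeal)) = q.asIdeal
    rw [Ideal.comap_map_of_surjective _ Ideal.Quotient.mk_surjective, ← RingHom.ker_eq_comap_bot,
      Ideal.mk_ker, sup_eq_left.2 (show p.asIdeal ≤ q.asIdeal from h)]
  rw [← he, Order.height_orderIso]
  exact (PrimeSpectrum.height_eq_orderHeight ⟨_, hq⟩).symm

variable [IsNoetherianRing A]

theorem relCodim_eq (I : Ideal A) (p : PrimeSpectrum A) :
    SGA2.relCodim I p = ((I ⊔ p.asIdeal).map (Ideal.Quotient.mk p.asIdeal)).height := by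
  unfold SGA2.relCodim
  refine le_antisymm ?_ (le_iInf fun q => ?_)
  · by_cases htop : I ⊔ p.asIdeal = ⊤
    · rw [htop, Ideal.map_top, Ideal.height_top]; exact le_top
    obtain ⟨q, hq, hh⟩ := exists_minimalPrimes_height_eq I p.asIdeal htop
    rw [← hh, ← height_Ici_eq p ⟨q, hq.1.1⟩ (le_sup_right.trans hq.1.2)]
    exact iInf_le (fun q : {q : PrimeSpectrum A // p ≤ q ∧ I ≤ q.asIdeal} =>
      Order.height (⟨q.1, q.2.1⟩ : Set.Ici p)) ⟨⟨q, hq.1.1⟩, le_sup_right.trans hq.1.2, le_sup_left.trans hq.1.2⟩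
  · rw [height_Ici_eq p q.1 q.2.1]
    exact Ideal.height_mono (Ideal.map_mono (sup_le q.2.2 q.2.1))

theorem adjDepth_eq (I : Ideal A) (M : Type u) [AddCommGroup M] [Module A M] (p : PrimeSpectrum A) :
    LocCoh.adjDepth I M p =
      LocCoh.depth (Localization.AtPrime p.asIdeal) (LocalizedModule p.asIdeal.primeCompl M) +
        SGA2.relCodim I p := by
  rw [relCodim_eq]; rfl

/-- A prime `p ⊉ I` under a prime `q ⊇ I` has an intermediate prime of relative codimension one. -/
theorem exists_codim_one (I : Ideal A) (p : PrimeSpectrum A) (hp : ¬ I ≤ p.asIdeal) (c : ℕ)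
    (hc : SGA2.relCodim I p = c) :
    ∃ s : PrimeSpectrum A, p ≤ s ∧ ¬ I ≤ s.asIdeal ∧ SGA2.relCodim I s = 1 ∧
      (s.asIdeal.map (Ideal.Quotient.mk p.asIdeal)).height + 1 ≤ (c : ℕ∞) := by
  classical
  rw [relCodim_eq] at hc
  have htop : I ⊔ p.asIdeal ≠ ⊤ := fun h => by
    rw [h, Ideal.map_top, Ideal.height_top] at hc
    exact ENat.top_ne_natCast c hc
  obtain ⟨q, hq, hh⟩ := exists_minimalPrimes_height_eq I p.asIdeal htop
  have hqp : q.IsPrime := hq.1.1
  have hIq : I ≤ q := le_sup_left.trans hq.1.2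
  have hpq : p.asIdeal ≤ q := le_sup_right.trans hq.1.2
  let T : Set (Ideal A) := {s : Ideal A | s.IsPrime ∧ p.asIdeal ≤ s ∧ s ≤ q ∧ ¬ I ≤ s}
  have hex : ∃ s : Ideal A, s ∈ T ∧ ∀ t ∈ T, ¬ s < t :=
    set_has_maximal_iff_noetherian.2 ‹IsNoetherianRing A› T ⟨p.asIdeal, p.isPrime, le_rfl, hpq, hp⟩
  obtain ⟨s, ⟨hsp, hps, hsq, hIs⟩, hmax⟩ := hex
  have hsq' : s < q := lt_of_le_of_ne hsq fun h => hIs (h ▸ hIq)
  have h1 : (q.map (Ideal.Quotient.mk s)).height = 1 := by
    refine le_antisymm ?_ (one_le_height_map_mk s q hsq')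
    by_contra h
    rw [not_le] at h
    obtain ⟨c', hc', hcs⟩ := SetLike.not_le_iff_exists.1 hIs
    obtain ⟨u, hu, hsu, huq, hcu⟩ := exists_prime_between s q hsq' h (hIq hc') hcs
    exact hmax u ⟨hu, hps.trans hsu.le, huq.le, fun hIu => hcu (hIu hc')⟩ hsu
  have hh' : (q.map (Ideal.Quotient.mk p.asIdeal)).height = (c : ℕ∞) := hh.trans hc
  refine ⟨⟨s, hsp⟩, hps, hIs, ?_, ?_⟩
  · rw [relCodim_eq]
    refine le_antisymm ((Ideal.height_mono (Ideal.map_mono (sup_le hIq hsq))).trans h1.le) ?_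
    have htop' : I ⊔ s ≠ ⊤ := fun h => hqp.ne_top (top_le_iff.1 (h ▸ sup_le hIq hsq))
    obtain ⟨q', hq', hh''⟩ := exists_minimalPrimes_height_eq I s htop'
    rw [← hh'']
    have := hq'.1.1
    exact one_le_height_map_mk s q' (lt_of_le_of_ne (le_sup_right.trans hq'.1.2)
      fun h => hIs (h ▸ le_sup_left.trans hq'.1.2))
  · rw [← hh', ← h1]
    exact height_map_mk_add_le p.asIdeal s q hps hsq

theorem forall_depth_add_codim_iff (I : Ideal A) (M : Type u) [AddCommGroup M] [Module A M]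
    [Module.Finite A M] (n : ℕ) :
    (∀ p : PrimeSpectrum A, ¬ I ≤ p.asIdeal → (n : ℕ∞) <
      LocCoh.depth (Localization.AtPrime p.asIdeal) (LocalizedModule p.asIdeal.primeCompl M) +
        SGA2.relCodim I p) ↔
    (∀ p : PrimeSpectrum A, ¬ I ≤ p.asIdeal → SGA2.relCodim I p = 1 → (n : ℕ∞) ≤
      LocCoh.depth (Localization.AtPrime p.asIdeal) (LocalizedModule p.asIdeal.primeCompl M)) := by
  constructor
  · intro h p hp hc
    have := h p hp
    rw [hc] at this
    exact Order.le_of_lt_add_one this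
  · intro h p hp
    rcases eq_or_ne (SGA2.relCodim I p) ⊤ with htop | htop
    · rw [htop, add_top]; exact ENat.natCast_lt_top n
    obtain ⟨c, hc⟩ := WithTop.ne_top_iff_exists.1 htop
    obtain ⟨s, hps, hIs, hcs, hle⟩ := exists_codim_one I p hp c hc.symm
    have h2 := (h s hIs hcs).trans (depth_localized_le_add_height M p.asIdeal s.asIdeal hps)
    have h3 : ((n + 1 : ℕ) : ℕ∞) ≤
        LocCoh.depth (Localization.AtPrime p.asIdeal) (LocalizedModule p.asIdeal.primeCompl M) +
          SGA2.relCodim I p := by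
      rw [← hc, Nat.cast_add, Nat.cast_one]
      refine le_trans (add_le_add_left h2 1) ?_
      rw [add_assoc]
      exact add_le_add_right hle _
    exact lt_of_lt_of_le (by exact_mod_cast Nat.lt_succ_self n) h3

theorem covBy_iff_relCodim (I : Ideal A) (p : PrimeSpectrum A) (hp : ¬ I ≤ p.asIdeal) :
    (∃ q : PrimeSpectrum A, I ≤ q.asIdeal ∧ p ⋖ q) ↔ SGA2.relCodim I p = 1 := by
  have hone : ∀ q : PrimeSpectrum A, I ≤ q.asIdeal → p ≤ q → p.asIdeal < q.asIdeal := fun q hI hle =>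
    lt_of_le_of_ne hle fun h => hp (h ▸ hI)
  constructor
  · rintro ⟨q, hIq, hpq⟩
    rw [relCodim_eq]
    refine le_antisymm ((Ideal.height_mono (Ideal.map_mono (sup_le hIq hpq.le))).trans ?_) ?_
    · by_contra h
      rw [not_le] at h
      obtain ⟨c, hcI, hcp⟩ := SetLike.not_le_iff_exists.1 hp
      obtain ⟨t, ht, hpt, htq, -⟩ :=
        exists_prime_between p.asIdeal q.asIdeal (hone q hIq hpq.le) h (hIq hcI) hcp
      exact hpq.2 (c := ⟨t, ht⟩) hpt htq
    · have htop : I ⊔ p.asIdeal ≠ ⊤ := fun h =>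
        q.isPrime.ne_top (top_le_iff.1 (h ▸ sup_le hIq hpq.le))
      obtain ⟨q', hq', hh⟩ := exists_minimalPrimes_height_eq I p.asIdeal htop
      rw [← hh]
      have := hq'.1.1
      exact one_le_height_map_mk p.asIdeal q'
        (hone ⟨q', hq'.1.1⟩ (le_sup_left.trans hq'.1.2) (le_sup_right.trans hq'.1.2))
  · intro h
    rw [relCodim_eq] at h
    have htop : I ⊔ p.asIdeal ≠ ⊤ := fun h' => by
      rw [h', Ideal.map_top, Ideal.height_top] at h
      exact ENat.top_ne_one h
    obtain ⟨q, hq, hh⟩ := exists_minimalPrimes_height_eq I p.asIdeal htop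
    have := hq.1.1
    rw [h] at hh
    have hpq : p.asIdeal < q :=
      hone ⟨q, hq.1.1⟩ (le_sup_left.trans hq.1.2) (le_sup_right.trans hq.1.2)
    refine ⟨⟨q, hq.1.1⟩, le_sup_left.trans hq.1.2, hpq, fun t hpt htq => ?_⟩
    have h1 := le_trans (add_le_add (one_le_height_map_mk p.asIdeal t.asIdeal hpt)
      (one_le_height_map_mk t.asIdeal q htq)) (height_map_mk_add_le p.asIdeal t.asIdeal q hpt.le htq.le)
    rw [hh] at h1
    norm_num at h1

omit [IsNoetherianRing A] in
theorem lt_iInf_nat_iff {ι : Sort*} (n : ℕ) (f : ι → ℕ∞) :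
    (n : ℕ∞) < iInf f ↔ ∀ x, (n : ℕ∞) < f x := by
  rw [← ENat.add_one_le_iff (ENat.natCast_ne_top n), le_iInf_iff]
  exact forall_congr' fun x => ENat.add_one_le_iff (ENat.natCast_ne_top n)

theorem finite_iff_finDimRel (I : Ideal A) (M : Type u) [AddCommGroup M] [Module A M] [Module.Finite A M]
    (n : ℕ) :
    (∀ i : ℕ, i ≤ n → Module.Finite A (LocCoh.H I i M)) ↔ (n : ℕ∞) < LocCoh.finDimRel I I M := by
  constructor
  · intro h
    rw [LocCoh.finDimRel, lt_iInf_nat_iff]
    intro i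
    rw [lt_iInf_nat_iff]
    intro hi
    by_contra hle
    rw [not_lt, Nat.cast_le] at hle
    apply hi
    have := h i hle
    obtain ⟨k, hk⟩ := exists_pow_smul_eq_zero_of_finite I (LocCoh.H I i M)
      (isPowerTorsion_obj I i (ModuleCat.of A M))
    exact fun x hx => ⟨k, Module.mem_annihilator.2 fun z => hk _ (Ideal.pow_mem_pow hx k) z⟩
  · intro h
    have hrad : ∀ i ≤ n, ∃ k, ∀ c ∈ I ^ k, ∀ z : LocCoh.H I i M, c • z = 0 := by
      intro i hi
      have h1 : I ≤ (Module.annihilator A (LocCoh.H I i M)).radical := by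
        by_contra h1
        have h2 : LocCoh.finDimRel I I M ≤ (i : ℕ∞) := iInf₂_le i h1
        exact absurd (h2.trans (Nat.cast_le.2 hi)) (not_le.2 h)
      obtain ⟨k, hk⟩ := Ideal.exists_pow_le_of_le_radical_of_fg h1 (IsNoetherian.noetherian I)
      exact ⟨k, fun c hc z => Module.mem_annihilator.1 (hk hc) z⟩
    choose! k hk using hrad
    refine finite_H_of_kill I n M (I ^ (Finset.range (n + 1)).sup k) ?_ ?_
    · intro x hx
      exact ⟨(Finset.range (n + 1)).sup k, Ideal.pow_mem_pow hx _⟩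
    · intro l hl a ha z
      exact hk l hl a (Ideal.pow_le_pow_right (Finset.le_sup (Finset.mem_range.2 (Nat.lt_succ_of_le hl))) ha) z

theorem lt_minAdjDepth_iff (I : Ideal A) (M : Type u) [AddCommGroup M] [Module A M] (n : ℕ) :
    (n : ℕ∞) < LocCoh.minAdjDepth I I M ↔ ∀ p : PrimeSpectrum A, ¬ I ≤ p.asIdeal → (n : ℕ∞) <
      LocCoh.depth (Localization.AtPrime p.asIdeal) (LocalizedModule p.asIdeal.primeCompl M) +
        SGA2.relCodim I p := by
  rw [LocCoh.minAdjDepth, lt_iInf_nat_iff]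
  exact forall_congr' fun p => by rw [lt_iInf_nat_iff]; simp only [adjDepth_eq]

/-- Grothendieck's finiteness theorem. -/
theorem finite_iff_depth_add_codim {S : Type u} [CommRing S] [IsRegularRing S] (π : S →+* A)
    (hπ : Function.Surjective π) (I : Ideal A) (M : Type u) [AddCommGroup M] [Module A M] [Module.Finite A M]
    (n : ℕ) :
    (∀ i : ℕ, i ≤ n → Module.Finite A (LocCoh.H I i M)) ↔ ∀ p : PrimeSpectrum A, ¬ I ≤ p.asIdeal →
      (n : ℕ∞) < LocCoh.depth (Localization.AtPrime p.asIdeal) (LocalizedModule p.asIdeal.primeCompl M) +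
        SGA2.relCodim I p := by
  let : Algebra S A := π.toAlgebra
  let : Module S M := Module.compHom M π
  have : IsScalarTower S A M := IsScalarTower.of_algebraMap_smul fun _ _ => rfl
  rw [finite_iff_finDimRel, le_antisymm (finDimRel_le_minAdjDepth I I M)
    (minAdjDepth_le_finDimRel (S := S) hπ M I I), lt_minAdjDepth_iff]

end Groth.Agent.LC
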