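import Groth.Agent.LC.DualLocal
import Groth.Agent.LC.FiniteCrit

/-!
# Non-vanishing of local cohomology propagates to specializations
-/

universe u

open CategoryTheory Limits IsLocalRing

namespace Groth.Agent.LC

section Transfer

variable {A B : Type u} [CommRing A] [CommRing B] [IsLocalRing A] [IsLocalRing B]
  [IsNoetherianRing A] [IsNoetherianRing B]
variable {M N : Type u} [AddCommGroup M] [Module A M] [AddCommGroup N] [Module B N]

/-- Local cohomology at the closed point is invariant under semilinear isomorphisms. -/
theorem subsingleton_H_semilinear (σ : A →+* B) (hσ : Function.Surjective σ) (e : M ≃+ N)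
    (he : ∀ z x, e (z • x) = σ z • e x) (j : ℕ) :
    Subsingleton (LocCoh.H (maximalIdeal A) j M) ↔ Subsingleton (LocCoh.H (maximalIdeal B) j N) := by
  let : Algebra A B := σ.toAlgebra
  let : Module A N := Module.compHom _ σ
  have : IsScalarTower A B N := IsScalarTower.of_algebraMap_smul fun _ _ => rfl
  let el : M ≃ₗ[A] N := { e with map_smul' := fun z x => he z x }
  obtain ⟨φ, -⟩ := exists_indep (R := A) (R' := B) (maximalIdeal A) j N
  rw [map_maximalIdeal_of_surjective (algebraMap A B) hσ] at φ
  rw [((localCohomology (maximalIdeal A) j).mapIso el.toModuleIso).toLinearEquiv.toEquiv.subsingleton_congr,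
    φ.toEquiv.subsingleton_congr]

end Transfer

section Spec

variable {S : Type u} [CommRing S] [IsRegularRing S]

theorem depth_localized_regular (P : Ideal S) [P.IsPrime] :
    LocCoh.depth (Localization.AtPrime P) (LocalizedModule P.primeCompl S) = P.height := by
  let A := Localization.AtPrime P
  have : Module.Finite A (LocalizedModule P.primeCompl S) :=
    Module.Finite.of_isLocalizedModule P.primeCompl (LocalizedModule.mkLinearMap _ S)
  have := gorenstein_of_isRegularLocalRing (R := A)
  obtain ⟨d, hd, hδ, -⟩ := gorenstein_basic (R := A)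
  rw [IsLocalization.AtPrime.ringKrullDim_eq_height P A] at hd
  rw [show LocCoh.depth A (LocalizedModule P.primeCompl S) = LocCoh.depth A A from
    idealDepth_congr _ (selfLoc P.primeCompl), hδ]
  exact_mod_cast hd.symm

/-- Catenarity of regular rings: `ht P + ht(Q/P) = ht Q`. -/
theorem height_add_height_quotient_eq (P Q : Ideal S) [P.IsPrime] [Q.IsPrime] (h : P ≤ Q) :
    P.height + (Q.map (Ideal.Quotient.mk P)).height = Q.height := by
  refine le_antisymm (height_add_height_quotient_le P Q h) ?_
  have := depth_localized_le_add_height S P Q h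
  rwa [depth_localized_regular, depth_localized_regular] at this

variable {A : Type u} [CommRing A] [IsNoetherianRing A] [Algebra S A]
variable (hπ : Function.Surjective (algebraMap S A))

omit [IsRegularRing S] [IsNoetherianRing A] in
include hπ in
theorem height_map_mk_comap (p q : Ideal A) :
    ((q.comap (algebraMap S A)).map (Ideal.Quotient.mk (p.comap (algebraMap S A)))).height =
      (q.map (Ideal.Quotient.mk p)).height := by
  let φ : S ⧸ p.comap (algebraMap S A) ≃+* A ⧸ p :=
    (Ideal.quotEquivOfEq (by rw [← RingHom.comap_ker, Ideal.mk_ker])).trans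
      (RingHom.quotientKerEquivOfSurjective (f := (Ideal.Quotient.mk p).comp (algebraMap S A))
        (Ideal.Quotient.mk_surjective.comp hπ))
  have h : ((q.comap (algebraMap S A)).map (Ideal.Quotient.mk (p.comap (algebraMap S A)))).map φ.toRingHom =
      q.map (Ideal.Quotient.mk p) := by
    rw [Ideal.map_map, show φ.toRingHom.comp (Ideal.Quotient.mk (p.comap (algebraMap S A))) =
      (Ideal.Quotient.mk p).comp (algebraMap S A) from RingHom.ext fun _ => rfl,
      ← Ideal.map_map, Ideal.map_comap_of_surjective _ hπ]
  exact (RingEquiv.height_map φ _).symm.trans (congrArg Ideal.height h)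

variable (M : Type u) [AddCommGroup M] [Module A M] [Module.Finite A M]

include hπ in
/-- `H^j(M_p) ≠ 0` forces `H^{j + ht(s/p)}(M_s) ≠ 0` for `p ≤ s`. -/
theorem subsingleton_H_of_specializes (p s : Ideal A) [p.IsPrime] [s.IsPrime] (hps : p ≤ s) (j k : ℕ)
    (hk : (s.map (Ideal.Quotient.mk p)).height = k)
    (h : Subsingleton (LocCoh.H (maximalIdeal (Localization.AtPrime s)) (j + k) (LocalizedModule s.primeCompl M))) :
    Subsingleton (LocCoh.H (maximalIdeal (Localization.AtPrime p)) j (LocalizedModule p.primeCompl M)) := by
  let s0 := s.comap (algebraMap S A)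
  let As := Localization.AtPrime s
  let Ss := Localization.AtPrime s0
  have := gorenstein_of_isRegularLocalRing (R := Ss)
  have := isCohenMacaulayLocalRing_of_gorenstein (R := Ss)
  have hσ : Function.Surjective (Localization.localRingHom s0 s (algebraMap S A) rfl) :=
    RingHom.surjective_localRingHom_of_surjective (algebraMap S A) hπ s
  let : Algebra Ss As := (Localization.localRingHom s0 s (algebraMap S A) rfl).toAlgebra
  have : IsNoetherianRing As := IsLocalization.isNoetherianRing s.primeCompl As inferInstance
  have : Module.Finite As (LocalizedModule s.primeCompl M) :=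
    Module.Finite.of_isLocalizedModule s.primeCompl (LocalizedModule.mkLinearMap _ M)
  have hdisj : Disjoint (s.primeCompl : Set A) (p : Set A) :=
    Set.disjoint_left.2 fun a ha hap => ha (hps hap)
  let P : Ideal As := p.map (algebraMap A As)
  have hPp : P.IsPrime := IsLocalization.isPrime_of_isPrime_disjoint s.primeCompl As p inferInstance hdisj
  have hcomap : P.comap (algebraMap A As) = p :=
    IsLocalization.comap_map_of_isPrime_disjoint s.primeCompl As inferInstance hdisj
  let P0 : Ideal Ss := P.comap (algebraMap Ss As)
  have hP0 : P0.comap (algebraMap S Ss) = p.comap (algebraMap S A) := by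
    rw [Ideal.comap_comap, show (algebraMap Ss As).comp (algebraMap S Ss) =
      (algebraMap A As).comp (algebraMap S A) from
        RingHom.ext fun x => Localization.localRingHom_to_map s0 s (algebraMap S A) rfl x,
      ← Ideal.comap_comap, hcomap]
  have hdim : ringKrullDim (As ⧸ P) = (k : WithBot ℕ∞) := by
    have hsum := height_add_ringKrullDim_quotient P0 (Ideal.IsPrime.ne_top inferInstance)
    rw [ringKrullDim_quotient_comap hσ P, IsLocalization.AtPrime.ringKrullDim_eq_height s0 Ss,
      show P0.height = (p.comap (algebraMap S A)).height by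
        rw [← hP0]; exact (IsLocalization.height_comap s0.primeCompl P0).symm] at hsum
    have hcat := height_add_height_quotient_eq (p.comap (algebraMap S A)) s0 (Ideal.comap_mono hps)
    rw [height_map_mk_comap hπ p s, hk] at hcat
    obtain ⟨hp', hhp⟩ := ENat.ne_top_iff_exists.1
      (Ideal.height_ne_top (I := p.comap (algebraMap S A)) (Ideal.IsPrime.ne_top inferInstance))
    rw [← hhp] at hcat hsum
    rw [← hcat] at hsum
    have : Nontrivial (As ⧸ P) := Ideal.Quotient.nontrivial_iff.2 hPp.ne_top
    obtain ⟨e, he⟩ := exists_supportDim_eq_nat (R := As) (As ⧸ P)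
    rw [Module.supportDim_quotient_eq_ringKrullDim] at he
    rw [he] at hsum ⊢
    have : e + hp' = hp' + k := by exact_mod_cast hsum
    exact_mod_cast (by omega : e = k)
  have hfam := (le_radical_annihilator_H_iff (LocalizedModule s.primeCompl M) (S := Ss) hσ ⊤ (j + k)).1
    (by
      rw [Module.annihilator_eq_top_iff.2 h, Ideal.radical_top]) P
    (fun hle => hPp.ne_top (top_le_iff.1 hle)) j (by rw [hdim, Nat.cast_add])
  have key : ∀ (q : Ideal A) [q.IsPrime], P.comap (algebraMap A As) = q →
      Subsingleton (LocCoh.H (maximalIdeal (Localization.AtPrime q)) j (LocalizedModule q.primeCompl M)) := by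
    intro q _ hq
    subst hq
    let Q := P.comap (algebraMap A As)
    have : IsNoetherianRing (Localization.AtPrime P) :=
      IsLocalization.isNoetherianRing P.primeCompl _ inferInstance
    have : IsNoetherianRing (Localization.AtPrime Q) :=
      IsLocalization.isNoetherianRing Q.primeCompl _ inferInstance
    exact (subsingleton_H_semilinear
      (IsLocalization.algEquiv Q.primeCompl (Localization.AtPrime Q) (Localization.AtPrime P)).toRingEquiv.toRingHom
      (IsLocalization.algEquiv Q.primeCompl (Localization.AtPrime Q) (Localization.AtPrime P)).surjective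
      (IsLocalizedModule.iso Q.primeCompl (Groth.Agent.Alg6.locLocMap s.primeCompl M P)).toAddEquiv
      (Groth.Agent.Alg6.iso_semilinear Q (Localization.AtPrime P)
        (Groth.Agent.Alg6.locLocMap s.primeCompl M P)) j).2 hfam
  exact key p hcomap

include hπ in
/-- It suffices to test the vanishing conditions at primes of relative codimension one. -/
theorem forall_subsingleton_H_codim_iff (I : Ideal A) (i : ℕ) :
    (∀ p : PrimeSpectrum A, ¬ I ≤ p.asIdeal → ∀ (c j : ℕ), SGA2.relCodim I p = c → j + c = i →
      Subsingleton (LocCoh.H (maximalIdeal (Localization.AtPrime p.asIdeal)) j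
        (LocalizedModule p.asIdeal.primeCompl M))) ↔
    (∀ p : PrimeSpectrum A, ¬ I ≤ p.asIdeal → SGA2.relCodim I p = 1 → ∀ j : ℕ, j + 1 = i →
      Subsingleton (LocCoh.H (maximalIdeal (Localization.AtPrime p.asIdeal)) j
        (LocalizedModule p.asIdeal.primeCompl M))) := by
  refine ⟨fun h p hp hc j hj => h p hp 1 j (by exact_mod_cast hc) hj, fun h p hp c j hc hj => ?_⟩
  obtain ⟨s, hps, hIs, hcs, hle⟩ := exists_codim_one I p hp c hc
  obtain ⟨k, hk⟩ := ENat.ne_top_iff_exists.1 (ne_top_of_le_ne_top (ENat.natCast_ne_top c)
    ((le_self_add).trans hle))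
  rw [← hk] at hle
  have hkc : k + 1 ≤ c := by exact_mod_cast hle
  -- a prime over `I + s` just above `s`
  have hcs' := hcs
  rw [relCodim_eq] at hcs'
  have htop : I ⊔ s.asIdeal ≠ ⊤ := fun h' => by
    rw [h', Ideal.map_top, Ideal.height_top] at hcs'
    exact ENat.top_ne_one hcs'
  obtain ⟨q, hq, hh⟩ := exists_minimalPrimes_height_eq I s.asIdeal htop
  rw [hcs'] at hh
  have := hq.1.1
  have hsq : s.asIdeal ≤ q := le_sup_right.trans hq.1.2
  have hpq : p.asIdeal ≤ q := le_trans hps hsq
  have hcq : (c : ℕ∞) ≤ (q.map (Ideal.Quotient.mk p.asIdeal)).height := by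
    rw [← hc, relCodim_eq]
    exact Ideal.height_mono (Ideal.map_mono (sup_le (le_sup_left.trans hq.1.2) hpq))
  have e1 := height_add_height_quotient_eq (p.asIdeal.comap (algebraMap S A)) (q.comap (algebraMap S A))
    (Ideal.comap_mono hpq)
  have e2 := height_add_height_quotient_eq (p.asIdeal.comap (algebraMap S A)) (s.asIdeal.comap (algebraMap S A))
    (Ideal.comap_mono hps)
  have e3 := height_add_height_quotient_eq (s.asIdeal.comap (algebraMap S A)) (q.comap (algebraMap S A))
    (Ideal.comap_mono hsq)
  rw [height_map_mk_comap hπ] at e1 e2 e3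
  rw [← hk] at e2
  rw [hh, ← e2] at e3
  rw [← e3, add_assoc] at e1
  obtain ⟨hp', hhp⟩ := ENat.ne_top_iff_exists.1
    (Ideal.height_ne_top (I := p.asIdeal.comap (algebraMap S A)) (Ideal.IsPrime.ne_top inferInstance))
  rw [← hhp] at e1
  have e4 := ENat.add_left_injective_of_ne_top (ENat.natCast_ne_top hp')
    (((add_comm _ _).trans e1).trans (add_comm _ _))
  rw [e4] at hcq
  have hck : c ≤ k + 1 := by exact_mod_cast hcq
  refine subsingleton_H_of_specializes hπ M p.asIdeal s.asIdeal hps j k hk.symm ?_
  exact h s hIs hcs (j + k) (by omega)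

end Spec

end Groth.Agent.LC
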