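import Groth.Agent.LC.GorRingRows
import Groth.Agent.LC.CodimPropagate
import Groth.Prelude.Def_GrSyz
import Mathlib.RingTheory.GradedAlgebra.Radical
import Mathlib.RingTheory.Ideal.Colon

/-!
# Liaison: elementary algebra of linked ideals
-/

set_option autoImplicit false

universe u

open IsLocalRing MvPolynomial

namespace Groth.Agent.LC.Liaison

section CM

variable {A : Type u} [CommRing A] [LocCoh.IsCohenMacaulayRing A]

theorem minimal_of_ass {p : Ideal A} (hp : p ∈ associatedPrimes A A) : p ∈ minimalPrimes A := by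
  have hpp : p.IsPrime := hp.isPrime
  haveI := hpp
  haveI := LocCoh.IsCohenMacaulayRing.isCohenMacaulayLocalRing_localization (R := A) p
  let D := Localization.AtPrime p
  have hm : maximalIdeal D ∈ associatedPrimes D D := by
    rw [← LinearEquiv.AssociatedPrimes.eq (LC.selfLoc p.primeCompl)]
    exact (Alg6.ass_localized_iff p).2 hp
  have hCM : LocCoh.IsCohenMacaulayModule D D := LocCoh.IsCohenMacaulayLocalRing.supportDim_eq_depth
  have h := coheight_eq_of_ass_of_isCM (R := D) D hCM (p := ⟨maximalIdeal D, inferInstance⟩) hm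
  rw [Order.coheight_eq_zero.2 (fun (x : PrimeSpectrum D) _ => le_maximalIdeal x.isPrime.ne_top),
    Module.supportDim_self_eq_ringKrullDim, IsLocalization.AtPrime.ringKrullDim_eq_height p D] at h
  have h0 : p.height = 0 := by exact_mod_cast h.symm
  exact Ideal.height_eq_zero_iff.1 h0

/-- In a CM ring `ht (Q/P) = ht Q` for a minimal prime `P ⊆ Q`. -/
theorem height_quot_minimal (P Q : Ideal A) [P.IsPrime] [Q.IsPrime] (hP : P ∈ minimalPrimes A) (h : P ≤ Q) :
    (Q.map (Ideal.Quotient.mk P)).height = Q.height := by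
  let Q' := Q.map (Ideal.Quotient.mk P)
  haveI : Q'.IsPrime := Ideal.map_isPrime_of_surjective Ideal.Quotient.mk_surjective (by rw [Ideal.mk_ker]; exact h)
  suffices key : ∀ (Q₁ : Ideal A) [Q₁.IsPrime], Q'.comap (Ideal.Quotient.mk P) = Q₁ → Q'.height = Q₁.height from
    key Q (by rw [Ideal.comap_map_of_surjective' _ Ideal.Quotient.mk_surjective, Ideal.mk_ker, sup_eq_left.2 h])
  rintro Q₁ _ rfl
  set Q₀ := Q'.comap (Ideal.Quotient.mk P)
  let D := Localization.AtPrime Q₀
  haveI := LocCoh.IsCohenMacaulayRing.isCohenMacaulayLocalRing_localization (R := A) Q₀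
  let σ := Localization.localRingHom Q₀ Q' (Ideal.Quotient.mk P) rfl
  have hσ : Function.Surjective σ := localRingHom_mk_surjective P Q'
  have hker : RingHom.ker σ = P.map (algebraMap A D) := ker_localRingHom_mk P Q'
  have hPQ : P ≤ Q₀ := fun x hx => by
    rw [Ideal.mem_comap, Ideal.Quotient.eq_zero_iff_mem.2 hx]; exact Q'.zero_mem
  have hne : P.map (algebraMap A D) ≠ ⊤ := by
    rw [← hker]; exact RingHom.ker_ne_top σ
  have h1 := height_add_ringKrullDim_quotient (R := D) (P.map (algebraMap A D)) hne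
  have h0 : (P.map (algebraMap A D)).height = 0 := by
    rw [IsLocalization.height_map_of_disjoint Q₀.primeCompl P
      (Set.disjoint_left.2 fun x hx hxP => hx (hPQ hxP))]
    exact Ideal.height_eq_zero_iff.2 hP
  rw [h0, ringKrullDim_eq_of_ringEquiv ((Ideal.quotEquivOfEq hker.symm).trans
      (RingHom.quotientKerEquivOfSurjective hσ)),
    IsLocalization.AtPrime.ringKrullDim_eq_height Q' (Localization.AtPrime Q'),
    IsLocalization.AtPrime.ringKrullDim_eq_height Q₀ D] at h1
  simpa using h1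

end CM

section Quotient

variable {S : Type u} [CommRing S] [IsNoetherianRing S] (c : Ideal S)

theorem isCohenMacaulayRing_of_gorenstein (A : Type u) [CommRing A] [LocCoh.IsGorensteinRing A] :
    LocCoh.IsCohenMacaulayRing A :=
  { isCohenMacaulayLocalRing_localization := fun p _ =>
      haveI := LocCoh.IsGorensteinRing.isGorensteinLocalRing_localization (A := A) p
      isCohenMacaulayLocalRing_of_gorenstein }

theorem minimal_of_ass_quot [LocCoh.IsCohenMacaulayRing (S ⧸ c)] {p : Ideal S}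
    (hp : p ∈ associatedPrimes S (S ⧸ c)) : p ∈ c.minimalPrimes := by
  obtain ⟨hpp, z, hz⟩ := Alg6.mem_ass_iff.1 hp
  haveI := hpp
  have hcp : c ≤ p := fun x hx => (hz x).2 (by
    rw [Algebra.smul_def, show algebraMap S (S ⧸ c) x = 0 from Ideal.Quotient.eq_zero_iff_mem.2 hx, zero_mul])
  have hker : RingHom.ker (Ideal.Quotient.mk c) ≤ p := by rw [Ideal.mk_ker]; exact hcp
  haveI : (p.map (Ideal.Quotient.mk c)).IsPrime :=
    Ideal.map_isPrime_of_surjective Ideal.Quotient.mk_surjective hker
  have hcomap : (p.map (Ideal.Quotient.mk c)).comap (Ideal.Quotient.mk c) = p := by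
    rw [Ideal.comap_map_of_surjective' _ Ideal.Quotient.mk_surjective, Ideal.mk_ker, sup_eq_left.2 hcp]
  have hass : p.map (Ideal.Quotient.mk c) ∈ associatedPrimes (S ⧸ c) (S ⧸ c) := by
    refine Alg6.mem_ass_iff.2 ⟨inferInstance, z, fun a => ?_⟩
    obtain ⟨a, rfl⟩ := Ideal.Quotient.mk_surjective a
    have h1 : Ideal.Quotient.mk c a ∈ p.map (Ideal.Quotient.mk c) ↔ a ∈ p := by
      rw [← Ideal.mem_comap, hcomap]
    exact h1.trans (hz a)
  have hmin := minimal_of_ass hass
  refine ⟨⟨hpp, hcp⟩, fun q hq hqp => ?_⟩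
  haveI := hq.1
  haveI : (q.map (Ideal.Quotient.mk c)).IsPrime :=
    Ideal.map_isPrime_of_surjective Ideal.Quotient.mk_surjective (by rw [Ideal.mk_ker]; exact hq.2)
  have := Ideal.comap_mono (f := Ideal.Quotient.mk c)
    (hmin.2 ⟨inferInstance, bot_le⟩ (Ideal.map_mono hqp))
  rwa [hcomap, Ideal.comap_map_of_surjective' _ Ideal.Quotient.mk_surjective, Ideal.mk_ker,
    sup_eq_left.2 hq.2] at this

variable [IsRegularRing S]

theorem height_minimal_eq [LocCoh.IsCohenMacaulayRing (S ⧸ c)] (Q : Ideal S) [Q.IsPrime]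
    (hQfin : Q.height ≠ ⊤) {P P' : Ideal S} (hP : P ∈ c.minimalPrimes) (hP' : P' ∈ c.minimalPrimes)
    (h : P ≤ Q) (h' : P' ≤ Q) : P.height = P'.height := by
  let π := Ideal.Quotient.mk c
  have hQc : c ≤ Q := hP.1.2.trans h
  have key : ∀ R : Ideal S, R ∈ c.minimalPrimes → R ≤ Q → R.height + (Q.map π).height = Q.height := by
    intro R hR hRQ
    haveI := hR.1.1
    haveI : (Q.map π).IsPrime :=
      Ideal.map_isPrime_of_surjective Ideal.Quotient.mk_surjective (by rw [Ideal.mk_ker]; exact hQc)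
    haveI : (R.map π).IsPrime :=
      Ideal.map_isPrime_of_surjective Ideal.Quotient.mk_surjective (by rw [Ideal.mk_ker]; exact hR.1.2)
    have hc : ∀ T : Ideal S, c ≤ T → (T.map π).comap π = T := fun T hT => by
      rw [Ideal.comap_map_of_surjective' _ Ideal.Quotient.mk_surjective, Ideal.mk_ker, sup_eq_left.2 hT]
    have hmin : R.map π ∈ minimalPrimes (S ⧸ c) := by
      refine ⟨⟨inferInstance, bot_le⟩, fun q hq hqR => ?_⟩
      haveI := hq.1
      have h1 : q.comap π ≤ R := hc R hR.1.2 ▸ Ideal.comap_mono hqR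
      have h2 := hR.2 ⟨Ideal.IsPrime.comap π, fun x hx => by
        rw [Ideal.mem_comap, Ideal.Quotient.eq_zero_iff_mem.2 hx]; exact q.zero_mem⟩ h1
      exact (Ideal.map_mono h2).trans (Ideal.map_comap_le)
    have h2 := height_add_height_quotient_eq R Q hRQ
    have h3 := LC.height_map_mk_comap (S := S) (A := S ⧸ c) Ideal.Quotient.mk_surjective (R.map π) (Q.map π)
    rw [show (Q.map π).comap (algebraMap S (S ⧸ c)) = Q from hc Q hQc,
      show (R.map π).comap (algebraMap S (S ⧸ c)) = R from hc R hR.1.2,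
      height_quot_minimal (R.map π) (Q.map π) hmin (Ideal.map_mono hRQ)] at h3
    rw [h3] at h2
    exact h2
  have h1 := key P hP h
  have h2 := key P' hP' h'
  have hfin : (Q.map π).height ≠ ⊤ := ne_top_of_le_ne_top hQfin (h1 ▸ le_add_self)
  exact WithTop.add_right_cancel hfin (h1.trans h2.symm)

end Quotient

section Poly

variable {K : Type u} [Field K] {σ : Type} [Finite σ]

local notation "P" => MvPolynomial σ K

/-- A proper homogeneous ideal lies in the vertex. -/
theorem le_vertex {J : Ideal P} (hJ : J.IsHomogeneous (GrSyz.stdGr K σ)) (hne : J ≠ ⊤) :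
    J ≤ RingHom.ker (constantCoeff (σ := σ) (R := K)) := by
  obtain ⟨s, rfl⟩ := (Ideal.IsHomogeneous.iff_exists _ _).1 hJ
  rw [Ideal.span_le]
  rintro _ ⟨⟨f, i, hf⟩, hfs, rfl⟩
  rw [SetLike.mem_coe, RingHom.mem_ker]
  by_contra h0
  have h0' : coeff 0 f ≠ 0 := h0
  have hw : (0 : ℤ) = i := by
    have := (GrSyz.mem_stdGr_iff K σ i f).1 hf h0'
    rwa [map_zero] at this
  refine hne (Ideal.eq_top_of_isUnit_mem _ (Ideal.subset_span ⟨_, hfs, rfl⟩) ?_)
  have hC : f = C (constantCoeff f) := by
    classical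
    ext d
    rw [coeff_C]
    by_cases hd : 0 = d
    · subst hd; rw [if_pos rfl]; rfl
    · rw [if_neg hd]
      by_contra hcd
      have hd' := (GrSyz.mem_stdGr_iff K σ i f).1 hf hcd
      rw [← hw, Finsupp.weight_apply, Finsupp.sum] at hd'
      refine hd ((Finsupp.ext fun a => ?_).symm)
      by_contra ha
      have h1 := (Finset.sum_eq_zero_iff_of_nonneg fun b _ => by positivity).1 hd' a
        (Finsupp.mem_support_iff.2 ha)
      simp at h1
      exact ha h1
  show IsUnit f
  rw [hC]
  exact (isUnit_iff_ne_zero.2 h0).map C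

theorem minimal_le_vertex {J : Ideal P} (hJ : J.IsHomogeneous (GrSyz.stdGr K σ)) {p : Ideal P}
    (hp : p ∈ J.minimalPrimes) : p ≤ RingHom.ker (constantCoeff (σ := σ) (R := K)) := by
  have hle : J ≤ (p.homogeneousCore (GrSyz.stdGr K σ)).toIdeal :=
    (Ideal.homogeneousCore.gc _ (⟨J, hJ⟩ : HomogeneousIdeal (GrSyz.stdGr K σ)) p).1 hp.1.2
  have hge := Ideal.toIdeal_homogeneousCore_le (GrSyz.stdGr K σ) p
  refine (hp.2 ⟨hp.1.1.homogeneousCore, hle⟩ hge).trans ?_
  exact le_vertex (HomogeneousIdeal.isHomogeneous _) (ne_top_of_le_ne_top hp.1.1.ne_top hge)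

instance vertex_isPrime : (RingHom.ker (constantCoeff (σ := σ) (R := K))).IsPrime := RingHom.ker_isPrime _

theorem height_vertex_ne_top : (RingHom.ker (constantCoeff (σ := σ) (R := K))).height ≠ ⊤ :=
  Ideal.height_ne_top (RingHom.ker_ne_top _)

/-- For homogeneous `c` with CM quotient all associated primes are minimal of height `ht c`. -/
theorem height_ass_eq (c : Ideal P) (hc : c.IsHomogeneous (GrSyz.stdGr K σ))
    [LocCoh.IsCohenMacaulayRing (P ⧸ c)] {p : Ideal P} (hp : p ∈ associatedPrimes P (P ⧸ c)) :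
    p ∈ c.minimalPrimes ∧ p.height = c.height := by
  have hmin := minimal_of_ass_quot c hp
  refine ⟨hmin, ?_⟩
  haveI := hmin.1.1
  rw [Ideal.height_eq_inf_minimalPrimes c]
  refine le_antisymm (le_iInf₂ fun q hq => ?_) (iInf₂_le p hmin)
  exact le_of_eq (height_minimal_eq c _ height_vertex_ne_top hmin hq (minimal_le_vertex hc hmin)
    (minimal_le_vertex hc hq))

end Poly

end Groth.Agent.LC.Liaison
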