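import Groth.Agent.LC.GorRows
import Groth.Agent.RegLoc6.Serre

/-!
# `pd M ≤ dim A - depth M` over a regular local ring
-/

universe u

open CategoryTheory Limits IsLocalRing Groth.Agent.RegLoc6

namespace Groth.Agent.LC

variable {R : Type u} [CommRing R]

theorem ext_pi_vanish (M : ModuleCat.{u} R) (j n : ℕ)
    (h : Subsingleton (Abelian.Ext M (ModuleCat.of R R) j)) :
    Subsingleton (Abelian.Ext M (ModuleCat.of R (Fin n → R)) j) := by
  refine subsingleton_of_forall_eq 0 fun e => ?_
  let F : ModuleCat.{u} R := ModuleCat.of R (Fin n → R)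
  let i : Fin n → (ModuleCat.of R R ⟶ F) := fun k => ModuleCat.ofHom (LinearMap.single R (fun _ => R) k)
  let pr : Fin n → (F ⟶ ModuleCat.of R R) := fun k => ModuleCat.ofHom (LinearMap.proj k)
  have hid : 𝟙 F = ∑ k, pr k ≫ i k := by
    refine ModuleCat.hom_ext (LinearMap.ext fun v => ?_)
    rw [ModuleCat.hom_sum, LinearMap.sum_apply]
    exact (Finset.univ_sum_single (v : Fin n → R)).symm
  have hs : ∀ s : Finset (Fin n),
      e.comp (Abelian.Ext.mk₀ (∑ k ∈ s, pr k ≫ i k)) (add_zero j) = 0 := by
    intro s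
    induction s using Finset.cons_induction with
    | empty => rw [Finset.sum_empty, Abelian.Ext.mk₀_zero, Abelian.Ext.comp_zero]
    | cons a s ha ih =>
      rw [Finset.sum_cons, Abelian.Ext.mk₀_add, Abelian.Ext.comp_add, ih, add_zero,
        ← Abelian.Ext.mk₀_comp_mk₀, ← Abelian.Ext.comp_assoc _ _ _ (add_zero j) (add_zero 0) (by omega),
        show e.comp (Abelian.Ext.mk₀ (pr a)) (add_zero j) = 0 from @Subsingleton.elim _ h _ _,
        Abelian.Ext.zero_comp]
  have := hs Finset.univ
  rwa [← hid, Abelian.Ext.comp_mk₀_id] at this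

variable [IsNoetherianRing R]

theorem ext_finite_vanish {M : Type u} [AddCommGroup M] [Module R M] (N h : ℕ) (hN : PdLE R N M)
    (hfree : ∀ j, h < j → Subsingleton (Abelian.Ext (ModuleCat.of R M) (ModuleCat.of R R) j)) :
    ∀ (T : Type u) [AddCommGroup T] [Module R T] [Module.Finite R T], ∀ j, h < j →
      Subsingleton (Abelian.Ext (ModuleCat.of R M) (ModuleCat.of R T) j) := by
  have key : ∀ k, ∀ (T : Type u) [AddCommGroup T] [Module R T] [Module.Finite R T], ∀ j, h < j → N < j + k →
      Subsingleton (Abelian.Ext (ModuleCat.of R M) (ModuleCat.of R T) j) := by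
    intro k
    induction k with
    | zero =>
      intro T _ _ _ j _ hj
      have : HasProjectiveDimensionLT (ModuleCat.of R M) (N + 1) := hN
      exact HasProjectiveDimensionLT.subsingleton _ (N + 1) j (by omega) _
    | succ k ih =>
      intro T _ _ _ j hj hjk
      obtain ⟨n, π, hπ⟩ := exists_fin_presentation (R := R) T
      let S : ShortComplex (ModuleCat.{u} R) := ShortComplex.mk (X₁ := ModuleCat.of R (LinearMap.ker π))
        (X₂ := ModuleCat.of R (Fin n → R)) (X₃ := ModuleCat.of R T)
        (ModuleCat.ofHom (LinearMap.ker π).subtype) (ModuleCat.ofHom π)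
        (ModuleCat.hom_ext (LinearMap.ext fun z => z.2))
      have hS : S.ShortExact :=
        { exact := (ShortComplex.ShortExact.moduleCat_exact_iff_function_exact _).2
            (LinearMap.exact_subtype_ker_map π)
          mono_f := (ModuleCat.mono_iff_injective _).2 Subtype.val_injective
          epi_g := (ModuleCat.epi_iff_surjective _).2 hπ }
      have h1 := ih (LinearMap.ker π) (j + 1) (by omega) (by omega)
      have h2 := ext_pi_vanish (ModuleCat.of R M) j n (hfree j hj)
      refine subsingleton_of_forall_eq 0 fun x => ?_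
      obtain ⟨y, rfl⟩ := Abelian.Ext.covariant_sequence_exact₃ (ModuleCat.of R M) hS x (n₁ := j + 1) rfl
        (@Subsingleton.elim _ h1 _ _)
      rw [show y = 0 from @Subsingleton.elim _ h2 _ _, Abelian.Ext.zero_comp]
  intro T _ _ _ j hj
  exact key (N + 1) T j hj (by omega)

theorem pdLE_of_ext_finite (h : ℕ) : ∀ (M : Type u) [AddCommGroup M] [Module R M] [Module.Finite R M],
    (∀ (T : Type u) [AddCommGroup T] [Module R T] [Module.Finite R T], ∀ j, h < j →
      Subsingleton (Abelian.Ext (ModuleCat.of R M) (ModuleCat.of R T) j)) → PdLE R h M := by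
  induction h with
  | zero =>
    intro M _ _ _ hv
    obtain ⟨n, π, hπ⟩ := exists_fin_presentation (R := R) M
    have hS := LinearMap.shortExact_shortComplexKer hπ
    have h1 := hv (LinearMap.ker π) 1 zero_lt_one
    obtain ⟨y, hy⟩ := Abelian.Ext.covariant_sequence_exact₃ (ModuleCat.of R M) hS
      (Abelian.Ext.mk₀ (𝟙 (ModuleCat.of R M))) (n₁ := 1) rfl (@Subsingleton.elim _ h1 _ _)
    obtain ⟨σ, rfl⟩ := (Abelian.Ext.mk₀_bijective _ _).2 y
    rw [Abelian.Ext.mk₀_comp_mk₀] at hy
    have hσ := (Abelian.Ext.mk₀_bijective _ _).1 hy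
    exact pdLE_of_retract σ.hom π (congrArg ModuleCat.Hom.hom hσ) (pdLE_of_projective 0)
  | succ h ih =>
    intro M _ _ _ hv
    obtain ⟨n, π, hπ⟩ := exists_fin_presentation (R := R) M
    refine (pdLE_succ_iff π hπ).2 (ih (LinearMap.ker π) fun T _ _ _ j hj => ?_)
    have hS := LinearMap.shortExact_shortComplexKer hπ
    have h1 := hv T (j + 1) (by omega)
    have : Projective (π.shortComplexKer).X₂ := (IsProjective.iff_projective (R := R) (Fin n → R)).1 inferInstance
    obtain ⟨j, rfl⟩ : ∃ j', j = j' + 1 := ⟨j - 1, by omega⟩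
    refine subsingleton_of_forall_eq 0 fun x => ?_
    obtain ⟨y, hy⟩ := Abelian.Ext.contravariant_sequence_exact₁ hS (ModuleCat.of R T) x
      (n₁ := j + 1 + 1) (by omega) (@Subsingleton.elim _ h1 _ _)
    rw [← hy, Abelian.Ext.eq_zero_of_projective y, Abelian.Ext.comp_zero]

/-- The inequality half of Auslander–Buchsbaum, for regular local rings. -/
theorem pdLE_of_le_depth (A : Type u) [CommRing A] [IsRegularLocalRing A] (d : ℕ)
    (hd : ringKrullDim A = d) (M : Type u) [AddCommGroup M] [Module A M] [Module.Finite A M]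
    (h : ℕ) (hdepth : (d : ℕ∞) ≤ LocCoh.depth A M + h) : PdLE A h M := by
  have := gorenstein_of_isRegularLocalRing (R := A)
  obtain ⟨d', hd', -, hv⟩ := gorenstein_basic (R := A)
  obtain rfl : d = d' := by rw [hd] at hd'; exact_mod_cast hd'
  refine pdLE_of_ext_finite h M (ext_finite_vanish _ h (pdLE_of_isRegularLocalRing A M) fun j hj => ?_)
  rcases Nat.lt_or_ge d j with hdj | hdj
  · exact hv M j hdj
  obtain ⟨E, _, _, f, hf⟩ := exists_injectiveHull A (ResidueField A)
  obtain ⟨e⟩ := exists_localDuality_gorenstein d hd E hf M j (d - j) (by omega)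
  have hlt : ((d - j : ℕ) : ℕ∞) < LocCoh.depth A M := by
    rcases eq_or_ne (LocCoh.depth A M) ⊤ with htop | htop
    · rw [htop]; exact ENat.natCast_lt_top _
    · lift LocCoh.depth A M to ℕ using htop with c
      have hc : d ≤ c + h := by exact_mod_cast hdepth
      exact Nat.cast_lt.2 (by omega)
  have hsub := (le_idealDepth_iff_H (maximalIdeal A) M (d - j + 1)).1
    (by rw [Nat.cast_add, Nat.cast_one, ENat.add_one_le_iff (ENat.natCast_ne_top _)]; exact hlt)
    (d - j) (Nat.lt_succ_self _)
  rw [← subsingleton_iff_dual hf (Abelian.Ext (ModuleCat.of A M) (ModuleCat.of A A) j)]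
  exact e.symm.toEquiv.subsingleton

end Groth.Agent.LC
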