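import Groth.Agent.LC.CanonSupport

/-!
# Annihilator and endomorphisms of canonical modules
-/

set_option autoImplicit false

universe u

open CategoryTheory Limits IsLocalRing TensorProduct

namespace Groth.Agent.LC.Canon

theorem isCMLocal_of_dim_zero {A : Type u} [CommRing A] [IsLocalRing A] [IsNoetherianRing A]
    (h : ringKrullDim A = ((0 : ℕ) : WithBot ℕ∞)) : LocCoh.IsCohenMacaulayLocalRing A := by
  refine { supportDim_eq_depth := le_antisymm ?_ (depth_le_supportDim A) }
  rw [Module.supportDim_self_eq_ringKrullDim, h]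
  exact WithBot.coe_le_coe.2 bot_le

variable {R : Type u} [CommRing R] [IsNoetherianRing R] [IsLocalRing R] {n : ℕ} (hn : ringKrullDim R = n)
variable {E : Type u} [AddCommGroup E] [Module R E] {f : ResidueField R →ₗ[R] E} (hf : InjHull.IsInjectiveHull f)
variable {K : Type u} [AddCommGroup K] [Module R K] [Module.Finite R K]
variable (eK : (K →ₗ[R] E) ≃ₗ[R] (localCohomology (maximalIdeal R) n).obj (ModuleCat.of R R))

include hn hf eK

theorem annihilator_not_le (a : R) (ha : ∀ z : K, a • z = 0) (p : Ideal R) [hp : p.IsPrime]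
    (hdim : ringKrullDim (R ⧸ p) = n) : ¬ (R ∙ a).annihilator ≤ p := by
  intro hle'
  haveI := isNoetherianRing_completion (R := R)
  haveI := faithfullyFlat_completion (R := R)
  set B := AdicCompletion (maximalIdeal R) R
  have hnB := ringKrullDim_completion hn
  obtain ⟨h0, hh0⟩ := ENat.ne_top_iff_exists.1 (Ideal.height_ne_top (I := p) hp.ne_top)
  have hp0 : p.height = 0 := by
    have h1 := (height_add_dim_quot_le p).trans hn.le
    rw [hdim, ← hh0] at h1
    rw [← hh0]
    have h2 : h0 + n ≤ n := by exact_mod_cast h1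
    exact_mod_cast (by omega : h0 = 0)
  have hpK : ⟨p, hp⟩ ∈ Module.support R K := mem_support_of_height_add_dim hn hf eK p (by
    rw [hp0, hdim]; exact zero_add _)
  obtain ⟨P, hP, -, hle, hht⟩ := exists_minimal_over p
  haveI := hP
  have hPK := mem_support_completion hn hf eK p hpK P hle
  have hnt : Nontrivial (LocalizedModule P.primeCompl (B ⊗[R] K)) := Module.mem_support_iff.1 hPK
  obtain ⟨g, hg, ⟨eB⟩⟩ := exists_completion_canon hf eK
  have hdP : ringKrullDim (Localization.AtPrime P) = ((0 : ℕ) : WithBot ℕ∞) := by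
    rw [IsLocalization.AtPrime.ringKrullDim_eq_height P, hht, hp0]; rfl
  haveI : IsNoetherianRing (Localization.AtPrime P) :=
    IsLocalization.isNoetherianRing P.primeCompl _ inferInstance
  haveI := isCMLocal_of_dim_zero hdP
  obtain ⟨E', _, _, f', hf'⟩ := exists_injectiveHull (Localization.AtPrime P)
    (ResidueField (Localization.AtPrime P))
  obtain ⟨S, _, _, π, hπ⟩ := exists_gorenstein_surjection B
  letI : Algebra S B := π.toAlgebra
  obtain ⟨eP⟩ := localization_canon hnB hg eB hπ P hnt hdP hf'
  have hkill : ∀ x : B ⊗[R] K, algebraMap R B a • x = 0 := fun x => by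
    induction x with
    | zero => exact smul_zero _
    | add x y hx hy => rw [smul_add, hx, hy, add_zero]
    | tmul b k => rw [algebraMap_smul, ← TensorProduct.tmul_smul, ha, TensorProduct.tmul_zero]
  haveI : Module.Finite (Localization.AtPrime P) (LocalizedModule P.primeCompl (B ⊗[R] K)) :=
    Module.Finite.of_isLocalizedModule P.primeCompl (LocalizedModule.mkLinearMap P.primeCompl _)
  have h0' : algebraMap B (Localization.AtPrime P) (algebraMap R B a) = 0 := by
    refine smul_dual_eq_zero hdP hf' eP _ fun z => ?_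
    induction z using LocalizedModule.induction_on with
    | _ x s => rw [algebraMap_smul, LocalizedModule.smul'_mk, hkill, LocalizedModule.zero_mk]
  obtain ⟨⟨t, ht⟩, hta⟩ := (IsLocalization.map_eq_zero_iff P.primeCompl (Localization.AtPrime P) _).1 h0'
  let μ := LinearMap.toSpanSingleton R R a
  have hex := Module.Flat.lTensor_exact (R := R) B (LinearMap.exact_subtype_ker_map μ)
  obtain ⟨w, hw⟩ := (hex (t ⊗ₜ 1)).1 (by
    rw [LinearMap.lTensor_tmul]
    apply (TensorProduct.rid R B).injective
    rw [TensorProduct.rid_tmul, map_zero, LinearMap.toSpanSingleton_apply, one_smul, Algebra.smul_def, mul_comm]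
    exact hta)
  refine ht (hle ?_)
  have hmem : ∀ w, TensorProduct.rid R B ((LinearMap.ker μ).subtype.lTensor B w) ∈ p.map (algebraMap R B) := by
    intro w
    induction w with
    | zero => rw [map_zero, map_zero]; exact zero_mem _
    | add x y hx hy => rw [map_add, map_add]; exact add_mem hx hy
    | tmul b r =>
      rw [LinearMap.lTensor_tmul, TensorProduct.rid_tmul, Algebra.smul_def]
      refine Ideal.mul_mem_right _ _ (Ideal.mem_map_of_mem _ (hle' ?_))
      rw [Submodule.mem_annihilator_span_singleton]
      exact r.2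
  have h2 := hmem w
  rwa [hw, TensorProduct.rid_tmul, one_smul] at h2

theorem mem_iff_smul_eq_zero {u : Ideal R} (hu : Module.supportDim R u < n)
    (humax : ∀ b : Ideal R, Module.supportDim R b < n → b ≤ u) (a : R) : (∀ z : K, a • z = 0) ↔ a ∈ u := by
  constructor
  · intro ha
    refine humax (R ∙ a) ?_ (Submodule.mem_span_singleton_self a)
    rw [Module.supportDim_eq_ringKrullDim_quotient_annihilator]
    rcases Nat.eq_zero_or_pos n with rfl | hn0
    · have : (Submodule.span R {a}).annihilator = ⊤ := by
        by_contra hne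
        obtain ⟨q, hqm, hle⟩ := Ideal.exists_le_maximal _ hne
        haveI := hqm.isPrime
        haveI : Nontrivial (R ⧸ q) := Ideal.Quotient.nontrivial_iff.2 hqm.ne_top
        exact annihilator_not_le hn hf eK a ha q (le_antisymm ((ringKrullDim_quotient_le q).trans hn.le)
          (by exact_mod_cast (ringKrullDim_nonneg_of_nontrivial (R := R ⧸ q)))) hle
      haveI : Subsingleton (R ⧸ (Submodule.span R {a}).annihilator) := Ideal.Quotient.subsingleton_iff.2 this
      erw [ringKrullDim_eq_bot_of_subsingleton]
      exact WithBot.bot_lt_coe _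
    · obtain ⟨k, rfl⟩ : ∃ k, n = k + 1 := ⟨n - 1, by omega⟩
      refine (ringKrullDim_quot_le_of_primes (m := k) fun q hq hle => ?_).trans_lt
        (by exact_mod_cast Nat.lt_succ_self k)
      obtain ⟨m, hm, hqm⟩ := exists_ringKrullDim_quot_eq_nat hn.le hq.ne_top
      rcases eq_or_lt_of_le hm with rfl | hlt
      · exact absurd hle (annihilator_not_le hn hf eK a ha q hqm)
      · rw [hqm]; exact_mod_cast Nat.lt_succ_iff.1 hlt
  · intro ha z
    by_contra hz
    obtain ⟨φ, hφ⟩ := exists_dual_ne_zero hf hz
    obtain ⟨q⟩ := exists_H_quot_equiv hu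
    have h0 : a • φ = 0 := eK.injective (q.injective (by
      rw [map_smul, map_smul, map_zero, map_zero]
      rw [← map_smul_id (maximalIdeal R) n (ModuleCat.of R (R ⧸ u)) a, show a • 𝟙 (ModuleCat.of R (R ⧸ u)) = (0 : R) • 𝟙 (ModuleCat.of R (R ⧸ u)) from (zero_smul R (𝟙 (ModuleCat.of R (R ⧸ u)))).symm ▸
        ModuleCat.hom_ext (LinearMap.ext fun x : R ⧸ u => by
          obtain ⟨x, rfl⟩ := Submodule.Quotient.mk_surjective _ x
          exact (Submodule.Quotient.mk_eq_zero _).2 (u.mul_mem_right x ha)), map_smul_id, zero_smul]))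
    exact hφ (by rw [map_smul, ← LinearMap.smul_apply, h0, LinearMap.zero_apply])

end Groth.Agent.LC.Canon
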