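import Groth.Agent.LC.CohDerived
import Groth.Agent.LC.InjBasic

/-!
# Degree zero, and local cohomology of torsion modules
-/

universe u

open CategoryTheory Limits Opposite

namespace Groth.Agent.LC

variable {R : Type u} [CommRing R] (I : Ideal R)

theorem preservesFiniteLimits_gammaI : PreservesFiniteLimits (DRing.gammaI I) := by
  rw [Functor.preservesFiniteLimits_iff_forall_exact_map_and_mono]
  intro S hS
  have hinj : Function.Injective S.f.hom := hS.moduleCat_injective_f
  have hex : Function.Exact S.f.hom S.g.hom :=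
    (ShortComplex.ShortExact.moduleCat_exact_iff_function_exact S).1 hS.exact
  refine ⟨(ShortComplex.ShortExact.moduleCat_exact_iff_function_exact _).2 fun z => ⟨fun hz => ?_, ?_⟩,
    (ModuleCat.mono_iff_injective _).2 fun a b h => Subtype.ext (hinj (congrArg Subtype.val h))⟩
  · obtain ⟨⟨x, n, hn⟩⟩ := show Nonempty (DRing.torsionSub I S.X₂) from ⟨z⟩
    obtain ⟨y, hy⟩ := (hex (z : DRing.torsionSub I S.X₂).1).1 (congrArg Subtype.val hz)
    obtain ⟨k, hk⟩ := (z : DRing.torsionSub I S.X₂).2
    refine ⟨(⟨y, k, fun a ha => hinj ?_⟩ : DRing.torsionSub I S.X₁), Subtype.ext hy⟩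
    rw [map_smul, hy, map_zero]
    exact hk a ha
  · rintro ⟨y, rfl⟩
    exact Subtype.ext (hex.apply_apply_eq_zero _)

/-- `H^0_I ≅ Γ_I`. -/
noncomputable def H0Iso : localCohomology I 0 ≅ DRing.gammaI I :=
  haveI := preservesFiniteLimits_gammaI I
  derivedIso I 0 ≪≫ (DRing.gammaI I).rightDerivedZeroIsoSelf

/-- `H^0_I(M) ≅ Γ_I(M)`. -/
noncomputable def H0Equiv (M : ModuleCat.{u} R) :
    (localCohomology I 0).obj M ≃ₗ[R] DRing.torsionSub I M :=
  ((H0Iso I).app M).toLinearEquiv

theorem H0Equiv_natural {M N : ModuleCat.{u} R} (g : M ⟶ N) (z : (localCohomology I 0).obj M) :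
    (H0Equiv I N (((localCohomology I 0).map g).hom z) : DRing.torsionSub I N).1 =
      g.hom (H0Equiv I M z : DRing.torsionSub I M).1 :=
  congrArg Subtype.val (ConcreteCategory.congr_hom ((H0Iso I).hom.naturality g) z)

theorem torsionSub_eq_top {M : Type u} [AddCommGroup M] [Module R M] (hM : LocCoh.IsPowerTorsion I M) :
    DRing.torsionSub I M = ⊤ := eq_top_iff.2 fun m _ => hM m

theorem torsionSub_eq_iSup (M : Type u) [AddCommGroup M] [Module R M] :
    DRing.torsionSub I M = ⨆ n : ℕ, Submodule.torsionBySet R M ((I ^ n : Ideal R) : Set R) := by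
  ext x
  exact (mem_iSup_torsionBySet I x).symm

theorem isPowerTorsion_torsionSub (M : Type u) [AddCommGroup M] [Module R M] :
    LocCoh.IsPowerTorsion I (DRing.torsionSub I M) := by
  rintro ⟨m, n, hn⟩
  exact ⟨n, fun a ha => Subtype.ext (hn a ha)⟩

theorem isPowerTorsion_of_surjective {M N : Type u} [AddCommGroup M] [Module R M] [AddCommGroup N]
    [Module R N] (f : M →ₗ[R] N) (hf : Function.Surjective f) (hM : LocCoh.IsPowerTorsion I M) :
    LocCoh.IsPowerTorsion I N := fun y => by
  obtain ⟨x, rfl⟩ := hf y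
  obtain ⟨n, hn⟩ := hM x
  exact ⟨n, fun a ha => by rw [← map_smul, hn a ha, map_zero]⟩

/-- A torsion module embeds in a torsion injective module, with torsion cokernel. -/
theorem exists_torsion_embedding [IsNoetherianRing R] (M : Type u) [AddCommGroup M] [Module R M]
    (hM : LocCoh.IsPowerTorsion I M) :
    ∃ (E : ModuleCat.{u} R) (f : ModuleCat.of R M ⟶ E), Injective E ∧ Mono f ∧
      LocCoh.IsPowerTorsion I E := by
  obtain ⟨J, _, _, _, f, hf⟩ := exists_injective_embedding R M
  have : Module.Injective R (DRing.torsionSub I J) := by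
    rw [torsionSub_eq_iSup]; exact injective_torsion I
  refine ⟨ModuleCat.of R (DRing.torsionSub I J), ModuleCat.ofHom (f.codRestrict _ fun m => ?_),
    Module.injective_object_of_injective_module (R := R) (M := DRing.torsionSub I J),
    (ModuleCat.mono_iff_injective _).2 fun a b h => hf (congrArg Subtype.val h),
    isPowerTorsion_torsionSub I J⟩
  obtain ⟨n, hn⟩ := hM m
  exact ⟨n, fun a ha => by rw [← map_smul, hn a ha, map_zero]⟩

theorem subsingleton_of_torsion [IsNoetherianRing R] (i : ℕ) :
    ∀ (M : ModuleCat.{u} R), LocCoh.IsPowerTorsion I M →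
      Subsingleton ((localCohomology I (i + 1)).obj M) := by
  induction i with
  | zero =>
    intro M hM
    obtain ⟨E, f, _, hmono, hE⟩ := exists_torsion_embedding I M hM
    let S := ShortComplex.mk f (cokernel.π f) (cokernel.condition f)
    have hS : S.ShortExact :=
      { exact := ShortComplex.exact_cokernel f
        mono_f := hmono
        epi_g := inferInstanceAs (Epi (cokernel.π f)) }
    have := subsingleton_of_injective I E 0
    refine subsingleton_of_forall_eq 0 fun z => ?_
    obtain ⟨w, rfl⟩ := (exact₁ I 0 hS 1 rfl z).1 (Subsingleton.elim _ _)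
    obtain ⟨e, he⟩ := hS.moduleCat_surjective_g (H0Equiv I S.X₃ w : DRing.torsionSub I S.X₃).1
    let v := (H0Equiv I S.X₂).symm ⟨e, hE e⟩
    have : ((localCohomology I 0).map S.g).hom v = w := by
      refine (H0Equiv I S.X₃).injective (Subtype.ext ?_)
      rw [H0Equiv_natural, LinearEquiv.apply_symm_apply]
      exact he
    rw [← this]
    exact (exact₃ I 0 hS 1 rfl).apply_apply_eq_zero v
  | succ i ih =>
    intro M hM
    obtain ⟨E, f, _, hmono, hE⟩ := exists_torsion_embedding I M hM
    let S := ShortComplex.mk f (cokernel.π f) (cokernel.condition f)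
    have hS : S.ShortExact :=
      { exact := ShortComplex.exact_cokernel f
        mono_f := hmono
        epi_g := inferInstanceAs (Epi (cokernel.π f)) }
    have := subsingleton_of_injective I E (i + 1)
    have hC : LocCoh.IsPowerTorsion I S.X₃ :=
      isPowerTorsion_of_surjective I S.g.hom hS.moduleCat_surjective_g hE
    have := ih S.X₃ hC
    refine subsingleton_of_forall_eq 0 fun z => ?_
    obtain ⟨w, rfl⟩ := (exact₁ I (i + 1) hS (i + 2) rfl z).1 (Subsingleton.elim _ _)
    rw [Subsingleton.elim w 0, map_zero]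

/-- The short exact sequence `0 → Γ_I N → N → N/Γ_I N → 0`. -/
noncomputable abbrev torsionSeq (N : Type u) [AddCommGroup N] [Module R N] :
    ShortComplex (ModuleCat.{u} R) :=
  ShortComplex.mk (ModuleCat.ofHom (DRing.torsionSub I N).subtype)
    (ModuleCat.ofHom (DRing.torsionSub I N).mkQ) (by ext x; simp)

theorem torsionSeq_shortExact (N : Type u) [AddCommGroup N] [Module R N] : (torsionSeq I N).ShortExact :=
  { exact := (ShortComplex.ShortExact.moduleCat_exact_iff_function_exact _).2
      (LinearMap.exact_subtype_mkQ _)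
    mono_f := (ModuleCat.mono_iff_injective _).2 (Submodule.injective_subtype _)
    epi_g := (ModuleCat.epi_iff_surjective _).2 (Submodule.mkQ_surjective _) }

theorem map_mkQ_bijective [IsNoetherianRing R] (N : Type u) [AddCommGroup N] [Module R N] (i : ℕ) :
    Function.Bijective
      ((localCohomology I (i + 1)).map (ModuleCat.ofHom (DRing.torsionSub I N).mkQ)).hom := by
  have hS := torsionSeq_shortExact I N
  have h1 := subsingleton_of_torsion I i (ModuleCat.of R (DRing.torsionSub I N)) (isPowerTorsion_torsionSub I N)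
  have h2 := subsingleton_of_torsion I (i + 1) (ModuleCat.of R (DRing.torsionSub I N)) (isPowerTorsion_torsionSub I N)
  refine ⟨?_, fun z => ?_⟩
  · rw [injective_iff_map_eq_zero]
    intro x hx
    obtain ⟨w, rfl⟩ := (exact₂ I (i + 1) hS x).1 hx
    rw [Subsingleton.elim w 0, map_zero]
  · exact (exact₃ I (i + 1) hS (i + 2) rfl z).1
      (@Subsingleton.elim _ h2 _ _)

theorem smul_eq_zero_of_forall (i : ℕ) {M : ModuleCat.{u} R} (s : R) (hs : ∀ m : M, s • m = 0)
    (z : (localCohomology I i).obj M) : s • z = 0 := by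
  obtain ⟨n, x, rfl⟩ := exists_toH I i z
  rw [← map_smul, Abelian.Ext.smul_eq_comp_mk₀,
    show s • 𝟙 M = 0 from ModuleCat.hom_ext (LinearMap.ext hs),
    Abelian.Ext.mk₀_zero, Abelian.Ext.comp_zero, map_zero]

end Groth.Agent.LC
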