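import Groth.Agent.LC.DualLocal
import Groth.Agent.LC.FiniteCrit
import Groth.Agent.LC.TopDim3

/-!
# Finite length of low local cohomology: equidimensional and Cohen–Macaulay on the punctured spectrum
-/

universe u

open CategoryTheory Limits IsLocalRing

namespace Groth.Agent.LC

variable {R : Type u} [CommRing R]
variable (M : Type u) [AddCommGroup M] [Module R M]

/-- `ht(p/q) ≤ dim M_p` for `q` in the support. -/
theorem height_map_mk_le_supportDim_localized (q p : PrimeSpectrum R) (hqp : q ≤ p)
    (hq : q ∈ Module.support R M) :
    ((p.asIdeal.map (Ideal.Quotient.mk q.asIdeal)).height : WithBot ℕ∞) ≤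
      Module.supportDim (Localization.AtPrime p.asIdeal) (LocalizedModule p.asIdeal.primeCompl M) := by
  rw [← height_Ici_eq q p hqp, Order.height_eq_krullDim_Iic]
  let A := Localization.AtPrime p.asIdeal
  have hdisj : ∀ x : Set.Iic (⟨p, hqp⟩ : Set.Ici q), Disjoint (p.asIdeal.primeCompl : Set R) (x.1.1.asIdeal : Set R) :=
    fun x => Set.disjoint_left.2 fun a ha hax => ha ((show x.1.1 ≤ p from x.2) hax)
  let c : Set.Iic (⟨p, hqp⟩ : Set.Ici q) → Module.support A (LocalizedModule p.asIdeal.primeCompl M) := fun x =>
    ⟨⟨x.1.1.asIdeal.map (algebraMap R A),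
      IsLocalization.isPrime_of_isPrime_disjoint p.asIdeal.primeCompl A _ x.1.1.isPrime (hdisj x)⟩, by
      obtain ⟨m, hm⟩ := Module.mem_support_iff'.1 (Module.mem_support_mono (show q ≤ x.1.1 from x.1.2) hq)
      refine Module.mem_support_iff'.2 ⟨LocalizedModule.mkLinearMap _ M m, fun r hr hrm => ?_⟩
      obtain ⟨⟨a, t⟩, hat⟩ := IsLocalization.surj p.asIdeal.primeCompl r
      have ha : a ∉ x.1.1.asIdeal := fun ha => hr <| by
        have h := Ideal.mem_map_of_mem (algebraMap R A) ha
        rw [← hat] at h
        exact (Ideal.mul_unit_mem_iff_mem _ (IsLocalization.map_units A t)).1 h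
      have h0 : LocalizedModule.mkLinearMap p.asIdeal.primeCompl M (a • m) = 0 := by
        rw [map_smul, ← algebraMap_smul A a, ← hat, mul_comm, mul_smul, hrm, smul_zero]
      obtain ⟨s, hs⟩ := (IsLocalizedModule.eq_zero_iff p.asIdeal.primeCompl _).1 h0
      refine hm ((s : R) * a) (fun h => ?_) (by rw [mul_smul]; exact hs)
      exact ((x.1.1.isPrime.mem_or_mem h).elim (fun h => s.2 ((show x.1.1 ≤ p from x.2) h)) ha)⟩
  refine Order.krullDim_le_of_strictMono c fun x y hxy => ?_
  refine lt_of_le_of_ne (Ideal.map_mono hxy.le) fun he => hxy.ne ?_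
  have h1 := congrArg (fun z => Ideal.comap (algebraMap R A) z)
    (congrArg (fun z : Module.support A (LocalizedModule p.asIdeal.primeCompl M) => z.1.asIdeal) he)
  simp only [c, IsLocalization.comap_map_of_isPrime_disjoint p.asIdeal.primeCompl A x.1.1.isPrime (hdisj x),
    IsLocalization.comap_map_of_isPrime_disjoint p.asIdeal.primeCompl A y.1.1.isPrime (hdisj y)] at h1
  exact Subtype.ext (Subtype.ext (PrimeSpectrum.ext h1))

variable [IsNoetherianRing R] [Module.Finite R M]

/-- The localization at a minimal prime of the support has dimension zero. -/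
theorem supportDim_localized_minimalPrimes {q : Ideal R} [q.IsPrime]
    (hq : q ∈ (Module.annihilator R M).minimalPrimes) :
    Module.supportDim (Localization.AtPrime q) (LocalizedModule q.primeCompl M) = 0 := by
  let A := Localization.AtPrime q
  have hmem : (⟨q, ‹_›⟩ : PrimeSpectrum R) ∈ Module.support R M := by
    rw [Module.support_eq_zeroLocus]; exact hq.1.2
  have : Nontrivial (LocalizedModule q.primeCompl M) := Module.mem_support_iff.1 hmem
  have : Nonempty (Module.support A (LocalizedModule q.primeCompl M)) :=
    Module.nonempty_support_of_nontrivial.to_subtype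
  have : Module.Finite A (LocalizedModule q.primeCompl M) :=
    Module.Finite.of_isLocalizedModule q.primeCompl (LocalizedModule.mkLinearMap _ M)
  have huniq : ∀ P ∈ Module.support A (LocalizedModule q.primeCompl M),
      P.asIdeal.comap (algebraMap R A) = q := by
    intro P hP
    have hle : P.asIdeal.comap (algebraMap R A) ≤ q :=
      (Ideal.comap_mono (le_maximalIdeal P.isPrime.ne_top)).trans (IsLocalization.AtPrime.under_maximalIdeal A q).le
    refine le_antisymm hle (hq.2 ⟨inferInstance, fun a ha => ?_⟩ hle)
    rw [Module.support_eq_zeroLocus] at hP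
    refine hP (Module.mem_annihilator.2 fun z => ?_)
    induction z using LocalizedModule.induction_on with
    | h z s => rw [algebraMap_smul, LocalizedModule.smul'_mk, Module.mem_annihilator.1 ha z, LocalizedModule.zero_mk]
  have : Subsingleton (Module.support A (LocalizedModule q.primeCompl M)) := ⟨fun a b =>
    Subtype.ext (PrimeSpectrum.localization_comap_injective A q.primeCompl
      (PrimeSpectrum.ext ((huniq _ a.2).trans (huniq _ b.2).symm)))⟩
  exact Order.krullDim_eq_zero

section Quot

variable {S : Type u} [CommRing S] [LocCoh.IsGorensteinLocalRing S] [IsLocalRing R] [Algebra S R]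

/-- `H^i_m(M)` has finite length for `i < dim M` iff `M` is equidimensional and CM on the punctured spectrum. -/
theorem forall_isFiniteLength_H_iff_equidim (hπ : Function.Surjective (algebraMap S R)) (n : ℕ)
    (hn : Module.supportDim R M = n) :
    (∀ i < n, IsFiniteLength R (LocCoh.H (maximalIdeal R) i M)) ↔
      ((∀ p ∈ (Module.annihilator R M).minimalPrimes, ringKrullDim (R ⧸ p) = n) ∧
        ∀ (p : Ideal R) [p.IsPrime], p ≠ maximalIdeal R → Module.annihilator R M ≤ p →
          LocCoh.IsCohenMacaulayModule (Localization.AtPrime p) (LocalizedModule p.primeCompl M)) := by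
  have : Nontrivial M := by
    rw [← Module.supportDim_ne_bot_iff_nontrivial R M, hn]; exact WithBot.natCast_ne_bot n
  rw [forall_isFiniteLength_H_iff M hπ n]
  -- the numbers attached to a prime of the support
  have num : ∀ (p : Ideal R) [p.IsPrime], Module.annihilator R M ≤ p → ∃ e s δ : ℕ, ringKrullDim (R ⧸ p) = e ∧
      Module.supportDim (Localization.AtPrime p) (LocalizedModule p.primeCompl M) = s ∧
      LocCoh.depth (Localization.AtPrime p) (LocalizedModule p.primeCompl M) = δ ∧ s + e ≤ n ∧ δ ≤ s := by
    intro p _ hle
    let A := Localization.AtPrime p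
    have hmem : (⟨p, ‹_›⟩ : PrimeSpectrum R) ∈ Module.support R M := by
      rw [Module.support_eq_zeroLocus]; exact hle
    have : Nontrivial (LocalizedModule p.primeCompl M) := Module.mem_support_iff.1 hmem
    have : IsNoetherianRing A := IsLocalization.isNoetherianRing p.primeCompl A inferInstance
    have : Module.Finite A (LocalizedModule p.primeCompl M) :=
      Module.Finite.of_isLocalizedModule p.primeCompl (LocalizedModule.mkLinearMap _ M)
    have : Nontrivial (R ⧸ p) := Ideal.Quotient.nontrivial_iff.2 ‹p.IsPrime›.ne_top
    obtain ⟨e, he⟩ := exists_supportDim_eq_nat (R := R) (R ⧸ p)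
    rw [Module.supportDim_quotient_eq_ringKrullDim] at he
    obtain ⟨s, hs⟩ := exists_supportDim_eq_nat (R := A) (LocalizedModule p.primeCompl M)
    obtain ⟨δ, hδ⟩ := exists_depth_eq_nat (R := A) (LocalizedModule p.primeCompl M)
    refine ⟨e, s, δ, he, hs, hδ, ?_, ?_⟩
    · have h := height_supp_add_coheight_le M hmem
      rw [coheight_eq_ringKrullDim_quotient, he, hn] at h
      change Module.supportDim A (LocalizedModule p.primeCompl M) + _ ≤ _ at h
      rw [hs] at h
      exact_mod_cast h
    · have h := depth_le_supportDim (R := A) (LocalizedModule p.primeCompl M)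
      rw [hδ, hs] at h
      exact_mod_cast h
  constructor
  · intro h
    refine ⟨fun q hq => ?_, fun p hp hne hle => ?_⟩
    · have := hq.1.1
      rcases eq_or_ne q (maximalIdeal R) with rfl | hne
      · have hzero : ∀ P ∈ Module.support R M, P.asIdeal = maximalIdeal R := fun P hP => by
          rw [Module.support_eq_zeroLocus] at hP
          exact le_antisymm (le_maximalIdeal P.isPrime.ne_top)
            (hq.2 ⟨P.isPrime, hP⟩ (le_maximalIdeal P.isPrime.ne_top))
        have : Subsingleton (Module.support R M) := ⟨fun a b =>
          Subtype.ext (PrimeSpectrum.ext ((hzero _ a.2).trans (hzero _ b.2).symm))⟩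
        have : Nonempty (Module.support R M) := Module.nonempty_support_of_nontrivial.to_subtype
        rw [← hn, Module.supportDim, Order.krullDim_eq_zero]
        exact ringKrullDim_eq_zero_of_field (ResidueField R)
      · obtain ⟨e, s, δ, he, hs, hδ, h1, h2⟩ := num q hq.1.2
        obtain rfl : s = 0 := by
          have h0 := (supportDim_localized_minimalPrimes M hq).symm.trans hs
          exact_mod_cast h0.symm
        have := h q hne e he
        rw [hδ] at this
        have : n ≤ δ + e := by exact_mod_cast this
        rw [he]
        exact_mod_cast (by omega : e = n)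
    · obtain ⟨e, s, δ, he, hs, hδ, h1, h2⟩ := num p hle
      have := h p hne e he
      rw [hδ] at this
      have : n ≤ δ + e := by exact_mod_cast this
      unfold LocCoh.IsCohenMacaulayModule
      rw [hs, hδ]
      exact_mod_cast (by omega : s = δ)
  · rintro ⟨heq, hcm⟩ p hp hne e he
    by_cases hle : Module.annihilator R M ≤ p
    · obtain ⟨e', s, δ, he', hs, hδ, h1, h2⟩ := num p hle
      obtain rfl : e = e' := by rw [he] at he'; exact_mod_cast he'
      have hsδ : s = δ := by
        have := hcm p hne hle
        unfold LocCoh.IsCohenMacaulayModule at this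
        rw [hs, hδ] at this
        exact_mod_cast this
      obtain ⟨q, hq, hqp⟩ := Ideal.exists_minimalPrimes_le hle
      have := hq.1.1
      have hqmem : (⟨q, hq.1.1⟩ : PrimeSpectrum R) ∈ Module.support R M := by
        rw [Module.support_eq_zeroLocus]; exact hq.1.2
      have h3 := height_map_mk_le_supportDim_localized M ⟨q, hq.1.1⟩ ⟨p, hp⟩ hqp hqmem
      change _ ≤ Module.supportDim (Localization.AtPrime p) (LocalizedModule p.primeCompl M) at h3
      rw [hs] at h3
      -- heights in the Gorenstein ring
      have := isCohenMacaulayLocalRing_of_gorenstein (R := S)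
      obtain ⟨D, hD, -, -⟩ := gorenstein_basic (R := S)
      let P := p.comap (algebraMap S R)
      let Q := q.comap (algebraMap S R)
      have hQP : Q ≤ P := Ideal.comap_mono hqp
      have hP := height_add_ringKrullDim_quotient P (Ideal.IsPrime.ne_top inferInstance)
      have hQ := height_add_ringKrullDim_quotient Q (Ideal.IsPrime.ne_top inferInstance)
      rw [ringKrullDim_quotient_comap hπ p, he, hD] at hP
      rw [ringKrullDim_quotient_comap hπ q, heq q hq, hD] at hQ
      have h4 := depth_localized_le_add_height S Q P hQP
      rw [depth_localized_self, depth_localized_self] at h4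
      have h5 : (P.map (Ideal.Quotient.mk Q)).height = (p.map (Ideal.Quotient.mk q)).height := by
        let φ : S ⧸ Q ≃+* R ⧸ q := (Ideal.quotEquivOfEq (by rw [← RingHom.comap_ker, Ideal.mk_ker])).trans
          (RingHom.quotientKerEquivOfSurjective (f := (Ideal.Quotient.mk q).comp (algebraMap S R))
            (Ideal.Quotient.mk_surjective.comp hπ))
        have h : (P.map (Ideal.Quotient.mk Q)).map φ.toRingHom = p.map (Ideal.Quotient.mk q) := by
          rw [Ideal.map_map, show φ.toRingHom.comp (Ideal.Quotient.mk Q) =
            (Ideal.Quotient.mk q).comp (algebraMap S R) from RingHom.ext fun _ => rfl,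
            ← Ideal.map_map, Ideal.map_comap_of_surjective _ hπ]
        exact (RingEquiv.height_map φ (P.map (Ideal.Quotient.mk Q))).symm.trans (congrArg Ideal.height h)
      rw [h5] at h4
      obtain ⟨hp', hhp⟩ := ENat.ne_top_iff_exists.1 (Ideal.height_ne_top (I := P) (Ideal.IsPrime.ne_top inferInstance))
      obtain ⟨hq', hhq⟩ := ENat.ne_top_iff_exists.1 (Ideal.height_ne_top (I := Q) (Ideal.IsPrime.ne_top inferInstance))
      rw [← hhp] at hP h4
      rw [← hhq] at hQ h4
      have hk : (p.map (Ideal.Quotient.mk q)).height ≤ (s : ℕ∞) := by exact_mod_cast h3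
      rw [hδ]
      have h6 : hp' ≤ hq' + s := by
        have := h4.trans (add_le_add le_rfl hk)
        exact_mod_cast this
      have hP : e + hp' = D := by exact_mod_cast hP
      have hQ : n + hq' = D := by exact_mod_cast hQ
      exact_mod_cast (by omega : n ≤ δ + e)
    · have : Subsingleton (LocalizedModule p.primeCompl M) := by
        rw [← not_nontrivial_iff_subsingleton]
        intro hnt
        have : (⟨p, hp⟩ : PrimeSpectrum R) ∈ Module.support R M := Module.mem_support_iff.2 hnt
        rw [Module.support_eq_zeroLocus] at this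
        exact hle this
      rw [LocCoh.depth, LocCoh.idealDepth, if_pos (Subsingleton.elim _ _)]
      simp

end Quot

end Groth.Agent.LC
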