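import Groth.Prelude.Def_CAlg
import Groth.Prelude.Def_Wider
import Mathlib.Algebra.Homology.DerivedCategory.TStructure
import Mathlib.Algebra.Homology.DerivedCategory.FullyFaithful
import Mathlib.Algebra.Homology.DerivedCategory.Ext.EnoughProjectives

/-!
A Noetherian local ring is Gorenstein iff `A[0]` is a dualizing complex.
-/

set_option autoImplicit false

universe u

open CategoryTheory CategoryTheory.Limits
attribute [local instance] HasDerivedCategory.standard

namespace Groth.Agent.LC

variable (A : Type u) [CommRing A]

theorem subsingleton_hom_shift_neg (M N : Type u) [AddCommGroup M] [Module A M] [AddCommGroup N]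
    [Module A N] (i : ℤ) (hi : i < 0) :
    Subsingleton (Dual.inD A M ⟶ (Dual.inD A N)⟦i⟧) := by
  refine ⟨fun f g => ?_⟩
  let t := DerivedCategory.TStructure.t (C := ModuleCat.{u} A)
  haveI : t.IsGE ((Dual.inD A N)⟦i⟧) (-i) :=
    t.isGE_shift (Dual.inD A N) 0 i (-i) (by omega)
  have key : ∀ k : Dual.inD A M ⟶ (Dual.inD A N)⟦i⟧, k = 0 :=
    fun k => t.zero k 0 (-i) (by omega)
  rw [key f, key g]

theorem subsingleton_hom_shift_nat_iff (M N : Type u) [AddCommGroup M] [Module A M]
    [AddCommGroup N] [Module A N] (n : ℕ) :
    Subsingleton (Dual.inD A M ⟶ (Dual.inD A N)⟦(n : ℤ)⟧) ↔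
      Subsingleton (Abelian.Ext.{u} (ModuleCat.of A M) (ModuleCat.of A N) n) :=
  (Abelian.Ext.homEquiv (X := ModuleCat.of A M) (Y := ModuleCat.of A N) (n := n)).subsingleton_congr.symm

theorem isDualizing_self_of_injDim [IsNoetherianRing A] {n : ℕ}
    [HasInjectiveDimensionLT (ModuleCat.of A A) n] : Dual.IsDualizing A (Dual.inD A A) where
  isNoetherianRing := inferInstance
  finite_injective_dimension := by
    refine ⟨0, (n : ℤ), fun M _ _ i hi => ?_⟩
    rcases hi with hi | hi
    · exact subsingleton_hom_shift_neg A M A i hi
    · lift i to ℕ using (by omega)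
      rw [subsingleton_hom_shift_nat_iff]
      exact HasInjectiveDimensionLT.subsingleton (ModuleCat.of A A) n i (by omega) _
  finite_cohomology := by
    intro i
    by_cases hi : i = 0
    · subst hi
      have e := ((DerivedCategory.singleFunctorCompHomologyFunctorIso (ModuleCat.{u} A) 0).app
        (ModuleCat.of A A)).toLinearEquiv
      haveI : Module.Finite A ((𝟭 (ModuleCat.{u} A)).obj (ModuleCat.of A A)) :=
        inferInstanceAs (Module.Finite A A)
      exact Module.Finite.equiv e.symm
    · have hz : IsZero ((DerivedCategory.homologyFunctor (ModuleCat.{u} A) i).obj (Dual.inD A A)) := by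
        rcases lt_or_gt_of_ne hi with h | h
        · exact DerivedCategory.isZero_of_isGE _ 0 i h
        · exact DerivedCategory.isZero_of_isLE _ 0 i h
      haveI : Subsingleton ((DerivedCategory.homologyFunctor (ModuleCat.{u} A) i).obj (Dual.inD A A) :
          ModuleCat.{u} A) := ModuleCat.subsingleton_of_isZero hz
      exact Module.Finite.of_finite
  toEnd_bijective := by
    constructor
    · intro a b h
      have h' : a • (𝟙 (ModuleCat.of A A)) = b • (𝟙 (ModuleCat.of A A)) := by
        apply (DerivedCategory.singleFunctor (ModuleCat.{u} A) 0).map_injective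
        rw [Functor.map_smul, Functor.map_smul, CategoryTheory.Functor.map_id]
        exact h
      have := congrArg (fun f : ModuleCat.of A A ⟶ ModuleCat.of A A => f.hom (1 : A)) h'
      simpa using this
    · intro f
      obtain ⟨g, rfl⟩ := (DerivedCategory.singleFunctor (ModuleCat.{u} A) 0).map_surjective f
      refine ⟨g.hom (1 : A), ?_⟩
      have hg : g.hom (1 : A) • (𝟙 (ModuleCat.of A A)) = g := by
        apply ModuleCat.hom_ext
        apply LinearMap.ext
        intro x
        have e1 : g.hom (x • (1 : A)) = x • g.hom (1 : A) := map_smul g.hom x 1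
        simp only [smul_eq_mul, mul_one] at e1
        simp [e1, mul_comm]
      show g.hom (1 : A) • 𝟙 (Dual.inD A A) = _
      conv_rhs => rw [← hg]
      rw [Functor.map_smul, CategoryTheory.Functor.map_id]
  ext_self_subsingleton := by
    intro i hi
    rcases lt_or_gt_of_ne hi with h | h
    · exact subsingleton_hom_shift_neg A A A i h
    · lift i to ℕ using (by omega)
      rw [subsingleton_hom_shift_nat_iff]
      haveI : Projective (ModuleCat.of A A) :=
        (IsProjective.iff_projective (R := A) A).1 inferInstance
      obtain ⟨k, rfl⟩ : ∃ k, i = k + 1 := ⟨i - 1, by omega⟩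
      exact ⟨fun a b => (Abelian.Ext.eq_zero_of_projective a).trans
        (Abelian.Ext.eq_zero_of_projective b).symm⟩

theorem exists_injDim_of_isDualizing [IsNoetherianRing A]
    (h : Dual.IsDualizing A (Dual.inD A A)) :
    ∃ n : ℕ, HasInjectiveDimensionLT (ModuleCat.of A A) n := by
  obtain ⟨a, b, hab⟩ := h.finite_injective_dimension
  refine ⟨b.toNat + 1, ?_⟩
  rw [hasInjectiveDimensionLT_iff]
  intro i hi Y e
  haveI : Subsingleton (Abelian.Ext.{u} Y (ModuleCat.of A A) i) := by
    rw [← subsingleton_hom_shift_nat_iff A Y A i]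
    refine hab Y (i : ℤ) (Or.inr ?_)
    have := Int.self_le_toNat b
    omega
  exact Subsingleton.elim _ _

theorem gorenstein_iff_isDualizing [IsLocalRing A] [IsNoetherianRing A] :
    LocCoh.IsGorensteinLocalRing A ↔ Dual.IsDualizing A (Dual.inD A A) := by
  constructor
  · intro h
    obtain ⟨n, hn⟩ := h.exists_hasInjectiveDimensionLT
    exact isDualizing_self_of_injDim A (n := n)
  · intro h
    exact { exists_hasInjectiveDimensionLT := exists_injDim_of_isDualizing A h }

end Groth.Agent.LC
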