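import Groth.Agent.LC.GorRows
import Groth.Agent.LC.CohAcyclic
import Groth.Agent.LC.DualLocal
import Groth.Agent.LC.MatlisExtra

/-!
# Quotients of Gorenstein local rings by regular sequences
-/

universe u

open CategoryTheory IsLocalRing

namespace Groth.Agent.LC

variable {A B : Type u} [CommRing A] [IsNoetherianRing A] [IsLocalRing A] [CommRing B]
  [IsNoetherianRing B] [IsLocalRing B]

/-- A semilinear image of the `x`-torsion of an injective module is injective. -/
theorem injective_of_semilinear (σ : A →+* B) (hσ : Function.Surjective σ) {x : A}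
    (hker : RingHom.ker σ = Ideal.span {x}) {E T : Type u} [AddCommGroup E] [Module A E] [Module.Injective A E]
    [AddCommGroup T] [Module B T] (δ : T →+ E) (hδ : ∀ a t, δ (σ a • t) = a • δ t)
    (hinj : Function.Injective δ) (hrange : ∀ w : E, x • w = 0 → ∃ t, δ t = w) :
    Module.Injective B T := by
  refine Module.Baer.injective fun J g => ?_
  let g' : Ideal.comap σ J →ₗ[A] E :=
    { toFun := fun a => δ (g ⟨σ a.1, a.2⟩)
      map_add' := fun a b => by
        rw [← map_add, ← map_add]
        exact congrArg δ (congrArg g (Subtype.ext (map_add σ a.1 b.1)))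
      map_smul' := fun r a => by
        rw [RingHom.id_apply, ← hδ, ← map_smul]
        exact congrArg δ (congrArg g (Subtype.ext (map_mul σ r a.1))) }
  obtain ⟨h, hh⟩ := Module.Baer.of_injective (inferInstance : Module.Injective A E) (Ideal.comap σ J) g'
  have hx : x ∈ Ideal.comap σ J := by
    show σ x ∈ J
    rw [RingHom.mem_ker.1 (hker ▸ Ideal.mem_span_singleton_self x)]
    exact J.zero_mem
  have hx0 : x • h 1 = 0 := by
    rw [← map_smul, smul_eq_mul, mul_one, hh x hx]
    show δ (g ⟨σ x, _⟩) = 0
    rw [show (⟨σ x, hx⟩ : J) = 0 from Subtype.ext (RingHom.mem_ker.1 (hker ▸ Ideal.mem_span_singleton_self x)),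
      map_zero, map_zero]
  obtain ⟨t, ht⟩ := hrange (h 1) hx0
  refine ⟨LinearMap.toSpanSingleton B T t, fun b hb => hinj ?_⟩
  obtain ⟨a, rfl⟩ := hσ b
  rw [LinearMap.toSpanSingleton_apply, hδ, ht, ← map_smul, smul_eq_mul, mul_one, hh a hb]
  rfl

/-- Killed modules have killed local cohomology. -/
theorem smul_H_eq_zero {R : Type u} [CommRing R] [IsNoetherianRing R] (I : Ideal R) (i : ℕ)
    {M : ModuleCat.{u} R} {r : R} (hr : ∀ m : M, r • m = 0) (z : (localCohomology I i).obj M) :
    r • z = 0 := by
  obtain ⟨n, x, rfl⟩ := exists_toH I i z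
  have h0 : r • 𝟙 M = 0 := ModuleCat.hom_ext (LinearMap.ext hr)
  have h1 : r • x = 0 := by
    rw [← Abelian.Ext.comp_mk₀_id x, ← Abelian.Ext.comp_smul, ← Abelian.Ext.mk₀_smul, h0,
      Abelian.Ext.mk₀_zero, Abelian.Ext.comp_zero]
  rw [← map_smul, h1, map_zero]

/-- A surjection with principal kernel generated by a regular element preserves being Gorenstein. -/
theorem gorenstein_of_surjective_span_singleton [LocCoh.IsGorensteinLocalRing A] (σ : A →+* B)
    (hσ : Function.Surjective σ) {x : A} (hx : x ∈ maximalIdeal A) (hreg : IsSMulRegular A x)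
    (hker : RingHom.ker σ = Ideal.span {x}) : LocCoh.IsGorensteinLocalRing B := by
  obtain ⟨D, hv, hinjE⟩ := gorenstein_iff_H.1 (inferInstance : LocCoh.IsGorensteinLocalRing A)
  letI : Algebra A B := σ.toAlgebra
  let m := maximalIdeal A
  let f : ModuleCat.of A A ⟶ ModuleCat.of A A := x • 𝟙 _
  let g : ModuleCat.of A A ⟶ ModuleCat.of A B := ModuleCat.ofHom (Algebra.linearMap A B)
  have hfg : f ≫ g = 0 := ModuleCat.hom_ext (LinearMap.ext fun a => by
    show σ (x * a) = 0
    rw [map_mul, RingHom.mem_ker.1 (hker ▸ Ideal.mem_span_singleton_self x), zero_mul])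
  let S : ShortComplex (ModuleCat.{u} A) := ShortComplex.mk f g hfg
  have hS : S.ShortExact :=
    { exact := (ShortComplex.ShortExact.moduleCat_exact_iff_function_exact _).2 fun a => by
        refine ⟨fun ha => ?_, ?_⟩
        · have : a ∈ Ideal.span {x} := hker ▸ RingHom.mem_ker.2 ha
          obtain ⟨c, rfl⟩ := Ideal.mem_span_singleton'.1 this
          exact ⟨c, mul_comm x c⟩
        · rintro ⟨c, rfl⟩
          exact LinearMap.congr_fun (congrArg ModuleCat.Hom.hom hfg) c
      mono_f := (ModuleCat.mono_iff_injective _).2 fun a b hab => hreg hab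
      epi_g := (ModuleCat.epi_iff_surjective _).2 hσ }
  have hmap : ∀ j (z : (localCohomology m j).obj S.X₁), ((localCohomology m j).map S.f).hom z = x • z := by
    intro j z
    obtain ⟨n, y, rfl⟩ := exists_toH m j z
    rw [toH_natural]
    show toH m j _ n (y.comp (Abelian.Ext.mk₀ (x • 𝟙 _)) (add_zero j)) = _
    rw [Abelian.Ext.mk₀_smul, Abelian.Ext.comp_smul, Abelian.Ext.comp_mk₀_id, map_smul]
  -- `x` is onto on `H^D`
  let E := (localCohomology m D).obj (ModuleCat.of A A)
  have : Module.Injective A E := hinjE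
  have hdiv : Function.Surjective fun w : E => x • w := by
    intro w
    obtain ⟨h, hh⟩ := exists_extension (I := E) (LinearMap.mulLeft A x) (fun a b hab => hreg hab)
      (LinearMap.toSpanSingleton A E w)
    refine ⟨h 1, ?_⟩
    show x • h 1 = w
    have := LinearMap.congr_fun hh 1
    rwa [LinearMap.comp_apply, LinearMap.mulLeft_apply, mul_one, LinearMap.toSpanSingleton_apply, one_smul,
      ← mul_one x, ← smul_eq_mul, map_smul] at this
  -- `D` is positive
  have hD : D ≠ 0 := by
    rintro rfl
    obtain ⟨d, hd, hδ, -⟩ := gorenstein_basic (R := A)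
    have hd0 : d = 0 := by
      by_contra hne
      have hnt : Nontrivial ((localCohomology m d).obj (ModuleCat.of A A)) := by
        obtain ⟨g, hg⟩ := isInjectiveHull_H_gorenstein (R := A) hd
        exact hg.injective.nontrivial
      exact (not_nontrivial_iff_subsingleton.2 (hv d hne)) hnt
    subst hd0
    have h1 : (1 : ℕ∞) ≤ LocCoh.depth A A := by
      have := Groth.Agent.Alg6.length_le_idealDepth (M := A) (rs := [x]) (I := m)
        ((RingTheory.Sequence.isWeaklyRegular_singleton_iff A x).2 hreg) (fun r hr => (List.mem_singleton.1 hr) ▸ hx)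
      simpa [LocCoh.depth] using this
    rw [hδ] at h1
    simp at h1
  obtain ⟨d, rfl⟩ : ∃ d, D = d + 1 := ⟨D - 1, by omega⟩
  have hTB : ∀ i, ∃ φ : (localCohomology (maximalIdeal B) i).obj (ModuleCat.of B B) ≃+
      (localCohomology m i).obj (ModuleCat.of A B), ∀ a t, φ (σ a • t) = a • φ t := by
    intro i
    have h := exists_indep (R := A) (R' := B) m i B
    rw [map_maximalIdeal_of_surjective (algebraMap A B) hσ] at h
    exact h
  refine gorenstein_iff_H.2 ⟨d, fun i hi => ?_, ?_⟩
  · obtain ⟨φ, -⟩ := hTB i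
    refine @Function.Injective.subsingleton _ _ φ φ.injective ?_
    refine subsingleton_of_forall_eq 0 fun z => ?_
    have hδ0 : δH m i hS (i + 1) rfl z = 0 := by
      by_cases h : i + 1 = d + 1
      · omega
      · exact @Subsingleton.elim _ (hv (i + 1) h) _ _
    obtain ⟨w, rfl⟩ := (exact₃ m i hS (i + 1) rfl z).1 hδ0
    by_cases h : i = d + 1
    · subst h
      obtain ⟨w', rfl⟩ := hdiv w
      rw [show ((localCohomology m (d + 1)).map S.g).hom (x • w') = x • ((localCohomology m (d + 1)).map S.g).hom w'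
        from map_smul _ _ _]
      refine smul_H_eq_zero m (d + 1) (fun b : B => ?_) _
      rw [Algebra.smul_def]
      show σ x * b = 0
      rw [RingHom.mem_ker.1 (hker ▸ Ideal.mem_span_singleton_self x), zero_mul]
    · rw [@Subsingleton.elim _ (hv i h) w 0, map_zero]
  · obtain ⟨φ, hφ⟩ := hTB d
    let δ := δH m d hS (d + 1) rfl
    refine injective_of_semilinear σ hσ hker (E := E) (δ.toAddMonoidHom.comp φ.toAddMonoidHom)
      (fun a t => ?_) ?_ fun w hw => ?_
    · show δ (φ (σ a • t)) = a • δ (φ t)
      rw [hφ, map_smul]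
    · refine ((injective_iff_map_eq_zero δ).2 fun z hz => ?_).comp φ.injective
      obtain ⟨w, rfl⟩ := (exact₃ m d hS (d + 1) rfl z).1 hz
      rw [@Subsingleton.elim _ (hv d (by omega)) w 0, map_zero]
    · obtain ⟨z, hz⟩ := (exact₁ m d hS (d + 1) rfl w).1 (by rw [hmap]; exact hw)
      exact ⟨φ.symm z, show δ (φ (φ.symm z)) = w by rw [φ.apply_symm_apply, hz]⟩

/-- A quotient of a Gorenstein local ring by a regular sequence is Gorenstein. -/
theorem gorenstein_quotient_ofList [LocCoh.IsGorensteinLocalRing A] (rs : List A)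
    (hmem : ∀ r ∈ rs, r ∈ maximalIdeal A) (hreg : RingTheory.Sequence.IsWeaklyRegular A rs) :
    LocCoh.IsGorensteinLocalRing (A ⧸ Ideal.ofList rs) := by
  have hloc : ∀ J : Ideal A, J ≤ maximalIdeal A → IsLocalRing (A ⧸ J) := fun J hJ => by
    have : Nontrivial (A ⧸ J) := Ideal.Quotient.nontrivial_iff.2 fun h =>
      (maximalIdeal.isMaximal A).ne_top (top_unique (h ▸ hJ))
    exact .of_surjective' _ Ideal.Quotient.mk_surjective
  induction rs using List.reverseRecOn with
  | nil =>
    have := hloc (Ideal.ofList ([] : List A)) (ofList_le _ hmem)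
    have hb : Function.Bijective (Ideal.Quotient.mk (Ideal.ofList ([] : List A))) :=
      ⟨(injective_iff_map_eq_zero _).2 fun a ha => by
        rw [Ideal.Quotient.eq_zero_iff_mem, Ideal.ofList_nil] at ha
        exact ha, Ideal.Quotient.mk_surjective⟩
    obtain ⟨N, hv, hinj⟩ := gorenstein_iff_H.1 (inferInstance : LocCoh.IsGorensteinLocalRing A)
    let σ := Ideal.Quotient.mk (Ideal.ofList ([] : List A))
    have hφ : ∀ i, ∃ φ : (localCohomology (maximalIdeal (A ⧸ Ideal.ofList ([] : List A))) i).obj
          (ModuleCat.of (A ⧸ Ideal.ofList ([] : List A)) (A ⧸ Ideal.ofList ([] : List A))) ≃+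
        (localCohomology (maximalIdeal A) i).obj (ModuleCat.of A A), ∀ a t, φ (σ a • t) = a • φ t := by
      intro i
      have h := exists_indep (R := A) (R' := A ⧸ Ideal.ofList ([] : List A)) (maximalIdeal A) i
        (A ⧸ Ideal.ofList ([] : List A))
      rw [map_maximalIdeal_of_surjective (algebraMap A (A ⧸ Ideal.ofList ([] : List A)))
        Ideal.Quotient.mk_surjective] at h
      obtain ⟨φ, hφ⟩ := h
      let e : A ≃ₗ[A] A ⧸ Ideal.ofList ([] : List A) := LinearEquiv.ofBijective (Algebra.linearMap A _) hb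
      let e' := ((localCohomology (maximalIdeal A) i).mapIso e.toModuleIso).toLinearEquiv
      exact ⟨φ.trans e'.symm.toAddEquiv, fun a t => (congrArg e'.symm (hφ a t)).trans (map_smul e'.symm a _)⟩
    refine gorenstein_iff_H.2 ⟨N, fun i hi => ?_, ?_⟩
    · obtain ⟨φ, -⟩ := hφ i
      exact @Function.Injective.subsingleton _ _ φ φ.injective (hv i hi)
    · obtain ⟨φ, hφ'⟩ := hφ N
      exact injective_of_semilinear σ Ideal.Quotient.mk_surjective (x := 0)
        (by rw [Ideal.mk_ker, Ideal.ofList_nil]; simp) φ.toAddMonoidHom hφ' φ.injective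
        fun w _ => ⟨φ.symm w, φ.apply_symm_apply w⟩
  | append_singleton rs x ih =>
    rw [isWeaklyRegular_concat_iff] at hreg
    have hmem' : ∀ r ∈ rs, r ∈ maximalIdeal A := fun r hr => hmem r (by simp [hr])
    have := ih hmem' hreg.1
    have := hloc (Ideal.ofList (rs ++ [x])) (ofList_le _ hmem)
    have hle : Ideal.ofList rs ≤ Ideal.ofList (rs ++ [x]) := by
      rw [Ideal.ofList_append]; exact le_sup_left
    refine gorenstein_of_surjective_span_singleton (Ideal.Quotient.factor hle)
      (Ideal.Quotient.factor_surjective hle) (x := Ideal.Quotient.mk _ x) ?_ ?_ ?_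
    · rw [mem_maximalIdeal, mem_nonunits_iff]
      intro hu
      have := IsLocalHom.of_surjective (Ideal.Quotient.mk (Ideal.ofList rs)) Ideal.Quotient.mk_surjective
      exact (mem_maximalIdeal _).1 (hmem x (by simp)) (isUnit_of_map_unit _ _ hu)
    · intro a b hab
      obtain ⟨a, rfl⟩ := Ideal.Quotient.mk_surjective a
      obtain ⟨b, rfl⟩ := Ideal.Quotient.mk_surjective b
      have h1 := Ideal.Quotient.eq.1 (show Ideal.Quotient.mk (Ideal.ofList rs) (x * a) =
        Ideal.Quotient.mk _ (x * b) from by rw [map_mul, map_mul]; exact hab)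
      have e : (Ideal.ofList rs • (⊤ : Submodule A A)) = Ideal.ofList rs := by
        rw [smul_eq_mul, Ideal.mul_top]
      refine Ideal.Quotient.eq.2 ?_
      have h2 : (Submodule.Quotient.mk (a - b) : A ⧸ (Ideal.ofList rs • (⊤ : Submodule A A))) = 0 := by
        refine hreg.2 ?_
        show x • Submodule.Quotient.mk (a - b) = x • 0
        rw [smul_zero, ← Submodule.Quotient.mk_smul, Submodule.Quotient.mk_eq_zero, e, smul_eq_mul, mul_sub]
        exact h1
      rwa [Submodule.Quotient.mk_eq_zero, e] at h2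
    · rw [Ideal.Quotient.factor_ker, Ideal.ofList_append, Ideal.map_sup, Ideal.map_quotient_self, bot_sup_eq,
        Ideal.ofList_singleton, Ideal.map_span, Set.image_singleton]

/-- The converse: lifting the Gorenstein property from the quotient by a regular element. -/
theorem gorenstein_of_quotient {x : A} (hx : x ∈ maximalIdeal A) (hreg : IsSMulRegular A x)
    [IsLocalRing (A ⧸ Ideal.span {x})] [LocCoh.IsGorensteinLocalRing (A ⧸ Ideal.span {x})] :
    LocCoh.IsGorensteinLocalRing A := by
  let m := maximalIdeal A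
  let S' := A ⧸ Ideal.span {x}
  have hσ : Function.Surjective (algebraMap A S') := Ideal.Quotient.mk_surjective
  obtain ⟨d, hd, hδ, -⟩ := gorenstein_basic (R := S')
  have hv : ∀ i, i ≠ d → Subsingleton ((localCohomology (maximalIdeal S') i).obj (ModuleCat.of S' S')) := by
    intro i hi
    rcases Nat.lt_or_gt_of_ne hi with h' | h'
    · exact subsingleton_H_low_of_depth hδ.ge i h'
    · obtain ⟨k, rfl⟩ : ∃ k, i = k + 1 := ⟨i - 1, by omega⟩
      exact subsingleton_H_succ_of_ringKrullDim _
        (hd.le.trans (by exact_mod_cast Nat.lt_succ_iff.1 h')) _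
  have hTB : ∀ i, ∃ φ : (localCohomology (maximalIdeal S') i).obj (ModuleCat.of S' S') ≃+
      (localCohomology m i).obj (ModuleCat.of A S'), ∀ a t, φ (algebraMap A S' a • t) = a • φ t := by
    intro i
    have h := exists_indep (R := A) (R' := S') m i S'
    rw [map_maximalIdeal_of_surjective (algebraMap A S') hσ] at h
    exact h
  have hvB : ∀ i, i ≠ d → Subsingleton ((localCohomology m i).obj (ModuleCat.of A S')) := fun i hi => by
    obtain ⟨φ, -⟩ := hTB i
    exact @Function.Surjective.subsingleton _ _ φ (hv i hi) φ.surjective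
  -- the exact sequence
  let f : ModuleCat.of A A ⟶ ModuleCat.of A A := x • 𝟙 _
  let g : ModuleCat.of A A ⟶ ModuleCat.of A S' := ModuleCat.ofHom (Algebra.linearMap A S')
  have hfg : f ≫ g = 0 := ModuleCat.hom_ext (LinearMap.ext fun a => by
    show algebraMap A S' (x * a) = 0
    exact Ideal.Quotient.eq_zero_iff_mem.2 (Ideal.mem_span_singleton.2 ⟨a, rfl⟩))
  let S : ShortComplex (ModuleCat.{u} A) := ShortComplex.mk f g hfg
  have hS : S.ShortExact :=
    { exact := (ShortComplex.ShortExact.moduleCat_exact_iff_function_exact _).2 fun a => by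
        refine ⟨fun ha => ?_, ?_⟩
        · obtain ⟨c, rfl⟩ := Ideal.mem_span_singleton'.1 (Ideal.Quotient.eq_zero_iff_mem.1 ha)
          exact ⟨c, mul_comm x c⟩
        · rintro ⟨c, rfl⟩
          exact LinearMap.congr_fun (congrArg ModuleCat.Hom.hom hfg) c
      mono_f := (ModuleCat.mono_iff_injective _).2 fun a b hab => hreg hab
      epi_g := (ModuleCat.epi_iff_surjective _).2 hσ }
  have hmap : ∀ j (z : (localCohomology m j).obj S.X₁), ((localCohomology m j).map S.f).hom z = x • z := by
    intro j z
    obtain ⟨n, y, rfl⟩ := exists_toH m j z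
    rw [toH_natural]
    show toH m j _ n (y.comp (Abelian.Ext.mk₀ (x • 𝟙 _)) (add_zero j)) = _
    rw [Abelian.Ext.mk₀_smul, Abelian.Ext.comp_smul, Abelian.Ext.comp_mk₀_id, map_smul]
  have hpow : ∀ {j} (z : (localCohomology m j).obj (ModuleCat.of A A)), ∃ k : ℕ, x ^ k • z = 0 := fun {j} z => by
    obtain ⟨k, hk⟩ := isPowerTorsion_obj m j _ z
    exact ⟨k, hk _ (Ideal.pow_mem_pow hx k)⟩
  have hvA : ∀ j, j ≠ d + 1 → Subsingleton ((localCohomology m j).obj (ModuleCat.of A A)) := by
    intro j hj
    have hinj : ∀ z : (localCohomology m j).obj (ModuleCat.of A A), x • z = 0 → z = 0 := by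
      intro z hz
      rcases j with _ | i
      · apply (H0Equiv m (ModuleCat.of A A)).injective
        rw [map_zero]
        have h1 := congrArg (H0Equiv m (ModuleCat.of A A)) hz
        rw [map_smul, map_zero] at h1
        refine Subtype.ext (hreg ?_)
        show x * _ = x * _
        rw [ZeroMemClass.coe_zero, mul_zero]
        exact congrArg Subtype.val h1
      · obtain ⟨w, rfl⟩ := (exact₁ m i hS (i + 1) rfl z).1 (by rw [hmap]; exact hz)
        rw [@Subsingleton.elim _ (hvB i (by omega)) w 0, map_zero]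
    refine subsingleton_of_forall_eq 0 fun z => ?_
    obtain ⟨k, hk⟩ := hpow z
    induction k generalizing z with
    | zero => simpa using hk
    | succ k ih => exact hinj z (ih (x • z) (by rwa [← mul_smul, ← pow_succ]))
  -- `H^{d+1}(A)` is the injective hull
  let W := (localCohomology m (d + 1)).obj (ModuleCat.of A A)
  obtain ⟨E, _, _, fE, hfE⟩ := exists_injectiveHull A (ResidueField A)
  have : Module.Injective A E := hfE.isInjective
  obtain ⟨gB, hgB⟩ := isInjectiveHull_H_gorenstein (R := S') hd
  obtain ⟨gE, hgE⟩ := hull_quotient (Ideal.span {x}) hfE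
  obtain ⟨ψ, -⟩ := hull_unique hgB hgE
  obtain ⟨φ, hφ⟩ := hTB d
  let δ := δH m d hS (d + 1) rfl
  have hδinj : Function.Injective δ := (injective_iff_map_eq_zero δ).2 fun z hz => by
    obtain ⟨w, rfl⟩ := (exact₃ m d hS (d + 1) rfl z).1 hz
    rw [@Subsingleton.elim _ (hvA d (by omega)) w 0, map_zero]
  let e : (localCohomology m d).obj (ModuleCat.of A S') →ₗ[A] E :=
    { toFun := fun z => (ψ (φ.symm z)).1
      map_add' := fun a b => by rw [map_add, map_add]; rfl
      map_smul' := fun r z => by
        have h1 : φ.symm (r • z) = algebraMap A S' r • φ.symm z := φ.injective (by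
          rw [φ.apply_symm_apply, hφ, φ.apply_symm_apply])
        rw [RingHom.id_apply, h1, map_smul]
        rfl }
  have he : Function.Injective e := fun a b hab => φ.symm.injective (ψ.injective (Subtype.ext hab))
  obtain ⟨α, hα⟩ := exists_extension δ hδinj e
  have hα' : ∀ z, α (δ z) = e z := fun z => LinearMap.congr_fun hα z
  have hαinj : Function.Injective α := by
    refine (injective_iff_map_eq_zero α).2 fun w hw => ?_
    obtain ⟨k, hk⟩ := hpow w
    induction k generalizing w with
    | zero => simpa using hk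
    | succ k ih =>
      have hxw : x • w = 0 := ih (x • w) (by rw [map_smul, hw, smul_zero]) (by rwa [← mul_smul, ← pow_succ])
      obtain ⟨z, rfl⟩ := (exact₁ m d hS (d + 1) rfl w).1 (by rw [hmap]; exact hxw)
      rw [hα'] at hw
      rw [he (hw.trans (map_zero e).symm), map_zero]
  have hdiv : ∀ w : W, ∃ w', x • w' = w := fun w => by
    obtain ⟨w', hw'⟩ := (exact₂ m (d + 1) hS w).1
      (@Subsingleton.elim _ (hvB (d + 1) (by omega)) _ _)
    exact ⟨w', (hmap _ w').symm.trans hw'⟩
  have hαsurj : Function.Surjective α := by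
    intro t
    obtain ⟨k, hk⟩ : ∃ k : ℕ, x ^ k • t = 0 := by
      obtain ⟨k, hk⟩ := hull_isPowerTorsion hfE t
      exact ⟨k, hk _ (Ideal.pow_mem_pow hx k)⟩
    induction k generalizing t with
    | zero => exact ⟨0, by rw [map_zero]; simpa using hk.symm⟩
    | succ k ih =>
      obtain ⟨v, hv'⟩ := ih (x • t) (by rwa [← mul_smul, ← pow_succ])
      obtain ⟨w, rfl⟩ := hdiv v
      have hmem : t - α w ∈ LocCoh.torsionBy (Ideal.span {x}) E := by
        rw [Submodule.mem_torsionBySet_iff]
        rintro ⟨a, ha⟩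
        obtain ⟨c, rfl⟩ := Ideal.mem_span_singleton'.1 ha
        show (c * x) • (t - α w) = 0
        rw [mul_smul, smul_sub, ← map_smul, hv', sub_self, smul_zero]
      refine ⟨δ (φ (ψ.symm ⟨_, hmem⟩)) + w, ?_⟩
      rw [map_add, hα']
      show (ψ (φ.symm (φ _))).1 + α w = t
      rw [φ.symm_apply_apply, ψ.apply_symm_apply]
      exact sub_add_cancel t (α w)
  exact gorenstein_iff_H.2 ⟨d + 1, hvA,
    injective_of_linearEquiv (LinearEquiv.ofBijective α ⟨hαinj, hαsurj⟩).symm⟩

end Groth.Agent.LC
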