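import Groth.Agent.LC.Hlvt
import Groth.Agent.LC.CdBase
import Groth.Agent.LocalCrit.Completion
import Groth.Agent.Hensel.HenselizationLoc

/-!
# The Hartshorne–Lichtenbaum vanishing theorem
-/

universe u

open CategoryTheory IsLocalRing

namespace Groth.Agent.LC

/-- A complete local domain is a quotient of a complete Gorenstein local ring of the same dimension. -/
theorem exists_gorenstein_cover (R : Type u) [CommRing R] [IsDomain R] [IsLocalRing R] [IsNoetherianRing R]
    [IsAdicComplete (maximalIdeal R) R] :
    ∃ (G : Type u) (_ : CommRing G) (_ : LocCoh.IsGorensteinLocalRing G) (π : G →+* R),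
      Function.Surjective π ∧ IsAdicComplete (maximalIdeal G) G ∧ ringKrullDim G = ringKrullDim R := by
  obtain ⟨Λ, _, n, f, hΛ, hf⟩ := CohenLib.exists_surjective R (IsNoetherian.noetherian _)
  obtain ⟨_, hreg, hcomp⟩ := CohenLib.isRegular_complete_mvPowerSeries hΛ n
  have := gorenstein_of_isRegularLocalRing (R := MvPowerSeries (Fin n) Λ)
  let A := MvPowerSeries (Fin n) Λ
  let P : Ideal A := RingHom.ker f
  have hP : P.IsPrime := RingHom.ker_isPrime f
  have hPm : P ≤ maximalIdeal A := le_maximalIdeal hP.ne_top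
  have := isCohenMacaulayLocalRing_of_gorenstein (R := A)
  obtain ⟨rs, hrs, hmem, hlen⟩ := exists_idealDepth_eq_length (M := A) P
    (smul_top_ne_top_of_le_maximal (R := A) (M := A) hPm)
  rw [idealDepth_self_eq_height] at hlen
  let J : Ideal A := Ideal.ofList rs
  have hJP : J ≤ P := ofList_le P hmem
  have hJh : J.height = P.height := by
    refine le_antisymm (Ideal.height_mono hJP) ?_
    rw [hlen, ← idealDepth_self_eq_height,
      (idealDepth_ofList_eq_length_iff rs fun r hr => hPm (hmem r hr)).2 hrs]
  have hGor := gorenstein_quotient_ofList rs (fun r hr => hPm (hmem r hr)) hrs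
  let π : A ⧸ J →+* R := Ideal.Quotient.lift J f fun a ha => hJP ha
  refine ⟨A ⧸ J, inferInstance, hGor, π, Ideal.Quotient.lift_surjective_of_surjective _ _ hf, ?_, ?_⟩
  · have := hGor.toIsLocalRing
    have h : IsAdicComplete (maximalIdeal A) (A ⧸ J) := Adic7.isAdicComplete_of_finite _ _
    rw [← map_maximalIdeal_of_surjective (algebraMap A (A ⧸ J)) Ideal.Quotient.mk_surjective]
    exact (IsAdicComplete.map_algebraMap_iff (S := A ⧸ J) (maximalIdeal A) (A ⧸ J)).mpr h
  · have h1 := height_add_ringKrullDim_quotient J fun h => hP.ne_top (top_unique (h ▸ hJP))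
    have h2 := height_add_ringKrullDim_quotient P hP.ne_top
    rw [ringKrullDim_eq_of_ringEquiv (RingHom.quotientKerEquivOfSurjective hf), ← hJh] at h2
    obtain ⟨c, hc⟩ := ENat.ne_top_iff_exists.1 (Ideal.height_ne_top (I := J) fun h => hP.ne_top (top_unique (h ▸ hJP)))
    obtain ⟨dG, hdG, -, -⟩ := gorenstein_basic (R := A ⧸ J)
    obtain ⟨dR, -, -, hdR, -⟩ := CohenLib.exists_fin_sop R
    rw [← hc, hdG] at h1
    rw [← hc, hdR] at h2
    rw [hdG, hdR]
    have h3 := h1.trans h2.symm
    rw [show ((c : ℕ∞) : WithBot ℕ∞) = ((c : ℕ) : WithBot ℕ∞) from rfl, ← Nat.cast_add, ← Nat.cast_add,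
      Nat.cast_inj] at h3
    rw [Nat.cast_inj]
    omega

/-- HLVT for a complete local domain. -/
theorem subsingleton_H_complete_domain {R : Type u} [CommRing R] [IsDomain R] [IsLocalRing R] [IsNoetherianRing R]
    [IsAdicComplete (maximalIdeal R) R] {d : ℕ} (hd : ringKrullDim R = d) (I : Ideal R)
    (hI : 1 ≤ ringKrullDim (R ⧸ I)) : Subsingleton ((localCohomology I d).obj (ModuleCat.of R R)) := by
  have hI0 : 0 < ringKrullDim (R ⧸ I) := lt_of_lt_of_le (by decide) hI
  obtain ⟨q, hIq, hq⟩ := exists_prime_dim_one hI0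
  have hqm : q.asIdeal ≤ (⊥ : Ideal R).jacobson := by
    rw [IsLocalRing.jacobson_eq_maximalIdeal _ bot_ne_top]
    exact le_maximalIdeal q.isPrime.ne_top
  refine subsingleton_H_of_le_of_subsingleton hIq hqm hd.le le_rfl ?_
  obtain ⟨G, _, hG, π, hπ, hcomp, hdim⟩ := exists_gorenstein_cover R
  let P : Ideal G := RingHom.ker π
  have : P.IsPrime := RingHom.ker_isPrime π
  let p : Ideal G := q.asIdeal.comap π
  have hPp : P ≤ p := fun x hx => by
    show π x ∈ q.asIdeal
    rw [RingHom.mem_ker.1 hx]; exact zero_mem _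
  have hpne : p ≠ maximalIdeal G := fun h => by
    have h1 : q.asIdeal = maximalIdeal R := by
      rw [← Ideal.map_comap_of_surjective π hπ q.asIdeal, show q.asIdeal.comap π = maximalIdeal G from h,
        map_maximalIdeal_of_surjective π hπ]
    rw [h1, ringKrullDim_eq_zero_of_isField
      ((Ideal.Quotient.maximal_ideal_iff_isField_quotient _).1 (maximalIdeal.isMaximal R))] at hq
    exact zero_ne_one hq
  have hvan := subsingleton_H_quot_prime_gorenstein (hdim.trans hd) P p hPp hpne
  letI : Algebra G R := π.toAlgebra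
  let e : (G ⧸ P) ≃ₗ[G] R :=
    (LinearMap.quotKerEquivOfSurjective (Algebra.linearMap G R) hπ)
  have : Subsingleton ((localCohomology p d).obj (ModuleCat.of G R)) :=
    ((localCohomology p d).mapIso e.toModuleIso).toLinearEquiv.symm.toEquiv.subsingleton
  have h := exists_indep (R := G) (R' := R) p d R
  rw [show p.map (algebraMap G R) = q.asIdeal from Ideal.map_comap_of_surjective π hπ _] at h
  obtain ⟨φ, -⟩ := h
  exact φ.toEquiv.subsingleton

/-- HLVT. -/
theorem subsingleton_H_hlvt {R : Type u} [CommRing R] [IsLocalRing R] [IsNoetherianRing R] (I : Ideal R) {d : ℕ}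
    (hd : ringKrullDim R = d)
    (h : ∀ p ∈ minimalPrimes (AdicCompletion (maximalIdeal R) R),
      ringKrullDim (AdicCompletion (maximalIdeal R) R ⧸ p) = d →
      1 ≤ ringKrullDim (AdicCompletion (maximalIdeal R) R ⧸
        (I.map (algebraMap R (AdicCompletion (maximalIdeal R) R)) ⊔ p))) :
    Subsingleton ((localCohomology I d).obj (ModuleCat.of R R)) := by
  let R' := AdicCompletion (maximalIdeal R) R
  have hmax : maximalIdeal R = (maximalIdeal R).map (algebraMap R R) := by
    rw [Algebra.algebraMap_self, Ideal.map_id]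
  have : IsNoetherianRing R' := LocalCrit.isNoetherianRing_completion (A := R) (C := R) hmax
  have : IsLocalHom (algebraMap R R') := AdicCompletion.algebraMap_isLocalHom_of_fg (IsNoetherian.noetherian _)
  have : Module.FaithfullyFlat R R' := Module.FaithfullyFlat.of_flat_of_isLocalHom
  have hd' : ringKrullDim R' = d := by
    rw [← hd]
    exact Hensel.ringKrullDim_eq_of_flat_of_map_maximalIdeal_eq (R := R) (S := R')
      (AdicCompletion.maximalIdeal_eq_map (R := R)).symm
  let I' := I.map (algebraMap R R')
  suffices h' : Subsingleton ((localCohomology I' d).obj (ModuleCat.of R' R')) by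
    obtain ⟨e⟩ := exists_baseChange (R' := R') I d R
    let e' := ((localCohomology I' d).mapIso
      (TensorProduct.AlgebraTensorModule.rid R R' R').toModuleIso).toLinearEquiv
    have := (e.trans e').toEquiv.subsingleton
    exact Module.FaithfullyFlat.subsingleton_tensorProduct_iff_right R R' |>.1 this
  refine subsingleton_H_top_of_primes I' hd'.le R' fun q _ hq => ?_
  have hqmin : q.asIdeal ∈ minimalPrimes R' := mem_minimalPrimes_of_coheight hd'.le q hq
  have hqd : ringKrullDim (R' ⧸ q.asIdeal) = d := by
    rw [← coheight_eq_ringKrullDim_quotient, hq]; rfl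
  let S := R' ⧸ q.asIdeal
  have : Nontrivial S := Ideal.Quotient.nontrivial_iff.2 q.isPrime.ne_top
  have : IsLocalRing S := .of_surjective' _ Ideal.Quotient.mk_surjective
  have hcS : IsAdicComplete (maximalIdeal S) S := by
    have h1 : IsAdicComplete (maximalIdeal R') S := Adic7.isAdicComplete_of_finite _ _
    rw [← map_maximalIdeal_of_surjective (algebraMap R' S) Ideal.Quotient.mk_surjective]
    exact (IsAdicComplete.map_algebraMap_iff (S := S) (maximalIdeal R') S).mpr h1
  have hvan : Subsingleton ((localCohomology (I'.map (algebraMap R' S)) d).obj (ModuleCat.of S S)) := by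
    refine subsingleton_H_complete_domain hqd _ ?_
    refine (h q.asIdeal hqmin hqd).trans (le_of_eq ?_)
    refine ringKrullDim_eq_of_ringEquiv ((Ideal.quotEquivOfEq (sup_comm _ _)).trans
      (DoubleQuot.quotQuotEquivQuotSup q.asIdeal I').symm)
  obtain ⟨φ, -⟩ := exists_indep (R := R') (R' := S) I' d S
  exact φ.symm.toEquiv.subsingleton

end Groth.Agent.LC
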