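import Groth.Agent.LC.CohLoc
import Mathlib.RingTheory.Filtration

/-!
# The Mayer–Vietoris sequence in local cohomology
-/

universe u

open CategoryTheory Limits Opposite

namespace Groth.Agent.LC

variable {R : Type u} [CommRing R]

/-- `Γ_{I'} → Γ_I` on an injective resolution. -/
noncomputable abbrev gCxLE {M : ModuleCat.{u} R} {I I' : Ideal R} (h : I ≤ I') (K : InjectiveResolution M) :
    gCx I' K ⟶ gCx I K :=
  (NatTrans.mapHomologicalComplex (inclLE h) (ComplexShape.up ℕ)).app K.cocomplex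

theorem HmapOfLE_zero_injective {I I' : Ideal R} (h : I ≤ I') (M : ModuleCat.{u} R) :
    Function.Injective ((Dual2.HmapOfLE h 0).app M).hom := by
  let J := injectiveResolution M
  let T := gCxLE h J
  rw [injective_iff_map_eq_zero]
  intro z hz
  have h0 : (HomologicalComplex.homologyMap T 0).hom (equivG I' J 0 z) = 0 := by
    have := equivG_HmapOfLE h J 0 z
    rw [hz, map_zero] at this
    exact this.symm
  obtain ⟨c, hc⟩ := classOf_surjective _ 0 (equivG I' J 0 z)
  rw [← hc] at h0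
  have hker : (T.f 0).hom c.1 ∈ LinearMap.ker ((gCx I J).d 0 1).hom :=
    LinearMap.mem_ker.2 ((ConcreteCategory.congr_hom (T.comm 0 1) c.1).trans
      ((congrArg (T.f 1).hom (LinearMap.mem_ker.1 c.2)).trans (map_zero _)))
  rw [classOf_natural _ 0 T c hker, classOf_eq_zero_iff] at h0
  obtain ⟨y, hy⟩ := h0
  rw [(gCx I J).shape _ _ (by simp)] at hy
  have hc0 : c = 0 := Subtype.ext (Subtype.ext (congrArg Subtype.val hy.symm :))
  rw [hc0, map_zero] at hc
  exact (LinearEquiv.map_eq_zero_iff _).1 hc.symm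

theorem mem_torsionSub_sup {N : Type u} [AddCommGroup N] [Module R N] {I J : Ideal R} {x : N}
    (h1 : x ∈ DRing.torsionSub I N) (h2 : x ∈ DRing.torsionSub J N) : x ∈ DRing.torsionSub (I ⊔ J) N := by
  obtain ⟨n, hn⟩ := h1
  obtain ⟨k, hk⟩ := h2
  refine ⟨n + k, fun c hc => ?_⟩
  obtain ⟨u, hu, v, hv, rfl⟩ := Submodule.mem_sup.1 (Ideal.sup_pow_add_le_pow_sup_pow hc)
  rw [add_smul, hn u hu, hk v hv, add_zero]

variable [IsNoetherianRing R]

/-- Artin–Rees: `I^N ∩ J^N ⊆ (I ∩ J)^n` for `N` large. -/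
theorem exists_pow_inf_pow_le (I J : Ideal R) (n : ℕ) : ∃ N, I ^ N ⊓ J ^ N ≤ (I ⊓ J) ^ n := by
  obtain ⟨k, hk⟩ := Ideal.exists_pow_inf_eq_pow_smul I (M := R) (J ^ n : Ideal R)
  refine ⟨k + n, fun x ⟨h1, h2⟩ => ?_⟩
  have h := hk (k + n) (Nat.le_add_right k n)
  rw [smul_eq_mul, Ideal.mul_top, Nat.add_sub_cancel_left] at h
  have hx : x ∈ I ^ n • (I ^ k • (⊤ : Submodule R R) ⊓ (J ^ n : Ideal R)) :=
    h ▸ ⟨h1, Ideal.pow_le_pow_right (Nat.le_add_left n k) h2⟩
  have hle : I ^ n • (I ^ k • (⊤ : Submodule R R) ⊓ (J ^ n : Ideal R)) ≤ (I * J) ^ n := by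
    rw [mul_pow]
    exact (Submodule.smul_mono le_rfl inf_le_right).trans_eq (smul_eq_mul _ _)
  exact Ideal.pow_right_mono Ideal.mul_le_inf n (hle hx)

theorem exists_decomp (I J : Ideal R) (N : Type u) [AddCommGroup N] [Module R N] [Module.Injective R N]
    {x : N} (hx : x ∈ DRing.torsionSub (I ⊓ J) N) :
    ∃ y ∈ DRing.torsionSub I N, ∃ z ∈ DRing.torsionSub J N, x = y - z := by
  obtain ⟨n, hn⟩ := hx
  obtain ⟨k, hk⟩ := exists_pow_inf_pow_le I J n
  let ι : (R ⧸ (I ^ k ⊓ J ^ k : Submodule R R)) →ₗ[R] (R ⧸ (I ^ k : Submodule R R)) × (R ⧸ (J ^ k : Submodule R R)) :=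
    (Submodule.mapQ _ _ LinearMap.id (show (I ^ k ⊓ J ^ k : Submodule R R) ≤ Submodule.comap (LinearMap.id : R →ₗ[R] R) (I ^ k : Submodule R R)
      from fun r hr => hr.1)).prod
      (Submodule.mapQ _ _ LinearMap.id (show (I ^ k ⊓ J ^ k : Submodule R R) ≤ Submodule.comap (LinearMap.id : R →ₗ[R] R) (J ^ k : Submodule R R)
      from fun r hr => hr.2))
  have hι : Function.Injective ι := by
    rw [injective_iff_map_eq_zero]
    intro r hr
    obtain ⟨r, rfl⟩ := Submodule.mkQ_surjective _ r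
    exact (Submodule.Quotient.mk_eq_zero _).2 ⟨(Submodule.Quotient.mk_eq_zero _).1 (congrArg Prod.fst hr),
      (Submodule.Quotient.mk_eq_zero _).1 (congrArg Prod.snd hr)⟩
  let f : (R ⧸ (I ^ k ⊓ J ^ k : Submodule R R)) →ₗ[R] N :=
    Submodule.liftQ _ (LinearMap.toSpanSingleton R N x) fun r hr => hn r (hk hr)
  obtain ⟨φ, hφ⟩ := Module.Injective.out ι hι f
  refine ⟨φ (Submodule.Quotient.mk 1, 0), ⟨k, fun a ha => ?_⟩, - φ (0, Submodule.Quotient.mk 1),
    Submodule.neg_mem _ ⟨k, fun a ha => ?_⟩, ?_⟩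
  · rw [← map_smul, Prod.smul_mk, smul_zero, ← Submodule.Quotient.mk_smul,
      (Submodule.Quotient.mk_eq_zero _).2 (by simpa using ha)]
    exact map_zero φ
  · rw [← map_smul, Prod.smul_mk, smul_zero, ← Submodule.Quotient.mk_smul,
      (Submodule.Quotient.mk_eq_zero _).2 (by simpa using ha)]
    exact map_zero φ
  · rw [sub_neg_eq_add, ← map_add, Prod.mk_add_mk, add_zero, zero_add]
    have h := hφ (Submodule.Quotient.mk (1 : R))
    exact (one_smul R x).symm.trans h.symm

section Seq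

variable (I J : Ideal R) {M : ModuleCat.{u} R} (K : InjectiveResolution M)

/-- `Γ_I K ⊕ Γ_J K`. -/
noncomputable def mvMid : CochainComplex (ModuleCat.{u} R) ℕ where
  X p := ModuleCat.of R (((gCx I K).X p : Type u) × ((gCx J K).X p : Type u))
  d i j := ModuleCat.ofHom (((gCx I K).d i j).hom.prodMap ((gCx J K).d i j).hom)
  shape i j h := ModuleCat.hom_ext (LinearMap.ext fun x => Prod.ext
    (ConcreteCategory.congr_hom ((gCx I K).shape i j h) x.1) (ConcreteCategory.congr_hom ((gCx J K).shape i j h) x.2))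
  d_comp_d' i j k _ _ := ModuleCat.hom_ext (LinearMap.ext fun x => Prod.ext
    (ConcreteCategory.congr_hom ((gCx I K).d_comp_d i j k) x.1) (ConcreteCategory.congr_hom ((gCx J K).d_comp_d i j k) x.2))

noncomputable def mvFst : mvMid I J K ⟶ gCx I K where
  f p := ModuleCat.ofHom (LinearMap.fst R ((gCx I K).X p : Type u) ((gCx J K).X p : Type u))
  comm' _ _ _ := rfl

noncomputable def mvSnd : mvMid I J K ⟶ gCx J K where
  f p := ModuleCat.ofHom (LinearMap.snd R ((gCx I K).X p : Type u) ((gCx J K).X p : Type u))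
  comm' _ _ _ := rfl

noncomputable def mvIn : gCx (I ⊔ J) K ⟶ mvMid I J K where
  f p := ModuleCat.ofHom (((gCxLE (le_sup_left : I ≤ I ⊔ J) K).f p).hom.prod
    ((gCxLE (le_sup_right : J ≤ I ⊔ J) K).f p).hom)
  comm' i j _ := ModuleCat.hom_ext (LinearMap.ext fun x => Prod.ext
    (ConcreteCategory.congr_hom ((gCxLE (le_sup_left : I ≤ I ⊔ J) K).comm i j) x)
    (ConcreteCategory.congr_hom ((gCxLE (le_sup_right : J ≤ I ⊔ J) K).comm i j) x))

noncomputable def mvOut : mvMid I J K ⟶ gCx (I ⊓ J) K :=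
  mvFst I J K ≫ gCxLE (inf_le_left : I ⊓ J ≤ I) K - mvSnd I J K ≫ gCxLE (inf_le_right : I ⊓ J ≤ J) K

noncomputable def mvSeq : ShortComplex (CochainComplex (ModuleCat.{u} R) ℕ) :=
  ShortComplex.mk (mvIn I J K) (mvOut I J K) (HomologicalComplex.hom_ext _ _ fun p =>
    ModuleCat.hom_ext (LinearMap.ext fun x => Subtype.ext (sub_self (x : DRing.torsionSub (I ⊔ J) (K.cocomplex.X p)).1)))

theorem mvSeq_shortExact : (mvSeq I J K).ShortExact := by
  refine HomologicalComplex.shortExact_of_degreewise_shortExact _ fun p => ?_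
  refine
    { exact := (ShortComplex.ShortExact.moduleCat_exact_iff_function_exact _).2 fun z => ⟨fun hz => ?_, ?_⟩
      mono_f := (ModuleCat.mono_iff_injective _).2 fun x y hxy => Subtype.ext (congrArg Subtype.val (congrArg Prod.fst hxy) :)
      epi_g := (ModuleCat.epi_iff_surjective _).2 fun z => ?_ }
  · have h : (z.1 : DRing.torsionSub I (K.cocomplex.X p)).1 =
        (z.2 : DRing.torsionSub J (K.cocomplex.X p)).1 :=
      sub_eq_zero.1 (congrArg Subtype.val hz)
    have h2 := (z.2 : DRing.torsionSub J (K.cocomplex.X p)).2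
    rw [← h] at h2
    exact ⟨⟨_, mem_torsionSub_sup (z.1 : DRing.torsionSub I (K.cocomplex.X p)).2 h2⟩,
      Prod.ext (Subtype.ext rfl) (Subtype.ext h)⟩
  · rintro ⟨y, rfl⟩
    exact Subtype.ext (sub_self (y : DRing.torsionSub (I ⊔ J) (K.cocomplex.X p)).1)
  · have hN : Module.Injective R (K.cocomplex.X p) :=
      haveI : Injective (ModuleCat.of R (K.cocomplex.X p)) := K.injective p
      Module.injective_module_of_injective_object R (K.cocomplex.X p)
    obtain ⟨y, hy, w, hw, h⟩ := exists_decomp I J (K.cocomplex.X p)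
      (z : DRing.torsionSub (I ⊓ J) (K.cocomplex.X p)).2
    exact ⟨((⟨y, hy⟩ : DRing.torsionSub I (K.cocomplex.X p)), (⟨w, hw⟩ : DRing.torsionSub J (K.cocomplex.X p))),
      Subtype.ext h.symm⟩

/-- The homology of `Γ_I K ⊕ Γ_J K`. -/
noncomputable def mvMidHom (i : ℕ) :
    (mvMid I J K).homology i →ₗ[R] ((gCx I K).homology i : Type u) × ((gCx J K).homology i : Type u) :=
  (HomologicalComplex.homologyMap (mvFst I J K) i).hom.prod (HomologicalComplex.homologyMap (mvSnd I J K) i).hom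

theorem mvMidHom_bijective (i : ℕ) : Function.Bijective (mvMidHom I J K i) := by
  have hm : ∀ c : LinearMap.ker ((mvMid I J K).d i (i + 1)).hom,
      (c.1.1 ∈ LinearMap.ker ((gCx I K).d i (i + 1)).hom) ∧ (c.1.2 ∈ LinearMap.ker ((gCx J K).d i (i + 1)).hom) :=
    fun c => by
      obtain ⟨v, hv⟩ := c
      rw [LinearMap.mem_ker] at hv
      exact ⟨(congrArg Prod.fst hv :), (congrArg Prod.snd hv :)⟩
  refine ⟨?_, fun w => ?_⟩
  · rw [injective_iff_map_eq_zero]
    intro z hz
    obtain ⟨c, rfl⟩ := classOf_surjective _ i z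
    have h1 := congrArg Prod.fst hz
    have h2 := congrArg Prod.snd hz
    change (HomologicalComplex.homologyMap (mvFst I J K) i).hom _ = 0 at h1
    change (HomologicalComplex.homologyMap (mvSnd I J K) i).hom _ = 0 at h2
    rw [classOf_natural _ i (mvFst I J K) c (hm c).1, classOf_eq_zero_iff] at h1
    rw [classOf_natural _ i (mvSnd I J K) c (hm c).2, classOf_eq_zero_iff] at h2
    obtain ⟨y1, hy1⟩ := h1
    obtain ⟨y2, hy2⟩ := h2
    exact (classOf_eq_zero_iff _ i c).2 ⟨(y1, y2), Prod.ext hy1 hy2⟩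
  · obtain ⟨a, ha⟩ := classOf_surjective _ i w.1
    obtain ⟨b, hb⟩ := classOf_surjective _ i w.2
    let c : LinearMap.ker ((mvMid I J K).d i (i + 1)).hom :=
      ⟨(a.1, b.1), LinearMap.mem_ker.2 (Prod.ext (LinearMap.mem_ker.1 a.2) (LinearMap.mem_ker.1 b.2))⟩
    refine ⟨classOf _ i c, Prod.ext ?_ ?_⟩
    · exact (classOf_natural _ i (mvFst I J K) c (hm c).1).trans ha
    · exact (classOf_natural _ i (mvSnd I J K) c (hm c).2).trans hb

end Seq

/-- The Mayer–Vietoris sequence. -/
theorem exists_mayerVietoris (I J : Ideal R) (M : ModuleCat.{u} R) :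
    ∃ δ : ∀ i : ℕ, (localCohomology (I ⊓ J) i).obj M →ₗ[R] (localCohomology (I ⊔ J) (i + 1)).obj M,
      ∀ i : ℕ,
        Function.Exact (δ i) (((Dual2.HmapOfLE (le_sup_left : I ≤ I ⊔ J) (i + 1)).app M).hom.prod
          ((Dual2.HmapOfLE (le_sup_right : J ≤ I ⊔ J) (i + 1)).app M).hom) ∧
        Function.Exact (((Dual2.HmapOfLE (le_sup_left : I ≤ I ⊔ J) i).app M).hom.prod
            ((Dual2.HmapOfLE (le_sup_right : J ≤ I ⊔ J) i).app M).hom)
          (((Dual2.HmapOfLE (inf_le_left : I ⊓ J ≤ I) i).app M).hom ∘ₗ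
              LinearMap.fst R ((localCohomology I i).obj M : Type u) ((localCohomology J i).obj M : Type u) -
            ((Dual2.HmapOfLE (inf_le_right : I ⊓ J ≤ J) i).app M).hom ∘ₗ
              LinearMap.snd R ((localCohomology I i).obj M : Type u) ((localCohomology J i).obj M : Type u)) ∧
        Function.Exact (((Dual2.HmapOfLE (inf_le_left : I ⊓ J ≤ I) i).app M).hom ∘ₗ
              LinearMap.fst R ((localCohomology I i).obj M : Type u) ((localCohomology J i).obj M : Type u) -
            ((Dual2.HmapOfLE (inf_le_right : I ⊓ J ≤ J) i).app M).hom ∘ₗ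
              LinearMap.snd R ((localCohomology I i).obj M : Type u) ((localCohomology J i).obj M : Type u)) (δ i) := by
  let K := injectiveResolution M
  have hS := mvSeq_shortExact I J K
  let eS := fun i => equivG (I ⊔ J) K i
  let eT := fun i => equivG (I ⊓ J) K i
  let eM : ∀ i, (((localCohomology I i).obj M : Type u) × ((localCohomology J i).obj M : Type u)) ≃ₗ[R]
      ((mvMid I J K).homology i : Type u) := fun i =>
    ((equivG I K i).prodCongr (equivG J K i)).trans (LinearEquiv.ofBijective _ (mvMidHom_bijective I J K i)).symm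
  have hfstc : mvIn I J K ≫ mvFst I J K = gCxLE (le_sup_left : I ≤ I ⊔ J) K :=
    HomologicalComplex.hom_ext _ _ fun p => rfl
  have hsndc : mvIn I J K ≫ mvSnd I J K = gCxLE (le_sup_right : J ≤ I ⊔ J) K :=
    HomologicalComplex.hom_ext _ _ fun p => rfl
  have hin : ∀ i z, (HomologicalComplex.homologyMap (mvIn I J K) i).hom (eS i z) =
      eM i (((Dual2.HmapOfLE (le_sup_left : I ≤ I ⊔ J) i).app M).hom z,
        ((Dual2.HmapOfLE (le_sup_right : J ≤ I ⊔ J) i).app M).hom z) := by
    intro i z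
    show _ = (LinearEquiv.ofBijective _ (mvMidHom_bijective I J K i)).symm _
    rw [LinearEquiv.eq_symm_apply]
    refine Prod.ext ?_ ?_
    · show (HomologicalComplex.homologyMap (mvFst I J K) i).hom _ = _
      rw [← ModuleCat.comp_apply, ← HomologicalComplex.homologyMap_comp, hfstc]
      exact (equivG_HmapOfLE _ K i z).symm
    · show (HomologicalComplex.homologyMap (mvSnd I J K) i).hom _ = _
      rw [← ModuleCat.comp_apply, ← HomologicalComplex.homologyMap_comp, hsndc]
      exact (equivG_HmapOfLE _ K i z).symm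
  have hout : ∀ i w, (HomologicalComplex.homologyMap (mvOut I J K) i).hom (eM i w) =
      eT i (((Dual2.HmapOfLE (inf_le_left : I ⊓ J ≤ I) i).app M).hom w.1 -
        ((Dual2.HmapOfLE (inf_le_right : I ⊓ J ≤ J) i).app M).hom w.2) := by
    intro i w
    have h0 : mvMidHom I J K i (eM i w) = (equivG I K i w.1, equivG J K i w.2) :=
      LinearEquiv.apply_symm_apply (LinearEquiv.ofBijective _ (mvMidHom_bijective I J K i)) _
    rw [mvOut, HomologicalComplex.homologyMap_sub, HomologicalComplex.homologyMap_comp,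
      HomologicalComplex.homologyMap_comp, map_sub]
    show (HomologicalComplex.homologyMap (gCxLE inf_le_left K) i).hom (mvMidHom I J K i (eM i w)).1 -
      (HomologicalComplex.homologyMap (gCxLE inf_le_right K) i).hom (mvMidHom I J K i (eM i w)).2 = _
    rw [h0]
    exact congrArg₂ (· - ·) (equivG_HmapOfLE _ K i w.1).symm (equivG_HmapOfLE _ K i w.2).symm
  refine ⟨fun i => (eS (i + 1)).symm.toLinearMap ∘ₗ (hS.δ i (i + 1) (by simp)).hom ∘ₗ (eT i).toLinearMap,
    fun i => ⟨?_, ?_, ?_⟩⟩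
  · refine (Function.Exact.iff_of_ladder_linearEquiv (e₁ := eT i) (e₂ := eS (i + 1)) (e₃ := eM (i + 1)) ?_ ?_).1
      ((ShortComplex.ShortExact.moduleCat_exact_iff_function_exact _).1
        (hS.homology_exact₁ i (i + 1) (by simp)))
    · ext z; exact (LinearEquiv.apply_symm_apply (eS (i + 1)) _).symm
    · ext z; exact hin (i + 1) z
  · refine (Function.Exact.iff_of_ladder_linearEquiv (e₁ := eS i) (e₂ := eM i) (e₃ := eT i) ?_ ?_).1
      ((ShortComplex.ShortExact.moduleCat_exact_iff_function_exact _).1 (hS.homology_exact₂ i))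
    · exact LinearMap.ext fun z => hin i z
    · exact LinearMap.ext fun w => hout i w
  · refine (Function.Exact.iff_of_ladder_linearEquiv (e₁ := eM i) (e₂ := eT i) (e₃ := eS (i + 1)) ?_ ?_).1
      ((ShortComplex.ShortExact.moduleCat_exact_iff_function_exact _).1
        (hS.homology_exact₃ i (i + 1) (by simp)))
    · exact LinearMap.ext fun w => hout i w
    · ext z; exact (LinearEquiv.apply_symm_apply (eS (i + 1)) _).symm

end Groth.Agent.LC
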