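import Groth.Agent.LC.ConnSpec
import Groth.Agent.LC.HlvtMain
import Groth.Agent.LC.MayerVietoris
import Groth.Agent.LC.CdBase
import Groth.Agent.LC.CohCech

/-!
# Connectedness theorems from the Hartshorne–Lichtenbaum theorem and Mayer–Vietoris
-/

universe u

open CategoryTheory IsLocalRing

namespace Groth.Agent.LC

variable {R : Type u} [CommRing R] [IsNoetherianRing R]

theorem cdLE_of_radical_eq {I J : Ideal R} (h : I.radical = J.radical) {k : ℕ} (hk : LocCoh.CdLE R I k) :
    LocCoh.CdLE R J k := fun M _ _ i hi => subsingleton_H_of_radical_eq h i _ (hk M i hi)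

theorem cdLE_span_finset (s : Finset R) : LocCoh.CdLE R (Ideal.span (s : Set R)) s.card :=
  fun M _ _ i hi => subsingleton_of_card_lt s (ModuleCat.of R M) i hi

theorem cdLE_span_singleton (x : R) : LocCoh.CdLE R (Ideal.span {x}) 1 := by
  classical
  simpa using cdLE_span_finset ({x} : Finset R)

omit [IsNoetherianRing R] in
theorem dim_quot_map (P c : Ideal R) :
    ringKrullDim ((R ⧸ P) ⧸ c.map (Ideal.Quotient.mk P)) = ringKrullDim (R ⧸ (c ⊔ P)) :=
  ringKrullDim_eq_of_ringEquiv ((DoubleQuot.quotQuotEquivQuotSup P c).trans (Ideal.quotEquivOfEq (sup_comm _ _)))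

omit [IsNoetherianRing R] in
theorem dim_quot_mono {I J : Ideal R} (h : I ≤ J) : ringKrullDim (R ⧸ J) ≤ ringKrullDim (R ⧸ I) :=
  ringKrullDim_le_of_surjective _ (Ideal.Quotient.factor_surjective h)

variable [IsLocalRing R]

omit [IsNoetherianRing R] in
theorem isLocalRing_quot {I : Ideal R} (hI : I ≠ ⊤) : IsLocalRing (R ⧸ I) := by
  have : Nontrivial (R ⧸ I) := Ideal.Quotient.nontrivial_iff.2 hI
  exact .of_surjective' _ Ideal.Quotient.mk_surjective

theorem exists_dim_quot {I : Ideal R} (hI : I ≠ ⊤) : ∃ d : ℕ, ringKrullDim (R ⧸ I) = d := by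
  have := isLocalRing_quot hI
  obtain ⟨d, -, -, hd, -⟩ := CohenLib.exists_fin_sop (R ⧸ I)
  exact ⟨d, hd⟩

/-- `dim R ≤ cd(c) + dim R/c`. -/
theorem dim_le_cd_add {c : Ideal R} (hc : c ≠ ⊤) {k e : ℕ} (hk : LocCoh.CdLE R c k)
    (he : ringKrullDim (R ⧸ c) = e) : ringKrullDim R ≤ ((k + e : ℕ) : WithBot ℕ∞) := by
  classical
  have := isLocalRing_quot hc
  obtain ⟨e', t, ht, hte, hrad⟩ := CohenLib.exists_fin_sop (R ⧸ c)
  obtain rfl : e' = e := by rw [he] at hte; exact_mod_cast hte.symm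
  choose s hs using fun i => Ideal.Quotient.mk_surjective (t i)
  let T : Finset R := Finset.univ.image s
  have hcd : LocCoh.CdLE R (c ⊔ Ideal.span (T : Set R)) (k + T.card) := cdLE_sup c _ hk (cdLE_span_finset T)
  have hsm : c ⊔ Ideal.span (T : Set R) ≤ maximalIdeal R := by
    refine sup_le (le_maximalIdeal hc) (Ideal.span_le.2 fun x hx => ?_)
    simp only [T, Finset.coe_image, Finset.coe_univ, Set.image_univ] at hx
    obtain ⟨i, rfl⟩ := hx
    exact (mem_maximalIdeal _).2 fun hu => (mem_maximalIdeal _).1 (ht i) (hs i ▸ hu.map _)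
  have hrad' : (c ⊔ Ideal.span (T : Set R)).radical = maximalIdeal R := by
    refine le_antisymm ((Ideal.radical_mono hsm).trans (Ideal.IsPrime.radical inferInstance).le) fun x hx => ?_
    have hx' : Ideal.Quotient.mk c x ∈ maximalIdeal (R ⧸ c) := by
      rw [← map_maximalIdeal_of_surjective (Ideal.Quotient.mk c) Ideal.Quotient.mk_surjective]
      exact Ideal.mem_map_of_mem _ hx
    obtain ⟨N, hN⟩ := hrad hx'
    refine ⟨N, ?_⟩
    rw [sup_comm, ← Ideal.mk_ker (I := c), ← Ideal.comap_map_of_surjective' _ Ideal.Quotient.mk_surjective,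
      Ideal.mem_comap, map_pow, Ideal.map_span]
    have himg : (Ideal.Quotient.mk c) '' (T : Set R) = Set.range t := by
      simp only [T]
      rw [Finset.coe_image, Finset.coe_univ, Set.image_univ, ← Set.range_comp]
      exact congrArg Set.range (funext hs)
    rw [himg]
    exact hN
  obtain ⟨d, -, -, hd, -⟩ := CohenLib.exists_fin_sop R
  rw [hd, Nat.cast_le]
  by_contra hlt
  have hh : (maximalIdeal R).height = d := by
    have h1 := IsLocalRing.maximalIdeal_height_eq_ringKrullDim (R := R)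
    rw [hd] at h1
    exact_mod_cast h1
  have hnt := nontrivial_H_height (I := maximalIdeal R) (maximalIdeal.isMaximal R).ne_top d hh
  refine not_subsingleton_iff_nontrivial.2 hnt (subsingleton_H_of_radical_eq
    (hrad'.trans (Ideal.IsPrime.radical inferInstance).symm) d _ (hcd R d ?_))
  have : T.card ≤ e' := Finset.card_image_le.trans (by simp)
  omega

/-- `dim R/P ≤ cd(c) + dim R/(c + P)`. -/
theorem dim_quot_le_cd_add (P : Ideal R) {c : Ideal R} (hcP : c ⊔ P ≠ ⊤) {k e : ℕ} (hk : LocCoh.CdLE R c k)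
    (he : ringKrullDim (R ⧸ (c ⊔ P)) = e) : ringKrullDim (R ⧸ P) ≤ ((k + e : ℕ) : WithBot ℕ∞) := by
  have hP : P ≠ ⊤ := fun h => hcP (top_unique (h ▸ le_sup_right))
  have := isLocalRing_quot hP
  refine dim_le_cd_add (c := c.map (Ideal.Quotient.mk P)) ?_ (cdLE_map c (R ⧸ P) hk) (dim_quot_map P c ▸ he)
  intro h
  have h1 := congrArg (Ideal.comap (Ideal.Quotient.mk P)) h
  rw [Ideal.comap_map_of_surjective' _ Ideal.Quotient.mk_surjective, Ideal.mk_ker, Ideal.comap_top] at h1
  exact hcP h1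

/-- An element cutting the dimension. -/
theorem exists_dim_drop (J : Ideal R) {δ : ℕ} (hδ : ringKrullDim (R ⧸ J) = ((δ + 1 : ℕ) : WithBot ℕ∞)) :
    ∃ x ∈ maximalIdeal R, ∃ e ≤ δ, ringKrullDim (R ⧸ (J ⊔ Ideal.span {x})) = (e : WithBot ℕ∞) := by
  classical
  have hJ : J ≠ ⊤ := fun h => by
    rw [h, ringKrullDim_eq_bot_of_subsingleton] at hδ
    exact WithBot.bot_ne_natCast _ hδ
  have hne : ∀ Q ∈ J.minimalPrimes, ¬ maximalIdeal R ≤ Q := by
    intro Q hQ hmQ
    have hQm : Q = maximalIdeal R := le_antisymm (le_maximalIdeal hQ.1.1.ne_top) hmQ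
    have : Subsingleton (PrimeSpectrum.zeroLocus (J : Set R)) := by
      have key : ∀ q : PrimeSpectrum.zeroLocus (J : Set R), q.1.asIdeal = maximalIdeal R := fun q =>
        le_antisymm (le_maximalIdeal q.1.isPrime.ne_top)
          (hQm ▸ hQ.2 ⟨q.1.isPrime, q.2⟩ (hQm ▸ le_maximalIdeal q.1.isPrime.ne_top))
      exact ⟨fun q q' => Subtype.ext (PrimeSpectrum.ext ((key q).trans (key q').symm))⟩
    rw [ringKrullDim_quotient] at hδ
    have h0 : Order.krullDim (PrimeSpectrum.zeroLocus (J : Set R)) ≤ 0 := Order.krullDim_nonpos_of_subsingleton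
    rw [hδ] at h0
    exact Nat.succ_ne_zero δ (Nat.le_zero.1 (by exact_mod_cast h0))
  let M := (Ideal.finite_minimalPrimes_of_isNoetherianRing R J).toFinset
  obtain ⟨x, hxm, hx⟩ : ∃ x ∈ maximalIdeal R, ∀ Q ∈ M, x ∉ Q := by
    by_contra hall
    push Not at hall
    have : (maximalIdeal R : Set R) ⊆ ⋃ Q ∈ (M : Set (Ideal R)), (id Q : Ideal R) := fun x hx => by
      obtain ⟨Q, hQ, hxQ⟩ := hall x hx
      exact Set.mem_biUnion hQ hxQ
    obtain ⟨Q, hQ, hle⟩ := (Ideal.subset_union_prime (f := id) ⊥ ⊥ fun i hi _ _ =>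
      ((Ideal.finite_minimalPrimes_of_isNoetherianRing R J).mem_toFinset.1 hi).1.1).1 this
    exact hne Q ((Ideal.finite_minimalPrimes_of_isNoetherianRing R J).mem_toFinset.1 hQ) hle
  have hJx : J ⊔ Ideal.span {x} ≠ ⊤ := fun h => (maximalIdeal.isMaximal R).ne_top
    (top_unique (h ▸ sup_le (le_maximalIdeal hJ) ((Ideal.span_singleton_le_iff_mem _).2 hxm)))
  obtain ⟨e, he⟩ := exists_dim_quot hJx
  refine ⟨x, hxm, e, ?_, he⟩
  by_contra hlt
  have h1 : ((e : ℕ) : WithBot ℕ∞) + 1 ≤ ((δ + 1 : ℕ) : WithBot ℕ∞) := by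
    rw [← hδ, ← he, ringKrullDim_quotient, ringKrullDim_quotient]
    have : Nonempty (PrimeSpectrum.zeroLocus ((J ⊔ Ideal.span {x} : Ideal R) : Set R)) := by
      rwa [Set.nonempty_coe_sort, Set.nonempty_iff_ne_empty, ne_eq, PrimeSpectrum.zeroLocus_empty_iff_eq_top]
    have : Nonempty (PrimeSpectrum.zeroLocus (J : Set R)) := by
      rwa [Set.nonempty_coe_sort, Set.nonempty_iff_ne_empty, ne_eq, PrimeSpectrum.zeroLocus_empty_iff_eq_top]
    rw [Order.krullDim_eq_iSup_length, Order.krullDim_eq_iSup_length, ← WithBot.coe_one, ← WithBot.coe_add,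
      ENat.iSup_add, WithBot.coe_le_coe, iSup_le_iff]
    intro l
    obtain ⟨Q, hQ, hQl⟩ := Ideal.exists_minimalPrimes_le (I := J) (J := l.head.1.asIdeal)
      (le_sup_left.trans l.head.2)
    let emb : PrimeSpectrum.zeroLocus ((J ⊔ Ideal.span {x} : Ideal R) : Set R) →
        PrimeSpectrum.zeroLocus (J : Set R) := fun q => ⟨q.1, fun y hy => q.2 (Ideal.mem_sup_left hy)⟩
    have hlt' : (⟨⟨Q, hQ.1.1⟩, hQ.1.2⟩ : PrimeSpectrum.zeroLocus (J : Set R)) < emb l.head := by
      refine lt_of_le_of_ne hQl fun h => hx Q ((Ideal.finite_minimalPrimes_of_isNoetherianRing R J).mem_toFinset.2 hQ) ?_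
      have h' : Q = l.head.1.asIdeal := congrArg (fun q => PrimeSpectrum.asIdeal (Subtype.val q)) h
      rw [h']
      exact l.head.2 (Ideal.mem_sup_right (Ideal.mem_span_singleton_self x))
    exact le_trans (by simp) (le_iSup _ ((l.map emb fun _ _ h => h).cons ⟨⟨Q, hQ.1.1⟩, hQ.1.2⟩ hlt'))
  have h2 : e + 1 ≤ δ + 1 := by exact_mod_cast h1
  omega

/-- Connectedness bound for complete local domains. -/
theorem dim_le_cd_add_dim_sup [IsDomain R] [IsAdicComplete (maximalIdeal R) R] (δ : ℕ) :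
    ∀ (a b : Ideal R), a ≠ ⊤ → b ≠ ⊤ → ringKrullDim (R ⧸ (a ⊔ b)) = (δ : WithBot ℕ∞) →
      (δ : WithBot ℕ∞) < ringKrullDim (R ⧸ a) → (δ : WithBot ℕ∞) < ringKrullDim (R ⧸ b) →
      ∀ k : ℕ, LocCoh.CdLE R (a ⊓ b) k → ringKrullDim R ≤ ((k + δ + 1 : ℕ) : WithBot ℕ∞) := by
  induction δ using Nat.strong_induction_on with
  | _ δ ih =>
    intro a b ha hb hδ hda hdb k hk
    obtain ⟨n, -, -, hn, -⟩ := CohenLib.exists_fin_sop R
    rcases δ with _ | δ
    · rw [hn, Nat.cast_le]
      by_contra hlt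
      obtain ⟨n', rfl⟩ : ∃ n', n = n' + 1 := ⟨n - 1, by omega⟩
      have h1 : (1 : WithBot ℕ∞) ≤ ringKrullDim (R ⧸ a) := by
        obtain ⟨e, he⟩ := exists_dim_quot ha
        rw [he] at hda ⊢
        exact_mod_cast (Nat.cast_lt.1 hda : 0 < e)
      have h2 : (1 : WithBot ℕ∞) ≤ ringKrullDim (R ⧸ b) := by
        obtain ⟨e, he⟩ := exists_dim_quot hb
        rw [he] at hdb ⊢
        exact_mod_cast (Nat.cast_lt.1 hdb : 0 < e)
      have := subsingleton_H_complete_domain hn a h1
      have := subsingleton_H_complete_domain hn b h2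
      obtain ⟨δ', hδ'⟩ := exists_mayerVietoris a b (ModuleCat.of R R)
      have hab : a ⊔ b ≠ ⊤ := fun h => (maximalIdeal.isMaximal R).ne_top
        (top_unique (h ▸ sup_le (le_maximalIdeal ha) (le_maximalIdeal hb)))
      have hvan : Subsingleton ((localCohomology (a ⊔ b) (n' + 1)).obj (ModuleCat.of R R)) := by
        refine subsingleton_of_forall_eq 0 fun z => ?_
        obtain ⟨w, rfl⟩ := ((hδ' n').1 z).1 (Prod.ext (Subsingleton.elim _ _) (Subsingleton.elim _ _))
        rw [@Subsingleton.elim _ (hk R n' (by omega)) w 0, map_zero]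
      have hc : LocCoh.CdLE R (a ⊔ b) n' := by
        refine cdLE_of_ring _ fun i hi => ?_
        rcases eq_or_lt_of_le (Nat.succ_le_of_lt hi) with h | h
        · exact h ▸ hvan
        · exact cdLE_of_ringKrullDim_le _ hn.le R i h
      have := dim_le_cd_add hab hc hδ
      rw [hn, Nat.cast_le] at this
      omega
    · obtain ⟨x, hx, e, he, hdrop⟩ := exists_dim_drop (a ⊔ b) hδ
      have hxm := (Ideal.span_singleton_le_iff_mem _).2 hx
      let a' := a ⊔ Ideal.span {x}
      let b' := b ⊔ Ideal.span {x}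
      have ha' : a' ≠ ⊤ := fun h => (maximalIdeal.isMaximal R).ne_top
        (top_unique (h ▸ sup_le (le_maximalIdeal ha) hxm))
      have hb' : b' ≠ ⊤ := fun h => (maximalIdeal.isMaximal R).ne_top
        (top_unique (h ▸ sup_le (le_maximalIdeal hb) hxm))
      have hsup : a' ⊔ b' = a ⊔ b ⊔ Ideal.span {x} := by
        simp only [a', b']
        exact le_antisymm (sup_le (sup_le (le_sup_left.trans le_sup_left) le_sup_right)
          (sup_le (le_sup_right.trans le_sup_left) le_sup_right))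
          (sup_le (sup_le (le_sup_left.trans le_sup_left) (le_sup_left.trans le_sup_right))
            (le_sup_right.trans le_sup_left))
      have key : ∀ c : Ideal R, c ≠ ⊤ → c ⊔ Ideal.span {x} ≠ ⊤ →
          ((δ + 1 : ℕ) : WithBot ℕ∞) < ringKrullDim (R ⧸ c) →
          (e : WithBot ℕ∞) < ringKrullDim (R ⧸ (c ⊔ Ideal.span {x})) := by
        intro c hc hcx hlt
        obtain ⟨f, hf⟩ := exists_dim_quot hcx
        obtain ⟨g, hg⟩ := exists_dim_quot hc
        have := dim_quot_le_cd_add c (c := Ideal.span {x}) (by rwa [sup_comm]) (cdLE_span_singleton x) (e := f)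
          (by rw [sup_comm]; exact hf)
        rw [hg, Nat.cast_le] at this
        rw [hg, Nat.cast_lt] at hlt
        rw [hf, Nat.cast_lt]
        omega
      have hcd : LocCoh.CdLE R (a' ⊓ b') (k + 1) := by
        refine cdLE_of_radical_eq ?_ (cdLE_sup (a ⊓ b) (Ideal.span {x}) hk (cdLE_span_singleton x))
        refine le_antisymm (Ideal.radical_mono (sup_le (inf_le_inf le_sup_left le_sup_left)
          (le_inf le_sup_right le_sup_right))) ?_
        rw [Ideal.radical_inf, ← Ideal.radical_mul]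
        refine Ideal.radical_mono ?_
        simp only [a', b']
        rw [Ideal.sup_mul, Ideal.mul_sup]
        exact sup_le (sup_le (Ideal.mul_le_inf.trans le_sup_left) ((Ideal.mul_le_inf.trans inf_le_right).trans le_sup_right))
          ((Ideal.mul_le_inf.trans inf_le_left).trans le_sup_right)
      have := ih e (by omega) a' b' ha' hb' (hsup.symm ▸ hdrop) (key a ha ha' hda) (key b hb hb' hdb) (k + 1) hcd
      refine this.trans ?_
      rw [Nat.cast_le]
      omega

end Groth.Agent.LC
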