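import Groth.Agent.LC.CodimPropagate
import Groth.Agent.LC.Connected
import Groth.Agent.CohenLib.PowerSeries
import Groth.Agent.RegLoc6.Serre

/-!
# Complete local rings are catenary: the dimension formula
-/

universe u

open IsLocalRing

namespace Groth.Agent.LC

theorem dim_quot_eq_add_height {A : Type u} [CommRing A] [IsLocalRing A] [IsNoetherianRing A]
    [IsAdicComplete (maximalIdeal A) A] (P Q : Ideal A) [P.IsPrime] [Q.IsPrime] (h : P ≤ Q) :
    ringKrullDim (A ⧸ P) = ringKrullDim (A ⧸ Q) + ((Q.map (Ideal.Quotient.mk P)).height : WithBot ℕ∞) := by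
  obtain ⟨Λ, _, n, f, hΛ, hf⟩ := CohenLib.exists_surjective A (IsNoetherian.noetherian _)
  obtain ⟨_, hreg, -⟩ := CohenLib.isRegular_complete_mvPowerSeries hΛ n
  let S := MvPowerSeries (Fin n) Λ
  have := RegLoc6.isRegularRing_of_isRegularLocalRing S
  have := gorenstein_of_isRegularLocalRing (R := S)
  have := isCohenMacaulayLocalRing_of_gorenstein (R := S)
  letI : Algebra S A := f.toAlgebra
  have hπ : Function.Surjective (algebraMap S A) := hf
  have h2 := height_add_height_quotient_eq (P.comap (algebraMap S A)) (Q.comap (algebraMap S A)) (Ideal.comap_mono h)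
  rw [height_map_mk_comap (S := S) hπ P Q] at h2
  have hdim : ∀ (X : Ideal A), X.IsPrime →
      ringKrullDim (A ⧸ X) + ((X.comap (algebraMap S A)).height : WithBot ℕ∞) = ringKrullDim S := by
    intro X hX
    rw [← ringKrullDim_quotient_comap (S := S) hπ X]
    exact height_add_ringKrullDim_quotient _ (Ideal.IsPrime.ne_top inferInstance)
  have hP := hdim P inferInstance
  have hQ := hdim Q inferInstance
  obtain ⟨p, hp⟩ := ENat.ne_top_iff_exists.1 (Ideal.height_ne_top (I := P.comap (algebraMap S A))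
    (Ideal.IsPrime.ne_top inferInstance))
  obtain ⟨q, hq⟩ := ENat.ne_top_iff_exists.1 (Ideal.height_ne_top (I := Q.comap (algebraMap S A))
    (Ideal.IsPrime.ne_top inferInstance))
  obtain ⟨a, ha⟩ := exists_dim_quot (I := P) (Ideal.IsPrime.ne_top inferInstance)
  obtain ⟨b, hb⟩ := exists_dim_quot (I := Q) (Ideal.IsPrime.ne_top inferInstance)
  obtain ⟨N, -, -, hN, -⟩ := CohenLib.exists_fin_sop S
  obtain ⟨t, ht⟩ := ENat.ne_top_iff_exists.1 (show (Q.map (Ideal.Quotient.mk P)).height ≠ ⊤ by
    intro e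
    rw [e, ← hp, ← hq] at h2
    simp at h2)
  rw [← hp, ← hq, ← ht] at h2
  rw [← hp, ha, hN] at hP
  rw [← hq, hb, hN] at hQ
  rw [← ht, ha, hb]
  have h2' : p + t = q := by exact_mod_cast h2
  have hP' : a + p = N := by exact_mod_cast hP
  have hQ' : b + q = N := by exact_mod_cast hQ
  exact_mod_cast (by omega : a = b + t)

end Groth.Agent.LC
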