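import Groth.Prelude.Def_DerCA
import Mathlib.Algebra.Homology.HomotopyCategory.MappingCocone
import Mathlib.Algebra.Homology.HomotopyCategory.ShiftSequence
import Mathlib.Algebra.Homology.HomotopyCategory.HomologicalFunctor

/-!
# Acyclicity of extended Cech complexes
-/

set_option autoImplicit false

universe u

open CategoryTheory Limits Pretriangulated HomotopyCategory

namespace Groth.Agent.LC.ExtCech

variable {R : Type u} [CommRing R]

abbrev Cx (R : Type u) [CommRing R] := CochainComplex (ModuleCat.{u} R) ℤ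

theorem isZero_shift {K : Cx R} (h : ∀ n, IsZero (K.homology n)) (a q : ℤ) :
    IsZero ((K⟦a⟧ : Cx R).homology q) :=
  (h (a + q)).of_iso
    (((HomologicalComplex.homologyFunctor (ModuleCat.{u} R) (ComplexShape.up ℤ) 0).shiftIso a q (a + q) rfl).app K)

theorem isZero_quotient_iff (K : Cx R) (q : ℤ) :
    IsZero ((homologyFunctor (ModuleCat.{u} R) (ComplexShape.up ℤ) q).obj ((HomotopyCategory.quotient _ _).obj K)) ↔
      IsZero (K.homology q) :=
  ((homologyFunctorFactors (ModuleCat.{u} R) (ComplexShape.up ℤ) q).app K).isZero_iff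

theorem isZero_cocone_of_acyclic {K L : Cx R} (φ : K ⟶ L) (hK : ∀ n, IsZero (K.homology n))
    (hL : ∀ n, IsZero (L.homology n)) (q : ℤ) : IsZero ((CochainComplex.mappingCocone φ).homology q) := by
  refine isZero_shift (fun n => (isZero_quotient_iff _ n).1 ?_) (-1) q
  refine ((homologyFunctor (ModuleCat.{u} R) (ComplexShape.up ℤ) n).map_distinguished_exact _
    (rot_of_distTriang _ (mappingCone_triangleh_distinguished φ))).isZero_of_both_zeros ?_ ?_
  · exact ((isZero_quotient_iff L n).2 (hL n)).eq_of_src _ _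
  · have h : IsZero ((homologyFunctor (ModuleCat.{u} R) (ComplexShape.up ℤ) n).obj
        (((HomotopyCategory.quotient _ _).obj K)⟦(1 : ℤ)⟧)) :=
      ((isZero_quotient_iff (K⟦(1 : ℤ)⟧) n).2 (isZero_shift hK 1 n)).of_iso
        ((homologyFunctor (ModuleCat.{u} R) (ComplexShape.up ℤ) n).mapIso
          (((HomotopyCategory.quotient (ModuleCat.{u} R) (ComplexShape.up ℤ)).commShiftIso (1 : ℤ)).app K).symm)
    exact h.eq_of_tgt _ _

theorem isZero_cocone_of_isIso {K L : Cx R} (φ : K ⟶ L) [IsIso φ] (q : ℤ) :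
    IsZero ((CochainComplex.mappingCocone φ).homology q) := by
  refine isZero_shift (fun n => (isZero_quotient_iff _ n).1 ?_) (-1) q
  have h := (Triangle.isZero₃_iff_isIso₁ _ (mappingCone_triangleh_distinguished φ)).2
    (inferInstanceAs (IsIso ((HomotopyCategory.quotient _ _).map φ)))
  exact Functor.map_isZero _ h

/-- `f` acts bijectively on each term. -/
def IsUnitOn (f : R) (K : Cx R) : Prop := ∀ n, IsIso (f • 𝟙 (K.X n))

theorem isUnitOn_locFunctor {f : R} {N : ModuleCat.{u} R} (S : Submonoid R) (h : IsIso (f • 𝟙 N)) :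
    IsIso (f • 𝟙 ((DerCA.locFunctor S).obj N)) := by
  have e : f • 𝟙 ((DerCA.locFunctor S).obj N) = (DerCA.locFunctor S).map (f • 𝟙 N) := by
    refine ModuleCat.hom_ext (IsLocalizedModule.linearMap_ext S (LocalizedModule.mkLinearMap S N)
      (LocalizedModule.mkLinearMap S N) (LinearMap.ext fun x => ?_))
    show f • LocalizedModule.mkLinearMap S N x =
      IsLocalizedModule.map S (LocalizedModule.mkLinearMap S N) (LocalizedModule.mkLinearMap S N) (f • 𝟙 N).hom
        (LocalizedModule.mkLinearMap S N x)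
    rw [IsLocalizedModule.map_apply, ← map_smul]
    rfl
  rw [e]
  infer_instance

theorem isUnitOn_extCech {f : R} (M : ModuleCat.{u} R) (hM : IsIso (f • 𝟙 M)) :
    ∀ fs : List R, IsUnitOn f (DerCA.extCech M fs)
  | [], n => by
    by_cases hn : n = 0
    · subst hn
      let e : (DerCA.extCech M ([] : List R)).X 0 ≅ M :=
        HomologicalComplex.singleObjXSelf (ComplexShape.up ℤ) 0 M
      have : f • 𝟙 ((DerCA.extCech M ([] : List R)).X 0) = e.hom ≫ (f • 𝟙 M) ≫ e.inv := by simp
      rw [this]
      infer_instance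
    · have h : IsZero ((DerCA.extCech M ([] : List R)).X n) :=
        HomologicalComplex.isZero_single_obj_X (ComplexShape.up ℤ) 0 M n hn
      exact ⟨0, h.eq_of_src _ _, h.eq_of_src _ _⟩
  | g :: fs, n => by
    let φ := DerCA.locCxUnit (Submonoid.powers g) (DerCA.extCech M fs)
    let e := DerCA.mappingCoconeXIso φ n
    have h1 := isUnitOn_extCech M hM fs n
    have h2 := isUnitOn_locFunctor (Submonoid.powers g) (isUnitOn_extCech M hM fs (n - 1))
    let a := (DerCA.extCech M fs).X n
    let b := ((DerCA.locCx (Submonoid.powers g)).obj (DerCA.extCech M fs)).X (n - 1)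
    haveI : IsIso (f • 𝟙 a) := h1
    haveI : IsIso (f • 𝟙 b) := h2
    have h3 : f • 𝟙 (a ⊞ b) = biprod.map (f • 𝟙 a) (f • 𝟙 b) := by
      apply biprod.hom_ext' <;> apply biprod.hom_ext <;> simp
    show IsIso (f • 𝟙 ((CochainComplex.mappingCocone φ).X n))
    have h4 : f • 𝟙 ((CochainComplex.mappingCocone φ).X n) = e.hom ≫ biprod.map (f • 𝟙 a) (f • 𝟙 b) ≫ e.inv := by
      rw [← h3, Linear.smul_comp, Category.id_comp, Linear.comp_smul, e.hom_inv_id]
    haveI : IsIso (biprod.map (f • 𝟙 a) (f • 𝟙 b)) := (biprod.mapIso (asIso (f • 𝟙 a)) (asIso (f • 𝟙 b))).isIso_hom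
    rw [h4]
    infer_instance

theorem isIso_locCxUnit {f : R} (K : Cx R) (h : IsUnitOn f K) :
    IsIso (DerCA.locCxUnit (Submonoid.powers f) K) := by
  have : ∀ i, IsIso ((DerCA.locCxUnit (Submonoid.powers f) K).f i) := fun i => by
    haveI := h i
    have hb : Function.Bijective fun m : K.X i => f • m := ConcreteCategory.bijective_of_isIso (f • 𝟙 (K.X i))
    rw [ConcreteCategory.isIso_iff_bijective]
    have hpow : ∀ s : Submonoid.powers f, Function.Bijective fun m : K.X i => (s : R) • m := by
      rintro ⟨s, k, rfl⟩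
      induction k with
      | zero => exact (funext fun m : K.X i => show (f ^ 0) • m = m by rw [pow_zero, one_smul]) ▸ Function.bijective_id
      | succ k ih =>
        have := hb.comp ih
        simpa [Function.comp_def, pow_succ', mul_smul] using this
    refine ⟨fun x y hxy => ?_, fun y => ?_⟩
    · obtain ⟨c, hc⟩ := (IsLocalizedModule.eq_iff_exists (Submonoid.powers f)
        (LocalizedModule.mkLinearMap (Submonoid.powers f) (K.X i))).1 hxy
      exact (hpow c).1 hc
    · obtain ⟨⟨m, s⟩, hm⟩ := IsLocalizedModule.mk'_surjective (Submonoid.powers f)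
        (LocalizedModule.mkLinearMap (Submonoid.powers f) (K.X i)) y
      obtain ⟨m', rfl⟩ := (hpow s).2 m
      refine ⟨m', ?_⟩
      rw [← hm]
      exact ((IsLocalizedModule.mk'_eq_iff (f := LocalizedModule.mkLinearMap (Submonoid.powers f) (K.X i))).2
        (by simp [map_smul]; rfl)).symm
  exact HomologicalComplex.Hom.isIso_of_components _

theorem isZero_locCx (S : Submonoid R) (K : Cx R) (hK : ∀ n, IsZero (K.homology n)) (q : ℤ) :
    IsZero (((DerCA.locCx S).obj K).homology q) := by
  have h := (K.exactAt_iff' (q - 1) q (q + 1) (by simp) (by simp)).1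
    ((K.exactAt_iff_isZero_homology q).2 (hK q))
  rw [ShortComplex.moduleCat_exact_iff_ker_sub_range] at h
  refine ((DerCA.locCx S).obj K).exactAt_iff_isZero_homology q |>.1 ?_
  rw [((DerCA.locCx S).obj K).exactAt_iff' (q - 1) q (q + 1) (by simp) (by simp),
    ShortComplex.moduleCat_exact_iff]
  exact fun x hx => ((IsLocalizedModule.map_exact S (LocalizedModule.mkLinearMap S (K.X (q - 1)))
    (LocalizedModule.mkLinearMap S (K.X q)) (LocalizedModule.mkLinearMap S (K.X (q + 1)))
    (K.d (q - 1) q).hom (K.d q (q + 1)).hom (fun y => ⟨fun hy => h hy, fun ⟨z, hz⟩ => hz ▸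
      ConcreteCategory.congr_hom (K.d_comp_d (q - 1) q (q + 1)) z⟩)) x).1 hx

theorem isZero_extCech_homology {f : R} (M : ModuleCat.{u} R) (hM : IsIso (f • 𝟙 M)) :
    ∀ fs : List R, f ∈ fs → ∀ q, IsZero ((DerCA.extCech M fs).homology q)
  | [], h, _ => absurd h (List.not_mem_nil)
  | g :: fs, h, q => by
    show IsZero ((CochainComplex.mappingCocone _).homology q)
    rcases List.mem_cons.1 h with rfl | h'
    · haveI := isIso_locCxUnit _ (isUnitOn_extCech M hM fs)
      exact isZero_cocone_of_isIso _ q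
    · exact isZero_cocone_of_acyclic _ (isZero_extCech_homology M hM fs h')
        (isZero_locCx _ _ (isZero_extCech_homology M hM fs h')) q

end Groth.Agent.LC.ExtCech
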