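import Groth.Agent.LC.AssFilt

/-!
# Scalars killing local cohomology below the grade
-/

universe u

open CategoryTheory Limits

namespace Groth.Agent.LC

variable {R : Type u} [CommRing R] [IsNoetherianRing R]

theorem subsingleton_H_pi_of_lt (b : Ideal R) {i : ℕ} (hi : (i : ℕ∞) < LocCoh.idealDepth b R) (r : ℕ) :
    Subsingleton ((localCohomology b i).obj (ModuleCat.of R (Fin r → R))) := by
  have hvan := (le_idealDepth_iff_H b R (i + 1)).1
    (by rw [Nat.cast_add, Nat.cast_one, ENat.add_one_le_iff (ENat.natCast_ne_top i)]; exact hi) i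
    (Nat.lt_succ_self i)
  refine subsingleton_of_forall_eq 0 fun z => ?_
  rw [← one_smul R z]
  exact smul_H_pi_eq_zero b i 1 (fun w => Subsingleton.elim _ _) r z

/-- If `S⁻¹M` has projective dimension `≤ h`, some element of `S` kills `H^i_b(M)` for `i + h < depth_b R`. -/
theorem exists_smul_H_eq_zero_of_projDim (S : Submonoid R) (h : ℕ) :
    ∀ (M : Type u) [AddCommGroup M] [Module R M] [Module.Finite R M],
      HasProjectiveDimensionLE (ModuleCat.of (Localization S) (LocalizedModule S M)) h →
      ∃ s ∈ S, ∀ (b : Ideal R) (i : ℕ), ((i + h : ℕ) : ℕ∞) < LocCoh.idealDepth b R →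
        ∀ x : (localCohomology b i).obj (ModuleCat.of R M), s • x = 0 := by
  induction h with
  | zero =>
    intro M _ _ _ hpd
    have : Projective (ModuleCat.of (Localization S) (LocalizedModule S M)) :=
      (projective_iff_hasProjectiveDimensionLE_zero _).2 hpd
    have : Module.Projective (Localization S) (LocalizedModule S M) :=
      (IsProjective.iff_projective (R := Localization S) (LocalizedModule S M)).2 this
    obtain ⟨s, hs, r, g, f, hgf⟩ := exists_factor S M
    refine ⟨s, hs, fun b i hi x => ?_⟩
    have hvan := (le_idealDepth_iff_H b R (i + 1)).1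
      (by rw [Nat.cast_add, Nat.cast_one, ENat.add_one_le_iff (ENat.natCast_ne_top i)]; exact hi) i
      (Nat.lt_succ_self i)
    rw [← one_mul s]
    exact smul_H_eq_zero_of_factor b i g f hgf 1 (fun z => Subsingleton.elim _ _) x
  | succ h ih =>
    intro M _ _ _ hpd
    obtain ⟨r, π, hπ⟩ := Module.Finite.exists_fin' R M
    let T : ShortComplex (ModuleCat.{u} R) := ShortComplex.mk (X₁ := ModuleCat.of R (LinearMap.ker π))
      (X₂ := ModuleCat.of R (Fin r → R)) (X₃ := ModuleCat.of R M)
      (ModuleCat.ofHom (LinearMap.ker π).subtype) (ModuleCat.ofHom π)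
      (ModuleCat.hom_ext (LinearMap.ext fun z => z.2))
    have hT : T.ShortExact :=
      { exact := (ShortComplex.ShortExact.moduleCat_exact_iff_function_exact _).2
          (LinearMap.exact_subtype_ker_map π)
        mono_f := (ModuleCat.mono_iff_injective _).2 (LinearMap.ker π).injective_subtype
        epi_g := (ModuleCat.epi_iff_surjective _).2 hπ }
    let fS := LocalizedModule.map S (LinearMap.ker π).subtype
    let gS := LocalizedModule.map S π
    have hexS : Function.Exact fS gS :=
      LocalizedModule.map_exact S _ _ (LinearMap.exact_subtype_ker_map π)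
    let TS : ShortComplex (ModuleCat.{u} (Localization S)) := ShortComplex.mk
      (X₁ := ModuleCat.of _ (LocalizedModule S (LinearMap.ker π)))
      (X₂ := ModuleCat.of _ (LocalizedModule S (Fin r → R)))
      (X₃ := ModuleCat.of _ (LocalizedModule S M))
      (ModuleCat.ofHom fS) (ModuleCat.ofHom gS)
      (ModuleCat.hom_ext (LinearMap.ext fun z => hexS.apply_apply_eq_zero z))
    have hTS : TS.ShortExact :=
      { exact := (ShortComplex.ShortExact.moduleCat_exact_iff_function_exact _).2 hexS
        mono_f := (ModuleCat.mono_iff_injective _).2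
          (LocalizedModule.map_injective S _ (LinearMap.ker π).injective_subtype)
        epi_g := (ModuleCat.epi_iff_surjective _).2 (LocalizedModule.map_surjective S π hπ) }
    have h2 : Projective TS.X₂ :=
      (IsProjective.iff_projective (R := Localization S) (LocalizedModule S (Fin r → R))).1 inferInstance
    obtain ⟨s, hs, hk⟩ := ih (LinearMap.ker π) ((hTS.hasProjectiveDimensionLT_X₃_iff h h2).1 hpd)
    refine ⟨s, hs, fun b i hi x => ?_⟩
    have hinj : Function.Injective (δH b i hT (i + 1) rfl) := by
      intro u v huv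
      rw [← sub_eq_zero]
      have h0 : δH b i hT (i + 1) rfl (u - v) = 0 := by rw [map_sub, huv, sub_self]
      obtain ⟨w, hw⟩ := (exact₃ b i hT (i + 1) rfl _).1 h0
      have := subsingleton_H_pi_of_lt b (lt_of_le_of_lt (Nat.cast_le.2 (Nat.le_add_right i (h + 1))) hi) r
      rw [← hw, Subsingleton.elim w 0, map_zero]
    refine hinj ?_
    rw [map_smul, map_zero]
    exact hk b (i + 1) (by rwa [Nat.add_right_comm, Nat.add_assoc]) _

/-- A power of the vanishing ideal of the locus of projective dimension `> t` kills `H^i_d(M)`. -/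
theorem exists_pow_le_annihilator (M : Type u) [AddCommGroup M] [Module R M] [Module.Finite R M] (t : ℕ) :
    ∃ n : ℕ, ∀ (d : Ideal R) (i : ℕ), ((i + t : ℕ) : ℕ∞) < LocCoh.idealDepth d R →
      (PrimeSpectrum.vanishingIdeal {p : PrimeSpectrum R | ¬ HasProjectiveDimensionLE
        (ModuleCat.of (Localization.AtPrime p.asIdeal) (LocalizedModule p.asIdeal.primeCompl M)) t}) ^ n
        ≤ Module.annihilator R ((localCohomology d i).obj (ModuleCat.of R M)) := by
  let Z : Set (PrimeSpectrum R) := {p | ¬ HasProjectiveDimensionLE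
    (ModuleCat.of (Localization.AtPrime p.asIdeal) (LocalizedModule p.asIdeal.primeCompl M)) t}
  let K : Ideal R := Ideal.span {s | ∀ (d : Ideal R) (i : ℕ), ((i + t : ℕ) : ℕ∞) < LocCoh.idealDepth d R →
    ∀ x : (localCohomology d i).obj (ModuleCat.of R M), s • x = 0}
  have hrad : PrimeSpectrum.vanishingIdeal Z ≤ K.radical := by
    rw [← PrimeSpectrum.vanishingIdeal_zeroLocus_eq_radical]
    refine PrimeSpectrum.vanishingIdeal_anti_mono fun p hp => ?_
    by_contra hpZ
    obtain ⟨s, hs, hk⟩ := exists_smul_H_eq_zero_of_projDim p.asIdeal.primeCompl t M (not_not.1 hpZ)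
    exact hs (hp (Ideal.subset_span hk))
  obtain ⟨n, hn⟩ := Ideal.exists_pow_le_of_le_radical_of_fg hrad (IsNoetherian.noetherian _)
  refine ⟨n, fun d i hi => le_trans hn (Ideal.span_le.2 fun s hs => ?_)⟩
  exact Module.mem_annihilator.2 (hs d i hi)

end Groth.Agent.LC
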