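import Groth.Agent.LC.AnnLocal
import Groth.Agent.LC.PdRegular
import Groth.Agent.LC.ProjKill
import Groth.Agent.LC.AdjDepth
import Groth.Agent.LC.GorLoc

/-!
# The annihilator theorem over quotients of regular rings
-/

universe u

open CategoryTheory Limits IsLocalRing

namespace Groth.Agent.LC

section Semilinear

variable {S R : Type u} [CommRing S] [CommRing R] [Algebra S R]
variable {M : Type u} [AddCommGroup M] [Module R M] [Module S M] [IsScalarTower S R M]
variable (hπ : Function.Surjective (algebraMap S R)) (p : Ideal R) [p.IsPrime]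

include hπ in
theorem isLocalizedModule_comap :
    IsLocalizedModule (p.comap (algebraMap S R)).primeCompl
      ((LocalizedModule.mkLinearMap p.primeCompl M).restrictScalars S) := by
  refine ⟨fun c => ?_, fun y => ?_, fun {x₁ x₂} h => ?_⟩
  · rw [Module.End.isUnit_iff]
    have h := (Module.End.isUnit_iff _).1 (IsLocalizedModule.map_units (S := p.primeCompl)
      (f := LocalizedModule.mkLinearMap p.primeCompl M) ⟨algebraMap S R c, c.2⟩)
    have heq : ∀ y : LocalizedModule p.primeCompl M, (c : S) • y = algebraMap S R c • y := fun y =>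
      (algebraMap_smul R (c : S) y).symm
    constructor
    · intro u v huv
      refine h.1 ?_
      show algebraMap S R c • u = algebraMap S R c • v
      rw [← heq, ← heq]
      exact huv
    · intro v
      obtain ⟨u, hu⟩ := h.2 v
      exact ⟨u, (heq u).trans hu⟩
  · obtain ⟨⟨x, t⟩, ht⟩ := IsLocalizedModule.surj p.primeCompl (LocalizedModule.mkLinearMap p.primeCompl M) y
    obtain ⟨c, hc⟩ := hπ t
    refine ⟨⟨x, ⟨c, show algebraMap S R c ∈ p.primeCompl from hc ▸ t.2⟩⟩, ?_⟩
    show c • y = LocalizedModule.mkLinearMap p.primeCompl M x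
    rw [← algebraMap_smul R c y, hc]
    exact ht
  · obtain ⟨t, ht⟩ := IsLocalizedModule.exists_of_eq (S := p.primeCompl)
      (f := LocalizedModule.mkLinearMap p.primeCompl M) h
    obtain ⟨c, hc⟩ := hπ t
    refine ⟨⟨c, show algebraMap S R c ∈ p.primeCompl from hc ▸ t.2⟩, ?_⟩
    show c • x₁ = c • x₂
    rw [← algebraMap_smul R c x₁, ← algebraMap_smul R c x₂, hc]
    exact ht

include hπ in
theorem depth_localized_comap :
    LocCoh.depth (Localization.AtPrime (p.comap (algebraMap S R)))
        (LocalizedModule (p.comap (algebraMap S R)).primeCompl M) =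
      LocCoh.depth (Localization.AtPrime p) (LocalizedModule p.primeCompl M) := by
  let P := p.comap (algebraMap S R)
  have := isLocalizedModule_comap (M := M) hπ p
  let f := (LocalizedModule.mkLinearMap p.primeCompl M).restrictScalars S
  let e := IsLocalizedModule.iso P.primeCompl f
  let σ := Localization.localRingHom P p (algebraMap S R) rfl
  refine Groth.Agent.Alg6.depth_eq_of_semilinear σ
    (RingHom.surjective_localRingHom_of_surjective (algebraMap S R) hπ p) e.toAddEquiv fun z x => ?_
  obtain ⟨⟨a, t⟩, hat⟩ := IsLocalization.surj P.primeCompl z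
  have hu : IsUnit (algebraMap R (Localization.AtPrime p) (algebraMap S R (t : S))) :=
    IsLocalization.map_units (Localization.AtPrime p) (⟨algebraMap S R t, t.2⟩ : p.primeCompl)
  refine hu.smul_left_cancel.1 ?_
  have h1 : algebraMap R (Localization.AtPrime p) (algebraMap S R (t : S)) * σ z =
      algebraMap R (Localization.AtPrime p) (algebraMap S R a) := by
    rw [← Localization.localRingHom_to_map P p (algebraMap S R) rfl a,
      ← Localization.localRingHom_to_map P p (algebraMap S R) rfl (t : S), ← map_mul, mul_comm _ z, hat]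
  have h2 : (t : S) • z • x = a • x := by
    rw [← algebraMap_smul (Localization.AtPrime P) (t : S) (z • x), smul_smul, mul_comm]
    exact (congrArg (fun c => c • x) hat).trans (algebraMap_smul _ a x)
  rw [smul_smul, h1, algebraMap_smul, algebraMap_smul, algebraMap_smul, algebraMap_smul]
  show (t : S) • e (z • x) = a • e x
  rw [← map_smul, h2, map_smul]

end Semilinear

theorem height_add_height_quotient_le {S : Type u} [CommRing S] [IsNoetherianRing S] (P Q : Ideal S)
    [P.IsPrime] [Q.IsPrime] (h : P ≤ Q) :
    P.height + (Q.map (Ideal.Quotient.mk P)).height ≤ Q.height := by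
  let f := Ideal.Quotient.mk P
  have hs : Function.Surjective f := Ideal.Quotient.mk_surjective
  have hmono : StrictMono (PrimeSpectrum.comap f) := fun a b hab =>
    lt_of_le_of_ne (Ideal.comap_mono (f := f) hab.le) fun he =>
      hab.ne (PrimeSpectrum.comap_injective_of_surjective f hs he)
  have hq : (Q.map f).IsPrime :=
    Ideal.map_isPrime_of_surjective hs (by rw [Ideal.mk_ker]; exact h)
  have htop : (PrimeSpectrum.comap f ⟨Q.map f, hq⟩) = ⟨Q, inferInstance⟩ := PrimeSpectrum.ext (by
    show Ideal.comap f (Q.map f) = Q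
    rw [Ideal.comap_map_of_surjective _ hs, ← RingHom.ker_eq_comap_bot, Ideal.mk_ker, sup_eq_left.2 h])
  rw [show P.height = (⟨P, inferInstance⟩ : PrimeSpectrum S).asIdeal.height from rfl,
    show Q.height = (⟨Q, inferInstance⟩ : PrimeSpectrum S).asIdeal.height from rfl,
    show (Q.map f).height = (⟨Q.map f, hq⟩ : PrimeSpectrum (S ⧸ P)).asIdeal.height from rfl,
    PrimeSpectrum.height_eq_orderHeight, PrimeSpectrum.height_eq_orderHeight,
    PrimeSpectrum.height_eq_orderHeight, ← htop]
  have hle : ∀ c, (⟨P, inferInstance⟩ : PrimeSpectrum S) ≤ PrimeSpectrum.comap f c := fun c x hx => by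
    show f x ∈ c.asIdeal
    rw [Ideal.Quotient.eq_zero_iff_mem.2 hx]; exact c.asIdeal.zero_mem
  rcases eq_or_ne (Order.height (⟨Q.map f, hq⟩ : PrimeSpectrum (S ⧸ P))) ⊤ with h' | h'
  · rw [h', add_top]
    refine le_of_eq (top_unique (le_trans h'.ge ?_)).symm
    exact Order.height_le_height_apply_of_strictMono _ hmono _
  · lift Order.height (⟨Q.map f, hq⟩ : PrimeSpectrum (S ⧸ P)) to ℕ using h' with n hn
    exact height_add_le_of_strictMono _ hmono _ hle n _ hn.le

theorem idealDepth_regular_eq_iInf_height {S : Type u} [CommRing S] [IsRegularRing S] (J : Ideal S) :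
    LocCoh.idealDepth J S = ⨅ (q : PrimeSpectrum S) (_ : J ≤ q.asIdeal), q.asIdeal.height := by
  rw [idealDepth_eq_iInf_depth J S]
  refine iInf_congr fun q => iInf_congr fun _ => ?_
  let A := Localization.AtPrime q.asIdeal
  have hloc : LocCoh.depth A (LocalizedModule q.asIdeal.primeCompl S) = LocCoh.depth A A := by
    have : Module.Finite A (LocalizedModule q.asIdeal.primeCompl S) :=
      Module.Finite.of_isLocalizedModule q.asIdeal.primeCompl (LocalizedModule.mkLinearMap _ S)
    exact idealDepth_congr _ (selfLoc q.asIdeal.primeCompl)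
  have := gorenstein_of_isRegularLocalRing (R := A)
  obtain ⟨d, hd, hδ, -⟩ := gorenstein_basic (R := A)
  rw [IsLocalization.AtPrime.ringKrullDim_eq_height q.asIdeal A] at hd
  rw [hloc, hδ]
  exact_mod_cast hd.symm

section Main

variable {S R : Type u} [CommRing S] [IsRegularRing S] [CommRing R] [IsNoetherianRing R] [Algebra S R]
variable (hπ : Function.Surjective (algebraMap S R))
variable (M : Type u) [AddCommGroup M] [Module R M] [Module.Finite R M] [Module S M] [IsScalarTower S R M]

include hπ in
theorem exists_smul_kill_sup (a : Ideal R) (p : PrimeSpectrum R) (i : ℕ)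
    (hi : (i : ℕ∞) < LocCoh.adjDepth a M p) :
    ∃ s ∉ p.asIdeal, ∀ l ≤ i, ∀ z : (localCohomology (a ⊔ p.asIdeal) l).obj (ModuleCat.of R M), s • z = 0 := by
  let P : Ideal S := p.asIdeal.comap (algebraMap S R)
  have : Module.Finite S R := Module.Finite.of_surjective (Algebra.linearMap S R) hπ
  have : Module.Finite S M := Module.Finite.trans R M
  let A := Localization.AtPrime P
  have : Module.Finite A (LocalizedModule P.primeCompl M) :=
    Module.Finite.of_isLocalizedModule P.primeCompl (LocalizedModule.mkLinearMap _ M)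
  have := gorenstein_of_isRegularLocalRing (R := A)
  obtain ⟨d, hd, -, -⟩ := gorenstein_basic (R := A)
  have hP : P.height = d := by
    rw [IsLocalization.AtPrime.ringKrullDim_eq_height P A] at hd
    exact_mod_cast hd
  have hde := depth_localized_comap (M := M) hπ p.asIdeal
  rcases subsingleton_or_nontrivial (LocalizedModule p.asIdeal.primeCompl M) with hs0 | hn0
  · have hns : p ∉ Module.support R M := Module.notMem_support_iff.2 hs0
    rw [Module.support_eq_zeroLocus] at hns
    obtain ⟨c, hc, hcp⟩ := Set.not_subset.1 hns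
    refine ⟨c, hcp, fun l _ z => ?_⟩
    have h0 : c • 𝟙 (ModuleCat.of R M) = 0 :=
      ModuleCat.hom_ext (LinearMap.ext fun v => Module.mem_annihilator.1 hc v)
    have h1 : c • z = ((localCohomology (a ⊔ p.asIdeal) l).map (c • 𝟙 (ModuleCat.of R M))).hom z := by
      rw [map_smul_apply, CategoryTheory.Functor.map_id]; rfl
    rw [h1, h0, map_zero_apply]
  have hn : Nontrivial (LocalizedModule P.primeCompl M) :=
    have := isLocalizedModule_comap (M := M) hπ p.asIdeal
    (IsLocalizedModule.iso P.primeCompl
      ((LocalizedModule.mkLinearMap p.asIdeal.primeCompl M).restrictScalars S)).toEquiv.nontrivial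
  obtain ⟨h, hh, hsum⟩ : ∃ h : ℕ, (d : ℕ∞) ≤ LocCoh.depth A (LocalizedModule P.primeCompl M) + h ∧
      LocCoh.depth A (LocalizedModule P.primeCompl M) + h = d := by
    obtain ⟨c, hc⟩ := exists_depth_eq_nat (R := A) (LocalizedModule P.primeCompl M)
    have h2 := (depth_le_supportDim (R := A) (LocalizedModule P.primeCompl M)).trans
      (Module.supportDim_le_ringKrullDim A _)
    rw [hc, hd] at h2
    have hcd : c ≤ d := by exact_mod_cast h2
    refine ⟨d - c, ?_, ?_⟩ <;> rw [hc]
    · exact_mod_cast (by omega : d ≤ c + (d - c))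
    · exact_mod_cast (by omega : c + (d - c) = d)
  obtain ⟨s, hs, hk⟩ := exists_smul_H_eq_zero_of_projDim P.primeCompl h M
    (pdLE_of_le_depth A d hd (LocalizedModule P.primeCompl M) h hh)
  refine ⟨algebraMap S R s, hs, fun l hl z => ?_⟩
  let J : Ideal S := (a ⊔ p.asIdeal).comap (algebraMap S R)
  have hJ : J.map (algebraMap S R) = a ⊔ p.asIdeal := Ideal.map_comap_of_surjective _ hπ _
  obtain ⟨φ, hφ⟩ := exists_indep (R := S) (R' := R) J l M
  have hlt : ((l + h : ℕ) : ℕ∞) < LocCoh.idealDepth J S := by
    rw [idealDepth_regular_eq_iInf_height]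
    refine lt_of_lt_of_le (b := ((l + h + 1 : ℕ) : ℕ∞)) (by exact_mod_cast Nat.lt_succ_self _)
      (le_iInf₂ fun Q hQ => ?_)
    have hker : RingHom.ker (algebraMap S R) ≤ Q.asIdeal :=
      le_trans (fun x hx => by
        show algebraMap S R x ∈ a ⊔ p.asIdeal
        rw [RingHom.mem_ker.1 hx]; exact zero_mem _) hQ
    have hq : (Q.asIdeal.map (algebraMap S R)).IsPrime := Ideal.map_isPrime_of_surjective hπ hker
    have hPQ : P ≤ Q.asIdeal := fun x hx => hQ (Ideal.mem_sup_right hx)
    -- `S/P ≅ R/p`
    let ψ : S ⧸ P →+* R ⧸ p.asIdeal := Ideal.quotientMap p.asIdeal (algebraMap S R) le_rfl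
    have hψ : Function.Bijective ψ := ⟨Ideal.quotientMap_injective, Ideal.quotientMap_surjective hπ⟩
    have hmap : (Q.asIdeal.map (Ideal.Quotient.mk P)).map (RingEquiv.ofBijective ψ hψ) =
        (Q.asIdeal.map (algebraMap S R)).map (Ideal.Quotient.mk p.asIdeal) := by
      show (Q.asIdeal.map (Ideal.Quotient.mk P)).map ψ = _
      rw [Ideal.map_map, Ideal.map_map]
      congr 1
    have h1 : ((a ⊔ p.asIdeal).map (Ideal.Quotient.mk p.asIdeal)).height ≤
        (Q.asIdeal.map (Ideal.Quotient.mk P)).height := by
      rw [← (RingEquiv.ofBijective ψ hψ).height_map (Q.asIdeal.map (Ideal.Quotient.mk P)), hmap]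
      refine Ideal.height_mono (Ideal.map_mono ?_)
      rw [← hJ]
      exact Ideal.map_mono hQ
    have h2 := height_add_height_quotient_le P Q.asIdeal hPQ
    have h3 : ((l + 1 : ℕ) : ℕ∞) ≤ LocCoh.depth A (LocalizedModule P.primeCompl M) +
        (Q.asIdeal.map (Ideal.Quotient.mk P)).height := by
      refine le_trans (b := LocCoh.adjDepth a M p)
        (Order.add_one_le_of_lt (lt_of_le_of_lt (Nat.cast_le.2 hl) hi)) ?_
      rw [LocCoh.adjDepth, hde]
      exact add_le_add_right h1 _
    refine le_trans ?_ h2
    rw [hP, ← hsum, show l + h + 1 = l + 1 + h by omega, Nat.cast_add]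
    calc ((l + 1 : ℕ) : ℕ∞) + (h : ℕ∞)
        ≤ LocCoh.depth A (LocalizedModule P.primeCompl M) +
            (Q.asIdeal.map (Ideal.Quotient.mk P)).height + h := by gcongr
      _ = _ := by abel
  have hcast : ∀ (I : Ideal R) (e : J.map (algebraMap S R) = I) (z : (localCohomology I l).obj (ModuleCat.of R M)),
      (∀ w : (localCohomology (J.map (algebraMap S R)) l).obj (ModuleCat.of R M), algebraMap S R s • w = 0) →
        algebraMap S R s • z = 0 := by
    rintro I rfl z h
    exact h z
  exact hcast _ hJ z fun w => φ.injective (by rw [hφ, hk J l hlt, map_zero])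

include hπ in
/-- Faltings' annihilator theorem, the sufficiency half. -/
theorem minAdjDepth_le_finDimRel (a b : Ideal R) :
    LocCoh.minAdjDepth a b M ≤ LocCoh.finDimRel a b M := by
  refine le_iInf₂ fun i hi => ?_
  by_contra hcon
  rw [not_le] at hcon
  refine hi (exists_pow_kill_of_local a b i (ModuleCat.of R M) (fun p hp hb => ?_) i le_rfl)
  exact exists_smul_kill_sup hπ M a ⟨p, hp⟩ i (lt_of_lt_of_le hcon (iInf₂_le (⟨p, hp⟩ : PrimeSpectrum R) hb))

end Main

end Groth.Agent.LC
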