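import Groth.Prelude.Def_DRing3
import Groth.Agent.LC.CohBasic

/-!
# Local cohomology as the right derived functors of `Γ_I`
-/

universe u

open CategoryTheory Limits Opposite

namespace Groth.Agent.LC

variable {R : Type u} [CommRing R]

section Class

variable (K : CochainComplex (ModuleCat.{u} R) ℕ) (i : ℕ)

/-- The cycles as a kernel. -/
noncomputable def cyclesEquiv : K.cycles i ≃ₗ[R] LinearMap.ker (K.d i (i + 1)).hom := by
  have hinj : Function.Injective (K.iCycles i).hom := (ModuleCat.mono_iff_injective _).1 inferInstance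
  have hex : Function.Exact (K.iCycles i).hom (K.d i (i + 1)).hom :=
    (ShortComplex.ShortExact.moduleCat_exact_iff_function_exact (ShortComplex.mk _ _ (K.iCycles_d i (i + 1)))).1
      (ShortComplex.exact_of_f_is_kernel _ (K.cyclesIsKernel i (i + 1) (by simp)))
  exact (LinearEquiv.ofInjective _ hinj).trans
    (LinearEquiv.ofEq _ _ hex.linearMap_ker_eq.symm)

theorem cyclesEquiv_val (z : K.cycles i) : (cyclesEquiv K i z : K.X i) = (K.iCycles i).hom z := rfl

/-- The homology class of a cycle. -/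
noncomputable def classOf : LinearMap.ker (K.d i (i + 1)).hom →ₗ[R] K.homology i :=
  (K.homologyπ i).hom ∘ₗ (cyclesEquiv K i).symm.toLinearMap

theorem classOf_surjective : Function.Surjective (classOf K i) :=
  ((ModuleCat.epi_iff_surjective (K.homologyπ i)).1 inferInstance).comp (cyclesEquiv K i).symm.surjective

theorem classOf_eq_zero_iff (z : LinearMap.ker (K.d i (i + 1)).hom) :
    classOf K i z = 0 ↔ ∃ y, (K.d ((ComplexShape.up ℕ).prev i) i).hom y = (z : K.X i) := by
  have hex : Function.Exact (K.toCycles ((ComplexShape.up ℕ).prev i) i).hom (K.homologyπ i).hom :=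
    (ShortComplex.ShortExact.moduleCat_exact_iff_function_exact (ShortComplex.mk _ _ (K.toCycles_comp_homologyπ _ i))).1
      (ShortComplex.exact_of_g_is_cokernel _ (K.homologyIsCokernel _ i rfl))
  show (K.homologyπ i).hom ((cyclesEquiv K i).symm z) = 0 ↔ _
  rw [hex]
  refine exists_congr fun y => ?_
  rw [LinearEquiv.eq_symm_apply, Subtype.ext_iff, cyclesEquiv_val]
  rw [show (K.iCycles i).hom ((K.toCycles ((ComplexShape.up ℕ).prev i) i).hom y) = _ from
    ConcreteCategory.congr_hom (K.toCycles_i ((ComplexShape.up ℕ).prev i) i) y]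

theorem classOf_natural {L : CochainComplex (ModuleCat.{u} R) ℕ} (φ : K ⟶ L)
    (z : LinearMap.ker (K.d i (i + 1)).hom) (hz : (φ.f i).hom (z : K.X i) ∈ LinearMap.ker (L.d i (i + 1)).hom) :
    (HomologicalComplex.homologyMap φ i).hom (classOf K i z) = classOf L i ⟨_, hz⟩ := by
  show (HomologicalComplex.homologyMap φ i).hom ((K.homologyπ i).hom ((cyclesEquiv K i).symm z)) =
    (L.homologyπ i).hom ((cyclesEquiv L i).symm ⟨_, hz⟩)
  refine (ConcreteCategory.congr_hom (HomologicalComplex.homologyπ_naturality φ i) _).trans ?_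
  refine congrArg (L.homologyπ i).hom ((LinearEquiv.eq_symm_apply _).2 (Subtype.ext ?_))
  rw [cyclesEquiv_val]
  refine (ConcreteCategory.congr_hom (HomologicalComplex.cyclesMap_i φ i) _).trans ?_
  show (φ.f i).hom ((K.iCycles i).hom ((cyclesEquiv K i).symm z)) = _
  rw [← cyclesEquiv_val, LinearEquiv.apply_symm_apply]

end Class

variable (I : Ideal R)

/-- The map `R/I^n → N` sending `1` to an element killed by `I^n`. -/
noncomputable def homOfElt {N : ModuleCat.{u} R} (n : ℕ) (y : N) (hy : ∀ a ∈ I ^ n, a • y = 0) : qObj I n ⟶ N :=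
  ModuleCat.ofHom (Submodule.liftQ (I ^ n) (LinearMap.toSpanSingleton R N y) fun a ha => hy a ha)

theorem homOfElt_one {N : ModuleCat.{u} R} (n : ℕ) (y : N) (hy : ∀ a ∈ I ^ n, a • y = 0) :
    (homOfElt I n y hy).hom (Ideal.Quotient.mk (I ^ n) 1) = y := one_smul R y

theorem qObj_hom_ext {N : ModuleCat.{u} R} {n : ℕ} {f g : qObj I n ⟶ N}
    (h : f.hom (Ideal.Quotient.mk (I ^ n) 1) = g.hom (Ideal.Quotient.mk (I ^ n) 1)) : f = g := by
  refine ModuleCat.hom_ext (LinearMap.ext fun r => ?_)
  obtain ⟨r, rfl⟩ := Ideal.Quotient.mk_surjective r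
  have : (Ideal.Quotient.mk (I ^ n) r : qObj I n) = r • Ideal.Quotient.mk (I ^ n) 1 := by
    rw [Algebra.smul_def, Ideal.Quotient.algebraMap_eq, ← map_mul, mul_one]
  rw [this, map_smul, map_smul, h]

theorem killed {N : ModuleCat.{u} R} {n : ℕ} (f : qObj I n ⟶ N) (a : R) (ha : a ∈ I ^ n) :
    a • f.hom (Ideal.Quotient.mk (I ^ n) 1) = 0 := by
  rw [← map_smul, Algebra.smul_def, Ideal.Quotient.algebraMap_eq, ← map_mul, mul_one,
    Ideal.Quotient.eq_zero_iff_mem.2 ha, map_zero]

section Res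

variable {M : ModuleCat.{u} R} (J : InjectiveResolution M) (i : ℕ)

/-- `Γ_I` of an injective resolution. -/
noncomputable abbrev gCx : CochainComplex (ModuleCat.{u} R) ℕ :=
  ((DRing.gammaI I).mapHomologicalComplex (ComplexShape.up ℕ)).obj J.cocomplex

/-- The cycle of `Γ_I J` defined by a cocycle `R/I^n → J^i`. -/
noncomputable def cyc {n : ℕ} (f : qObj I n ⟶ J.cocomplex.X i) (hf : f ≫ J.cocomplex.d i (i + 1) = 0) :
    LinearMap.ker ((gCx I J).d i (i + 1)).hom :=
  ⟨(⟨f.hom (Ideal.Quotient.mk (I ^ n) 1), n, killed I f⟩ : DRing.torsionSub I (J.cocomplex.X i)),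
    LinearMap.mem_ker.2 (by
      have h := ConcreteCategory.congr_hom hf (Ideal.Quotient.mk (I ^ n) 1 : qObj I n)
      exact Subtype.ext h)⟩

theorem cyc_val {n : ℕ} (f : qObj I n ⟶ J.cocomplex.X i) (hf : f ≫ J.cocomplex.d i (i + 1) = 0) :
    ((cyc I J i f hf).1 : DRing.torsionSub I (J.cocomplex.X i)).1 = f.hom (Ideal.Quotient.mk (I ^ n) 1) := rfl

theorem cyc_congr {n m : ℕ} (f : qObj I n ⟶ J.cocomplex.X i) (hf) (g : qObj I m ⟶ J.cocomplex.X i) (hg)
    (h : f.hom (Ideal.Quotient.mk (I ^ n) 1) = g.hom (Ideal.Quotient.mk (I ^ m) 1)) :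
    cyc I J i f hf = cyc I J i g hg := Subtype.ext (Subtype.ext h)

theorem class_cyc_eq_zero_iff {n : ℕ} (f : qObj I n ⟶ J.cocomplex.X i) (hf) :
    classOf _ i (cyc I J i f hf) = 0 ↔
      ∃ (m : ℕ) (h : n ≤ m), res I h i M (J.extMk f (i + 1) rfl hf) = 0 := by
  simp only [res_apply, InjectiveResolution.mk₀_comp_extMk]
  rw [classOf_eq_zero_iff]
  rcases i with _ | p
  · have hd : (gCx I J).d ((ComplexShape.up ℕ).prev 0) 0 = 0 := (gCx I J).shape _ _ (by simp)
    have hz : ∀ {m} (g : qObj I m ⟶ J.cocomplex.X 0) hg, J.extMk g 1 rfl hg = 0 → g = 0 := by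
      intro m g hg h
      rw [← J.extEquivCohomologyClass.apply_eq_iff_eq,
        InjectiveResolution.extEquivCohomologyClass_extMk,
        InjectiveResolution.extEquivCohomologyClass_zero,
        CochainComplex.HomComplex.CohomologyClass.mk_eq_zero_iff,
        CochainComplex.HomComplex.Cocycle.fromSingleMk_mem_coboundaries_iff _ _ _ _ _ (-1) (by simp)] at h
      obtain ⟨l, hl⟩ := h
      rw [(CochainComplex.isZero_of_isStrictlyGE J.cochainComplex 0 (-1)).eq_of_tgt l 0, zero_comp] at hl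
      rw [← cancel_mono (J.cochainComplexXIso ((0 : ℕ) : ℤ) 0 rfl).inv, zero_comp]
      exact hl.symm
    constructor
    · rintro ⟨y, hy⟩
      rw [hd] at hy
      have h0 : f = 0 := qObj_hom_ext I (congrArg Subtype.val hy).symm
      exact ⟨n, le_rfl, by simp [h0]⟩
    · rintro ⟨m, h, hm⟩
      refine ⟨0, ?_⟩
      rw [map_zero]
      refine Subtype.ext ?_
      rw [cyc_val]
      exact (ConcreteCategory.congr_hom (hz _ _ hm) (Ideal.Quotient.mk (I ^ m) 1)).symm
  · rw [CochainComplex.prev_nat_succ]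
    constructor
    · rintro ⟨⟨y, k, hk⟩, hy⟩
      refine ⟨max n k, le_max_left _ _, (J.extMk_eq_zero_iff _ (p + 2) rfl _ p rfl).2
        ⟨homOfElt I (max n k) y fun a ha => hk a (Ideal.pow_le_pow_right (le_max_right n k) ha), ?_⟩⟩
      refine qObj_hom_ext I ?_
      exact ((congrArg _ (homOfElt_one I _ _ _)).trans (congrArg Subtype.val hy))
    · rintro ⟨m, h, hm⟩
      obtain ⟨g, hg⟩ := (J.extMk_eq_zero_iff _ (p + 2) rfl _ p rfl).1 hm
      refine ⟨(⟨g.hom (Ideal.Quotient.mk (I ^ m) 1), m, killed I g⟩ :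
        DRing.torsionSub I (J.cocomplex.X p)), Subtype.ext ?_⟩
      exact ConcreteCategory.congr_hom hg (Ideal.Quotient.mk (I ^ m) 1)

theorem class_cyc_res {n m : ℕ} (h : n ≤ m) (f : qObj I n ⟶ J.cocomplex.X i) (hf)
    (g : qObj I m ⟶ J.cocomplex.X i) (hg) (hfg : g = qMap I h ≫ f) :
    classOf _ i (cyc I J i g hg) = classOf _ i (cyc I J i f hf) := by
  subst hfg; rfl

/-- `Ext^i(R/I^n, M) → H^i(Γ_I J)` exists. -/
theorem exists_toG (n : ℕ) : ∃ φ : Abelian.Ext (qObj I n) M i →ₗ[R] (gCx I J).homology i,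
    ∀ f hf, φ (J.extMk f (i + 1) rfl hf) = classOf _ i (cyc I J i f hf) := by
  choose F hF hFx using fun x : Abelian.Ext (qObj I n) M i => J.extMk_surjective x (i + 1) rfl
  have key : ∀ x f hf, J.extMk f (i + 1) rfl hf = x →
      classOf _ i (cyc I J i f hf) = classOf _ i (cyc I J i (F x) (hF x)) := by
    intro x f hf hx
    have hsub : (f - F x) ≫ J.cocomplex.d i (i + 1) = 0 := by
      rw [Preadditive.sub_comp, hf, hF, sub_zero]
    have h0 : J.extMk (f - F x) (i + 1) rfl hsub = 0 := by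
      rw [← J.sub_extMk f (F x) (i + 1) rfl hf (hF x), hx, hFx, sub_self]
    have := (class_cyc_eq_zero_iff I J i _ hsub).2 ⟨n, le_rfl, by rw [h0, map_zero]⟩
    rw [show cyc I J i (f - F x) hsub = cyc I J i f hf - cyc I J i (F x) (hF x) from
      Subtype.ext (Subtype.ext rfl), map_sub, sub_eq_zero] at this
    exact this
  refine ⟨{ toFun := fun x => classOf _ i (cyc I J i (F x) (hF x)), map_add' := fun x y => ?_,
            map_smul' := fun r x => ?_ }, fun f hf => (key _ f hf rfl).symm⟩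
  · rw [← key (x + y) (F x + F y) (by rw [Preadditive.add_comp, hF, hF, add_zero])
      (by rw [← J.add_extMk _ _ (i + 1) rfl (hF x) (hF y), hFx, hFx]),
      show cyc I J i (F x + F y) _ = cyc I J i (F x) (hF x) + cyc I J i (F y) (hF y) from
        Subtype.ext (Subtype.ext rfl), map_add]
  · have e : r • x = (Abelian.Ext.mk₀ (r • 𝟙 (qObj I n))).comp x (zero_add i) := by
      rw [Abelian.Ext.mk₀_smul, Abelian.Ext.smul_comp, Abelian.Ext.mk₀_id_comp]
    rw [RingHom.id_apply, ← key (r • x) ((r • 𝟙 _) ≫ F x) (by rw [Category.assoc, hF, comp_zero])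
      (by rw [e, ← J.mk₀_comp_extMk _ (i + 1) rfl (hF x), hFx]),
      show cyc I J i ((r • 𝟙 _) ≫ F x) _ = r • cyc I J i (F x) (hF x) from
        Subtype.ext (Subtype.ext (map_smul (F x).hom r _)), map_smul]

/-- The comparison `H^i_I(M) → H^i(Γ_I J)`. -/
theorem exists_equivG : ∃ e : (localCohomology I i).obj M ≃ₗ[R] (gCx I J).homology i,
    ∀ n f hf, e (toH I i M n (J.extMk f (i + 1) rfl hf)) = classOf _ i (cyc I J i f hf) := by
  choose φ hφ using exists_toG I J i
  obtain ⟨Φ, hΦ⟩ := exists_descH I i φ fun n m h x => by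
    obtain ⟨f, hf, rfl⟩ := J.extMk_surjective x (i + 1) rfl
    rw [res_apply, InjectiveResolution.mk₀_comp_extMk, hφ, hφ]
    exact class_cyc_res I J i h f hf _ _ rfl
  refine ⟨LinearEquiv.ofBijective Φ ⟨?_, ?_⟩, fun n f hf => (hΦ n _).trans (hφ n f hf)⟩
  · rw [injective_iff_map_eq_zero]
    intro z hz
    obtain ⟨n, x, rfl⟩ := exists_toH I i z
    obtain ⟨f, hf, rfl⟩ := J.extMk_surjective x (i + 1) rfl
    rw [hΦ, hφ, class_cyc_eq_zero_iff] at hz
    exact (toH_eq_zero_iff I i _).2 hz
  · intro c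
    obtain ⟨⟨⟨y, n, hn⟩, hy⟩, rfl⟩ := classOf_surjective _ i c
    refine ⟨toH I i M n (J.extMk (homOfElt I n y hn) (i + 1) rfl (qObj_hom_ext I ?_)), ?_⟩
    · refine (congrArg (J.cocomplex.d i (i + 1)).hom (homOfElt_one I n y hn)).trans ?_
      exact congrArg Subtype.val hy
    · rw [hΦ, hφ]
      exact congrArg _ (Subtype.ext (Subtype.ext (homOfElt_one I n y hn)))

/-- `H^i_I(M) ≅ H^i(Γ_I J)`. -/
noncomputable def equivG : (localCohomology I i).obj M ≃ₗ[R] (gCx I J).homology i :=
  (exists_equivG I J i).choose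

theorem equivG_toH (n : ℕ) (f : qObj I n ⟶ J.cocomplex.X i) (hf) :
    equivG I J i (toH I i M n (J.extMk f (i + 1) rfl hf)) = classOf _ i (cyc I J i f hf) :=
  (exists_equivG I J i).choose_spec n f hf

theorem equivG_natural {N : ModuleCat.{u} R} (J' : InjectiveResolution N) (g : M ⟶ N)
    (ψ : InjectiveResolution.Hom J J' g) (z : (localCohomology I i).obj M) :
    equivG I J' i (((localCohomology I i).map g).hom z) =
      (HomologicalComplex.homologyMap (((DRing.gammaI I).mapHomologicalComplex _).map ψ.hom) i).hom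
        (equivG I J i z) := by
  obtain ⟨n, x, rfl⟩ := exists_toH I i z
  obtain ⟨f, hf, rfl⟩ := J.extMk_surjective x (i + 1) rfl
  rw [toH_natural, InjectiveResolution.extMk_comp_mk₀ f _ rfl hf ψ, equivG_toH, equivG_toH,
    classOf_natural]
  rfl

end Res

/-- Local cohomology is the right derived functor of `Γ_I`. -/
noncomputable def derivedEquiv (M : ModuleCat.{u} R) (i : ℕ) :
    (localCohomology I i).obj M ≃ₗ[R] ((DRing.gammaI I).rightDerived i).obj M :=
  (equivG I (injectiveResolution M) i).trans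
    ((injectiveResolution M).isoRightDerivedObj (DRing.gammaI I) i).toLinearEquiv.symm

/-- `localCohomology I i` is naturally isomorphic to the right derived functor of `Γ_I`. -/
noncomputable def derivedIso (i : ℕ) : localCohomology I i ≅ (DRing.gammaI I).rightDerived i :=
  NatIso.ofComponents (fun M => (derivedEquiv I M i).toModuleIso) fun {M N} g => by
    ext z
    let J := injectiveResolution M
    let J' := injectiveResolution N
    let ψ : InjectiveResolution.Hom J J' g :=
      ⟨InjectiveResolution.desc g J' J, by simpa using InjectiveResolution.desc_commutes_zero g J' J⟩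
    have h := J.isoRightDerivedObj_inv_naturality g J' ψ.hom
      (InjectiveResolution.desc_commutes_zero g J' J) (DRing.gammaI I) i
    show (J'.isoRightDerivedObj (DRing.gammaI I) i).inv.hom (equivG I J' i _) =
      (((DRing.gammaI I).rightDerived i).map g).hom
        ((J.isoRightDerivedObj (DRing.gammaI I) i).inv.hom (equivG I J i z))
    refine (congrArg (J'.isoRightDerivedObj (DRing.gammaI I) i).inv.hom (equivG_natural I J i J' g ψ z)).trans ?_
    exact (ConcreteCategory.congr_hom h (equivG I J i z)).symm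

/-- `H^0_I = Γ_I`. -/
noncomputable def zeroIso : localCohomology I 0 ≅ (DRing.gammaI I).rightDerived 0 := derivedIso I 0

theorem isPowerTorsion_obj (i : ℕ) (M : ModuleCat.{u} R) :
    LocCoh.IsPowerTorsion I ((localCohomology I i).obj M) := fun z => by
  obtain ⟨n, x, rfl⟩ := exists_toH I i z
  refine ⟨n, fun a ha => ?_⟩
  have h0 : a • 𝟙 (qObj I n) = 0 := by
    refine qObj_hom_ext I ?_
    show a • (Ideal.Quotient.mk (I ^ n) 1) = 0
    rw [Algebra.smul_def, Ideal.Quotient.algebraMap_eq, ← map_mul,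
      Ideal.Quotient.eq_zero_iff_mem.2 (Ideal.mul_mem_right _ _ ha)]
  rw [← map_smul, show a • x = (Abelian.Ext.mk₀ (a • 𝟙 (qObj I n))).comp x (zero_add i) from by
      rw [Abelian.Ext.mk₀_smul, Abelian.Ext.smul_comp, Abelian.Ext.mk₀_id_comp],
    h0, Abelian.Ext.mk₀_zero, Abelian.Ext.zero_comp, map_zero]

end Groth.Agent.LC
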