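import Groth.Agent.LC.Matlis
import Groth.Agent.LC.MatlisExtra
import Groth.Agent.LC.TopDim

/-!
# Finite modules are determined by their Matlis duals
-/

set_option autoImplicit false

universe u

open IsLocalRing

namespace Groth.Agent.LC.Canon

variable {R : Type u} [CommRing R] [IsNoetherianRing R] [IsLocalRing R]

omit [IsNoetherianRing R] [IsLocalRing R] in
theorem pi_mem_smul_top {ι : Type*} [Fintype ι] (I : Ideal R) {M : Type u} [AddCommGroup M] [Module R M]
    {v : ι → M} (hv : ∀ i, v i ∈ I • (⊤ : Submodule R M)) : v ∈ I • (⊤ : Submodule R (ι → M)) := by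
  classical
  rw [← Finset.univ_sum_single v]
  refine sum_mem fun i _ => ?_
  have : Pi.single i (v i) ∈ Submodule.map (LinearMap.single R (fun _ : ι => M) i) (I • ⊤) := ⟨v i, hv i, rfl⟩
  rw [Submodule.map_smul''] at this
  exact Submodule.smul_mono le_rfl le_top this

/-- Artin-Rees: surjections modulo every power lift to a surjection. -/
theorem exists_surjective_of_quot {K K' : Type u} [AddCommGroup K] [Module R K] [Module.Finite R K]
    [AddCommGroup K'] [Module R K'] [Module.Finite R K']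
    (h : ∀ t : ℕ, ∃ g : K →ₗ[R] K' ⧸ (maximalIdeal R ^ t • ⊤ : Submodule R K'), Function.Surjective g) :
    ∃ β : K →ₗ[R] K', Function.Surjective β := by
  classical
  obtain ⟨a, π, hπ⟩ := Module.Finite.exists_fin' R K
  obtain ⟨b, r, hr⟩ := Submodule.fg_iff_exists_fin_generating_family.1 (IsNoetherian.noetherian (LinearMap.ker π))
  let ev : (Fin a → K') → (Fin a → R) →ₗ[R] K' := fun c => Fintype.linearCombination R c
  let Φ : (Fin a → K') →ₗ[R] (Fin b → K') :=
    { toFun := fun c j => ∑ i, r j i • c i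
      map_add' := fun c d => funext fun j => by simp [smul_add, Finset.sum_add_distrib]
      map_smul' := fun s c => funext fun j => by simp [Finset.smul_sum, smul_comm s] }
  obtain ⟨k, hk⟩ := Ideal.exists_pow_inf_eq_pow_smul (maximalIdeal R) (LinearMap.range Φ)
  obtain ⟨g, hg⟩ := h (k + 1)
  choose c hc using fun i => Submodule.Quotient.mk_surjective _ (g (π (Pi.single i 1)))
  have hcl : ∀ x, Submodule.Quotient.mk (∑ i, x i • c i) = g (π x) := by
    intro x
    rw [← Submodule.mkQ_apply, map_sum, show π x = ∑ i, x i • π (Pi.single i 1) from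
      (congrArg π (pi_eq_sum_univ' x)).trans
        ((map_sum π _ _).trans (Finset.sum_congr rfl fun i _ => map_smul π _ _)), map_sum]
    exact Finset.sum_congr rfl fun i _ => by rw [map_smul, map_smul, Submodule.mkQ_apply, hc i]
  have hΦc : Φ c ∈ (maximalIdeal R ^ (k + 1) • ⊤ : Submodule R (Fin b → K')) := by
    refine pi_mem_smul_top _ fun j => (Submodule.Quotient.mk_eq_zero _).1 ?_
    have : r j ∈ LinearMap.ker π := hr ▸ Submodule.subset_span ⟨j, rfl⟩
    show Submodule.Quotient.mk (∑ i, r j i • c i) = 0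
    rw [hcl, show π (r j) = 0 from this, map_zero]
  have hmem : Φ c ∈ (maximalIdeal R • LinearMap.range Φ : Submodule R (Fin b → K')) := by
    have h1 : Φ c ∈ (maximalIdeal R ^ (k + 1) • ⊤ ⊓ LinearMap.range Φ : Submodule R (Fin b → K')) :=
      ⟨hΦc, c, rfl⟩
    rw [hk (k + 1) (Nat.le_succ k), Nat.add_sub_cancel_left, pow_one] at h1
    exact Submodule.smul_mono le_rfl inf_le_right h1
  rw [LinearMap.range_eq_map, ← Submodule.map_smul''] at hmem
  obtain ⟨γ, hγ, hγc⟩ := hmem
  let β0 : (Fin a → R) →ₗ[R] K' := ev (c - γ)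
  have hker : LinearMap.ker π ≤ LinearMap.ker β0 := by
    rw [← hr, Submodule.span_le]
    rintro _ ⟨j, rfl⟩
    rw [SetLike.mem_coe, LinearMap.mem_ker]
    show Fintype.linearCombination R (c - γ) (r j) = 0
    rw [Fintype.linearCombination_apply]
    have := congrFun (show Φ (c - γ) = 0 by rw [map_sub, hγc, sub_self]) j
    exact this
  let β : K →ₗ[R] K' := (LinearMap.ker π).liftQ β0 hker ∘ₗ (π.quotKerEquivOfSurjective hπ).symm.toLinearMap
  have hβ : ∀ x, β (π x) = β0 x := fun x => by
    show (LinearMap.ker π).liftQ β0 hker ((π.quotKerEquivOfSurjective hπ).symm (π x)) = _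
    rw [show (π.quotKerEquivOfSurjective hπ).symm (π x) = Submodule.Quotient.mk x from
      (LinearEquiv.symm_apply_eq _).2 rfl, Submodule.liftQ_apply]
  refine ⟨β, LinearMap.range_eq_top.1 (top_unique ?_)⟩
  refine Submodule.le_of_le_smul_of_le_jacobson_bot (I := maximalIdeal R) Module.Finite.fg_top
    (maximalIdeal_le_jacobson _) fun y _ => ?_
  obtain ⟨z, hz⟩ := hg (Submodule.Quotient.mk y)
  obtain ⟨x, rfl⟩ := hπ z
  have h1 : y - ∑ i, x i • c i ∈ (maximalIdeal R ^ (k + 1) • ⊤ : Submodule R K') := by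
    rw [← Submodule.Quotient.eq, hcl, hz]
  have h2 : ∑ i, x i • γ i ∈ (maximalIdeal R • ⊤ : Submodule R K') := sum_mem fun i _ => by
    refine Submodule.smul_mem _ _ ?_
    have := Submodule.mem_map_of_mem (f := LinearMap.proj (φ := fun _ : Fin a => K') i) hγ
    rw [Submodule.map_smul''] at this
    exact Submodule.smul_mono le_rfl le_top this
  refine Submodule.mem_sup.2 ⟨β (π x), ⟨π x, rfl⟩, y - β (π x), ?_, by abel⟩
  rw [hβ, show β0 x = ∑ i, x i • c i - ∑ i, x i • γ i from by
    show Fintype.linearCombination R (c - γ) x = _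
    rw [Fintype.linearCombination_apply, ← Finset.sum_sub_distrib]
    exact Finset.sum_congr rfl fun i _ => smul_sub _ _ _, sub_sub_eq_add_sub, add_sub_right_comm]
  exact add_mem (Submodule.smul_mono (Ideal.pow_le_self (Nat.succ_ne_zero k)) le_rfl h1) h2

variable {E : Type u} [AddCommGroup E] [Module R E] {f : ResidueField R →ₗ[R] E} (hf : InjHull.IsInjectiveHull f)

include hf

theorem exists_surjective_quot_of_dualEquiv {K K' : Type u} [AddCommGroup K] [Module R K] [Module.Finite R K]
    [AddCommGroup K'] [Module R K'] [Module.Finite R K'] (θ : (K' →ₗ[R] E) ≃ₗ[R] (K →ₗ[R] E)) (t : ℕ) :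
    ∃ g : K →ₗ[R] K' ⧸ (maximalIdeal R ^ t • ⊤ : Submodule R K'), Function.Surjective g := by
  let N : Submodule R K := maximalIdeal R ^ t • ⊤
  let N' : Submodule R K' := maximalIdeal R ^ t • ⊤
  have dual_quot : ∀ (L : Type u) [AddCommGroup L] [Module R L], ∃ e : ((L ⧸ (maximalIdeal R ^ t • ⊤ : Submodule R L)) →ₗ[R] E) ≃ₗ[R]
      LocCoh.torsionBy (maximalIdeal R ^ t) (L →ₗ[R] E), ∀ φ, (e φ).1 = φ ∘ₗ Submodule.mkQ _ := by
    intro L _ _
    let P : Submodule R L := maximalIdeal R ^ t • ⊤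
    let d : ((L ⧸ P) →ₗ[R] E) →ₗ[R] LocCoh.torsionBy (maximalIdeal R ^ t) (L →ₗ[R] E) :=
      (LinearMap.lcomp R E P.mkQ).codRestrict _ fun φ => (Submodule.mem_torsionBySet_iff _ _).2 fun a =>
        LinearMap.ext fun l => by
          show (a : R) • φ (Submodule.Quotient.mk l) = 0
          rw [← map_smul, ← Submodule.Quotient.mk_smul,
            (Submodule.Quotient.mk_eq_zero P).2 (Submodule.smul_mem_smul a.2 trivial), map_zero]
    refine ⟨LinearEquiv.ofBijective d ⟨fun φ ψ h => Submodule.linearMap_qext _ (congrArg Subtype.val h), fun ψ => ?_⟩,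
      fun φ => rfl⟩
    have hle : P ≤ LinearMap.ker ψ.1 := Submodule.smul_le.2 fun a ha l _ => by
      rw [LinearMap.mem_ker, map_smul]
      exact LinearMap.congr_fun ((Submodule.mem_torsionBySet_iff _ _).1 ψ.2 ⟨a, ha⟩) l
    exact ⟨P.liftQ ψ.1 hle, Subtype.ext (Submodule.liftQ_mkQ P ψ.1 hle)⟩
  obtain ⟨e, -⟩ := dual_quot K
  obtain ⟨e', -⟩ := dual_quot K'
  have hfl : ∀ (L : Type u) [AddCommGroup L] [Module R L] [Module.Finite R L],
      IsFiniteLength R (L ⧸ (maximalIdeal R ^ t • ⊤ : Submodule R L)) := by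
    intro L _ _ _
    haveI := (isFiniteLength_iff_isNoetherian_isArtinian.1 (isFiniteLength_quot_pow (R := R) t)).2
    haveI : IsArtinianRing (R ⧸ maximalIdeal R ^ t) := isArtinian_of_tower R this
    refine isFiniteLength_iff_isNoetherian_isArtinian.2 ⟨inferInstance, ?_⟩
    exact isArtinian_of_kill (maximalIdeal R ^ t) _ fun a ha z => by
      obtain ⟨z, rfl⟩ := Submodule.Quotient.mk_surjective _ z
      rw [← Submodule.Quotient.mk_smul, Submodule.Quotient.mk_eq_zero]
      exact Submodule.smul_mem_smul ha trivial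
  let θt : LocCoh.torsionBy (maximalIdeal R ^ t) (K' →ₗ[R] E) ≃ₗ[R]
      LocCoh.torsionBy (maximalIdeal R ^ t) (K →ₗ[R] E) :=
    θ.ofSubmodules _ _ (by
      ext φ
      rw [Submodule.mem_map_equiv, Submodule.mem_torsionBySet_iff, Submodule.mem_torsionBySet_iff]
      refine forall_congr' fun a => ?_
      rw [← map_smul, LinearEquiv.map_eq_zero_iff])
  let D := (e'.trans θt).trans e.symm
  let ιK := LinearEquiv.ofBijective _ (applyₗ_bijective_of_isFiniteLength hf (K ⧸ N) (hfl K))
  let ιK' := LinearEquiv.ofBijective _ (applyₗ_bijective_of_isFiniteLength hf (K' ⧸ N') (hfl K'))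
  let q : (K ⧸ N) ≃ₗ[R] (K' ⧸ N') := ιK.trans ((LinearEquiv.congrLeft E R D.symm).trans ιK'.symm)
  exact ⟨q.toLinearMap ∘ₗ N.mkQ, q.surjective.comp (Submodule.mkQ_surjective N)⟩

theorem nonempty_linearEquiv_of_dualEquiv {K K' : Type u} [AddCommGroup K] [Module R K] [Module.Finite R K]
    [AddCommGroup K'] [Module R K'] [Module.Finite R K'] (θ : (K' →ₗ[R] E) ≃ₗ[R] (K →ₗ[R] E)) :
    Nonempty (K ≃ₗ[R] K') := by
  obtain ⟨β, hβ⟩ := exists_surjective_of_quot (fun t => exists_surjective_quot_of_dualEquiv hf θ t)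
  obtain ⟨β', hβ'⟩ := exists_surjective_of_quot (fun t => exists_surjective_quot_of_dualEquiv hf θ.symm t)
  have hinj := OrzechProperty.injective_of_surjective_endomorphism (β' ∘ₗ β) (hβ'.comp hβ)
  exact ⟨LinearEquiv.ofBijective β ⟨fun x y h => hinj (congrArg β' h), hβ⟩⟩

end Groth.Agent.LC.Canon
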