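import Groth.Agent.LC.CanonRows
import Groth.Agent.LC.CanonUnique
import Groth.Agent.LC.GorRows
import Groth.Agent.LC.GorHullBC

/-!
# The dual of top local cohomology over a Cohen–Macaulay local ring
-/

set_option autoImplicit false

universe u

open CategoryTheory Limits IsLocalRing RingTheory.Sequence
open scoped Pointwise

namespace Groth.Agent.LC.Canon

section Gen

variable {R : Type u} [CommRing R]

/-- `Hom(L/IL, E) ≅ Hom(L, E)[I]`. -/
theorem exists_dualQuot (I : Ideal R) (L E : Type u) [AddCommGroup L] [Module R L] [AddCommGroup E] [Module R E] :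
    ∃ e : ((L ⧸ (I • ⊤ : Submodule R L)) →ₗ[R] E) ≃ₗ[R] LocCoh.torsionBy I (L →ₗ[R] E),
      ∀ φ, (e φ).1 = φ ∘ₗ Submodule.mkQ _ := by
  let P : Submodule R L := I • ⊤
  let d : ((L ⧸ P) →ₗ[R] E) →ₗ[R] LocCoh.torsionBy I (L →ₗ[R] E) :=
    (LinearMap.lcomp R E P.mkQ).codRestrict _ fun φ => (Submodule.mem_torsionBySet_iff _ _).2 fun a =>
      LinearMap.ext fun l => by
        show (a : R) • φ (Submodule.Quotient.mk l) = 0
        rw [← map_smul, ← Submodule.Quotient.mk_smul,
          (Submodule.Quotient.mk_eq_zero P).2 (Submodule.smul_mem_smul a.2 trivial), map_zero]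
  refine ⟨LinearEquiv.ofBijective d ⟨fun φ ψ h => Submodule.linearMap_qext _ (congrArg Subtype.val h), fun ψ => ?_⟩,
    fun φ => rfl⟩
  have hle : P ≤ LinearMap.ker ψ.1 := Submodule.smul_le.2 fun a ha l _ => by
    rw [LinearMap.mem_ker, map_smul]
    exact LinearMap.congr_fun ((Submodule.mem_torsionBySet_iff _ _).1 ψ.2 ⟨a, ha⟩) l
  exact ⟨P.liftQ ψ.1 hle, Subtype.ext (Submodule.liftQ_mkQ P ψ.1 hle)⟩

/-- Equivalent modules have equivalent torsion. -/
theorem exists_torsionBy_congr (I : Ideal R) {M N : Type u} [AddCommGroup M] [Module R M] [AddCommGroup N]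
    [Module R N] (e : M ≃ₗ[R] N) : Nonempty (LocCoh.torsionBy I M ≃ₗ[R] LocCoh.torsionBy I N) :=
  ⟨e.ofSubmodules _ _ (by
    ext v
    rw [Submodule.mem_map_equiv, Submodule.mem_torsionBySet_iff, Submodule.mem_torsionBySet_iff]
    refine forall_congr' fun a => ?_
    rw [← map_smul, LinearEquiv.map_eq_zero_iff])⟩

variable [IsNoetherianRing R] [IsLocalRing R]

theorem isFiniteLength_of_kill (M : Type u) [AddCommGroup M] [Module R M] [Module.Finite R M]
    (h : ∀ a ∈ maximalIdeal R, ∀ z : M, a • z = 0) : IsFiniteLength R M := by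
  haveI := (isFiniteLength_iff_isNoetherian_isArtinian.1 (isFiniteLength_quot_pow (R := R) 1)).2
  haveI : IsArtinianRing (R ⧸ maximalIdeal R ^ 1) := isArtinian_of_tower R this
  refine isFiniteLength_iff_isNoetherian_isArtinian.2 ⟨inferInstance, ?_⟩
  exact isArtinian_of_kill (maximalIdeal R ^ 1) _ fun a ha z => h a (by rwa [pow_one] at ha) z

theorem isPowerTorsion_of_supportDim_le_zero (M : Type u) [AddCommGroup M] [Module R M] [Module.Finite R M]
    (h : Module.supportDim R M ≤ ((0 : ℕ) : WithBot ℕ∞)) : DRing.torsionSub (maximalIdeal R) M = ⊤ := by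
  have hrad : maximalIdeal R ≤ (Module.annihilator R M).radical := by
    rw [Ideal.radical_eq_sInf]
    refine le_sInf fun P hP => ?_
    obtain ⟨hle, hPp⟩ := hP
    have h1 : Order.coheight (⟨P, hPp⟩ : PrimeSpectrum R) ≤ ((0 : ℕ) : ℕ∞) := by
      have := (coheight_le_supportDim (M := M) (p := ⟨P, hPp⟩) (by
        rw [Module.support_eq_zeroLocus]; exact hle)).trans h
      exact WithBot.coe_le_coe.1 this
    have h2 : Order.coheight (⟨P, hPp⟩ : PrimeSpectrum R) = 0 := le_antisymm h1 bot_le
    exact Order.coheight_eq_zero.1 h2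
      (show (⟨P, hPp⟩ : PrimeSpectrum R) ≤ ⟨maximalIdeal R, inferInstance⟩ from le_maximalIdeal hPp.ne_top)
  obtain ⟨t, ht⟩ := Ideal.exists_pow_le_of_le_radical_of_fg hrad (IsNoetherian.noetherian _)
  exact eq_top_iff.2 fun v _ => ⟨t, fun a ha => Module.mem_annihilator.1 (ht ha) v⟩

/-- The annihilator of top local cohomology of a module with vanishing lower cohomology. -/
theorem smul_eq_zero_of_H_top : ∀ (n : ℕ) (M : Type u) [AddCommGroup M] [Module R M] [Module.Finite R M],
    (∀ j < n, Subsingleton ((localCohomology (maximalIdeal R) j).obj (ModuleCat.of R M))) →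
    Module.supportDim R M ≤ (n : WithBot ℕ∞) → ∀ a : R,
      (∀ z : (localCohomology (maximalIdeal R) n).obj (ModuleCat.of R M), a • z = 0) → ∀ v : M, a • v = 0 := by
  intro n
  induction n with
  | zero =>
    intro M _ _ _ _ hdim a ha v
    have hv : v ∈ DRing.torsionSub (maximalIdeal R) M := by
      rw [isPowerTorsion_of_supportDim_le_zero M hdim]; trivial
    have h1 := congrArg (H0Equiv (maximalIdeal R) (ModuleCat.of R M))
      (ha ((H0Equiv (maximalIdeal R) (ModuleCat.of R M)).symm ⟨v, hv⟩))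
    rw [map_smul, map_zero, LinearEquiv.apply_symm_apply] at h1
    exact congrArg Subtype.val h1
  | succ n ih =>
    intro M _ _ _ hlow hdim a ha v
    rcases subsingleton_or_nontrivial M with hM | hM
    · exact Subsingleton.elim _ _
    have hIM : maximalIdeal R • (⊤ : Submodule R M) ≠ ⊤ := smul_top_ne_top_of_le_maximal le_rfl
    have hdep : ((1 : ℕ) : ℕ∞) ≤ LocCoh.idealDepth (maximalIdeal R) M :=
      (le_idealDepth_iff_H (maximalIdeal R) M 1).2 fun i hi => hlow i (by omega)
    obtain ⟨rs, hreg, hmem, hlen⟩ := Alg6.exists_length_ge_of_le_idealDepth hIM hdep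
    rcases rs with _ | ⟨x, rs⟩
    · simp at hlen
    have hx := hmem x List.mem_cons_self
    have hxreg : IsSMulRegular M x := ((isWeaklyRegular_cons_iff M x rs).1 hreg).1
    have key : ∀ t : ℕ, a • v ∈ (maximalIdeal R ^ (t + 1) • ⊤ : Submodule R M) := by
      intro t
      have hyreg : IsSMulRegular M (x ^ (t + 1)) := hxreg.pow (t + 1)
      have hym : x ^ (t + 1) ∈ maximalIdeal R := Ideal.pow_mem_of_mem _ hx _ t.succ_pos
      set y := x ^ (t + 1) with hy
      let μ : M →ₗ[R] M := y • LinearMap.id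
      let P : Submodule R M := y • ⊤
      have hPmem : ∀ z, z ∈ P ↔ ∃ w, y • w = z := fun z => by
        rw [Submodule.mem_smul_pointwise_iff_exists]; exact ⟨fun ⟨w, _, h⟩ => ⟨w, h⟩, fun ⟨w, h⟩ => ⟨w, trivial, h⟩⟩
      let S : ShortComplex (ModuleCat.{u} R) := ShortComplex.mk (X₁ := ModuleCat.of R M) (X₂ := ModuleCat.of R M)
        (X₃ := ModuleCat.of R (M ⧸ P)) (ModuleCat.ofHom μ) (ModuleCat.ofHom P.mkQ)
        (ModuleCat.hom_ext (LinearMap.ext fun z => (Submodule.Quotient.mk_eq_zero _).2 ((hPmem _).2 ⟨z, rfl⟩)))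
      have hS : S.ShortExact :=
        { exact := (ShortComplex.ShortExact.moduleCat_exact_iff_function_exact _).2 fun z =>
            (Submodule.Quotient.mk_eq_zero P).trans (hPmem z)
          mono_f := (ModuleCat.mono_iff_injective _).2 hyreg
          epi_g := (ModuleCat.epi_iff_surjective _).2 (Submodule.mkQ_surjective _) }
      have hdim' : Module.supportDim R (M ⧸ P) ≤ (n : WithBot ℕ∞) := by
        have h1 := Module.supportDim_quotSMulTop_succ_eq_supportDim hyreg hym
        have h2 : Module.supportDim R (M ⧸ P) + 1 ≤ ((n + 1 : ℕ) : WithBot ℕ∞) := h1.le.trans hdim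
        generalize Module.supportDim R (M ⧸ P) = d at h2 ⊢
        cases d with
        | bot => exact bot_le
        | coe d =>
          have h3 : d + 1 ≤ (n : ℕ∞) + 1 := by exact_mod_cast h2
          exact WithBot.coe_le_coe.2 ((ENat.add_le_add_iff_right ENat.one_ne_top).1 h3)
      have hlow' : ∀ j < n, Subsingleton ((localCohomology (maximalIdeal R) j).obj (ModuleCat.of R (M ⧸ P))) :=
        fun j hj => subsingleton_of_forall_eq 0 fun z => by
          obtain ⟨w, rfl⟩ := (exact₃ (maximalIdeal R) j hS (j + 1) rfl z).1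
            (@Subsingleton.elim _ (hlow (j + 1) (by omega)) _ _)
          rw [@Subsingleton.elim _ (hlow j (by omega)) w 0, map_zero]
      have hδ : Function.Injective (δH (maximalIdeal R) n hS (n + 1) rfl) :=
        (injective_iff_map_eq_zero _).2 fun z hz => by
          obtain ⟨w, rfl⟩ := (exact₃ (maximalIdeal R) n hS (n + 1) rfl z).1 hz
          rw [@Subsingleton.elim _ (hlow n (by omega)) w 0, map_zero]
      have h3 := ih (M ⧸ P) hlow' hdim' a (fun z => hδ (by rw [map_smul, map_zero]; exact ha _))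
        (Submodule.Quotient.mk v)
      rw [← Submodule.Quotient.mk_smul, Submodule.Quotient.mk_eq_zero, hPmem] at h3
      obtain ⟨w, hw⟩ := h3
      rw [← hw, hy]
      exact Submodule.smul_mem_smul (Ideal.pow_mem_pow hx _) trivial
    have h0 : a • v ∈ (⨅ t : ℕ, maximalIdeal R ^ t • ⊤ : Submodule R M) := by
      rw [Submodule.mem_iInf]
      intro t
      exact Submodule.smul_mono (Ideal.pow_le_pow_right t.le_succ) le_rfl (key t)
    rw [Ideal.iInf_pow_smul_eq_bot_of_isLocalRing _ (maximalIdeal.isMaximal R).ne_top, Submodule.mem_bot] at h0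
    exact h0

end Gen

section CM

variable {R : Type u} [CommRing R] [LocCoh.IsCohenMacaulayLocalRing R] {n : ℕ} (hn : ringKrullDim R = n)
variable {E : Type u} [AddCommGroup E] [Module R E] {f : ResidueField R →ₗ[R] E} (hf : InjHull.IsInjectiveHull f)
variable {K : Type u} [AddCommGroup K] [Module R K]
variable (eK : (K →ₗ[R] E) ≃ₗ[R] (localCohomology (maximalIdeal R) n).obj (ModuleCat.of R R))

theorem hlow_ring (hn : ringKrullDim R = n) :
    ∀ i < n, Subsingleton ((localCohomology (maximalIdeal R) i).obj (ModuleCat.of R R)) := by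
  have h := LocCoh.IsCohenMacaulayLocalRing.supportDim_eq_depth (R := R)
  rw [Module.supportDim_self_eq_ringKrullDim, hn] at h
  exact subsingleton_H_low_of_depth (WithBot.coe_le_coe.1 (le_of_eq h))

theorem supportDim_residue : Module.supportDim R (R ⧸ maximalIdeal R) = ((0 : ℕ) : WithBot ℕ∞) := by
  rw [Module.supportDim_quotient_eq_ringKrullDim]
  letI := Ideal.Quotient.field (maximalIdeal R)
  exact ringKrullDim_eq_zero_of_field _

include hn hf eK

theorem exists_dualExt (M : Type u) [AddCommGroup M] [Module R M] [Module.Finite R M] (i j : ℕ) (hij : j + i = n) :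
    Nonempty ((localCohomology (maximalIdeal R) j).obj (ModuleCat.of R M) ≃ₗ[R]
      (Abelian.Ext (ModuleCat.of R M) (ModuleCat.of R K) i →ₗ[R] E)) := by
  haveI := hf.isInjective
  exact exists_localDuality (maximalIdeal R) n K E eK (hlow_ring hn)
    (fun N _ => subsingleton_H_succ_of_ringKrullDim _ hn.le N) i M j hij

theorem ext_vanish_of_H (M : Type u) [AddCommGroup M] [Module R M] [Module.Finite R M] (i j : ℕ) (hij : j + i = n)
    (h : Subsingleton ((localCohomology (maximalIdeal R) j).obj (ModuleCat.of R M))) :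
    Subsingleton (Abelian.Ext (ModuleCat.of R M) (ModuleCat.of R K) i) := by
  obtain ⟨φ⟩ := exists_dualExt hn hf eK M i j hij
  haveI := φ.symm.injective.subsingleton
  refine subsingleton_of_forall_eq 0 fun x => ?_
  by_contra hx
  obtain ⟨ψ, hψ⟩ := exists_dual_ne_zero hf hx
  exact hψ (LinearMap.congr_fun (Subsingleton.elim ψ 0) x)

theorem le_depth_dual [Module.Finite R K] : (n : ℕ∞) ≤ LocCoh.idealDepth (maximalIdeal R) K := by
  refine (le_idealDepth_iff_ext (maximalIdeal R) K n).2 fun i hi => ?_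
  exact ext_vanish_of_H hn hf eK (R ⧸ maximalIdeal R) i (n - i) (by omega)
    (subsingleton_H_of_supportDim_lt _ _ _ (by
      rw [supportDim_residue]; exact_mod_cast (by omega : 0 < n - i)))

theorem isCM_dual [Module.Finite R K] :
    LocCoh.IsCohenMacaulayModule R K ∧ Module.supportDim R K = n := by
  haveI := nontrivial_dual hn hf eK
  have h1 := le_depth_dual hn hf eK
  have h2 := depth_le_supportDim (R := R) K
  have h3 := supportDim_dual_le hn hf eK
  have h4 : Module.supportDim R K = n := le_antisymm h3 ((WithBot.coe_le_coe.2 h1).trans h2)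
  exact ⟨le_antisymm (h4.le.trans (WithBot.coe_le_coe.2 h1)) h2, h4⟩

theorem injective_dual_of_zero [Module.Finite R K] (hn0 : n = 0) : Module.Injective R K := by
  subst hn0
  haveI := hf.isInjective
  haveI : IsArtinianRing R := by
    haveI : Ring.KrullDimLE 0 R := Ring.krullDimLE_iff.2 (by rw [hn])
    exact isArtinianRing_iff_krullDimLE_zero.2 inferInstance
  have hK : IsFiniteLength R K := isFiniteLength_iff_isNoetherian_isArtinian.2 ⟨inferInstance, inferInstance⟩
  have htop : DRing.torsionSub (maximalIdeal R) R = ⊤ :=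
    isPowerTorsion_of_supportDim_le_zero R (by rw [Module.supportDim_self_eq_ringKrullDim, hn])
  let eR : (K →ₗ[R] E) ≃ₗ[R] R :=
    eK.trans ((H0Equiv (maximalIdeal R) (ModuleCat.of R R)).trans ((LinearEquiv.ofEq _ _ htop).trans Submodule.topEquiv))
  let ι := LinearEquiv.ofBijective _ (applyₗ_bijective_of_isFiniteLength hf K hK)
  let e : E ≃ₗ[R] K :=
    ((ι.trans (LinearEquiv.congrLeft E R eR)).trans (LinearMap.ringLmapEquivSelf R R E)).symm
  exact (Module.Baer.of_equiv e (Module.Baer.of_injective inferInstance)).injective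

theorem ext_vanish_above [Module.Finite R K] : ∀ (i : ℕ), n < i →
    ∀ (M : Type u) [AddCommGroup M] [Module R M] [Module.Finite R M],
      Subsingleton (Abelian.Ext (ModuleCat.of R M) (ModuleCat.of R K) i) := by
  intro i
  induction i with
  | zero => intro h; omega
  | succ i ih =>
    intro hi M _ _ _
    rcases Nat.eq_zero_or_pos n with hn0 | hn0
    · haveI := injective_dual_of_zero hn hf eK hn0
      haveI : Injective (ModuleCat.of R K) := (Module.injective_iff_injective_object R K).1 inferInstance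
      exact subsingleton_of_forall_eq 0 Abelian.Ext.eq_zero_of_injective
    obtain ⟨k, π, hπ⟩ := exists_fin_presentation (R := R) M
    let S : ShortComplex (ModuleCat.{u} R) := ShortComplex.mk (X₁ := ModuleCat.of R (LinearMap.ker π))
      (X₂ := ModuleCat.of R (Fin k → R)) (X₃ := ModuleCat.of R M)
      (ModuleCat.ofHom (LinearMap.ker π).subtype) (ModuleCat.ofHom π)
      (ModuleCat.hom_ext (LinearMap.ext fun z => z.2))
    have hS : S.ShortExact :=
      { exact := (ShortComplex.ShortExact.moduleCat_exact_iff_function_exact _).2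
          (LinearMap.exact_subtype_ker_map π)
        mono_f := (ModuleCat.mono_iff_injective _).2 Subtype.val_injective
        epi_g := (ModuleCat.epi_iff_surjective _).2 hπ }
    haveI : Projective S.X₂ := (IsProjective.iff_projective (R := R) (Fin k → R)).1 inferInstance
    have hZ : Subsingleton (Abelian.Ext S.X₁ (ModuleCat.of R K) i) := by
      rcases Nat.lt_or_ge n i with h | h
      · exact ih h (LinearMap.ker π)
      · obtain rfl : i = n := by omega
        refine ext_vanish_of_H hn hf eK (LinearMap.ker π) i 0 (by omega) ?_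
        exact @Function.Injective.subsingleton _ _ _
          (Liaison.injective_H_map (maximalIdeal R) 0 hS fun j hj => absurd hj (by omega))
          (subsingleton_H_pi_low (maximalIdeal R) i (hlow_ring hn) k hn0)
    refine subsingleton_of_forall_eq 0 fun x => ?_
    obtain ⟨y, rfl⟩ := Abelian.Ext.contravariant_sequence_exact₃ hS (ModuleCat.of R K) x
      (Abelian.Ext.eq_zero_of_projective _) (add_comm 1 i)
    rw [@Subsingleton.elim _ hZ y 0, Abelian.Ext.comp_zero]

theorem injectiveDimension_dual [Module.Finite R K] :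
    HasInjectiveDimensionLT (ModuleCat.of R K) (n + 1) ∧ ¬ HasInjectiveDimensionLT (ModuleCat.of R K) n := by
  refine ⟨Groth.Agent.CAlgGlobalDim.hasInjectiveDimensionLE_of_ext_cyclic n _ fun J =>
    ext_vanish_above hn hf eK (n + 1) (Nat.lt_succ_self n) (R ⧸ J), fun h => ?_⟩
  haveI : Subsingleton (Abelian.Ext (ModuleCat.of R (R ⧸ maximalIdeal R)) (ModuleCat.of R K) n) :=
    subsingleton_of_forall_eq 0 fun e => e.eq_zero_of_hasInjectiveDimensionLT n le_rfl
  obtain ⟨φ⟩ := exists_dualExt hn hf eK (R ⧸ maximalIdeal R) n 0 (zero_add n)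
  haveI := (nontrivial_and_not_finite_H 0 (R ⧸ maximalIdeal R) supportDim_residue).1
  haveI : Subsingleton (Abelian.Ext (ModuleCat.of R (R ⧸ maximalIdeal R)) (ModuleCat.of R K) n →ₗ[R] E) :=
    ⟨fun a b => LinearMap.ext fun z => by rw [Subsingleton.elim z 0, map_zero, map_zero]⟩
  exact not_subsingleton _ φ.injective.subsingleton

theorem smul_dual_eq_zero (a : R) (ha : ∀ z : K, a • z = 0) : a = 0 := by
  have h := smul_eq_zero_of_H_top n R (hlow_ring hn) (by rw [Module.supportDim_self_eq_ringKrullDim, hn]) a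
    (fun z => by
      obtain ⟨φ, rfl⟩ := eK.surjective z
      rw [← map_smul, show a • φ = 0 from LinearMap.ext fun w => by
        rw [LinearMap.smul_apply, ← map_smul, ha, map_zero, LinearMap.zero_apply], map_zero]) 1
  simpa using h

/-- `R ≅ End K`. -/
theorem bijective_smul_id [Module.Finite R K] :
    Function.Bijective (fun r : R => r • (LinearMap.id : K →ₗ[R] K)) := by
  constructor
  · intro r s h
    refine sub_eq_zero.1 (smul_dual_eq_zero hn hf eK _ fun z => ?_)
    rw [sub_smul, sub_eq_zero]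
    exact LinearMap.congr_fun h z
  let m := maximalIdeal R
  let End := K →ₗ[R] K
  let Q := End ⧸ (m • ⊤ : Submodule R End)
  let X := Abelian.Ext (ModuleCat.of R (R ⧸ m)) (ModuleCat.of R K) n
  haveI : Module.Finite R End := inferInstance
  obtain ⟨ψ, -⟩ := exists_topDual hn eK hf
  obtain ⟨e1, -⟩ := exists_dualQuot m End E
  obtain ⟨e2⟩ := exists_torsionBy_congr m (ψ K)
  have hkill : ∀ a ∈ m, ∀ z : (R ⧸ m), a • z = 0 := fun a ha z => by
    obtain ⟨z, rfl⟩ := Submodule.Quotient.mk_surjective _ z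
    exact (Submodule.Quotient.mk_eq_zero m).2 (m.mul_mem_right z ha)
  have hk : LocCoh.IsPowerTorsion m (R ⧸ m) := fun z => ⟨1, fun a ha => hkill a (by rwa [pow_one] at ha) z⟩
  obtain ⟨e3⟩ := nonempty_ext_linearEquiv_hom
    (prevVanish_of_H ((le_idealDepth_iff_H m K n).1 (le_depth_dual hn hf eK))) (R ⧸ m) hk
  have eQX : (Q →ₗ[R] E) ≃ₗ[R] X := e1.trans (e2.symm.trans ((quotHomTorsion m _).symm.trans e3.symm))
  obtain ⟨φ⟩ := exists_dualExt hn hf eK (R ⧸ m) n 0 (zero_add n)
  have htop : DRing.torsionSub m (R ⧸ m) = ⊤ := eq_top_iff.2 fun v _ => hk v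
  have eXk : (X →ₗ[R] E) ≃ₗ[R] (R ⧸ m) :=
    φ.symm.trans ((H0Equiv m (ModuleCat.of R (R ⧸ m))).trans ((LinearEquiv.ofEq _ _ htop).trans Submodule.topEquiv))
  haveI : Module.Finite R X := inferInstanceAs (Module.Finite R (Abelian.Ext _ _ n))
  have hX : IsFiniteLength R X := isFiniteLength_of_kill X fun a ha z =>
    smul_ext_eq_zero_of_smul (hkill a ha) z
  haveI : Module.Finite R Q := inferInstance
  have hQ : IsFiniteLength R Q := isFiniteLength_of_kill Q fun a ha z => by
    obtain ⟨z, rfl⟩ := Submodule.Quotient.mk_surjective _ z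
    rw [← Submodule.Quotient.mk_smul, Submodule.Quotient.mk_eq_zero]
    exact Submodule.smul_mem_smul ha trivial
  have hlen : Module.length R Q = 1 := by
    rw [← length_dual hf Q hQ, eQX.length_eq, ← length_dual hf X hX, eXk.length_eq, Module.length_eq_one_iff]
    exact (isSimpleModule_iff_quot_maximal).2 ⟨m, maximalIdeal.isMaximal R, ⟨LinearEquiv.refl R _⟩⟩
  haveI : IsSimpleModule R Q := Module.length_eq_one_iff.1 hlen
  let u : Q := Submodule.Quotient.mk LinearMap.id
  have hu : u ≠ 0 := by
    intro h0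
    rw [Submodule.Quotient.mk_eq_zero] at h0
    haveI := nontrivial_dual hn hf eK
    refine smul_top_ne_top_of_le_maximal (R := R) (M := K) (J := m) le_rfl (top_unique fun z _ => ?_)
    have := Submodule.mem_map_of_mem (f := (LinearMap.applyₗ z : (K →ₗ[R] K) →ₗ[R] K)) h0
    rw [Submodule.map_smul''] at this
    exact Submodule.smul_mono le_rfl le_top this
  have hspan : LinearMap.range (LinearMap.toSpanSingleton R End LinearMap.id) = ⊤ := by
    refine top_unique (Submodule.le_of_le_smul_of_le_jacobson_bot (I := m) Module.Finite.fg_top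
      (maximalIdeal_le_jacobson _) fun g _ => ?_)
    obtain ⟨r, hr⟩ := (IsSimpleModule.toSpanSingleton_surjective R hu) (Submodule.Quotient.mk g)
    refine Submodule.mem_sup.2 ⟨r • LinearMap.id, ⟨r, rfl⟩, g - r • LinearMap.id, ?_, by abel⟩
    rw [← Submodule.Quotient.eq, Submodule.Quotient.mk_smul]
    exact hr.symm
  exact fun g => LinearMap.range_eq_top.1 hspan g

theorem gorenstein_iff_free [Module.Finite R K] :
    LocCoh.IsGorensteinLocalRing R ↔ Nonempty (K ≃ₗ[R] R) := by
  constructor
  · intro hG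
    obtain ⟨g, hg⟩ := isInjectiveHull_H_gorenstein (R := R) hn
    obtain ⟨e, -⟩ := hull_unique hf hg
    exact nonempty_linearEquiv_of_dualEquiv hf ((LinearMap.ringLmapEquivSelf R R E).trans (e.trans eK.symm))
  · rintro ⟨e⟩
    refine gorenstein_iff_ext_residue.2 ⟨n + 1, fun i hi => ?_⟩
    have h := ext_vanish_above hn hf eK i hi (R ⧸ maximalIdeal R)
    exact @Function.Injective.subsingleton _ _ _
      (extCongr (Iso.refl (ModuleCat.of R (R ⧸ maximalIdeal R))) e.toModuleIso i).symm.injective h

theorem endo_reduction [Module.Finite R K] (a : R) (ha : a ∈ maximalIdeal R) (hreg : IsSMulRegular R a) :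
    (∀ ψ : (K ⧸ (a • (⊤ : Submodule R K))) →ₗ[R] (K ⧸ (a • (⊤ : Submodule R K))), ∃ g : K →ₗ[R] K,
        ∀ x : K, ψ (Submodule.Quotient.mk x) = Submodule.Quotient.mk (g x)) ∧
      (∀ g : K →ₗ[R] K, (∀ x : K, g x ∈ a • (⊤ : Submodule R K)) ↔ ∃ g' : K →ₗ[R] K, g = a • g') := by
  have hdim : ringKrullDim (R ⧸ Ideal.span {a}) < n := by
    have h1 := ringKrullDim_quotient_span_singleton_succ_eq_ringKrullDim hreg ha
    rw [hn] at h1
    generalize ringKrullDim (R ⧸ Ideal.span {a}) = d at h1 ⊢
    cases d with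
    | bot => exact WithBot.bot_lt_coe _
    | coe d =>
      have h2 : d + 1 = (n : ℕ∞) := by exact_mod_cast h1
      refine WithBot.coe_lt_coe.2 ?_
      rw [← h2]
      exact (ENat.lt_add_one_iff (fun h => by rw [h, top_add] at h2; exact ENat.top_ne_coe n h2)).2 le_rfl
  have hn0 : 0 < n := by
    by_contra h
    obtain rfl : n = 0 := by omega
    haveI : Nontrivial (R ⧸ Ideal.span {a}) := Ideal.Quotient.nontrivial_iff.2
      (ne_top_of_le_ne_top (maximalIdeal.isMaximal R).ne_top ((Ideal.span_singleton_le_iff_mem _).2 ha))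
    exact not_lt.2 ringKrullDim_nonneg_of_nontrivial (by simpa using hdim)
  have hK : IsSMulRegular K a := isSMulRegular_of_dim_lt hn hf eK hdim
  let P : Submodule R K := a • ⊤
  have hPmem : ∀ z, z ∈ P ↔ ∃ w, a • w = z := fun z => by
    rw [Submodule.mem_smul_pointwise_iff_exists]; exact ⟨fun ⟨w, _, h⟩ => ⟨w, h⟩, fun ⟨w, h⟩ => ⟨w, trivial, h⟩⟩
  refine ⟨fun ψ => ?_, fun g => ⟨fun hg => ?_, ?_⟩⟩
  · have hE1 : Subsingleton (Abelian.Ext (ModuleCat.of R K) (ModuleCat.of R K) 1) :=
      ext_vanish_of_H hn hf eK K 1 (n - 1) (by omega)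
        ((le_idealDepth_iff_H (maximalIdeal R) K n).1 (le_depth_dual hn hf eK) (n - 1) (by omega))
    let S : ShortComplex (ModuleCat.{u} R) := ShortComplex.mk (X₁ := ModuleCat.of R K) (X₂ := ModuleCat.of R K)
      (X₃ := ModuleCat.of R (K ⧸ P)) (ModuleCat.ofHom (a • LinearMap.id)) (ModuleCat.ofHom P.mkQ)
      (ModuleCat.hom_ext (LinearMap.ext fun z => (Submodule.Quotient.mk_eq_zero _).2 ((hPmem _).2 ⟨z, rfl⟩)))
    have hS : S.ShortExact :=
      { exact := (ShortComplex.ShortExact.moduleCat_exact_iff_function_exact _).2 fun z =>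
          (Submodule.Quotient.mk_eq_zero P).trans (hPmem z)
        mono_f := (ModuleCat.mono_iff_injective _).2 hK
        epi_g := (ModuleCat.epi_iff_surjective _).2 (Submodule.mkQ_surjective _) }
    obtain ⟨x₂, hx₂⟩ := Abelian.Ext.covariant_sequence_exact₃ (ModuleCat.of R K) hS
      (Abelian.Ext.mk₀ (ModuleCat.ofHom (ψ ∘ₗ P.mkQ))) (n₁ := 1) (zero_add 1) (@Subsingleton.elim _ hE1 _ _)
    obtain ⟨g, rfl⟩ := (Abelian.Ext.mk₀_bijective _ _).2 x₂
    rw [Abelian.Ext.mk₀_comp_mk₀] at hx₂
    exact ⟨g.hom, fun x =>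
      (LinearMap.congr_fun (congrArg ModuleCat.Hom.hom ((Abelian.Ext.mk₀_bijective _ _).1 hx₂)) x).symm⟩
  · choose g' hg' using fun x => (hPmem (g x)).1 (hg x)
    exact ⟨{ toFun := g'
             map_add' := fun x y => hK (by simp only [smul_add, hg', map_add])
             map_smul' := fun r x => hK (by simp only [RingHom.id_apply, hg', map_smul, smul_comm a r]) },
      LinearMap.ext fun x => (hg' x).symm⟩
  · rintro ⟨g', rfl⟩ x
    exact (hPmem _).2 ⟨g' x, rfl⟩

end CM

end Groth.Agent.LC.Canon
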