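import Groth.Agent.LC.TopDim
import Groth.Agent.LC.CdBase

/-!
# Top local cohomology: consequences
-/

universe u

open CategoryTheory Limits

namespace Groth.Agent.LC

variable {R : Type u} [CommRing R] [IsNoetherianRing R]

theorem subsingleton_H_of_radical_eq {I J : Ideal R} (h : I.radical = J.radical) (i : ℕ) (M : ModuleCat.{u} R)
    (hI : Subsingleton ((localCohomology I i).obj M)) : Subsingleton ((localCohomology J i).obj M) :=
  (((localCohomology.isoOfSameRadical h i).app M).toLinearEquiv.toEquiv).symm.subsingleton

theorem finite_H_of_radical_eq {I J : Ideal R} (h : I.radical = J.radical) (i : ℕ) (M : ModuleCat.{u} R)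
    (hI : Module.Finite R ((localCohomology I i).obj M)) : Module.Finite R ((localCohomology J i).obj M) :=
  Module.Finite.equiv ((localCohomology.isoOfSameRadical h i).app M).toLinearEquiv

/-- Inverting an element of the Jacobson radical lowers the dimension. -/
theorem supportDim_localized_lt (b : R) (hb : b ∈ (⊥ : Ideal R).jacobson) (M : Type u) [AddCommGroup M]
    [Module R M] [Module.Finite R M] (n : ℕ) (hn : Module.supportDim R M ≤ (n : WithBot ℕ∞)) :
    Module.supportDim (Localization.Away b) (LocalizedModule (Submonoid.powers b) M) <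
      (n : WithBot ℕ∞) := by
  let S := Localization.Away b
  have key : ∀ l : LTSeries (Module.support S (LocalizedModule (Submonoid.powers b) M)), l.length < n := by
    intro l
    let c : Module.support S (LocalizedModule (Submonoid.powers b) M) → Module.support R M := fun q =>
      ⟨PrimeSpectrum.comap (algebraMap R S) q.1, by
        refine (Set.ext_iff.1 Module.support_eq_zeroLocus _).2 fun a ha => ?_
        show algebraMap R S a ∈ q.1.asIdeal
        have : Module.Finite S (LocalizedModule (Submonoid.powers b) M) :=
          Module.Finite.of_isLocalizedModule (Submonoid.powers b) (LocalizedModule.mkLinearMap _ M)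
        have hq := (Set.ext_iff.1 Module.support_eq_zeroLocus _).1 q.2
        refine hq (Module.mem_annihilator.2 fun z => ?_)
        induction z using LocalizedModule.induction_on with
        | h z s => rw [algebraMap_smul, LocalizedModule.smul'_mk, Module.mem_annihilator.1 ha z, LocalizedModule.zero_mk]⟩
    have hc : StrictMono c := fun q q' h => lt_of_le_of_ne (fun a ha => (le_of_lt h) ha) fun he =>
      h.ne (Subtype.ext (PrimeSpectrum.localization_comap_injective S (Submonoid.powers b)
        (congrArg Subtype.val he)))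
    let l' := l.map c hc
    obtain ⟨𝔫, h𝔫, hle⟩ := Ideal.exists_le_maximal l'.last.1.asIdeal l'.last.1.isPrime.ne_top
    have hb' : b ∈ 𝔫 := Submodule.mem_sInf.1 hb 𝔫 ⟨bot_le, h𝔫⟩
    have hmem : (⟨𝔫, h𝔫.isPrime⟩ : PrimeSpectrum R) ∈ Module.support R M :=
      Module.mem_support_mono (show l'.last.1 ≤ ⟨𝔫, h𝔫.isPrime⟩ from hle) l'.last.2
    have hlt : l'.last < ⟨_, hmem⟩ := by
      refine lt_of_le_of_ne hle fun he => ?_
      have hnot : b ∉ (c l.last).1.asIdeal := fun hmem' =>
        l.last.1.isPrime.ne_top (Ideal.eq_top_of_isUnit_mem _ hmem'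
          (IsLocalization.map_units S ⟨b, Submonoid.mem_powers b⟩))
      exact hnot (by rw [← LTSeries.last_map l c hc]; exact he ▸ hb')
    have h1 := (Order.LTSeries.length_le_krullDim (l'.snoc _ hlt)).trans hn
    have h2 : l.length + 1 ≤ n := by exact_mod_cast h1
    omega
  rcases isEmpty_or_nonempty (Module.support S (LocalizedModule (Submonoid.powers b) M)) with hE | ⟨⟨q⟩⟩
  · rw [Module.supportDim, Order.krullDim_eq_bot]
    exact WithBot.bot_lt_coe _
  · have hpos := key (RelSeries.singleton _ q)
    refine lt_of_le_of_lt (b := ((n - 1 : ℕ) : WithBot ℕ∞)) (iSup_le fun l => ?_)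
      (Nat.cast_lt.2 (by omega))
    have := key l
    exact_mod_cast (by omega : l.length ≤ n - 1)

/-- `H^i_a` of a module with `b` inverted vanishes for `i ≥ dim`, when `b` is in the Jacobson radical. -/
theorem subsingleton_H_localized (a : Ideal R) (b : R) (hb : b ∈ (⊥ : Ideal R).jacobson) (M : Type u)
    [AddCommGroup M] [Module R M] [Module.Finite R M] (n i : ℕ)
    (hn : Module.supportDim R M ≤ (n : WithBot ℕ∞)) (hi : n ≤ i) :
    Subsingleton ((localCohomology a i).obj ((locF b).obj (ModuleCat.of R M))) := by
  have : IsNoetherianRing (Localization.Away b) :=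
    IsLocalization.isNoetherianRing (Submonoid.powers b) (Localization.Away b) inferInstance
  obtain ⟨φ, -⟩ := exists_indep (R' := Localization.Away b) a i (LocalizedModule (Submonoid.powers b) M)
  have := subsingleton_H_of_supportDim_lt (a.map (algebraMap R (Localization.Away b)))
    (LocalizedModule (Submonoid.powers b) M) i
    ((supportDim_localized_lt b hb M n hn).trans_le (Nat.cast_le.2 hi))
  exact φ.symm.toEquiv.subsingleton

/-- Enlarging the ideal inside the Jacobson radical gives surjections in degrees `≥ dim`. -/
theorem exists_surjective_H_of_le {I J : Ideal R} (hIJ : I ≤ J) (hJ : J ≤ (⊥ : Ideal R).jacobson)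
    (M : Type u) [AddCommGroup M] [Module R M] [Module.Finite R M] (n i : ℕ)
    (hn : Module.supportDim R M ≤ (n : WithBot ℕ∞)) (hi : n ≤ i) :
    ∃ f : (localCohomology J i).obj (ModuleCat.of R M) →ₗ[R]
      (localCohomology I i).obj (ModuleCat.of R M), Function.Surjective f := by
  obtain ⟨s, hs⟩ := (IsNoetherian.noetherian J : J.FG)
  have hsJ : ∀ x ∈ s, x ∈ J := fun x hx => hs ▸ Submodule.subset_span hx
  suffices ∀ t : Finset R, (∀ x ∈ t, x ∈ J) → ∃ f : (localCohomology (I ⊔ Ideal.span (t : Set R)) i).obj
      (ModuleCat.of R M) →ₗ[R] (localCohomology I i).obj (ModuleCat.of R M), Function.Surjective f by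
    have h := this s hsJ
    rwa [show I ⊔ Ideal.span (s : Set R) = J from (congrArg (I ⊔ ·) hs).trans (sup_eq_right.2 hIJ)] at h
  intro t
  classical
  induction t using Finset.induction with
  | empty =>
    intro _
    rw [Finset.coe_empty, Ideal.span_empty, sup_bot_eq]
    exact ⟨LinearMap.id, Function.surjective_id⟩
  | insert b t _ ih =>
    intro ht
    obtain ⟨f, hf⟩ := ih fun x hx => ht x (Finset.mem_insert_of_mem hx)
    rw [Finset.coe_insert, Ideal.span_insert, sup_comm (Ideal.span {b}), ← sup_assoc]
    have := subsingleton_H_localized (I ⊔ Ideal.span (t : Set R)) b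
      (hJ (ht b (Finset.mem_insert_self b t))) M n i hn hi
    exact ⟨f ∘ₗ supH b _ i (ModuleCat.of R M),
      hf.comp fun z => (exact_supH_locH b _ i (ModuleCat.of R M) z).1 (Subsingleton.elim _ _)⟩

/-- The nonvanishing theorem at a prime minimal over the ideal. -/
theorem nontrivial_H_height {I : Ideal R} (hI : I ≠ ⊤) (h : ℕ) (hh : I.height = h) :
    Nontrivial ((localCohomology I h).obj (ModuleCat.of R R)) := by
  obtain ⟨q, hq, hqh⟩ : ∃ q ∈ I.minimalPrimes, q.height = (h : ℕ∞) := by
    have hne : I.minimalPrimes.Nonempty := Set.nonempty_coe_sort.1 (Ideal.nonempty_minimalPrimes hI)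
    obtain ⟨q, hq, hmin⟩ := Set.exists_min_image I.minimalPrimes Ideal.height
      (Ideal.finite_minimalPrimes_of_isNoetherianRing R I) hne
    refine ⟨q, hq, le_antisymm ?_ ?_⟩
    · rw [← hh]
      exact (le_iInf₂ fun J hJ => hmin J hJ).trans_eq (Ideal.height_eq_inf_minimalPrimes I).symm
    · exact hh ▸ Ideal.height_mono hq.1.2
  have : q.IsPrime := hq.1.1
  let A := Localization.AtPrime q
  have hdim : Module.supportDim A A = (h : WithBot ℕ∞) := by
    rw [Module.supportDim_self_eq_ringKrullDim, IsLocalization.AtPrime.ringKrullDim_eq_height q A, hqh]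
    rfl
  have hnt := (nontrivial_and_not_finite_H (R := A) h A hdim).1
  by_contra hs
  rw [not_nontrivial_iff_subsingleton] at hs
  obtain ⟨e⟩ := exists_baseChange (R' := A) I h R
  have hA : Subsingleton ((localCohomology (I.map (algebraMap R A)) h).obj (ModuleCat.of A A)) := by
    refine subsingleton_H_of_equiv _ (TensorProduct.AlgebraTensorModule.rid R A A) h ?_
    exact e.symm.toEquiv.subsingleton
  have hrad : (I.map (algebraMap R A)).radical = (IsLocalRing.maximalIdeal A).radical := by
    rw [IsLocalization.AtPrime.radical_map_of_mem_minimalPrimes (A := A) q I hq,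
      Localization.AtPrime.map_eq_maximalIdeal, (IsLocalRing.maximalIdeal.isMaximal A).isPrime.isRadical.radical]
  exact not_subsingleton_iff_nontrivial.2 hnt (subsingleton_H_of_radical_eq hrad h _ hA)

end Groth.Agent.LC
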