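import Groth.Agent.LC.CohCech
import Groth.Agent.LC.DepthLoc
import Groth.Agent.LC.TopDim2

/-!
# Vanishing of local cohomology from vanishing at the points of the support
-/

universe u

open CategoryTheory Limits IsLocalRing

namespace Groth.Agent.LC

variable {R : Type u} [CommRing R] [IsNoetherianRing R]

theorem HmapOfLE_comp {I I' I'' : Ideal R} (h : I ≤ I') (h' : I' ≤ I'') (i : ℕ) (M : ModuleCat.{u} R)
    (z : (localCohomology I'' i).obj M) :
    ((Dual2.HmapOfLE h i).app M).hom (((Dual2.HmapOfLE h' i).app M).hom z) =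
      ((Dual2.HmapOfLE (h.trans h') i).app M).hom z := by
  obtain ⟨n, x, rfl⟩ := exists_toH I'' i z
  rw [HmapOfLE_toH, HmapOfLE_toH, HmapOfLE_toH,
    ← Abelian.Ext.comp_assoc _ _ _ (zero_add 0) (zero_add i) (by omega), Abelian.Ext.mk₀_comp_mk₀]
  congr 3
  exact qObj_hom_ext _ rfl

theorem HmapOfLE_self (I : Ideal R) (i : ℕ) (M : ModuleCat.{u} R) (z : (localCohomology I i).obj M) :
    ((Dual2.HmapOfLE (le_refl I) i).app M).hom z = z := by
  obtain ⟨n, x, rfl⟩ := exists_toH I i z
  rw [HmapOfLE_toH, show qLE (le_refl I) n = 𝟙 (qObj I n) from qObj_hom_ext _ rfl, Abelian.Ext.mk₀_id_comp]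

/-- If `H^i_q(M_q) = 0` at all primes `q ⊇ a` avoiding `b`, every class in `H^i_a(M)` is `b`-torsion. -/
theorem exists_pow_smul_eq_zero_of_pointwise (b : R) (M : Type u) [AddCommGroup M] [Module R M] (i : ℕ) :
    ∀ a : Ideal R, (∀ q : PrimeSpectrum R, a ≤ q.asIdeal → b ∉ q.asIdeal →
        Subsingleton (LocCoh.H (maximalIdeal (Localization.AtPrime q.asIdeal)) i
          (LocalizedModule q.asIdeal.primeCompl M))) →
      ∀ x : LocCoh.H a i M, ∃ n : ℕ, b ^ n • x = 0 := by
  intro a
  induction a using IsWellFounded.induction (α := Ideal R) (· > ·) with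
  | _ a ih =>
    intro hq
    by_contra hcon
    push Not at hcon
    obtain ⟨x₀, hx₀⟩ := hcon
    let colon : LocCoh.H a i M → Ideal R := fun x =>
      { carrier := {c | ∃ n : ℕ, b ^ n • c • x = 0}
        zero_mem' := ⟨0, by rw [zero_smul, smul_zero]⟩
        add_mem' := fun {c d} ⟨m, hm⟩ ⟨n, hn⟩ => ⟨m + n, by
          rw [add_smul, smul_add, pow_add, mul_smul, mul_smul, smul_comm (b ^ m) (b ^ n) (c • x), hm, hn,
            smul_zero, smul_zero, add_zero]⟩
        smul_mem' := fun r c ⟨n, hn⟩ => ⟨n, by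
          rw [smul_eq_mul, mul_smul, smul_comm (b ^ n) r, hn, smul_zero]⟩ }
    let T : Set (Ideal R) := {J | ∃ x, (∀ n : ℕ, b ^ n • x ≠ 0) ∧ colon x = J}
    obtain ⟨q, ⟨x, hx, hxq⟩, hmax⟩ : ∃ q : Ideal R, q ∈ T ∧ ∀ J ∈ T, ¬ q < J :=
      set_has_maximal_iff_noetherian.2 ‹IsNoetherianRing R› T ⟨_, x₀, hx₀, rfl⟩
    have hmem : ∀ c, c ∈ q ↔ ∃ n : ℕ, b ^ n • c • x = 0 := fun c => by rw [← hxq]; exact Iff.rfl
    have hone : (1 : R) ∉ q := fun h => by
      obtain ⟨n, hn⟩ := (hmem 1).1 h
      exact hx n (by rwa [one_smul] at hn)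
    have hqp : Ideal.IsPrime q := by
      refine ⟨(Ideal.ne_top_iff_one q).2 hone, fun {c d} hcd => or_iff_not_imp_right.2 fun hd => ?_⟩
      have hy : ∀ n : ℕ, b ^ n • d • x ≠ 0 := fun n h => hd ((hmem d).2 ⟨n, h⟩)
      have hle : q ≤ colon (d • x) := fun r hr => by
        obtain ⟨n, hn⟩ := (hmem r).1 hr
        exact ⟨n, by rw [smul_comm r d x, smul_comm (b ^ n) d, hn, smul_zero]⟩
      have heq : q = colon (d • x) := eq_of_le_of_not_lt hle (hmax _ ⟨_, hy, rfl⟩)
      obtain ⟨n, hn⟩ := (hmem _).1 hcd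
      rw [heq]
      exact ⟨n, by rw [← mul_smul c d x]; exact hn⟩
    have hbq : b ∉ q := fun h => by
      obtain ⟨n, hn⟩ := (hmem b).1 h
      exact hx (n + 1) (by rw [pow_succ, mul_smul]; exact hn)
    obtain ⟨N, hN⟩ := isPowerTorsion_obj a i (ModuleCat.of R M) x
    have haq : a ≤ q := fun c hc => hqp.mem_of_pow_mem N
      ((hmem _).2 ⟨0, by rw [hN _ (Ideal.pow_mem_pow hc N), smul_zero]⟩)
    have hrad : q ≤ a.radical := by
      intro c hc
      by_contra hca
      obtain ⟨n, hn⟩ := (hmem c).1 hc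
      obtain ⟨y, hy⟩ := (mem_range_supH_iff c a i (ModuleCat.of R M) (b ^ n • x)).2
        ⟨1, by rw [pow_one, smul_comm, hn]⟩
      obtain ⟨k, hk⟩ := ih (a ⊔ Ideal.span {c})
        (lt_of_le_of_ne le_sup_left fun h => hca (Ideal.le_radical (h ▸ Ideal.mem_sup_right (Ideal.mem_span_singleton_self c))))
        (fun p hp hb => hq p (le_sup_left.trans hp) hb) y
      refine hx (k + n) ?_
      rw [pow_add, mul_smul, ← hy, ← map_smul, hk, map_zero]
    -- the localization at `q` kills `x`
    obtain ⟨e⟩ := exists_localizedH a M q i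
    let A := Localization.AtPrime q
    have : IsNoetherianRing A := IsLocalization.isNoetherianRing q.primeCompl A inferInstance
    have hradA : (maximalIdeal A).radical = (a.map (algebraMap R A)).radical := by
      have h1 : a.map (algebraMap R A) ≤ maximalIdeal A := by
        rw [← Localization.AtPrime.map_eq_maximalIdeal]; exact Ideal.map_mono haq
      have h2 : maximalIdeal A ≤ (a.map (algebraMap R A)).radical := by
        rw [← Localization.AtPrime.map_eq_maximalIdeal]
        exact (Ideal.map_mono hrad).trans (Ideal.map_radical_le _)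
      exact le_antisymm (Ideal.radical_le_radical_iff.2 h2) (Ideal.radical_mono h1)
    have := subsingleton_H_of_radical_eq hradA i (ModuleCat.of A (LocalizedModule q.primeCompl M))
      (hq ⟨q, hqp⟩ haq hbq)
    have h0 : LocalizedModule.mkLinearMap q.primeCompl _ x = 0 := e.injective (Subsingleton.elim _ _)
    obtain ⟨s, hs⟩ := (IsLocalizedModule.eq_zero_iff q.primeCompl _).1 h0
    exact s.2 ((hmem _).2 ⟨0, by rw [show (s : R) • x = 0 from hs, smul_zero]⟩)

/-- `H^i_a(M) = 0` if `H^i_q(M_q) = 0` at all points of `V(a)`. -/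
theorem subsingleton_H_of_pointwise (a : Ideal R) (M : Type u) [AddCommGroup M] [Module R M] (i : ℕ)
    (h : ∀ q : PrimeSpectrum R, a ≤ q.asIdeal →
        Subsingleton (LocCoh.H (maximalIdeal (Localization.AtPrime q.asIdeal)) i
          (LocalizedModule q.asIdeal.primeCompl M))) :
    Subsingleton (LocCoh.H a i M) := by
  refine subsingleton_of_forall_eq 0 fun x => ?_
  obtain ⟨n, hn⟩ := exists_pow_smul_eq_zero_of_pointwise 1 M i a (fun q hq _ => h q hq) x
  rwa [one_pow, one_smul] at hn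

theorem supH_surjective_of_pointwise (b : R) (a : Ideal R) (M : Type u) [AddCommGroup M] [Module R M] (i : ℕ)
    (h : ∀ q : PrimeSpectrum R, a ≤ q.asIdeal → b ∉ q.asIdeal →
        Subsingleton (LocCoh.H (maximalIdeal (Localization.AtPrime q.asIdeal)) i
          (LocalizedModule q.asIdeal.primeCompl M))) :
    Function.Surjective (supH b a i (ModuleCat.of R M)) := fun x =>
  LinearMap.mem_range.1 ((mem_range_supH_iff b a i _ x).2 (exists_pow_smul_eq_zero_of_pointwise b M i a h x))

theorem supH_injective_of_pointwise (b : R) (a : Ideal R) (M : Type u) [AddCommGroup M] [Module R M] (i : ℕ)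
    (h : ∀ q : PrimeSpectrum R, a ≤ q.asIdeal → b ∉ q.asIdeal → ∀ j : ℕ, j + 1 = i →
        Subsingleton (LocCoh.H (maximalIdeal (Localization.AtPrime q.asIdeal)) j
          (LocalizedModule q.asIdeal.primeCompl M))) :
    Function.Injective (supH b a i (ModuleCat.of R M)) := by
  rcases Nat.eq_zero_or_pos i with rfl | hi
  · exact supH_zero_injective b a _
  obtain ⟨j, rfl⟩ : ∃ j, i = j + 1 := ⟨i - 1, by omega⟩
  obtain ⟨δ, -, hex⟩ := exists_δloc b a j (ModuleCat.of R M)
  have := isLocalizedModule_locH b a j (ModuleCat.of R M)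
  have h0 : ∀ w, δ w = 0 := by
    intro w
    have hw : w = 0 := by
      obtain ⟨⟨x, t⟩, hxt⟩ := IsLocalizedModule.surj (Submonoid.powers b) (locH b a j (ModuleCat.of R M)) w
      obtain ⟨n, hn⟩ := exists_pow_smul_eq_zero_of_pointwise b M j a (fun q hq hb => h q hq hb j rfl) x
      have hz : locH b a j (ModuleCat.of R M) x = 0 :=
        (IsLocalizedModule.eq_zero_iff (Submonoid.powers b) _).2
          ⟨⟨b ^ n, Submonoid.pow_mem _ (Submonoid.mem_powers b) _⟩, hn⟩
      exact ((Module.End.isUnit_iff _).1 (IsLocalizedModule.map_units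
        (locH b a j (ModuleCat.of R M)) t)).1 (hxt.trans (hz.trans (smul_zero _).symm))
    rw [hw, map_zero]
  rw [injective_iff_map_eq_zero]
  intro z hz
  obtain ⟨w, rfl⟩ := (hex z).1 hz
  exact h0 w

theorem HmapOfLE_surjective_injective_aux (M : Type u) [AddCommGroup M] [Module R M] (i : ℕ)
    (I I' : Ideal R) (s : Finset R) :
    ∀ a (h : I ≤ a), a = I ⊔ Ideal.span (s : Set R) → a ≤ I' →
      ((∀ p : PrimeSpectrum R, I ≤ p.asIdeal → ¬ I' ≤ p.asIdeal →
          Subsingleton (LocCoh.H (maximalIdeal (Localization.AtPrime p.asIdeal)) i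
            (LocalizedModule p.asIdeal.primeCompl M))) →
        Function.Surjective ((Dual2.HmapOfLE h i).app (ModuleCat.of R M)).hom) ∧
      ((∀ p : PrimeSpectrum R, I ≤ p.asIdeal → ¬ I' ≤ p.asIdeal → ∀ j : ℕ, j + 1 = i →
          Subsingleton (LocCoh.H (maximalIdeal (Localization.AtPrime p.asIdeal)) j
            (LocalizedModule p.asIdeal.primeCompl M))) →
        Function.Injective ((Dual2.HmapOfLE h i).app (ModuleCat.of R M)).hom) := by
  classical
  induction s using Finset.induction with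
  | empty =>
    intro a h ha _
    rw [Finset.coe_empty, Ideal.span_empty, sup_bot_eq] at ha
    subst ha
    exact ⟨fun _ z => ⟨z, HmapOfLE_self _ i _ z⟩, fun _ z w hzw => by rwa [HmapOfLE_self, HmapOfLE_self] at hzw⟩
  | insert b s hb ih =>
    intro a h ha haI
    rw [Finset.coe_insert, Ideal.span_insert, sup_comm (Ideal.span {b}), ← sup_assoc] at ha
    subst ha
    obtain ⟨h1, h2⟩ := ih (I ⊔ Ideal.span (s : Set R)) le_sup_left rfl (le_sup_left.trans haI)
    have hfac : ∀ z, ((Dual2.HmapOfLE h i).app (ModuleCat.of R M)).hom z =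
        ((Dual2.HmapOfLE (le_sup_left : I ≤ I ⊔ Ideal.span (s : Set R)) i).app (ModuleCat.of R M)).hom
          (supH b (I ⊔ Ideal.span (s : Set R)) i (ModuleCat.of R M) z) := fun z =>
      (HmapOfLE_comp (le_sup_left : I ≤ I ⊔ Ideal.span (s : Set R))
        (le_sup_left : I ⊔ Ideal.span (s : Set R) ≤ I ⊔ Ideal.span (s : Set R) ⊔ Ideal.span {b})
        i (ModuleCat.of R M) z).symm
    have hbI : b ∈ I' := haI (Ideal.mem_sup_right (Ideal.mem_span_singleton_self b))
    refine ⟨fun hp z => ?_, fun hp z w hzw => ?_⟩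
    · obtain ⟨y, hy⟩ := h1 hp z
      obtain ⟨v, hv⟩ := supH_surjective_of_pointwise b (I ⊔ Ideal.span (s : Set R)) M i (fun q hq hbq =>
        hp q (le_sup_left.trans hq) fun hle => hbq (hle hbI)) y
      exact ⟨v, by rw [hfac, hv, hy]⟩
    · rw [hfac, hfac] at hzw
      exact supH_injective_of_pointwise b (I ⊔ Ideal.span (s : Set R)) M i (fun q hq hbq =>
        hp q (le_sup_left.trans hq) fun hle => hbq (hle hbI)) (h2 hp hzw)

theorem HmapOfLE_surjective_injective (I I' : Ideal R) (h : I ≤ I') (M : Type u) [AddCommGroup M] [Module R M]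
    (i : ℕ) :
    ((∀ p : PrimeSpectrum R, I ≤ p.asIdeal → ¬ I' ≤ p.asIdeal →
        Subsingleton (LocCoh.H (maximalIdeal (Localization.AtPrime p.asIdeal)) i
          (LocalizedModule p.asIdeal.primeCompl M))) →
      Function.Surjective ((Dual2.HmapOfLE h i).app (ModuleCat.of R M)).hom) ∧
    ((∀ p : PrimeSpectrum R, I ≤ p.asIdeal → ¬ I' ≤ p.asIdeal → ∀ j : ℕ, j + 1 = i →
        Subsingleton (LocCoh.H (maximalIdeal (Localization.AtPrime p.asIdeal)) j
          (LocalizedModule p.asIdeal.primeCompl M))) →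
      Function.Injective ((Dual2.HmapOfLE h i).app (ModuleCat.of R M)).hom) := by
  obtain ⟨s, hs⟩ := IsNoetherian.noetherian I'
  exact HmapOfLE_surjective_injective_aux M i I I' s I' h
    ((le_antisymm (sup_le h le_rfl) le_sup_right).symm.trans (congrArg (I ⊔ ·) hs.symm)) le_rfl

end Groth.Agent.LC
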