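import Groth.Agent.LC.ExtDim
import Groth.Agent.LC.PrimeSel
import Groth.Agent.RegLoc6.Seq
import Groth.Agent.CAlgGlobalDim.Basic
import Groth.Prelude.Def_CAlg

/-!
# Finite injective dimension and Gorenstein local rings
-/

universe u

open CategoryTheory Limits IsLocalRing
open scoped Pointwise

namespace Groth.Agent.LC

variable {R : Type u} [CommRing R]

/-- `Ext(N, M)` is killed by every element killing `N`. -/
theorem smul_ext_eq_zero_of_smul {N M : ModuleCat.{u} R} {i : ℕ} {x : R} (hx : ∀ z : N, x • z = 0)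
    (e : Abelian.Ext N M i) : x • e = 0 := by
  have h0 : x • 𝟙 N = 0 := ModuleCat.hom_ext (LinearMap.ext hx)
  rw [show x • e = (Abelian.Ext.mk₀ (x • 𝟙 N)).comp e (zero_add i) by
      rw [Abelian.Ext.mk₀_smul, Abelian.Ext.smul_comp, Abelian.Ext.mk₀_id_comp],
    h0, Abelian.Ext.mk₀_zero, Abelian.Ext.zero_comp]

/-- The connecting sequence of `N --x--> N → N/xN` for `Ext(-, M)`. -/
theorem ext_smul_sequence {N : Type u} [AddCommGroup N] [Module R N] {x : R}
    (hreg : IsSMulRegular N x) (M : ModuleCat.{u} R) (i : ℕ) :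
    ∃ δ : Abelian.Ext (ModuleCat.of R N) M i →ₗ[R] Abelian.Ext (ModuleCat.of R (QuotSMulTop x N)) M (i + 1),
      (∀ z, δ z = 0 → ∃ w, x • w = z) ∧
      ∀ e, Subsingleton (Abelian.Ext (ModuleCat.of R N) M (i + 1)) → ∃ z, δ z = e := by
  have hS := IsSMulRegular.smulShortComplex_shortExact (M := ModuleCat.of R N) hreg
  refine ⟨Abelian.Ext.precompOfLinear hS.extClass R M (add_comm 1 i), fun z hz => ?_, fun e he => ?_⟩
  · obtain ⟨w, hw⟩ := Abelian.Ext.contravariant_sequence_exact₁ hS M z (add_comm 1 i) hz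
    let w' : Abelian.Ext (ModuleCat.of R N) M i := w
    refine ⟨w', ?_⟩
    have hw' : (Abelian.Ext.mk₀ (x • 𝟙 (ModuleCat.of R N))).comp w' (zero_add i) = z := by
      rw [← hw, ModuleCat.smulShortComplex_f_eq_smul_id]
      rfl
    rw [← hw', Abelian.Ext.mk₀_smul, Abelian.Ext.smul_comp, Abelian.Ext.mk₀_id_comp]
  · exact Abelian.Ext.contravariant_sequence_exact₃ hS M e (@Subsingleton.elim _ he _ _) (add_comm 1 i)

theorem ext_quotSMulTop_vanish {N : Type u} [AddCommGroup N] [Module R N] {x : R}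
    (hreg : IsSMulRegular N x) (M : ModuleCat.{u} R) (i : ℕ)
    (h1 : Subsingleton (Abelian.Ext (ModuleCat.of R N) M i))
    (h2 : Subsingleton (Abelian.Ext (ModuleCat.of R N) M (i + 1))) :
    Subsingleton (Abelian.Ext (ModuleCat.of R (QuotSMulTop x N)) M (i + 1)) := by
  obtain ⟨δ, -, hδ⟩ := ext_smul_sequence hreg M i
  refine subsingleton_of_forall_eq 0 fun e => ?_
  obtain ⟨z, rfl⟩ := hδ e h2
  rw [Subsingleton.elim z 0, map_zero]

theorem ext_vanish_of_linearEquiv {N N' : Type u} [AddCommGroup N] [Module R N] [AddCommGroup N'] [Module R N']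
    (e : N ≃ₗ[R] N') (M : ModuleCat.{u} R) (i : ℕ) (h : Subsingleton (Abelian.Ext (ModuleCat.of R N) M i)) :
    Subsingleton (Abelian.Ext (ModuleCat.of R N') M i) := by
  refine subsingleton_of_forall_eq 0 fun x => ?_
  rw [← Abelian.Ext.mk₀_id_comp x, ← e.toModuleIso.inv_hom_id, ← Abelian.Ext.mk₀_comp_mk₀,
    Abelian.Ext.comp_assoc _ _ _ (zero_add 0) (zero_add i) (by omega),
    show (Abelian.Ext.mk₀ e.toModuleIso.hom).comp x (zero_add i) = 0 from Subsingleton.elim _ _,
    Abelian.Ext.comp_zero]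

/-- Dividing by a weakly regular sequence raises the vanishing bound by its length. -/
theorem ext_quot_ofList_vanish (M : ModuleCat.{u} R) (rs : List R) :
    ∀ (N : Type u) [AddCommGroup N] [Module R N] (c : ℕ), RingTheory.Sequence.IsWeaklyRegular N rs →
      (∀ j, c < j → Subsingleton (Abelian.Ext (ModuleCat.of R N) M j)) →
      ∀ j, c + rs.length < j →
        Subsingleton (Abelian.Ext (ModuleCat.of R (N ⧸ (Ideal.ofList rs • ⊤ : Submodule R N))) M j) := by
  induction rs with
  | nil =>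
    intro N _ _ c _ h j hj
    exact ext_vanish_of_linearEquiv (Submodule.quotEquivOfEqBot _ (by simp)).symm M j (h j (by simpa using hj))
  | cons r rs ih =>
    intro N _ _ c hreg h j hj
    rw [RingTheory.Sequence.isWeaklyRegular_cons_iff] at hreg
    refine ext_vanish_of_linearEquiv (Submodule.quotOfListConsSMulTopEquivQuotSMulTopInner N r rs).symm M j ?_
    refine ih (QuotSMulTop r N) (c + 1) hreg.2 (fun l hl => ?_) j (by rw [List.length_cons] at hj; omega)
    obtain ⟨l, rfl⟩ : ∃ l', l = l' + 1 := ⟨l - 1, by omega⟩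
    exact ext_quotSMulTop_vanish hreg.1 M l (h l (by omega)) (h (l + 1) (by omega))

theorem subsingleton_ext_self (M : ModuleCat.{u} R) {j : ℕ} (hj : 0 < j) :
    Subsingleton (Abelian.Ext (ModuleCat.of R R) M j) := by
  have : Projective (ModuleCat.of R R) := (IsProjective.iff_projective (R := R) R).1 inferInstance
  obtain ⟨j, rfl⟩ : ∃ k, j = k + 1 := ⟨j - 1, by omega⟩
  exact subsingleton_of_forall_eq 0 Abelian.Ext.eq_zero_of_projective

variable [IsNoetherianRing R]

theorem exists_smul_ext_eq_zero_of_filtration (M : ModuleCat.{u} R) (i : ℕ) (q : Ideal R) [q.IsPrime]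
    (N : Type u) [AddCommGroup N] [Module R N] [Module.Finite R N] :
    (∀ Q : PrimeSpectrum R, Q ∈ Module.support R N →
      ∃ s ∉ q, ∀ e : Abelian.Ext (ModuleCat.of R (R ⧸ Q.asIdeal)) M i, s • e = 0) →
    ∃ s ∉ q, ∀ e : Abelian.Ext (ModuleCat.of R N) M i, s • e = 0 := by
  refine IsNoetherianRing.induction_on_isQuotientEquivQuotientPrime (A := R) (M := N) ‹_›
    (motive := fun N _ _ _ => (∀ Q : PrimeSpectrum R, Q ∈ Module.support R N →
      ∃ s ∉ q, ∀ e : Abelian.Ext (ModuleCat.of R (R ⧸ Q.asIdeal)) M i, s • e = 0) →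
      ∃ s ∉ q, ∀ e : Abelian.Ext (ModuleCat.of R N) M i, s • e = 0) ?_ ?_ ?_
  · intro N _ _ _ _ _
    exact ⟨1, q.one_notMem, fun e => smul_ext_eq_zero_of_smul (fun z => Subsingleton.elim (α := N) _ _) e⟩
  · intro N _ _ _ Q eN hN
    have hQ : Q ∈ Module.support R N := by
      rw [eN.support_eq, Module.support_eq_zeroLocus, Ideal.annihilator_quotient]
      exact fun _ hx => hx
    obtain ⟨s, hs, hk⟩ := hN Q hQ
    refine ⟨s, hs, fun e => ?_⟩
    rw [← Abelian.Ext.mk₀_id_comp e, ← eN.toModuleIso.hom_inv_id, ← Abelian.Ext.mk₀_comp_mk₀,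
      Abelian.Ext.comp_assoc _ _ _ (zero_add 0) (zero_add i) (by omega), ← Abelian.Ext.comp_smul,
      hk, Abelian.Ext.comp_zero]
  · intro N₁ _ _ _ N₂ _ _ _ N₃ _ _ _ f g hf hg hfg h1 h3 hN
    let S : ShortComplex (ModuleCat.{u} R) := ShortComplex.mk (X₁ := ModuleCat.of R N₁)
      (X₂ := ModuleCat.of R N₂) (X₃ := ModuleCat.of R N₃) (ModuleCat.ofHom f) (ModuleCat.ofHom g)
      (ModuleCat.hom_ext (LinearMap.ext fun z => hfg.apply_apply_eq_zero z))
    have hS : S.ShortExact :=
      { exact := (ShortComplex.ShortExact.moduleCat_exact_iff_function_exact _).2 hfg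
        mono_f := (ModuleCat.mono_iff_injective _).2 hf
        epi_g := (ModuleCat.epi_iff_surjective _).2 hg }
    obtain ⟨s₁, hs₁, hk₁⟩ := h1 fun Q hQ => hN Q (Module.support_subset_of_injective f hf hQ)
    obtain ⟨s₃, hs₃, hk₃⟩ := h3 fun Q hQ => hN Q (Module.support_subset_of_surjective g hg hQ)
    refine ⟨s₃ * s₁, q.primeCompl.mul_mem hs₃ hs₁, fun e => ?_⟩
    have h0 : (Abelian.Ext.mk₀ S.f).comp (s₁ • e) (zero_add i) = 0 := by
      rw [Abelian.Ext.comp_smul]; exact hk₁ _
    obtain ⟨y, hy⟩ := Abelian.Ext.contravariant_sequence_exact₂ hS M (s₁ • e) h0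
    rw [mul_smul, ← hy, ← Abelian.Ext.comp_smul, hk₃, Abelian.Ext.comp_zero]

/-- If `sE ⊆ xE` with `E` finite, `x ∈ q`, `s ∉ q`, some element outside `q` kills `E`. -/
theorem exists_notMem_smul_eq_zero {E : Type*} [AddCommGroup E] [Module R E] [Module.Finite R E]
    (q : Ideal R) [q.IsPrime] {x s : R} (hx : x ∈ q) (hs : s ∉ q) (h : ∀ e : E, ∃ e', x • e' = s • e) :
    ∃ r ∉ q, ∀ e : E, r • e = 0 := by
  obtain ⟨p, hp, hpn, hpc, hp0⟩ := LinearMap.exists_monic_and_natDegree_eq_and_coeff_mem_pow_and_aeval_eq_zero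
    R (s • (LinearMap.id : E →ₗ[R] E)) (Ideal.span {x}) (by
      rintro _ ⟨e, rfl⟩
      obtain ⟨e', he'⟩ := h e
      exact (he' ▸ Submodule.smul_mem_smul (Ideal.mem_span_singleton_self x) trivial :
        s • e ∈ Ideal.span {x} • (⊤ : Submodule R E)))
  refine ⟨p.eval s, fun hmem => ?_, fun e => ?_⟩
  · have hmap : p.map (Ideal.Quotient.mk q) = Polynomial.X ^ p.natDegree := by
      refine Polynomial.ext fun k => ?_
      rw [Polynomial.coeff_map, Polynomial.coeff_X_pow]
      rcases lt_trichotomy k p.natDegree with hk | hk | hk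
      · rw [if_neg hk.ne, Ideal.Quotient.eq_zero_iff_mem]
        have h1 := Ideal.pow_le_self (I := Ideal.span {x}) (n := p.natDegree - k) (by omega) (hpc k)
        exact (Ideal.span_singleton_le_iff_mem q).2 hx h1
      · rw [if_pos hk, hk, hp.coeff_natDegree, map_one]
      · rw [if_neg hk.ne', Polynomial.coeff_eq_zero_of_natDegree_lt hk, map_zero]
    have h2 : Ideal.Quotient.mk q (s ^ p.natDegree) = Ideal.Quotient.mk q (p.eval s) := by
      rw [← Polynomial.eval_map_apply, hmap, Polynomial.eval_pow, Polynomial.eval_X, map_pow]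
    rw [(Ideal.Quotient.eq_zero_iff_mem).2 hmem, Ideal.Quotient.eq_zero_iff_mem] at h2
    exact hs (‹q.IsPrime›.mem_of_pow_mem _ h2)
  · have h1 : s • (LinearMap.id : E →ₗ[R] E) = algebraMap R (Module.End R E) s := by
      ext z; rfl
    rw [h1, Polynomial.aeval_algebraMap_apply_eq_algebraMap_eval] at hp0
    exact LinearMap.congr_fun hp0 e

/-- Bass' step: for `p ⋖ q`, if `Ext^{i+1}(R/q, M)` is killed outside `q`, so is `Ext^i(R/p, M)`. -/
theorem bass_step (M : Type u) [AddCommGroup M] [Module R M] [Module.Finite R M] (p q : Ideal R)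
    [p.IsPrime] [q.IsPrime] (hpq : p < q) (hbetween : ∀ t : Ideal R, t.IsPrime → p < t → t ≤ q → t = q)
    (i : ℕ) (h : ∃ s ∉ q, ∀ e : Abelian.Ext (ModuleCat.of R (R ⧸ q)) (ModuleCat.of R M) (i + 1), s • e = 0) :
    ∃ r ∉ q, ∀ e : Abelian.Ext (ModuleCat.of R (R ⧸ p)) (ModuleCat.of R M) i, r • e = 0 := by
  obtain ⟨x, hxq, hxp⟩ := SetLike.exists_of_lt hpq
  have hreg : IsSMulRegular (R ⧸ p) x := isSMulRegular_iff_right_eq_zero_of_smul.2 fun z hz => by
    obtain ⟨z, rfl⟩ := Ideal.Quotient.mk_surjective z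
    rw [← Ideal.Quotient.mkₐ_eq_mk R, ← map_smul, Ideal.Quotient.mkₐ_eq_mk,
      Ideal.Quotient.eq_zero_iff_mem, smul_eq_mul] at hz
    exact Ideal.Quotient.eq_zero_iff_mem.2 ((‹p.IsPrime›.mem_or_mem hz).resolve_left hxp)
  obtain ⟨s, hs, hk⟩ := exists_smul_ext_eq_zero_of_filtration (ModuleCat.of R M) (i + 1) q
    (QuotSMulTop x (R ⧸ p)) fun Q hQ => by
      rw [Module.support_quotSMulTop, Module.support_eq_zeroLocus, Ideal.annihilator_quotient] at hQ
      obtain ⟨hQp, hQx⟩ := hQ
      have hxQ : x ∈ Q.asIdeal := by simpa using hQx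
      have hpQ : p < Q.asIdeal := lt_of_le_of_ne hQp fun hh => hxp (hh ▸ hxQ)
      by_cases hQq : Q.asIdeal ≤ q
      · obtain ⟨s, hs, hk⟩ := h
        have := hbetween _ Q.isPrime hpQ hQq
        rw [this]
        exact ⟨s, hs, hk⟩
      · obtain ⟨a, haQ, haq⟩ := SetLike.not_le_iff_exists.1 hQq
        refine ⟨a, haq, fun e => smul_ext_eq_zero_of_smul (fun z => ?_) e⟩
        obtain ⟨z, rfl⟩ := Submodule.Quotient.mk_surjective _ z
        exact (Submodule.Quotient.mk_eq_zero _).2 (Ideal.mul_mem_right z _ haQ)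
  obtain ⟨δ, hδ, -⟩ := ext_smul_sequence hreg (ModuleCat.of R M) i
  exact exists_notMem_smul_eq_zero q hxq hs fun e => hδ (s • e) (by rw [map_smul]; exact hk _)

/-- The nonzero variant: `Ext^i(R/p, M)_p ≠ 0` implies `Ext^{i+1}(R/q, M)_q ≠ 0`. -/
theorem bass_step' (M : Type u) [AddCommGroup M] [Module R M] [Module.Finite R M] (p q : Ideal R)
    [p.IsPrime] [q.IsPrime] (hpq : p < q) (hbetween : ∀ t : Ideal R, t.IsPrime → p < t → t ≤ q → t = q)
    (i : ℕ) (h : ∀ r ∉ p, ∃ e : Abelian.Ext (ModuleCat.of R (R ⧸ p)) (ModuleCat.of R M) i, r • e ≠ 0) :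
    ∀ s ∉ q, ∃ e : Abelian.Ext (ModuleCat.of R (R ⧸ q)) (ModuleCat.of R M) (i + 1), s • e ≠ 0 := by
  intro s hs
  by_contra hcon
  push Not at hcon
  obtain ⟨r, hr, hk⟩ := bass_step M p q hpq hbetween i ⟨s, hs, hcon⟩
  obtain ⟨e, he⟩ := h r fun hh => hr (hpq.le hh)
  exact he (hk e)

variable [IsLocalRing R]

/-- Vanishing of `Ext^j(k, M)` for `j > N` gives vanishing for all finite modules. -/
theorem ext_vanish_of_residue (M : Type u) [AddCommGroup M] [Module R M] [Module.Finite R M] (N : ℕ)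
    (h : ∀ j, N < j → Subsingleton (Abelian.Ext (ModuleCat.of R (R ⧸ maximalIdeal R)) (ModuleCat.of R M) j))
    (T : Type u) [AddCommGroup T] [Module R T] [Module.Finite R T] :
    ∀ j, N < j → Subsingleton (Abelian.Ext (ModuleCat.of R T) (ModuleCat.of R M) j) := by
  have hprime : ∀ q : PrimeSpectrum R, ∀ j, N < j →
      Subsingleton (Abelian.Ext (ModuleCat.of R (R ⧸ q.asIdeal)) (ModuleCat.of R M) j) := by
    have hwf : WellFounded fun q₁ q₂ : PrimeSpectrum R => q₂ < q₁ :=
      (InvImage.wf PrimeSpectrum.asIdeal (wellFounded_gt (α := Ideal R)))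
    intro q
    induction q using hwf.induction with
    | h p ih =>
      intro j hj
      by_cases hm : maximalIdeal R ≤ p.asIdeal
      · rw [le_antisymm (le_maximalIdeal p.isPrime.ne_top) hm]; exact h j hj
      · obtain ⟨x, hxm, hxp⟩ := SetLike.not_le_iff_exists.1 hm
        have hreg : IsSMulRegular (R ⧸ p.asIdeal) x := isSMulRegular_iff_right_eq_zero_of_smul.2 fun z hz => by
          obtain ⟨z, rfl⟩ := Ideal.Quotient.mk_surjective z
          rw [← Ideal.Quotient.mkₐ_eq_mk R, ← map_smul, Ideal.Quotient.mkₐ_eq_mk,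
            Ideal.Quotient.eq_zero_iff_mem, smul_eq_mul] at hz
          exact Ideal.Quotient.eq_zero_iff_mem.2 ((p.isPrime.mem_or_mem hz).resolve_left hxp)
        have hC : Subsingleton (Abelian.Ext (ModuleCat.of R (QuotSMulTop x (R ⧸ p.asIdeal)))
            (ModuleCat.of R M) (j + 1)) := by
          refine subsingleton_ext_of_filtration _ (j + 1) _ fun Q hQ => ?_
          rw [Module.support_quotSMulTop, Module.support_eq_zeroLocus, Ideal.annihilator_quotient] at hQ
          obtain ⟨hQp, hQx⟩ := hQ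
          have hxQ : x ∈ Q.asIdeal := by simpa using hQx
          exact ih Q (lt_of_le_of_ne hQp fun hh => hxp (hh ▸ hxQ)) (j + 1) (by omega)
        obtain ⟨δ, hδ, -⟩ := ext_smul_sequence hreg (ModuleCat.of R M) j
        obtain ⟨r, hr, hk⟩ := exists_notMem_smul_eq_zero
          (E := Abelian.Ext (ModuleCat.of R (R ⧸ p.asIdeal)) (ModuleCat.of R M) j) (maximalIdeal R)
          (s := 1) hxm (maximalIdeal R).one_notMem
          fun e => by rw [one_smul]; exact hδ e (@Subsingleton.elim _ hC _ _)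
        refine subsingleton_of_forall_eq 0 fun e => ?_
        obtain ⟨u, hu⟩ := notMem_maximalIdeal.1 hr
        rw [← one_smul R e, ← u.inv_mul, mul_smul, hu, hk, smul_zero]
  exact fun j hj => subsingleton_ext_of_filtration _ j T fun q _ => hprime q j hj

/-- `Ext^j(T, M) = 0` for finite `T`, `j > N` bounds the injective dimension. -/
theorem hasInjectiveDimensionLE_of_residue (M : Type u) [AddCommGroup M] [Module R M] [Module.Finite R M]
    (N : ℕ)
    (h : ∀ j, N < j → Subsingleton (Abelian.Ext (ModuleCat.of R (R ⧸ maximalIdeal R)) (ModuleCat.of R M) j)) :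
    HasInjectiveDimensionLE (ModuleCat.of R M) N :=
  Groth.Agent.CAlgGlobalDim.hasInjectiveDimensionLE_of_ext_cyclic N _ fun J =>
    ext_vanish_of_residue M N h (R ⧸ J) (N + 1) (Nat.lt_succ_self N)

/-- Above `depth R` all `Ext^j(k, M)` vanish once they vanish eventually. -/
theorem ext_residue_vanish_above_depth (M : Type u) [AddCommGroup M] [Module R M] [Module.Finite R M]
    (δ N : ℕ) (hδ : LocCoh.depth R R = δ)
    (h : ∀ j, N < j → Subsingleton (Abelian.Ext (ModuleCat.of R (R ⧸ maximalIdeal R)) (ModuleCat.of R M) j)) :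
    ∀ j, δ < j → Subsingleton (Abelian.Ext (ModuleCat.of R (R ⧸ maximalIdeal R)) (ModuleCat.of R M) j) := by
  suffices hstep : ∀ N, δ ≤ N → (∀ j, N + 1 < j → Subsingleton
      (Abelian.Ext (ModuleCat.of R (R ⧸ maximalIdeal R)) (ModuleCat.of R M) j)) →
      Subsingleton (Abelian.Ext (ModuleCat.of R (R ⧸ maximalIdeal R)) (ModuleCat.of R M) (N + 1)) by
    have : ∀ k j, δ < j → N < j + k →
        Subsingleton (Abelian.Ext (ModuleCat.of R (R ⧸ maximalIdeal R)) (ModuleCat.of R M) j) := by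
      intro k
      induction k with
      | zero => intro j _ hj; exact h j hj
      | succ k ih =>
        intro j hj hjk
        obtain ⟨j, rfl⟩ : ∃ j', j = j' + 1 := ⟨j - 1, by omega⟩
        exact hstep j (by omega) fun l hl => ih l (by omega) (by omega)
    exact fun j hj => this (N + 1) j hj (by omega)
  intro N hN hab
  obtain ⟨rs, hreg, hmem, hlen⟩ := exists_idealDepth_eq_length (M := R) (maximalIdeal R)
    (smul_top_ne_top_of_le_maximal (R := R) (M := R) le_rfl)
  have hlen' : rs.length = δ := by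
    unfold LocCoh.depth at hδ
    rw [hδ] at hlen
    exact_mod_cast hlen.symm
  let Q := R ⧸ (Ideal.ofList rs • ⊤ : Submodule R R)
  have hQv : Subsingleton (Abelian.Ext (ModuleCat.of R Q) (ModuleCat.of R M) (N + 1)) :=
    ext_quot_ofList_vanish (ModuleCat.of R M) rs R 0 hreg
      (fun j hj => subsingleton_ext_self _ hj) (N + 1) (by omega)
  have : Nontrivial Q := nontrivial_quot_ofList (R := R) (M := R) (ofList_le (maximalIdeal R) hmem)
  have hd0 : LocCoh.depth R Q = 0 := by
    have h1 := idealDepth_quot_ofList (maximalIdeal R) hreg hmem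
    unfold LocCoh.depth at hδ ⊢
    rw [hδ, hlen'] at h1
    exact (ENat.add_left_injective_of_ne_top (ENat.natCast_ne_top δ)) (h1.trans (zero_add _).symm)
  have hass : maximalIdeal R ∈ associatedPrimes R Q := by
    by_contra hcon
    have := (Groth.Agent.Alg6.one_le_depth_iff (M := Q) (R := R)).2 hcon
    rw [hd0] at this
    simp at this
  obtain ⟨-, g, hg⟩ := (isAssociatedPrime_iff_exists_injective_linearMap (maximalIdeal R) Q).1
    ((AssociatedPrimes.mem_iff).1 hass)
  let S : ShortComplex (ModuleCat.{u} R) := ShortComplex.mk (X₁ := ModuleCat.of R (R ⧸ maximalIdeal R))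
    (X₂ := ModuleCat.of R Q) (X₃ := ModuleCat.of R (Q ⧸ LinearMap.range g))
    (ModuleCat.ofHom g) (ModuleCat.ofHom (LinearMap.range g).mkQ)
    (ModuleCat.hom_ext (LinearMap.ext fun z => (Submodule.Quotient.mk_eq_zero _).2 ⟨z, rfl⟩))
  have hS : S.ShortExact :=
    { exact := (ShortComplex.ShortExact.moduleCat_exact_iff_function_exact _).2
        (LinearMap.exact_map_mkQ_range g)
      mono_f := (ModuleCat.mono_iff_injective _).2 hg
      epi_g := (ModuleCat.epi_iff_surjective _).2 (Submodule.mkQ_surjective _) }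
  have hnext := ext_vanish_of_residue M (N + 1) hab (Q ⧸ LinearMap.range g) (N + 2) (by omega)
  refine subsingleton_of_forall_eq 0 fun e => ?_
  obtain ⟨w, hw⟩ := Abelian.Ext.contravariant_sequence_exact₁ hS (ModuleCat.of R M) e
    (n₁ := N + 2) (by omega) (@Subsingleton.elim _ hnext _ _)
  rw [← hw, @Subsingleton.elim _ hQv w 0, Abelian.Ext.comp_zero]

theorem exists_depth_eq : ∃ δ : ℕ, LocCoh.depth R R = δ := exists_depth_eq_nat (R := R) R

/-- A Gorenstein local ring has `Ext^j(k, R) = 0` above its depth. -/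
theorem ext_residue_vanish_of_gorenstein [LocCoh.IsGorensteinLocalRing R] (δ : ℕ)
    (hδ : LocCoh.depth R R = δ) :
    ∀ j, δ < j → Subsingleton (Abelian.Ext (ModuleCat.of R (R ⧸ maximalIdeal R)) (ModuleCat.of R R) j) := by
  obtain ⟨n, hn⟩ := LocCoh.IsGorensteinLocalRing.exists_hasInjectiveDimensionLT (A := R)
  exact ext_residue_vanish_above_depth R δ n hδ fun j hj =>
    subsingleton_of_forall_eq 0 fun e => e.eq_zero_of_hasInjectiveDimensionLT n hj.le

/-- `Ext^{ht p}(R/p, R)_p ≠ 0`. -/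
theorem ext_height_ne_zero (k : ℕ) : ∀ p : PrimeSpectrum R, Order.height p = k →
    ∀ r ∉ p.asIdeal, ∃ e : Abelian.Ext (ModuleCat.of R (R ⧸ p.asIdeal)) (ModuleCat.of R R) k, r • e ≠ 0 := by
  induction k with
  | zero =>
    intro p hp r hr
    have hmin : p.asIdeal ∈ minimalPrimes R := by
      refine ⟨⟨p.isPrime, bot_le⟩, fun q hq hqp => ?_⟩
      have h0 : IsMin p := Order.height_eq_zero.1 (by simpa using hp)
      exact h0 (show (⟨q, hq.1⟩ : PrimeSpectrum R) ≤ p from hqp)
    have hass : p.asIdeal ∈ associatedPrimes R R :=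
      Module.associatedPrimes.minimalPrimes_annihilator_subset_associatedPrimes R R (by
        rwa [(Module.annihilator_eq_bot (R := R) (M := R)).2 inferInstance])
    obtain ⟨-, g, hg⟩ := (isAssociatedPrime_iff_exists_injective_linearMap p.asIdeal R).1
      ((AssociatedPrimes.mem_iff).1 hass)
    refine ⟨Abelian.Ext.mk₀ (ModuleCat.ofHom g), fun h0 => hr ?_⟩
    rw [← Abelian.Ext.mk₀_smul] at h0
    have h1 := (Abelian.Ext.mk₀_bijective _ _).1 (h0.trans (Abelian.Ext.mk₀_zero _ _).symm)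
    have h2 := LinearMap.congr_fun (congrArg ModuleCat.Hom.hom h1) (Ideal.Quotient.mk p.asIdeal 1)
    have h3 : g (r • Ideal.Quotient.mk p.asIdeal 1) = 0 := by rw [map_smul]; exact h2
    rw [← map_zero g] at h3
    have h4 := hg h3
    rw [← Ideal.Quotient.mkₐ_eq_mk R, ← map_smul, Ideal.Quotient.mkₐ_eq_mk,
      Ideal.Quotient.eq_zero_iff_mem, smul_eq_mul, mul_one] at h4
    exact h4
  | succ k ih =>
    intro p hp
    obtain ⟨c, hcp, hc⟩ := (Order.coe_lt_height_iff (x := p) (n := k)
      (by rw [hp]; exact ENat.natCast_lt_top _)).1 (by rw [hp]; exact_mod_cast Nat.lt_succ_self k)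
    refine bass_step' R c.asIdeal p.asIdeal hcp (fun t ht hct htp => ?_) k (ih c hc)
    by_contra hne
    let t' : PrimeSpectrum R := ⟨t, ht⟩
    have h1 : c < t' := hct
    have h2 : t' < p := lt_of_le_of_ne (show t' ≤ p from htp) fun hh => hne (congrArg PrimeSpectrum.asIdeal hh)
    have hp' : Order.height p < ⊤ := by rw [hp]; exact ENat.natCast_lt_top _
    have h3 := Order.height_strictMono h1 (lt_of_le_of_lt (Order.height_mono (h1.le.trans h2.le)) hp')
    have h4 := Order.height_strictMono h2 (lt_of_le_of_lt (Order.height_mono h2.le) hp')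
    rw [hc] at h3
    rw [hp, Nat.cast_add, Nat.cast_one] at h4
    exact absurd (Order.add_one_le_of_lt h3) (not_le.2 h4)

/-- If `Ext^j(k, R)` vanishes for `j > δ`, then `dim R ≤ δ`. -/
theorem ringKrullDim_le_of_ext_vanish (δ : ℕ)
    (h : ∀ j, δ < j → Subsingleton (Abelian.Ext (ModuleCat.of R (R ⧸ maximalIdeal R)) (ModuleCat.of R R) j)) :
    ringKrullDim R ≤ δ := by
  obtain ⟨d, hd⟩ := exists_supportDim_eq_nat (R := R) R
  rw [Module.supportDim_self_eq_ringKrullDim] at hd
  rw [hd]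
  by_contra hcon
  have hlt : δ < d := by
    by_contra h'
    exact hcon (by exact_mod_cast Nat.le_of_not_lt h')
  let m : PrimeSpectrum R := ⟨maximalIdeal R, inferInstance⟩
  have hm : Order.height m = d := by
    rw [← PrimeSpectrum.height_eq_orderHeight]
    have := IsLocalRing.maximalIdeal_height_eq_ringKrullDim (R := R)
    rw [hd] at this
    exact (by exact_mod_cast this : (maximalIdeal R).height = d)
  obtain ⟨e, he⟩ := ext_height_ne_zero d m hm 1 (maximalIdeal R).one_notMem
  exact he (@Subsingleton.elim _ (h d hlt) _ _)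

end Groth.Agent.LC
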