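import Groth.Prelude.Def_DerCA
import Groth.Prelude.Def_DRing3
import Mathlib.RingTheory.Ideal.Maps

/-!
# The extended Cech complex in degree zero
-/

set_option autoImplicit false

universe u

open CategoryTheory Limits

namespace Groth.Agent.LC.ExtCech

variable {R : Type u} [CommRing R]

theorem isZero_extCech_X_neg (M : ModuleCat.{u} R) :
    ∀ (fs : List R) (n : ℤ), n < 0 → IsZero ((DerCA.extCech M fs).X n)
  | [], n, hn => HomologicalComplex.isZero_single_obj_X (ComplexShape.up ℤ) 0 M n (by omega)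
  | g :: fs, n, hn => by
    refine IsZero.of_iso ?_ (DerCA.mappingCoconeXIso (DerCA.locCxUnit (Submonoid.powers g) (DerCA.extCech M fs)) n)
    refine (IsZero.iff_id_eq_zero _).2 (biprod.hom_ext _ _ ?_ ?_)
    · exact (isZero_extCech_X_neg M fs n hn).eq_of_tgt _ _
    · exact (Functor.map_isZero (DerCA.locFunctor (Submonoid.powers g))
        (isZero_extCech_X_neg M fs (n - 1) (by omega))).eq_of_tgt _ _

/-- The degree zero cocycles are the elements killed by a power of each entry. -/
theorem exists_X0_iso (M : ModuleCat.{u} R) : ∀ fs : List R,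
    ∃ e : (DerCA.extCech M fs).X 0 ≅ M,
      ∀ x, ((DerCA.extCech M fs).d 0 1).hom x = 0 ↔ ∀ f ∈ fs, ∃ k : ℕ, f ^ k • e.hom x = 0
  | [] => by
    refine ⟨HomologicalComplex.singleObjXSelf (ComplexShape.up ℤ) 0 M, fun x => ?_⟩
    have h : (DerCA.extCech M ([] : List R)).d 0 1 = 0 :=
      (HomologicalComplex.isZero_single_obj_X (ComplexShape.up ℤ) 0 M 1 (by omega)).eq_of_tgt _ _
    rw [h]
    exact ⟨fun _ f hf => absurd hf List.not_mem_nil, fun _ => rfl⟩
  | g :: fs => by
    obtain ⟨e, he⟩ := exists_X0_iso M fs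
    let φ := DerCA.locCxUnit (Submonoid.powers g) (DerCA.extCech M fs)
    let C := CochainComplex.mappingCone φ
    have hL : IsZero (((DerCA.locCx (Submonoid.powers g)).obj (DerCA.extCech M fs)).X (-1)) :=
      Functor.map_isZero (DerCA.locFunctor (Submonoid.powers g)) (isZero_extCech_X_neg M fs (-1) (by omega))
    let p : C.X (-1) ⟶ (DerCA.extCech M fs).X 0 := (CochainComplex.mappingCone.fst φ).1.v (-1) 0 rfl
    let a : C.X (-1) ≅ (DerCA.extCech M fs).X 0 :=
      { hom := p
        inv := (CochainComplex.mappingCone.inl φ).v 0 (-1) rfl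
        hom_inv_id := by
          have h := CochainComplex.mappingCone.id_X φ (-1) 0 rfl
          rw [hL.eq_of_tgt ((CochainComplex.mappingCone.snd φ).v (-1) (-1) (add_zero _)) 0, zero_comp, add_zero] at h
          exact h
        inv_hom_id := CochainComplex.mappingCone.inl_v_fst_v φ 0 (-1) rfl }
    refine ⟨(a ≪≫ e : C.X (-1) ≅ M), fun x => ?_⟩
    have hd : (DerCA.extCech M (g :: fs)).d 0 1 = -(C.d (-1) 0) := by
      show (-1 : ℤ).negOnePow • C.d (-1) 0 = _
      rw [Int.negOnePow_odd _ (odd_neg_one), Units.neg_smul, one_smul]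
    rw [hd]
    show -((C.d (-1) 0).hom x) = 0 ↔ ∀ f ∈ g :: fs, ∃ k : ℕ, f ^ k • e.hom (p x) = 0
    rw [neg_eq_zero]
    have h1 : C.d (-1) 0 ≫ (CochainComplex.mappingCone.fst φ).1.v 0 1 rfl = -(p ≫ (DerCA.extCech M fs).d 0 1) :=
      CochainComplex.mappingCone.d_fst_v φ (-1) 0 1 rfl rfl
    have h2 : C.d (-1) 0 ≫ (CochainComplex.mappingCone.snd φ).v 0 0 (add_zero _) = p ≫ φ.f 0 := by
      rw [CochainComplex.mappingCone.d_snd_v φ (-1) 0 rfl]
      rw [hL.eq_of_tgt ((CochainComplex.mappingCone.snd φ).v (-1) (-1) (add_zero _)) 0, zero_comp, add_zero]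
    have hiff : (C.d (-1) 0).hom x = 0 ↔ ((DerCA.extCech M fs).d 0 1).hom (p x) = 0 ∧ (φ.f 0).hom (p x) = 0 := by
      constructor
      · intro hx
        have e1 := ConcreteCategory.congr_hom h1 x
        have e2 := ConcreteCategory.congr_hom h2 x
        change _ = -_ at e1
        simp only [ConcreteCategory.comp_apply, hx, map_zero] at e1 e2
        exact ⟨neg_eq_zero.1 e1.symm, e2.symm⟩
      · rintro ⟨hx1, hx2⟩
        have e := ConcreteCategory.congr_hom (CochainComplex.mappingCone.id_X φ 0 1 rfl) ((C.d (-1) 0).hom x)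
        refine e.symm.trans ?_
        have e1 := ConcreteCategory.congr_hom h1 x
        have e2 := ConcreteCategory.congr_hom h2 x
        change _ = -_ at e1
        simp only [ConcreteCategory.comp_apply] at e1 e2
        simp only [ModuleCat.hom_add, ModuleCat.hom_comp, LinearMap.add_apply, LinearMap.comp_apply]
        erw [e1, e2, hx1, hx2]
        simp
    rw [hiff, he, List.forall_mem_cons, and_comm]
    refine and_congr_left fun _ => ?_
    show LocalizedModule.mkLinearMap (Submonoid.powers g) ((DerCA.extCech M fs).X 0) (p x) = 0 ↔ _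
    rw [IsLocalizedModule.eq_zero_iff (Submonoid.powers g)]
    have hinj : Function.Injective e.hom := (ConcreteCategory.bijective_of_isIso e.hom).1
    constructor
    · rintro ⟨⟨_, k, rfl⟩, hk⟩
      exact ⟨k, (map_smul e.hom.hom (g ^ k) (p x)).symm.trans ((congrArg e.hom.hom hk).trans (map_zero _))⟩
    · rintro ⟨k, hk⟩
      exact ⟨⟨g ^ k, k, rfl⟩, hinj ((map_smul e.hom.hom (g ^ k) (p x)).trans (hk.trans (map_zero _).symm))⟩

theorem mem_torsionSub_span_iff (fs : List R) {M : Type u} [AddCommGroup M] [Module R M] (m : M) :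
    m ∈ DRing.torsionSub (Ideal.span {x : R | x ∈ fs}) M ↔ ∀ f ∈ fs, ∃ k : ℕ, f ^ k • m = 0 := by
  constructor
  · rintro ⟨n, hn⟩ f hf
    exact ⟨n, hn _ (Ideal.pow_mem_pow (Ideal.subset_span (show f ∈ {x : R | x ∈ fs} from hf)) n)⟩
  · intro h
    have hle : Ideal.span {x : R | x ∈ fs} ≤ (R ∙ m).annihilator.radical := Ideal.span_le.2 fun f hf => by
      obtain ⟨k, hk⟩ := h f hf
      exact ⟨k, (Submodule.mem_annihilator_span_singleton _ _).2 hk⟩
    obtain ⟨n, hn⟩ := Ideal.exists_pow_le_of_le_radical_of_fg hle (Submodule.fg_span fs.finite_toSet)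
    exact ⟨n, fun a ha => (Submodule.mem_annihilator_span_singleton _ _).1 (hn ha)⟩

end Groth.Agent.LC.ExtCech
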