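import Groth.Agent.LC.CohBasic

/-!
# Elements of a sequential colimit of endofunctors of `ModuleCat R`
-/

universe u

open CategoryTheory Limits Opposite

namespace Groth.Agent.LC.NatColim

variable {R : Type u} [CommRing R] (D : ℕᵒᵖᵒᵖ ⥤ ModuleCat.{u} R ⥤ ModuleCat.{u} R) (M : ModuleCat.{u} R)

/-- The value at level `n`. -/
abbrev Lvl (n : ℕ) : Type u := ((D.obj (op (op n))).obj M : ModuleCat.{u} R)

/-- The colimit coprojection. -/
noncomputable def incl (n : ℕ) : Lvl D M n →ₗ[R] ((colimit D).obj M : ModuleCat.{u} R) :=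
  ((colimit.ι D (op (op n))).app M).hom

/-- The transition map. -/
def tr {n m : ℕ} (h : n ≤ m) : Lvl D M n →ₗ[R] Lvl D M m :=
  ((D.map (arr h)).app M).hom

theorem incl_tr {n m : ℕ} (h : n ≤ m) (x : Lvl D M n) : incl D M m (tr D M h x) = incl D M n x :=
  ConcreteCategory.congr_hom (congrArg (fun t => t.app M) (colimit.w D (arr h))) x

theorem exists_rep (z : ((colimit D).obj M : ModuleCat.{u} R)) : ∃ n x, incl D M n x = z := by
  obtain ⟨j, w, hw⟩ := Concrete.isColimit_exists_rep _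
    (isColimitOfPreserves ((evaluation _ _).obj M) (colimit.isColimit D)) z
  exact ⟨j.unop.unop, w, hw⟩

theorem exists_rep_of_le (z : ((colimit D).obj M : ModuleCat.{u} R)) (k : ℕ) :
    ∃ n, k ≤ n ∧ ∃ x, incl D M n x = z := by
  obtain ⟨n, x, rfl⟩ := exists_rep D M z
  exact ⟨max k n, le_max_left _ _, _, incl_tr D M (le_max_right k n) x⟩

theorem incl_eq_zero_iff {n : ℕ} (x : Lvl D M n) :
    incl D M n x = 0 ↔ ∃ (m : ℕ) (h : n ≤ m), tr D M h x = 0 := by
  refine ⟨fun hx => ?_, fun ⟨m, h, hm⟩ => by rw [← incl_tr D M h, hm, map_zero]⟩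
  obtain ⟨k, f, g, hk⟩ := Concrete.isColimit_exists_of_rep_eq _
    (isColimitOfPreserves ((evaluation _ _).obj M) (colimit.isColimit D))
    (i := (op (op n) : ℕᵒᵖᵒᵖ)) (j := (op (op n) : ℕᵒᵖᵒᵖ)) x (0 : Lvl D M n)
    (hx.trans (map_zero (incl D M n)).symm)
  have h : n ≤ k.unop.unop := f.unop.unop.down.down
  obtain rfl : f = arr h := Subsingleton.elim _ _
  exact ⟨k.unop.unop, h, hk.trans (map_zero _)⟩

theorem natural {N : ModuleCat.{u} R} (g : M ⟶ N) {n : ℕ} (x : Lvl D M n) :
    ((colimit D).map g).hom (incl D M n x) = incl D N n (((D.obj (op (op n))).map g).hom x) :=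
  (ConcreteCategory.congr_hom ((colimit.ι D (op (op n))).naturality g) x).symm

theorem exists_desc {T : Type*} [AddCommGroup T] [Module R T] (φ : ∀ n, Lvl D M n →ₗ[R] T)
    (hφ : ∀ n m (h : n ≤ m) x, φ m (tr D M h x) = φ n x) :
    ∃ Φ : ((colimit D).obj M : ModuleCat.{u} R) →ₗ[R] T, ∀ n x, Φ (incl D M n x) = φ n x := by
  choose N X hX using fun z => exists_rep D M z
  have key : ∀ z n x, incl D M n x = z → φ n x = φ (N z) (X z) := by
    intro z n x hx
    have h1 : incl D M (max n (N z)) (tr D M (le_max_left n (N z)) x -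
        tr D M (le_max_right n (N z)) (X z)) = 0 := by
      rw [map_sub, incl_tr, incl_tr, hx, hX, sub_self]
    obtain ⟨m, hm, hz⟩ := (incl_eq_zero_iff D M _).1 h1
    have h2 := congrArg (φ m) hz
    rwa [hφ, map_zero, map_sub, hφ, hφ, sub_eq_zero] at h2
  refine ⟨{ toFun := fun z => φ (N z) (X z), map_add' := fun z z' => ?_, map_smul' := fun r z => ?_ },
    fun n x => (key _ n x rfl).symm⟩
  · obtain ⟨n, x, rfl⟩ := exists_rep D M z
    obtain ⟨m, hm, y, rfl⟩ := exists_rep_of_le D M z' n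
    rw [← key (incl D M n x + incl D M m y) m (tr D M hm x + y) (by rw [map_add, incl_tr]),
      ← key (incl D M n x) n x rfl, ← key (incl D M m y) m y rfl, map_add, hφ]
  · obtain ⟨n, x, rfl⟩ := exists_rep D M z
    rw [RingHom.id_apply, ← key (r • incl D M n x) n (r • x) (map_smul _ _ _),
      ← key (incl D M n x) n x rfl, map_smul]

end Groth.Agent.LC.NatColim
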