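import Groth.Prelude.Def_W4bk5brsh16IT
import Groth.Agent.LC.CohColim
import Groth.Agent.LC.CohTorsion

/-!
# The ideal transform
-/

universe u

open CategoryTheory Limits Opposite

namespace Groth.Agent.LC

variable {R : Type u} [CommRing R] (I : Ideal R)

/-- `I^n` as a module. -/
noncomputable abbrev pObj (n : ℕ) : ModuleCat.{u} R := ModuleCat.of R ↥(I ^ n)

/-- `I^m ⊆ I^n`. -/
noncomputable def pMap {n m : ℕ} (h : n ≤ m) : pObj I m ⟶ pObj I n :=
  ModuleCat.ofHom (Submodule.inclusion (Ideal.pow_le_pow_right h))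

/-- The class of `f : I^n → M` in `D_I(M)`. -/
noncomputable def toD (M : ModuleCat.{u} R) (n : ℕ) : (pObj I n ⟶ M) →ₗ[R] (LocCoh.idealTransform I).obj M :=
  NatColim.incl (LocCoh.transformDiagram I) M n

theorem toD_res {M : ModuleCat.{u} R} {n m : ℕ} (h : n ≤ m) (f : pObj I n ⟶ M) :
    toD I M m (pMap I h ≫ f) = toD I M n f :=
  NatColim.incl_tr (LocCoh.transformDiagram I) M h f

theorem exists_toD {M : ModuleCat.{u} R} (z : (LocCoh.idealTransform I).obj M) : ∃ n f, toD I M n f = z :=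
  NatColim.exists_rep _ M z

theorem exists_toD_of_le {M : ModuleCat.{u} R} (z : (LocCoh.idealTransform I).obj M) (k : ℕ) :
    ∃ n, k ≤ n ∧ ∃ f, toD I M n f = z :=
  NatColim.exists_rep_of_le _ M z k

theorem toD_eq_zero_iff {M : ModuleCat.{u} R} {n : ℕ} (f : pObj I n ⟶ M) :
    toD I M n f = 0 ↔ ∃ (m : ℕ) (h : n ≤ m), pMap I h ≫ f = 0 :=
  NatColim.incl_eq_zero_iff (LocCoh.transformDiagram I) M f

theorem toD_natural {M N : ModuleCat.{u} R} (g : M ⟶ N) {n : ℕ} (f : pObj I n ⟶ M) :
    ((LocCoh.idealTransform I).map g).hom (toD I M n f) = toD I N n (f ≫ g) :=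
  NatColim.natural (LocCoh.transformDiagram I) M g f

theorem exists_descD {M : ModuleCat.{u} R} {T : Type*} [AddCommGroup T] [Module R T]
    (φ : ∀ n, (pObj I n ⟶ M) →ₗ[R] T) (hφ : ∀ n m (h : n ≤ m) f, φ m (pMap I h ≫ f) = φ n f) :
    ∃ Φ : (LocCoh.idealTransform I).obj M →ₗ[R] T, ∀ n f, Φ (toD I M n f) = φ n f :=
  NatColim.exists_desc (LocCoh.transformDiagram I) M φ hφ

/-- `r ↦ r • x` on `I^n`. -/
noncomputable def smulMor (M : ModuleCat.{u} R) (n : ℕ) (x : M) : pObj I n ⟶ M :=
  ModuleCat.ofHom ((LinearMap.toSpanSingleton R M x).domRestrict (I ^ n))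

theorem smulMor_apply (M : ModuleCat.{u} R) (n : ℕ) (x : M) (r : ↥(I ^ n)) :
    (smulMor I M n x).hom r = (r : R) • x := rfl

theorem toDT_eq (M : ModuleCat.{u} R) (x : M) (n : ℕ) :
    LocCoh.toDT I M x = toD I M n (smulMor I M n x) := by
  have h0 : LocCoh.toDT I M x = toD I M 0 (smulMor I M 0 x) := by
    show toD I M 0 (LocCoh.smulHom (I ^ 0) M x) = _
    congr 1
  rw [h0, ← toD_res I (Nat.zero_le n) (smulMor I M 0 x)]
  congr 1

theorem toDT_natural {M N : ModuleCat.{u} R} (g : M ⟶ N) (x : M) :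
    ((LocCoh.idealTransform I).map g).hom (LocCoh.toDT I M x) = LocCoh.toDT I N (g.hom x) := by
  rw [toDT_eq I M x 0, toDT_eq I N (g.hom x) 0, toD_natural]
  congr 1
  exact ModuleCat.hom_ext (LinearMap.ext fun r => map_smul g.hom _ _)

theorem ker_toDT (M : ModuleCat.{u} R) : LinearMap.ker (LocCoh.toDT I M) = DRing.torsionSub I M := by
  ext x
  rw [LinearMap.mem_ker, toDT_eq I M x 0, toD_eq_zero_iff]
  constructor
  · rintro ⟨m, h, hm⟩
    exact ⟨m, fun a ha => ConcreteCategory.congr_hom hm (⟨a, ha⟩ : ↥(I ^ m))⟩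
  · rintro ⟨m, hm⟩
    exact ⟨m, Nat.zero_le m, ModuleCat.hom_ext (LinearMap.ext fun a => hm _ a.2)⟩

/-- `0 → I^n → R → R/I^n → 0`. -/
noncomputable abbrev quotSeq (n : ℕ) : ShortComplex (ModuleCat.{u} R) :=
  ShortComplex.mk (X₁ := pObj I n) (X₂ := ModuleCat.of R R) (X₃ := qObj I n)
    (ModuleCat.ofHom (I ^ n).subtype) (ModuleCat.ofHom (Submodule.mkQ (I ^ n)))
    (ModuleCat.hom_ext (LinearMap.ext fun x => (Submodule.Quotient.mk_eq_zero (I ^ n)).2 x.2))

theorem quotSeq_shortExact (n : ℕ) : (quotSeq I n).ShortExact :=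
  { exact := (ShortComplex.ShortExact.moduleCat_exact_iff_function_exact _).2
      (LinearMap.exact_subtype_mkQ _)
    mono_f := (ModuleCat.mono_iff_injective _).2 (Submodule.injective_subtype _)
    epi_g := (ModuleCat.epi_iff_surjective _).2 (Submodule.mkQ_surjective _) }

/-- The class of `0 → I^n → R → R/I^n → 0`. -/
noncomputable def qCls (n : ℕ) : Abelian.Ext (qObj I n) (pObj I n) 1 := (quotSeq_shortExact I n).extClass

theorem qCls_res {n m : ℕ} (h : n ≤ m) :
    (qCls I m).comp (Abelian.Ext.mk₀ (pMap I h)) (add_zero 1) =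
      (Abelian.Ext.mk₀ (qMap I h)).comp (qCls I n) (zero_add 1) :=
  ShortComplex.ShortExact.extClass_naturality (quotSeq_shortExact I m) (quotSeq_shortExact I n)
    { τ₁ := pMap I h
      τ₂ := 𝟙 _
      τ₃ := qMap I h
      comm₁₂ := rfl
      comm₂₃ := rfl }

instance : Projective (ModuleCat.of R R) := by
  haveI : Module.Projective R R := inferInstance
  exact (IsProjective.iff_projective (R := R) R).1 this

theorem exists_δD (M : ModuleCat.{u} R) :
    ∃ δ : (LocCoh.idealTransform I).obj M →ₗ[R] (localCohomology I 1).obj M,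
      ∀ n f, δ (toD I M n f) = toH I 1 M n ((qCls I n).comp (Abelian.Ext.mk₀ f) (add_zero 1)) := by
  refine exists_descD I (fun n => toH I 1 M n ∘ₗ
    (Abelian.Ext.precompOfLinear (qCls I n) R M (add_zero 1)) ∘ₗ
      (Abelian.Ext.linearEquiv₀ (R := R) (X := pObj I n) (Y := M)).symm.toLinearMap) fun n m h f => ?_
  show toH I 1 M m ((qCls I m).comp (Abelian.Ext.mk₀ (pMap I h ≫ f)) (add_zero 1)) =
    toH I 1 M n ((qCls I n).comp (Abelian.Ext.mk₀ f) (add_zero 1))
  rw [← toH_res I 1 h, res_apply, ← Abelian.Ext.mk₀_comp_mk₀,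
    ← Abelian.Ext.comp_assoc _ _ _ (add_zero 1) (zero_add 0) (by omega), qCls_res,
    Abelian.Ext.comp_assoc _ _ _ (zero_add 1) (add_zero 1) (by omega)]

/-- The connecting map `D_I(M) → H^1_I(M)`. -/
noncomputable def δD (M : ModuleCat.{u} R) :
    (LocCoh.idealTransform I).obj M →ₗ[R] (localCohomology I 1).obj M :=
  (exists_δD I M).choose

theorem δD_toD (M : ModuleCat.{u} R) (n : ℕ) (f : pObj I n ⟶ M) :
    δD I M (toD I M n f) = toH I 1 M n ((qCls I n).comp (Abelian.Ext.mk₀ f) (add_zero 1)) :=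
  (exists_δD I M).choose_spec n f

theorem δD_natural {M N : ModuleCat.{u} R} (g : M ⟶ N) (z : (LocCoh.idealTransform I).obj M) :
    δD I N (((LocCoh.idealTransform I).map g).hom z) = ((localCohomology I 1).map g).hom (δD I M z) := by
  obtain ⟨n, f, rfl⟩ := exists_toD I z
  rw [toD_natural, δD_toD, δD_toD, toH_natural, Abelian.Ext.comp_assoc_of_third_deg_zero,
    Abelian.Ext.mk₀_comp_mk₀]

theorem δD_surjective (M : ModuleCat.{u} R) : Function.Surjective (δD I M) := by
  intro z
  obtain ⟨n, x, rfl⟩ := exists_toH I 1 z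
  obtain ⟨x₁, hx₁⟩ := Abelian.Ext.contravariant_sequence_exact₃ (quotSeq_shortExact I n) M x
    (Abelian.Ext.eq_zero_of_projective _) (add_zero 1)
  obtain ⟨f, rfl⟩ := (Abelian.Ext.linearEquiv₀ (R := R)).symm.surjective x₁
  exact ⟨toD I M n f, (δD_toD I M n f).trans (congrArg _ hx₁)⟩

theorem exact_toDT_δD (M : ModuleCat.{u} R) : Function.Exact (LocCoh.toDT I M) (δD I M) := by
  intro z
  constructor
  · intro hz
    obtain ⟨n, f, rfl⟩ := exists_toD I z
    rw [δD_toD, toH_eq_zero_iff] at hz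
    obtain ⟨m, hm, hz⟩ := hz
    rw [res_apply, ← Abelian.Ext.comp_assoc _ _ _ (zero_add 1) (add_zero 1) (by omega), ← qCls_res,
      Abelian.Ext.comp_assoc _ _ _ (add_zero 1) (zero_add 0) (by omega), Abelian.Ext.mk₀_comp_mk₀] at hz
    obtain ⟨x₂, hx₂⟩ := Abelian.Ext.contravariant_sequence_exact₁ (quotSeq_shortExact I m) M
      (Abelian.Ext.mk₀ (pMap I hm ≫ f)) (add_zero 1) hz
    obtain ⟨h, rfl⟩ := (Abelian.Ext.linearEquiv₀ (R := R)).symm.surjective x₂
    rw [Abelian.Ext.linearEquiv₀_symm_apply, Abelian.Ext.mk₀_comp_mk₀] at hx₂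
    have h2 := congrArg (Abelian.Ext.linearEquiv₀ (R := R)) hx₂
    rw [← Abelian.Ext.linearEquiv₀_symm_apply (R := R), ← Abelian.Ext.linearEquiv₀_symm_apply (R := R),
      LinearEquiv.apply_symm_apply, LinearEquiv.apply_symm_apply] at h2
    refine ⟨h.hom (1 : R), ?_⟩
    rw [toDT_eq I M _ m, ← toD_res I hm f]
    congr 1
    refine ModuleCat.hom_ext (LinearMap.ext fun r => ?_)
    rw [← h2, smulMor_apply]
    exact ((map_smul h.hom _ _).symm.trans (congrArg h.hom (smul_eq_mul _ _ |>.trans (mul_one _))))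
  · rintro ⟨x, rfl⟩
    rw [toDT_eq I M x 0, δD_toD]
    have : smulMor I M 0 x = (quotSeq I 0).f ≫ ModuleCat.ofHom (LinearMap.toSpanSingleton R M x) := rfl
    rw [this, ← Abelian.Ext.mk₀_comp_mk₀, ← Abelian.Ext.comp_assoc _ _ _ (add_zero 1) (zero_add 0) (by omega)]
    have h0 : (qCls I 0).comp (Abelian.Ext.mk₀ (quotSeq I 0).f) (add_zero 1) = 0 :=
      (quotSeq_shortExact I 0).extClass_comp
    rw [h0, Abelian.Ext.zero_comp, map_zero]

theorem nonempty_cokerToDT (M : ModuleCat.{u} R) :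
    Nonempty (((LocCoh.idealTransform I).obj M ⧸ LinearMap.range (LocCoh.toDT I M)) ≃ₗ[R]
      (localCohomology I 1).obj M) :=
  ⟨(Submodule.quotEquivOfEq _ _ (exact_toDT_δD I M).linearMap_ker_eq.symm).trans
    (LinearMap.quotKerEquivOfSurjective _ (δD_surjective I M))⟩

theorem subsingleton_DT_of_torsion [IsNoetherianRing R] (M : ModuleCat.{u} R)
    (hM : LocCoh.IsPowerTorsion I M) : Subsingleton ((LocCoh.idealTransform I).obj M) := by
  refine subsingleton_of_forall_eq 0 fun z => ?_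
  have := subsingleton_of_torsion I 0 M hM
  obtain ⟨x, rfl⟩ := (exact_toDT_δD I M z).1 (Subsingleton.elim _ _)
  show x ∈ LinearMap.ker (LocCoh.toDT I M)
  rw [ker_toDT, torsionSub_eq_top I hM]
  trivial

theorem map_injective_of_injective {M N : ModuleCat.{u} R} (g : M ⟶ N) (hg : Function.Injective g.hom) :
    Function.Injective ((LocCoh.idealTransform I).map g).hom := by
  rw [injective_iff_map_eq_zero]
  intro z hz
  obtain ⟨n, f, rfl⟩ := exists_toD I z
  rw [toD_natural, toD_eq_zero_iff] at hz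
  obtain ⟨m, h, hm⟩ := hz
  exact (toD_eq_zero_iff I f).2 ⟨m, h, ModuleCat.hom_ext (LinearMap.ext fun r =>
    hg ((ConcreteCategory.congr_hom hm r).trans (map_zero g.hom).symm))⟩

theorem map_exact {M N P : ModuleCat.{u} R} (f : M ⟶ N) (g : N ⟶ P) (hf : Function.Injective f.hom)
    (hfg : Function.Exact f.hom g.hom) :
    Function.Exact ((LocCoh.idealTransform I).map f).hom ((LocCoh.idealTransform I).map g).hom := by
  intro z
  constructor
  · intro hz
    obtain ⟨n, φ, rfl⟩ := exists_toD I z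
    rw [toD_natural, toD_eq_zero_iff] at hz
    obtain ⟨m, h, hm⟩ := hz
    have hr : ∀ r, (pMap I h ≫ φ).hom r ∈ LinearMap.range f.hom := fun r =>
      (hfg _).1 (ConcreteCategory.congr_hom hm r)
    refine ⟨toD I M m (ModuleCat.ofHom ((LinearEquiv.ofInjective f.hom hf).symm.toLinearMap ∘ₗ
      (pMap I h ≫ φ).hom.codRestrict _ hr)), ?_⟩
    rw [toD_natural, ← toD_res I h φ]
    congr 1
    refine ModuleCat.hom_ext (LinearMap.ext fun r => ?_)
    show f.hom ((LinearEquiv.ofInjective f.hom hf).symm ⟨(pMap I h ≫ φ).hom r, hr r⟩) = _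
    exact congrArg Subtype.val ((LinearEquiv.ofInjective f.hom hf).apply_symm_apply ⟨_, hr r⟩)
  · rintro ⟨w, rfl⟩
    obtain ⟨n, φ, rfl⟩ := exists_toD I w
    rw [toD_natural, toD_natural, toD_eq_zero_iff]
    exact ⟨n, le_rfl, ModuleCat.hom_ext (LinearMap.ext fun r => hfg.apply_apply_eq_zero _)⟩

theorem map_bijective [IsNoetherianRing R] {M N : ModuleCat.{u} R} (e : M ⟶ N)
    (hker : LinearMap.ker e.hom ≤ DRing.torsionSub I M)
    (hcoker : LocCoh.IsPowerTorsion I (N ⧸ LinearMap.range e.hom)) :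
    Function.Bijective ((LocCoh.idealTransform I).map e).hom := by
  let p : M ⟶ ModuleCat.of R (LinearMap.range e.hom) := ModuleCat.ofHom e.hom.rangeRestrict
  let j : ModuleCat.of R (LinearMap.range e.hom) ⟶ N := ModuleCat.ofHom (LinearMap.range e.hom).subtype
  have hpj : e = p ≫ j := rfl
  let S : ShortComplex (ModuleCat.{u} R) := ShortComplex.mk
    (ModuleCat.ofHom (LinearMap.ker e.hom).subtype) p
    (ModuleCat.hom_ext (LinearMap.ext fun x => Subtype.ext (LinearMap.mem_ker.1 x.2)))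
  have hex : Function.Exact (LinearMap.ker e.hom).subtype p.hom := fun x =>
    ⟨fun hx => ⟨⟨x, congrArg Subtype.val hx⟩, rfl⟩, by rintro ⟨y, rfl⟩; exact Subtype.ext (LinearMap.mem_ker.1 y.2)⟩
  have hS : S.ShortExact :=
    { exact := (ShortComplex.ShortExact.moduleCat_exact_iff_function_exact _).2 hex
      mono_f := (ModuleCat.mono_iff_injective _).2 (Submodule.injective_subtype _)
      epi_g := (ModuleCat.epi_iff_surjective _).2 (LinearMap.surjective_rangeRestrict _) }
  have hKt : LocCoh.IsPowerTorsion I S.X₁ := fun x => by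
    obtain ⟨n, hn⟩ := hker x.2
    exact ⟨n, fun a ha => Subtype.ext (hn a ha)⟩
  have hp : Function.Bijective ((LocCoh.idealTransform I).map p).hom := by
    have := subsingleton_DT_of_torsion I S.X₁ hKt
    have := subsingleton_of_torsion I 1 S.X₁ hKt
    constructor
    · rw [injective_iff_map_eq_zero]
      intro z hz
      obtain ⟨w, rfl⟩ := (map_exact I S.f S.g (Submodule.injective_subtype _) hex z).1 hz
      rw [Subsingleton.elim w 0, map_zero]
    · intro y
      obtain ⟨w, hw⟩ := (exact₃ I 1 hS 2 rfl (δD I _ y)).1 (Subsingleton.elim _ _)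
      obtain ⟨x, rfl⟩ := δD_surjective I M w
      obtain ⟨n, hn⟩ := (exact_toDT_δD I (ModuleCat.of R (LinearMap.range e.hom)) (y - ((LocCoh.idealTransform I).map p).hom x)).1 (by
        rw [map_sub, δD_natural]
        exact sub_eq_zero.2 hw.symm)
      obtain ⟨m, rfl⟩ := LinearMap.surjective_rangeRestrict e.hom n
      refine ⟨x + LocCoh.toDT I M m, ?_⟩
      rw [map_add, toDT_natural, show p.hom m = e.hom.rangeRestrict m from rfl, hn, add_sub_cancel]
  have hj : Function.Bijective ((LocCoh.idealTransform I).map j).hom := by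
    have hinjj : Function.Injective j.hom := Submodule.injective_subtype _
    refine ⟨map_injective_of_injective I j hinjj, fun y => ?_⟩
    let q : N ⟶ ModuleCat.of R (N ⧸ LinearMap.range e.hom) := ModuleCat.ofHom (LinearMap.range e.hom).mkQ
    have := subsingleton_DT_of_torsion I (ModuleCat.of R (N ⧸ LinearMap.range e.hom)) hcoker
    exact (map_exact I j q hinjj (LinearMap.exact_subtype_mkQ _) y).1 (Subsingleton.elim _ _)
  rw [hpj, Functor.map_comp]
  exact hj.comp hp

theorem map_toDT_eq (M : ModuleCat.{u} R) (z : (LocCoh.idealTransform I).obj M) :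
    ((LocCoh.idealTransform I).map (ModuleCat.ofHom (LocCoh.toDT I M))).hom z =
      LocCoh.toDT I ((LocCoh.idealTransform I).obj M) z := by
  obtain ⟨n, f, rfl⟩ := exists_toD I z
  rw [toD_natural, toDT_eq I _ _ n]
  congr 1
  refine ModuleCat.hom_ext (LinearMap.ext fun r => ?_)
  show LocCoh.toDT I M (f.hom r) = (r : R) • toD I M n f
  rw [← map_smul, toDT_eq I M _ n]
  congr 1
  refine ModuleCat.hom_ext (LinearMap.ext fun s => ?_)
  show (s : R) • f.hom r = (r : R) • f.hom s
  rw [← map_smul, ← map_smul]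
  exact congrArg f.hom (Subtype.ext (mul_comm (s : R) r))

theorem toDT_toDT_bijective [IsNoetherianRing R] (M : ModuleCat.{u} R) :
    Function.Bijective (LocCoh.toDT I ((LocCoh.idealTransform I).obj M)) := by
  have h := map_bijective I (ModuleCat.ofHom (LocCoh.toDT I M)) (ker_toDT I M).le (by
    obtain ⟨e⟩ := nonempty_cokerToDT I M
    exact fun y => by
      obtain ⟨n, hn⟩ := isPowerTorsion_obj I 1 M (e y)
      exact ⟨n, fun a ha => e.injective (by rw [map_smul, hn a ha, map_zero])⟩)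
  convert h using 1
  exact funext fun z => (map_toDT_eq I M z).symm

theorem toDT_bijective_iff (M : ModuleCat.{u} R) :
    Function.Bijective (LocCoh.toDT I M) ↔
      DRing.torsionSub I M = ⊥ ∧ Subsingleton ((localCohomology I 1).obj M) := by
  rw [← ker_toDT, Function.Bijective, ← LinearMap.ker_eq_bot]
  refine and_congr_right fun _ => ⟨fun h => subsingleton_of_forall_eq 0 fun z => ?_, fun h z =>
    (exact_toDT_δD I M z).1 (Subsingleton.elim _ _)⟩
  obtain ⟨w, rfl⟩ := δD_surjective I M z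
  obtain ⟨x, rfl⟩ := h w
  exact (exact_toDT_δD I M).apply_apply_eq_zero x

theorem H_map_bijective [IsNoetherianRing R] {M N : ModuleCat.{u} R} (e : M ⟶ N)
    (hker : LinearMap.ker e.hom ≤ DRing.torsionSub I M)
    (hcoker : LocCoh.IsPowerTorsion I (N ⧸ LinearMap.range e.hom)) (i : ℕ) :
    Function.Bijective ((localCohomology I (i + 2)).map e).hom := by
  let p : M ⟶ ModuleCat.of R (LinearMap.range e.hom) := ModuleCat.ofHom e.hom.rangeRestrict
  let j : ModuleCat.of R (LinearMap.range e.hom) ⟶ N := ModuleCat.ofHom (LinearMap.range e.hom).subtype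
  let S : ShortComplex (ModuleCat.{u} R) := ShortComplex.mk
    (ModuleCat.ofHom (LinearMap.ker e.hom).subtype) p
    (ModuleCat.hom_ext (LinearMap.ext fun x => Subtype.ext (LinearMap.mem_ker.1 x.2)))
  have hex : Function.Exact (LinearMap.ker e.hom).subtype p.hom := fun x =>
    ⟨fun hx => ⟨⟨x, congrArg Subtype.val hx⟩, rfl⟩, by rintro ⟨y, rfl⟩; exact Subtype.ext (LinearMap.mem_ker.1 y.2)⟩
  have hS : S.ShortExact :=
    { exact := (ShortComplex.ShortExact.moduleCat_exact_iff_function_exact _).2 hex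
      mono_f := (ModuleCat.mono_iff_injective _).2 (Submodule.injective_subtype _)
      epi_g := (ModuleCat.epi_iff_surjective _).2 (LinearMap.surjective_rangeRestrict _) }
  let T : ShortComplex (ModuleCat.{u} R) := ShortComplex.mk j (ModuleCat.ofHom (LinearMap.range e.hom).mkQ)
    (ModuleCat.hom_ext (LinearMap.ext fun x => (Submodule.Quotient.mk_eq_zero _).2 x.2))
  have hT : T.ShortExact :=
    { exact := (ShortComplex.ShortExact.moduleCat_exact_iff_function_exact _).2 (LinearMap.exact_subtype_mkQ _)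
      mono_f := (ModuleCat.mono_iff_injective _).2 (Submodule.injective_subtype _)
      epi_g := (ModuleCat.epi_iff_surjective _).2 (Submodule.mkQ_surjective _) }
  have hKt : LocCoh.IsPowerTorsion I S.X₁ := fun x => by
    obtain ⟨n, hn⟩ := hker x.2
    exact ⟨n, fun a ha => Subtype.ext (hn a ha)⟩
  have hA : Function.Bijective ((localCohomology I (i + 2)).map p).hom := by
    have h1 := subsingleton_of_torsion I (i + 1) S.X₁ hKt
    have h2 := subsingleton_of_torsion I (i + 2) S.X₁ hKt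
    refine ⟨?_, fun z => (exact₃ I (i + 2) hS (i + 3) rfl z).1 (@Subsingleton.elim _ h2 _ _)⟩
    rw [injective_iff_map_eq_zero]
    intro z hz
    obtain ⟨w, rfl⟩ := (exact₂ I (i + 2) hS z).1 hz
    rw [@Subsingleton.elim _ h1 w 0, map_zero]
  have hB : Function.Bijective ((localCohomology I (i + 2)).map j).hom := by
    have h1 := subsingleton_of_torsion I i T.X₃ hcoker
    have h2 := subsingleton_of_torsion I (i + 1) T.X₃ hcoker
    refine ⟨?_, fun z => (exact₂ I (i + 2) hT z).1 (@Subsingleton.elim _ h2 _ _)⟩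
    rw [injective_iff_map_eq_zero]
    intro z hz
    obtain ⟨w, rfl⟩ := (exact₁ I (i + 1) hT (i + 2) rfl z).1 hz
    rw [@Subsingleton.elim _ h1 w 0, map_zero]
  rw [show e = p ≫ j from rfl, Functor.map_comp]
  exact hB.comp hA

theorem coker_toDT_torsion (M : ModuleCat.{u} R) :
    LocCoh.IsPowerTorsion I ((LocCoh.idealTransform I).obj M ⧸ LinearMap.range (LocCoh.toDT I M)) := by
  obtain ⟨e⟩ := nonempty_cokerToDT I M
  exact fun y => by
    obtain ⟨n, hn⟩ := isPowerTorsion_obj I 1 M (e y)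
    exact ⟨n, fun a ha => e.injective (by rw [map_smul, hn a ha, map_zero])⟩

theorem torsionSub_DT [IsNoetherianRing R] (M : ModuleCat.{u} R) :
    DRing.torsionSub I ((LocCoh.idealTransform I).obj M) = ⊥ :=
  ((toDT_bijective_iff I _).1 (toDT_toDT_bijective I M)).1

theorem hom_ext_of_torsion [IsNoetherianRing R] {M M' : Type u} [AddCommGroup M] [Module R M]
    [AddCommGroup M'] [Module R M'] {K : ModuleCat.{u} R} (e : M →ₗ[R] M')
    (hcoker : LocCoh.IsPowerTorsion I (M' ⧸ LinearMap.range e))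
    {u v : M' →ₗ[R] (LocCoh.idealTransform I).obj K} (h : u ∘ₗ e = v ∘ₗ e) : u = v := by
  refine LinearMap.ext fun y => sub_eq_zero.1 ?_
  obtain ⟨n, hn⟩ := hcoker (Submodule.Quotient.mk y)
  have : u y - v y ∈ DRing.torsionSub I ((LocCoh.idealTransform I).obj K) := by
    refine ⟨n, fun a ha => ?_⟩
    obtain ⟨x, hx⟩ := (Submodule.Quotient.mk_eq_zero (x := a • y) (LinearMap.range e)).1 (hn a ha)
    rw [smul_sub, ← map_smul, ← map_smul, ← hx, sub_eq_zero]
    exact LinearMap.congr_fun h x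
  rwa [torsionSub_DT, Submodule.mem_bot] at this

end Groth.Agent.LC
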