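import Groth.Agent.LC.CohDT
import Groth.Agent.LC.CohTorsion

/-!
# `Γ_I` and `D_I` of an injective resolution
-/

universe u

open CategoryTheory Limits Opposite

namespace Groth.Agent.LC

variable {R : Type u} [CommRing R] (I : Ideal R)

theorem subsingleton_homology_succ {M : ModuleCat.{u} R} (K : InjectiveResolution M) (p : ℕ) :
    Subsingleton (K.cocomplex.homology (p + 1)) := by
  have h := (HomologicalComplex.exactAt_iff_isZero_homology _ _).1 (K.cocomplex_exactAt_succ p)
  exact ModuleCat.subsingleton_of_isZero h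

/-- The inclusion `Γ_I K → K`. -/
noncomputable def gIncl {M : ModuleCat.{u} R} (K : InjectiveResolution M) : gCx I K ⟶ K.cocomplex where
  f p := (DRing.gammaIι I).app (K.cocomplex.X p)
  comm' _ _ _ := ((DRing.gammaIι I).naturality _).symm

/-- The map `K → D_I K`. -/
noncomputable def gProj {M : ModuleCat.{u} R} (K : InjectiveResolution M) :
    K.cocomplex ⟶ ((LocCoh.idealTransform I).mapHomologicalComplex (ComplexShape.up ℕ)).obj K.cocomplex where
  f p := ModuleCat.ofHom (LocCoh.toDT I (K.cocomplex.X p))
  comm' p q _ := ModuleCat.hom_ext (LinearMap.ext fun x => toDT_natural I (K.cocomplex.d p q) x)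

/-- `0 → Γ_I K → K → D_I K → 0`. -/
noncomputable def gSeq {M : ModuleCat.{u} R} (K : InjectiveResolution M) :
    ShortComplex (CochainComplex (ModuleCat.{u} R) ℕ) :=
  ShortComplex.mk (gIncl I K) (gProj I K) (HomologicalComplex.hom_ext _ _ fun p =>
    ModuleCat.hom_ext (LinearMap.ext fun x =>
      LinearMap.mem_ker.1 ((ker_toDT I (K.cocomplex.X p)).ge (x : DRing.torsionSub I (K.cocomplex.X p)).2)))

variable [IsNoetherianRing R]

theorem toDT_surjective_of_injective (E : ModuleCat.{u} R) [Injective E] :
    Function.Surjective (LocCoh.toDT I E) := fun z => by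
  have := subsingleton_of_injective I E 0
  exact (exact_toDT_δD I E z).1 (Subsingleton.elim _ _)

theorem gSeq_shortExact {M : ModuleCat.{u} R} (K : InjectiveResolution M) : (gSeq I K).ShortExact := by
  refine HomologicalComplex.shortExact_of_degreewise_shortExact _ fun p => ?_
  refine
    { exact := (ShortComplex.ShortExact.moduleCat_exact_iff_function_exact _).2 fun x => ⟨fun hx => ?_, ?_⟩
      mono_f := (ModuleCat.mono_iff_injective _).2 (Submodule.injective_subtype _)
      epi_g := (ModuleCat.epi_iff_surjective _).2 ?_ }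
  · exact ⟨(⟨x, (ker_toDT I (K.cocomplex.X p)).le (LinearMap.mem_ker.2 hx)⟩ :
      DRing.torsionSub I (K.cocomplex.X p)), rfl⟩
  · rintro ⟨y, rfl⟩
    exact LinearMap.mem_ker.1 ((ker_toDT I (K.cocomplex.X p)).ge (y : DRing.torsionSub I (K.cocomplex.X p)).2)
  · exact toDT_surjective_of_injective I _

/-- The connecting isomorphism `H^i(D_I K) ≅ H^{i+1}(Γ_I K)`. -/
noncomputable def gδIso {M : ModuleCat.{u} R} (K : InjectiveResolution M) (i : ℕ) (hi : 1 ≤ i) :
    (((LocCoh.idealTransform I).mapHomologicalComplex (ComplexShape.up ℕ)).obj K.cocomplex).homology i ≅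
      (gCx I K).homology (i + 1) :=
  (gSeq_shortExact I K).δIso i (i + 1) (by simp)
    (by
      obtain ⟨p, rfl⟩ : ∃ p, i = p + 1 := ⟨i - 1, by omega⟩
      exact (HomologicalComplex.exactAt_iff_isZero_homology _ _).1 (K.cocomplex_exactAt_succ p))
    ((HomologicalComplex.exactAt_iff_isZero_homology _ _).1 (K.cocomplex_exactAt_succ i))

theorem gδIso_hom {M : ModuleCat.{u} R} (K : InjectiveResolution M) (i : ℕ) (hi : 1 ≤ i) :
    (gδIso I K i hi).hom = (gSeq_shortExact I K).δ i (i + 1) (by simp) := rfl

/-- `R^i D_I ≅ H^{i+1}_I`. -/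
theorem nonempty_rightDerived_idealTransform_iso (i : ℕ) (hi : 1 ≤ i) :
    Nonempty ((LocCoh.idealTransform I).rightDerived i ≅ localCohomology I (i + 1)) := by
  refine ⟨NatIso.ofComponents (fun M => (injectiveResolution M).isoRightDerivedObj (LocCoh.idealTransform I) i ≪≫
    gδIso I (injectiveResolution M) i hi ≪≫ (equivG I (injectiveResolution M) (i + 1)).symm.toModuleIso) ?_⟩
  intro M N g
  let J := injectiveResolution M
  let J' := injectiveResolution N
  let ψ : InjectiveResolution.Hom J J' g :=
    ⟨InjectiveResolution.desc g J' J, by simpa using InjectiveResolution.desc_commutes_zero g J' J⟩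
  let φ : gSeq I J ⟶ gSeq I J' :=
    { τ₁ := ((DRing.gammaI I).mapHomologicalComplex _).map ψ.hom
      τ₂ := ψ.hom
      τ₃ := ((LocCoh.idealTransform I).mapHomologicalComplex _).map ψ.hom
      comm₁₂ := HomologicalComplex.hom_ext _ _ fun p => rfl
      comm₂₃ := HomologicalComplex.hom_ext _ _ fun p => ModuleCat.hom_ext (LinearMap.ext fun x =>
        (toDT_natural I (ψ.hom.f p) x).symm) }
  have hδ := HomologicalComplex.HomologySequence.δ_naturality φ (gSeq_shortExact I J) (gSeq_shortExact I J')
    i (i + 1) (by simp)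
  have hJ := InjectiveResolution.isoRightDerivedObj_hom_naturality g J J' ψ.hom
    (InjectiveResolution.desc_commutes_zero g J' J) (LocCoh.idealTransform I) i
  refine ModuleCat.hom_ext (LinearMap.ext fun x => (equivG I J' (i + 1)).injective ?_)
  show equivG I J' (i + 1) ((equivG I J' (i + 1)).symm ((gδIso I J' i hi).hom.hom
      ((J'.isoRightDerivedObj (LocCoh.idealTransform I) i).hom.hom
        ((((LocCoh.idealTransform I).rightDerived i).map g).hom x)))) =
    equivG I J' (i + 1) (((localCohomology I (i + 1)).map g).hom ((equivG I J (i + 1)).symm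
      ((gδIso I J i hi).hom.hom ((J.isoRightDerivedObj (LocCoh.idealTransform I) i).hom.hom x))))
  rw [LinearEquiv.apply_symm_apply, equivG_natural I J (i + 1) J' g ψ, LinearEquiv.apply_symm_apply,
    gδIso_hom, gδIso_hom]
  refine (congrArg ((gSeq_shortExact I J').δ i (i + 1) (by simp)).hom (ConcreteCategory.congr_hom hJ x)).trans ?_
  exact (ConcreteCategory.congr_hom hδ _).symm

/-- A torsion module has a resolution by torsion injectives. -/
theorem exists_torsion_injectiveResolution (M : ModuleCat.{u} R) (hM : LocCoh.IsPowerTorsion I M) :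
    ∃ J : InjectiveResolution M, ∀ n : ℕ, LocCoh.IsPowerTorsion I (J.cocomplex.X n) := by
  let K := injectiveResolution M
  let inc := gIncl I K
  have hmem : ∀ m, (K.ι.f 0).hom m ∈ DRing.torsionSub I (K.cocomplex.X 0) := fun m => by
    obtain ⟨n, hn⟩ := hM m
    exact ⟨n, fun a ha => (map_smul (K.ι.f 0).hom a m).symm.trans ((congrArg _ (hn a ha)).trans (map_zero _))⟩
  let ι0 : M ⟶ (gCx I K).X 0 := ModuleCat.ofHom ((K.ι.f 0).hom.codRestrict (DRing.torsionSub I _) hmem)
  have hι0 : ι0 ≫ (gCx I K).d 0 1 = 0 := ModuleCat.hom_ext (LinearMap.ext fun m =>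
    Subtype.ext (ConcreteCategory.congr_hom K.ι_f_zero_comp_complex_d m))
  let ι : (CochainComplex.single₀ (ModuleCat.{u} R)).obj M ⟶ gCx I K :=
    (CochainComplex.fromSingle₀Equiv (gCx I K) M).symm ⟨ι0, hι0⟩
  have hcomp : ι ≫ inc = K.ι := by
    refine HomologicalComplex.from_single_hom_ext ?_
    rw [HomologicalComplex.comp_f,
      show ι.f 0 = ι0 from CochainComplex.fromSingle₀Equiv_symm_apply_f_zero ι0 hι0]
    exact ModuleCat.hom_ext (LinearMap.ext fun m => rfl)
  have hinc : QuasiIso inc := by
    refine ⟨fun i => ?_⟩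
    rw [quasiIsoAt_iff_isIso_homologyMap, ConcreteCategory.isIso_iff_bijective]
    cases i with
    | zero =>
      refine ⟨?_, fun z => ?_⟩
      · rw [injective_iff_map_eq_zero]
        intro z hz
        obtain ⟨c, rfl⟩ := classOf_surjective _ 0 z
        have hker : (inc.f 0).hom c.1 ∈ LinearMap.ker (K.cocomplex.d 0 1).hom :=
          by
            obtain ⟨v, hv⟩ := c
            rw [LinearMap.mem_ker] at hv ⊢
            exact (congrArg Subtype.val hv :)
        rw [classOf_natural _ 0 inc c hker, classOf_eq_zero_iff] at hz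
        obtain ⟨y, hy⟩ := hz
        rw [K.cocomplex.shape _ _ (by simp)] at hy
        rw [show c = 0 from Subtype.ext (Subtype.ext hy.symm), map_zero]
      · obtain ⟨c, rfl⟩ := classOf_surjective _ 0 z
        obtain ⟨m, hm⟩ := (ShortComplex.moduleCat_exact_iff _).1
          (ShortComplex.exact_of_f_is_kernel (ShortComplex.mk _ _ K.ι_f_zero_comp_complex_d) K.isLimitKernelFork)
          c.1 (LinearMap.mem_ker.1 c.2)
        let c' : LinearMap.ker ((gCx I K).d 0 1).hom :=
          ⟨ι0.hom m, LinearMap.mem_ker.2 (ConcreteCategory.congr_hom hι0 m)⟩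
        have hmem' : (inc.f 0).hom c'.1 ∈ LinearMap.ker (K.cocomplex.d 0 1).hom :=
          LinearMap.mem_ker.2 (ConcreteCategory.congr_hom K.ι_f_zero_comp_complex_d m)
        refine ⟨classOf _ 0 c', (classOf_natural _ 0 inc c' hmem').trans ?_⟩
        exact congrArg _ (Subtype.ext hm)
    | succ p =>
      have := subsingleton_homology_succ K p
      have := subsingleton_of_torsion I p M hM
      have : Subsingleton ((gCx I K).homology (p + 1)) := (equivG I K (p + 1)).toEquiv.symm.subsingleton
      exact ⟨fun _ _ _ => Subsingleton.elim _ _, fun z => ⟨0, Subsingleton.elim _ _⟩⟩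
  have : QuasiIso (ι ≫ inc) := hcomp ▸ K.quasiIso
  refine ⟨{ cocomplex := gCx I K, injective := fun n => ?_, ι := ι,
            quasiIso := quasiIso_of_comp_right ι inc }, fun n => isPowerTorsion_torsionSub I (K.cocomplex.X n)⟩
  have : Module.Injective R (K.cocomplex.X n) :=
    haveI : Injective (ModuleCat.of R (K.cocomplex.X n)) := K.injective n
    Module.injective_module_of_injective_object R (K.cocomplex.X n)
  have h : Module.Injective R (DRing.torsionSub I (K.cocomplex.X n)) := by
    rw [torsionSub_eq_iSup]; exact injective_torsion I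
  exact Module.injective_object_of_injective_module R (DRing.torsionSub I (K.cocomplex.X n))

end Groth.Agent.LC
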