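import Groth.Agent.LC.LiaisonLocal
import Groth.Agent.FlatLoc6.TensorField

/-!
# Gorenstein quotients by linked ideals in a polynomial ring
-/

set_option autoImplicit false

universe u

open IsLocalRing MvPolynomial

namespace Groth.Agent.LC.Liaison

section General

variable {S : Type u} [CommRing S] [IsNoetherianRing S] {c : Ideal S}

theorem minimal_of_height_eq {h : ℕ} (hch : c.height = h) {P : Ideal S} [P.IsPrime] (hcP : c ≤ P)
    (hP : P.height = h) : P ∈ c.minimalPrimes := by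
  refine ⟨⟨‹_›, hcP⟩, fun q hq hqP => ?_⟩
  haveI := hq.1
  haveI : q.FiniteHeight := (Ideal.finiteHeight_iff q).2 (Or.inr (ne_top_of_le_ne_top
    (by rw [hP]; exact ENat.coe_ne_top h) (Ideal.height_mono hqP)))
  exact (Ideal.eq_of_le_of_height_le q hqP (by rw [hP, ← hch]; exact Ideal.height_mono hq.2)).ge

theorem minimal_map_mk {P : Ideal S} (hP : P ∈ c.minimalPrimes) :
    P.map (Ideal.Quotient.mk c) ∈ minimalPrimes (S ⧸ c) := by
  show P.map (Ideal.Quotient.mk c) ∈ (⊥ : Ideal (S ⧸ c)).minimalPrimes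
  rw [← Ideal.map_quotient_self c, Ideal.minimalPrimes_map_of_surjective Ideal.Quotient.mk_surjective,
    Ideal.mk_ker, sup_idem]
  exact ⟨P, hP, rfl⟩

theorem minimal_map_of_minimal {h : ℕ} (hch : c.height = h) {I : Ideal S} (hcI : c ≤ I)
    (hI : ∀ P ∈ I.minimalPrimes, P.height = h) :
    ∀ p ∈ (I.map (Ideal.Quotient.mk c)).minimalPrimes, p ∈ minimalPrimes (S ⧸ c) := by
  intro p hp
  rw [Ideal.minimalPrimes_map_of_surjective Ideal.Quotient.mk_surjective, Ideal.mk_ker, sup_eq_left.2 hcI] at hp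
  obtain ⟨P, hP, rfl⟩ := hp
  haveI := hP.1.1
  exact minimal_map_mk (minimal_of_height_eq hch (hcI.trans hP.1.2) (hI P hP))

theorem comap_map_mk' {I : Ideal S} (hcI : c ≤ I) :
    (I.map (Ideal.Quotient.mk c)).comap (Ideal.Quotient.mk c) = I := by
  rw [Ideal.comap_map_of_surjective' _ Ideal.Quotient.mk_surjective, Ideal.mk_ker, sup_eq_left.2 hcI]

end General

section Poly

variable {K : Type u} [Field K] {σ : Type} [Finite σ]

theorem height_minimalPrimes_eq {I : Ideal (MvPolynomial σ K)} (hI : I.IsHomogeneous (GrSyz.stdGr K σ))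
    [LocCoh.IsCohenMacaulayRing (MvPolynomial σ K ⧸ I)] {h : ℕ} (hIh : I.height = h) :
    ∀ P ∈ I.minimalPrimes, P.height = h := fun _ hP =>
  ((height_ass_eq I hI (ass_of_minimal hP)).2).trans hIh

theorem aci_colon {c : ℕ} (g : Fin c → MvPolynomial σ K) (f : MvPolynomial σ K)
    (J I : Ideal (MvPolynomial σ K)) (hJg : Ideal.span (Set.range g) = J)
    (hJ : J.IsHomogeneous (GrSyz.stdGr K σ)) (hI : I.IsHomogeneous (GrSyz.stdGr K σ))
    (hJc : J.height = c) (hIc : I.height = c) [LocCoh.IsCohenMacaulayRing (MvPolynomial σ K ⧸ I)]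
    (hlt : J < I) (hIf : I = J ⊔ Ideal.span {f}) :
    (J.colon (I : Set (MvPolynomial σ K))).height = c ∧
      LocCoh.IsGorensteinRing (MvPolynomial σ K ⧸ J.colon (I : Set (MvPolynomial σ K))) := by
  haveI := gorensteinRing_ci g hJg hJc
  refine ⟨(colon_height_unmixed hJ hJc (not_le_of_gt hlt)).1, ?_⟩
  let π := Ideal.Quotient.mk J
  have hmem : ∀ a, a ∈ J.colon (I : Set (MvPolynomial σ K)) ↔ a * f ∈ J := by
    intro a
    rw [Submodule.mem_colon]
    refine ⟨fun h => h f ?_, fun h x hx => ?_⟩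
    · rw [SetLike.mem_coe, hIf]; exact Submodule.mem_sup_right (Ideal.mem_span_singleton_self f)
    · rw [SetLike.mem_coe, hIf] at hx
      obtain ⟨y, hy, z, hz, rfl⟩ := Submodule.mem_sup.1 hx
      obtain ⟨r, rfl⟩ := Ideal.mem_span_singleton'.1 hz
      rw [smul_eq_mul, mul_add, mul_left_comm]
      exact J.add_mem (J.mul_mem_left a hy) (J.mul_mem_left r h)
  have hmapI : I.map π = Ideal.span {π f} := by
    rw [hIf, Ideal.map_sup, Ideal.map_quotient_self, bot_sup_eq, Ideal.map_span, Set.image_singleton]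
  haveI : LocCoh.IsCohenMacaulayRing ((MvPolynomial σ K ⧸ J) ⧸ Ideal.span {π f}) :=
    FlatLoc6.isCM_of_ringEquiv
      ((DoubleQuot.quotQuotEquivQuotOfLE hlt.le).symm.trans (Ideal.quotEquivOfEq hmapI)) inferInstance
  refine gorensteinRing_quot_ann (π f) (fun p hp => ?_)
    (Ideal.Quotient.factor (show J ≤ J.colon (I : Set (MvPolynomial σ K)) from
      fun x hx => (hmem x).2 (J.mul_mem_right f hx)))
    (Ideal.Quotient.factor_surjective _) fun a => ?_
  · rw [← hmapI] at hp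
    exact minimal_map_of_minimal hJc hlt.le (height_minimalPrimes_eq hI hIc) p hp
  · obtain ⟨a, rfl⟩ := Ideal.Quotient.mk_surjective a
    rw [Ideal.Quotient.factor_mk, Ideal.Quotient.eq_zero_iff_mem, hmem, ← map_mul,
      Ideal.Quotient.eq_zero_iff_mem]

theorem linked_sum {h : ℕ} (I₁ I₂ : Ideal (MvPolynomial σ K)) (hI₁ : I₁.IsHomogeneous (GrSyz.stdGr K σ))
    (hI₂ : I₂.IsHomogeneous (GrSyz.stdGr K σ)) [LocCoh.IsCohenMacaulayRing (MvPolynomial σ K ⧸ I₁)]
    [LocCoh.IsCohenMacaulayRing (MvPolynomial σ K ⧸ I₂)] (h₁ : I₁.height = h) (h₂ : I₂.height = h)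
    (hdisj : Disjoint I₁.minimalPrimes I₂.minimalPrimes)
    [LocCoh.IsGorensteinRing (MvPolynomial σ K ⧸ (I₁ ⊓ I₂))] :
    (I₁ ⊔ I₂).height = (h + 1 : ℕ) ∧ LocCoh.IsGorensteinRing (MvPolynomial σ K ⧸ (I₁ ⊔ I₂)) := by
  set c := I₁ ⊓ I₂ with hc
  let π := Ideal.Quotient.mk c
  have hch : c.height = h := by
    refine le_antisymm ((Ideal.height_mono inf_le_left).trans h₁.le) ?_
    rw [Ideal.height_eq_inf_minimalPrimes c]
    refine le_iInf₂ fun p hp => ?_
    rcases (Ideal.IsPrime.inf_le hp.1.1).1 hp.1.2 with hle | hle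
    · exact h₁.ge.trans (Ideal.height_mono hle)
    · exact h₂.ge.trans (Ideal.height_mono hle)
  have hm₁ := height_minimalPrimes_eq hI₁ h₁
  have hm₂ := height_minimalPrimes_eq hI₂ h₂
  haveI : LocCoh.IsCohenMacaulayRing ((MvPolynomial σ K ⧸ c) ⧸ I₁.map π) :=
    FlatLoc6.isCM_of_ringEquiv (DoubleQuot.quotQuotEquivQuotOfLE (inf_le_left : c ≤ I₁)).symm inferInstance
  haveI : LocCoh.IsCohenMacaulayRing ((MvPolynomial σ K ⧸ c) ⧸ I₂.map π) :=
    FlatLoc6.isCM_of_ringEquiv (DoubleQuot.quotQuotEquivQuotOfLE (inf_le_right : c ≤ I₂)).symm inferInstance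
  have hab : I₁.map π ⊓ I₂.map π = ⊥ := by
    apply Ideal.comap_injective_of_surjective π Ideal.Quotient.mk_surjective
    rw [Ideal.comap_inf, comap_map_mk' inf_le_left, comap_map_mk' inf_le_right, ← RingHom.ker_eq_comap_bot,
      Ideal.mk_ker]
  have hdisj' : Disjoint (I₁.map π).minimalPrimes (I₂.map π).minimalPrimes := by
    rw [Set.disjoint_left]
    intro p hp hp'
    rw [Ideal.minimalPrimes_map_of_surjective Ideal.Quotient.mk_surjective, Ideal.mk_ker,
      sup_eq_left.2 (inf_le_left : c ≤ I₁)] at hp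
    rw [Ideal.minimalPrimes_map_of_surjective Ideal.Quotient.mk_surjective, Ideal.mk_ker,
      sup_eq_left.2 (inf_le_right : c ≤ I₂)] at hp'
    obtain ⟨P, hP, rfl⟩ := hp
    obtain ⟨P', hP', he⟩ := hp'
    have := congrArg (Ideal.comap π) he
    rw [comap_map_mk' ((inf_le_right : c ≤ I₂).trans hP'.1.2), comap_map_mk' ((inf_le_left : c ≤ I₁).trans hP.1.2)]
      at this
    exact Set.disjoint_left.1 hdisj hP (this ▸ hP')
  obtain ⟨hG, hone⟩ := gorensteinRing_sup (I₁.map π) (I₂.map π) hab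
    (minimal_map_of_minimal hch inf_le_left hm₁) (minimal_map_of_minimal hch inf_le_right hm₂) hdisj'
  have hsup : c ≤ I₁ ⊔ I₂ := inf_le_left.trans le_sup_left
  refine ⟨?_, gorensteinRing_of_ringEquiv
    ((Ideal.quotEquivOfEq (Ideal.map_sup π I₁ I₂).symm).trans (DoubleQuot.quotQuotEquivQuotOfLE hsup)) hG⟩
  haveI := isCohenMacaulayRing_of_gorenstein (MvPolynomial σ K ⧸ c)
  have hkey : ∀ p ∈ (I₁ ⊔ I₂).minimalPrimes, p.height = (h + 1 : ℕ) := by
    intro p hp
    haveI := hp.1.1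
    obtain ⟨P, hP, hPp⟩ := Ideal.exists_minimalPrimes_le (le_sup_left.trans hp.1.2)
    haveI := hP.1.1
    have hcP : c ≤ P := (inf_le_left : c ≤ I₁).trans hP.1.2
    haveI : (P.map π).IsPrime :=
      Ideal.map_isPrime_of_surjective Ideal.Quotient.mk_surjective (by rw [Ideal.mk_ker]; exact hcP)
    haveI : (p.map π).IsPrime :=
      Ideal.map_isPrime_of_surjective Ideal.Quotient.mk_surjective (by rw [Ideal.mk_ker]; exact hcP.trans hPp)
    have h1 : (p.map π).height = 1 := hone _ (by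
      rw [← Ideal.map_sup, Ideal.minimalPrimes_map_of_surjective Ideal.Quotient.mk_surjective, Ideal.mk_ker,
        sup_eq_left.2 hsup]
      exact ⟨p, hp, rfl⟩)
    have h3 := LC.height_map_mk_comap (S := MvPolynomial σ K) (A := MvPolynomial σ K ⧸ c)
      Ideal.Quotient.mk_surjective (P.map π) (p.map π)
    rw [show (p.map π).comap (algebraMap _ (MvPolynomial σ K ⧸ c)) = p from comap_map_mk' (hcP.trans hPp),
      show (P.map π).comap (algebraMap _ (MvPolynomial σ K ⧸ c)) = P from comap_map_mk' hcP,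
      height_quot_minimal (P.map π) (p.map π) (minimal_map_mk (minimal_of_height_eq hch hcP (hm₁ P hP)))
        (Ideal.map_mono hPp), h1] at h3
    rw [← height_add_height_quotient_eq P p hPp, h3, hm₁ P hP]
    norm_num
  have hne : I₁ ⊔ I₂ ≠ ⊤ := fun htop => (RingHom.ker_ne_top (constantCoeff (σ := σ) (R := K)))
    (top_unique (htop ▸ sup_le (le_vertex hI₁ (ne_top_of_height_eq h₁)) (le_vertex hI₂ (ne_top_of_height_eq h₂))))
  obtain ⟨⟨q, hq⟩⟩ := Ideal.nonempty_minimalPrimes hne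
  rw [Ideal.height_eq_inf_minimalPrimes]
  exact le_antisymm ((iInf₂_le q hq).trans (hkey q hq).le) (le_iInf₂ fun p hp => (hkey p hp).ge)

end Poly

end Groth.Agent.LC.Liaison
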