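import Groth.Agent.LC.Connected

/-!
# Connectedness dimension, subdimension and cohomological dimension
-/

universe u

open CategoryTheory IsLocalRing

namespace Groth.Agent.LC

variable {R : Type u} [CommRing R] [IsNoetherianRing R] [IsLocalRing R]

omit [IsNoetherianRing R] [IsLocalRing R] in
/-- Dimension of a quotient from its primes. -/
theorem dim_quot_le_of_forall_prime {J : Ideal R} (B : WithBot ℕ∞)
    (h : ∀ Q : Ideal R, Q.IsPrime → J ≤ Q → ringKrullDim (R ⧸ Q) ≤ B) : ringKrullDim (R ⧸ J) ≤ B := by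
  rw [ringKrullDim_quotient]
  refine iSup_le fun l => le_trans ?_ (h l.head.1.asIdeal l.head.1.isPrime l.head.2)
  rw [ringKrullDim_quotient]
  let l' : LTSeries (PrimeSpectrum.zeroLocus (l.head.1.asIdeal : Set R)) :=
    { length := l.length
      toFun := fun i => ⟨(l i).1, fun y hy => (l.head_le i : _) hy⟩
      step := fun i => l.step i }
  exact Order.LTSeries.length_le_krullDim l'

omit [IsLocalRing R] in
theorem dim_quot_inf_sup_le (a b P : Ideal R) {B : WithBot ℕ∞} (ha : ringKrullDim (R ⧸ (a ⊔ P)) ≤ B)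
    (hb : ringKrullDim (R ⧸ (b ⊔ P)) ≤ B) : ringKrullDim (R ⧸ (a ⊓ b ⊔ P)) ≤ B :=
  dim_quot_le_of_forall_prime B fun Q hQ h => by
    rcases hQ.mul_le.1 ((Ideal.mul_le_inf.trans le_sup_left).trans h) with h' | h'
    · exact (dim_quot_mono (sup_le h' (le_sup_right.trans h))).trans ha
    · exact (dim_quot_mono (sup_le h' (le_sup_right.trans h))).trans hb

theorem exists_connDim_nat : ∃ c : ℕ, LocCoh.connDim (PrimeSpectrum R) = (c : WithBot ℕ∞) := by
  obtain ⟨P, Q, hP, hQ, hP0, hQ0, -, heq⟩ := exists_connDim_spec (R := R)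
  have hle : ∀ S : Finset (Ideal R), (∀ p ∈ S, p ∈ minimalPrimes R) → S.Nonempty →
      S.inf id ≤ maximalIdeal R := fun S hS ⟨p, hp⟩ =>
    (Finset.inf_le (f := id) hp).trans (le_maximalIdeal (hS p hp).1.1.ne_top)
  obtain ⟨c, hc⟩ := exists_dim_quot (I := P.inf id ⊔ Q.inf id) fun h => (maximalIdeal.isMaximal R).ne_top
    (top_unique (h ▸ sup_le (hle P hP hP0) (hle Q hQ hQ0)))
  exact ⟨c, heq.trans hc⟩

theorem exists_subdim_nat :
    ∃ (s : ℕ) (p : Ideal R), p ∈ minimalPrimes R ∧ ringKrullDim (R ⧸ p) = s ∧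
      LocCoh.subdim (PrimeSpectrum R) = (s : WithBot ℕ∞) := by
  obtain ⟨p, hp, hmin⟩ := Set.exists_min_image (minimalPrimes R) (fun p => ringKrullDim (R ⧸ p))
    (minimalPrimes.finite_of_isNoetherianRing R) (Set.nonempty_coe_sort.1 (Ideal.nonempty_minimalPrimes bot_ne_top))
  obtain ⟨s, hs⟩ := exists_dim_quot (I := p) hp.1.1.ne_top
  refine ⟨s, p, hp, hs, ?_⟩
  rw [subdim_spec, ← hs]
  exact le_antisymm (iInf₂_le p hp) (le_iInf₂ hmin)

theorem subdim_le_dim {p : Ideal R} (hp : p ∈ minimalPrimes R) :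
    LocCoh.subdim (PrimeSpectrum R) ≤ ringKrullDim (R ⧸ p) := by
  rw [subdim_spec]; exact iInf₂_le p hp

theorem eq_of_connDim_eq_subdim (h : LocCoh.connDim (PrimeSpectrum R) = LocCoh.subdim (PrimeSpectrum R))
    {p q : Ideal R} (hp : p ∈ minimalPrimes R) (hq : q ∈ minimalPrimes R) : p = q := by
  have hfin : topologicalKrullDim (PrimeSpectrum R) < ⊤ := by
    obtain ⟨d, -, -, hd, -⟩ := CohenLib.exists_fin_sop R
    rw [PrimeSpectrum.topologicalKrullDim_eq_ringKrullDim, hd]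
    exact WithBot.coe_lt_coe.2 (ENat.natCast_lt_top d)
  have := (connDim_eq_subdim_iff hfin).1 h
  have huniv : ∀ p ∈ minimalPrimes R, PrimeSpectrum.zeroLocus ((p : Ideal R) : Set R) = Set.univ := fun p hp => by
    have hC : PrimeSpectrum.zeroLocus (p : Set R) ∈ irreducibleComponents (PrimeSpectrum R) := by
      rw [components_eq]; exact ⟨p, hp, rfl⟩
    exact Set.eq_univ_of_univ_subset (hC.2 (IrreducibleSpace.isIrreducible_univ _) (Set.subset_univ _))
  have := hp.1.1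
  have := hq.1.1
  have h1 : q ≤ p := (Set.eq_univ_iff_forall.1 (huniv q hq) ⟨p, inferInstance⟩ : _)
  have h2 : p ≤ q := (Set.eq_univ_iff_forall.1 (huniv p hp) ⟨q, inferInstance⟩ : _)
  exact le_antisymm h2 h1

variable [IsAdicComplete (maximalIdeal R) R]

theorem isAdicComplete_quot (P : Ideal R) [IsLocalRing (R ⧸ P)] : IsAdicComplete (maximalIdeal (R ⧸ P)) (R ⧸ P) := by
  have h1 : IsAdicComplete (maximalIdeal R) (R ⧸ P) := Adic7.isAdicComplete_of_finite _ _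
  rw [← map_maximalIdeal_of_surjective (algebraMap R (R ⧸ P)) Ideal.Quotient.mk_surjective]
  exact (IsAdicComplete.map_algebraMap_iff (S := R ⧸ P) (maximalIdeal R) (R ⧸ P)).mpr h1

theorem dim_quot_prime_le {P a b : Ideal R} [P.IsPrime] (ha : a ≠ ⊤) (hb : b ≠ ⊤) {δ k : ℕ}
    (hδ : ringKrullDim (R ⧸ (a ⊔ b)) = (δ : WithBot ℕ∞)) (hk : LocCoh.CdLE R (a ⊓ b) k)
    (hda : (δ : WithBot ℕ∞) < ringKrullDim (R ⧸ (a ⊔ P))) (hdb : (δ : WithBot ℕ∞) < ringKrullDim (R ⧸ (b ⊔ P))) :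
    ringKrullDim (R ⧸ P) ≤ ((k + δ + 1 : ℕ) : WithBot ℕ∞) := by
  have hPm : P ≤ maximalIdeal R := le_maximalIdeal (Ideal.IsPrime.ne_top inferInstance)
  have := isLocalRing_quot (R := R) (I := P) (Ideal.IsPrime.ne_top inferInstance)
  have := isAdicComplete_quot P
  have hne : ∀ c : Ideal R, c ≠ ⊤ → c.map (Ideal.Quotient.mk P) ≠ ⊤ := fun c hc h => by
    have h1 := congrArg (Ideal.comap (Ideal.Quotient.mk P)) h
    rw [Ideal.comap_map_of_surjective' _ Ideal.Quotient.mk_surjective, Ideal.mk_ker, Ideal.comap_top] at h1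
    exact (maximalIdeal.isMaximal R).ne_top (top_unique (h1 ▸ sup_le (le_maximalIdeal hc) hPm))
  have hab : a ⊔ b ⊔ P ≠ ⊤ := fun h => (maximalIdeal.isMaximal R).ne_top
    (top_unique (h ▸ sup_le (sup_le (le_maximalIdeal ha) (le_maximalIdeal hb)) hPm))
  obtain ⟨e, he⟩ := exists_dim_quot hab
  have hed : e ≤ δ := Nat.cast_le.1 (he ▸ hδ ▸ dim_quot_mono (le_sup_left (a := a ⊔ b) (b := P)))
  have hcd : LocCoh.CdLE (R ⧸ P) (a.map (Ideal.Quotient.mk P) ⊓ b.map (Ideal.Quotient.mk P)) k := by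
    refine cdLE_of_radical_eq ?_ (cdLE_map (a ⊓ b) (R ⧸ P) hk)
    show ((a ⊓ b).map (Ideal.Quotient.mk P)).radical = _
    refine le_antisymm (Ideal.radical_mono (le_inf (Ideal.map_mono inf_le_left) (Ideal.map_mono inf_le_right))) ?_
    rw [Ideal.radical_inf, ← Ideal.radical_mul, ← Ideal.map_mul]
    exact Ideal.radical_mono (Ideal.map_mono Ideal.mul_le_inf)
  have h1 := dim_le_cd_add_dim_sup (R := R ⧸ P) e _ _ (hne a ha) (hne b hb)
    (by rw [← Ideal.map_sup, dim_quot_map]; exact he)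
    (by rw [dim_quot_map]; exact (Nat.cast_le.2 hed).trans_lt hda)
    (by rw [dim_quot_map]; exact (Nat.cast_le.2 hed).trans_lt hdb) k hcd
  exact h1.trans (Nat.cast_le.2 (by omega))

/-- Brodmann–Sharp's bound in terms of cohomological dimension. -/
theorem min_connDim_subdim_le_cd (a b : Ideal R) (ha : a ≠ ⊤) (hb : b ≠ ⊤) {δ k c s : ℕ}
    (hδ : ringKrullDim (R ⧸ (a ⊔ b)) = (δ : WithBot ℕ∞)) (hda : (δ : WithBot ℕ∞) < ringKrullDim (R ⧸ a))
    (hdb : (δ : WithBot ℕ∞) < ringKrullDim (R ⧸ b)) (hk : LocCoh.CdLE R (a ⊓ b) k)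
    (hc : LocCoh.connDim (PrimeSpectrum R) = (c : WithBot ℕ∞))
    (hs : LocCoh.subdim (PrimeSpectrum R) = (s : WithBot ℕ∞)) :
    c + 1 ≤ δ + k + 1 ∨ s ≤ δ + k + 1 := by
  classical
  by_contra hcon
  push Not at hcon
  obtain ⟨hcon1, hcon2⟩ := hcon
  have hbig : ∀ P ∈ minimalPrimes R, ((δ + k + 1 : ℕ) : WithBot ℕ∞) < ringKrullDim (R ⧸ P) := fun P hP =>
    (Nat.cast_lt.2 hcon2).trans_le (hs ▸ subdim_le_dim hP)
  have hsupne : ∀ (c : Ideal R), c ≠ ⊤ → ∀ P : Ideal R, P ≠ ⊤ → c ⊔ P ≠ ⊤ := fun c hc P hP h =>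
    (maximalIdeal.isMaximal R).ne_top (top_unique (h ▸ sup_le (le_maximalIdeal hc) (le_maximalIdeal hP)))
  have habne : a ⊓ b ≠ ⊤ := fun h => ha (top_unique (h ▸ inf_le_left))
  have hsmall : ∀ Q : Ideal R, Q.IsPrime → ringKrullDim (R ⧸ (a ⊔ Q)) ≤ δ → ringKrullDim (R ⧸ (b ⊔ Q)) ≤ δ →
      ringKrullDim (R ⧸ Q) ≤ ((k + δ : ℕ) : WithBot ℕ∞) := by
    intro Q hQ h1 h2
    obtain ⟨e, he⟩ := exists_dim_quot (hsupne _ habne Q hQ.ne_top)
    have hed : e ≤ δ := Nat.cast_le.1 (he ▸ dim_quot_inf_sup_le a b Q h1 h2)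
    exact (dim_quot_le_cd_add Q (hsupne _ habne Q hQ.ne_top) hk he).trans (Nat.cast_le.2 (by omega))
  have hfin := minimalPrimes.finite_of_isNoetherianRing R
  let A := hfin.toFinset.filter fun P => ringKrullDim (R ⧸ (a ⊔ P)) ≤ (δ : WithBot ℕ∞)
  let B := hfin.toFinset.filter fun P => ringKrullDim (R ⧸ (b ⊔ P)) ≤ (δ : WithBot ℕ∞)
  have hA : ∀ P ∈ A, P ∈ minimalPrimes R := fun P hP => hfin.mem_toFinset.1 (Finset.mem_filter.1 hP).1
  have hB : ∀ P ∈ B, P ∈ minimalPrimes R := fun P hP => hfin.mem_toFinset.1 (Finset.mem_filter.1 hP).1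
  have hcov : ∀ P ∈ minimalPrimes R, P ∈ A ∨ P ∈ B := by
    intro P hP
    have := hP.1.1
    by_contra hne
    push Not at hne
    have h1 : (δ : WithBot ℕ∞) < ringKrullDim (R ⧸ (a ⊔ P)) :=
      not_le.1 fun h => hne.1 (Finset.mem_filter.2 ⟨hfin.mem_toFinset.2 hP, h⟩)
    have h2 : (δ : WithBot ℕ∞) < ringKrullDim (R ⧸ (b ⊔ P)) :=
      not_le.1 fun h => hne.2 (Finset.mem_filter.2 ⟨hfin.mem_toFinset.2 hP, h⟩)
    have h3 := (hbig P hP).trans_le (dim_quot_prime_le ha hb hδ hk h1 h2)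
    rw [Nat.cast_lt] at h3
    omega
  have hdisj : ∀ P, P ∈ A → P ∈ B → False := fun P hPA hPB => by
    have hP := hA P hPA
    have h3 := (hbig P hP).trans_le (hsmall P hP.1.1 (Finset.mem_filter.1 hPA).2 (Finset.mem_filter.1 hPB).2)
    rw [Nat.cast_lt] at h3
    omega
  have hne : ∀ c : Ideal R, (δ : WithBot ℕ∞) < ringKrullDim (R ⧸ c) →
      ∃ P ∈ minimalPrimes R, ¬ ringKrullDim (R ⧸ (c ⊔ P)) ≤ (δ : WithBot ℕ∞) := by
    intro c hlt
    by_contra h
    push Not at h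
    refine not_le.2 hlt (dim_quot_le_of_forall_prime _ fun Q hQ hcQ => ?_)
    obtain ⟨P, hP, hPQ⟩ := Ideal.exists_minimalPrimes_le (I := (⊥ : Ideal R)) (J := Q) bot_le
    exact (dim_quot_mono (sup_le hcQ hPQ)).trans (h P hP)
  have hA0 : A.Nonempty := by
    obtain ⟨P, hP, h⟩ := hne b hdb
    exact ⟨P, (hcov P hP).resolve_right fun h' => h (Finset.mem_filter.1 h').2⟩
  have hB0 : B.Nonempty := by
    obtain ⟨P, hP, h⟩ := hne a hda
    exact ⟨P, (hcov P hP).resolve_left fun h' => h (Finset.mem_filter.1 h').2⟩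
  have hmain := connDim_spec_le hA hB hA0 hB0 hcov
  have hbound : ringKrullDim (R ⧸ (A.inf id ⊔ B.inf id)) ≤ ((k + δ : ℕ) : WithBot ℕ∞) := by
    refine dim_quot_le_of_forall_prime _ fun Q hQ hle => ?_
    obtain ⟨P, hPA, hPQ⟩ := hQ.inf_le'.1 (le_sup_left.trans hle)
    obtain ⟨P', hPB, hPQ'⟩ := hQ.inf_le'.1 (le_sup_right.trans hle)
    exact hsmall Q hQ
      ((dim_quot_mono (sup_le_sup_left (show P ≤ Q from hPQ) a)).trans (Finset.mem_filter.1 hPA).2)
      ((dim_quot_mono (sup_le_sup_left (show P' ≤ Q from hPQ') b)).trans (Finset.mem_filter.1 hPB).2)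
  have h4 := hmain.trans hbound
  rw [hc, Nat.cast_le] at h4
  omega

omit [IsAdicComplete (maximalIdeal R) R] in
theorem dim_quot_comap (a : Ideal R) (X : Ideal (R ⧸ a)) :
    ringKrullDim ((R ⧸ a) ⧸ X) = ringKrullDim (R ⧸ X.comap (Ideal.Quotient.mk a)) := by
  conv_lhs => rw [← Ideal.map_comap_of_surjective _ Ideal.Quotient.mk_surjective X]
  rw [dim_quot_map]
  refine ringKrullDim_eq_of_ringEquiv (Ideal.quotEquivOfEq (sup_eq_left.2 fun x hx => ?_))
  rw [Ideal.mem_comap, Ideal.Quotient.eq_zero_iff_mem.2 hx]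
  exact zero_mem _

/-- Brodmann–Sharp's connectedness theorem. -/
theorem min_connDim_subdim_le_ara (a : Ideal R) (ha : a ≠ ⊤) (t : Finset R)
    (ht : (Ideal.span (t : Set R)).radical = a.radical) {c s c' : ℕ}
    (hc : LocCoh.connDim (PrimeSpectrum R) = (c : WithBot ℕ∞))
    (hs : LocCoh.subdim (PrimeSpectrum R) = (s : WithBot ℕ∞))
    (hc' : LocCoh.connDim (PrimeSpectrum (R ⧸ a)) = (c' : WithBot ℕ∞)) :
    c + 1 ≤ c' + t.card + 1 ∨ s ≤ c' + t.card + 1 := by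
  classical
  have := isLocalRing_quot ha
  have hcd : LocCoh.CdLE R a t.card := cdLE_of_radical_eq ht (cdLE_span_finset t)
  obtain ⟨P, Q, hP, hQ, hP0, hQ0, hcov, heq⟩ := exists_connDim_spec (R := R ⧸ a)
  let σ := Ideal.Quotient.mk a
  let a' := (P.inf id).comap σ
  let b' := (Q.inf id).comap σ
  have hproper : ∀ S : Finset (Ideal (R ⧸ a)), (∀ p ∈ S, p ∈ minimalPrimes (R ⧸ a)) → S.Nonempty →
      (S.inf id).comap σ ≠ ⊤ := fun S hS ⟨p, hp⟩ h => by
    rw [Ideal.comap_eq_top_iff] at h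
    exact (hS p hp).1.1.ne_top (top_unique (h ▸ (Finset.inf_le (f := id) hp)))
  have hab : a' ⊔ b' ≠ ⊤ := fun h => (maximalIdeal.isMaximal R).ne_top (top_unique
    (h ▸ sup_le (le_maximalIdeal (hproper P hP hP0)) (le_maximalIdeal (hproper Q hQ hQ0))))
  have hδ : ringKrullDim (R ⧸ (a' ⊔ b')) = (c' : WithBot ℕ∞) := by
    rw [← hc', heq, dim_quot_comap]
    refine ringKrullDim_eq_of_ringEquiv (Ideal.quotEquivOfEq ?_)
    refine le_antisymm (sup_le (Ideal.comap_mono le_sup_left) (Ideal.comap_mono le_sup_right)) fun x hx => ?_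
    obtain ⟨y, hy, z, hz, hyz⟩ := Submodule.mem_sup.1 (show σ x ∈ P.inf id ⊔ Q.inf id from hx)
    obtain ⟨y, rfl⟩ := Ideal.Quotient.mk_surjective y
    obtain ⟨z, rfl⟩ := Ideal.Quotient.mk_surjective z
    have hxyz : x - y ∈ b' := by
      show σ (x - y) ∈ Q.inf id
      rw [map_sub, ← hyz, add_sub_cancel_left]
      exact hz
    have := add_mem (Ideal.mem_sup_left (T := b') (show y ∈ a' from hy)) (Ideal.mem_sup_right (S := a') hxyz)
    rwa [add_sub_cancel] at this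
  have hcd' : LocCoh.CdLE R (a' ⊓ b') t.card := by
    refine cdLE_of_radical_eq ?_ hcd
    have hrad : (P.inf id ⊓ Q.inf id) = (⊥ : Ideal (R ⧸ a)).radical := by
      rw [← Ideal.sInf_minimalPrimes]
      refine le_antisymm (le_sInf fun p hp => ?_) (le_inf (Finset.le_inf fun p hp => sInf_le (hP p hp))
        (Finset.le_inf fun p hp => sInf_le (hQ p hp)))
      exact (hcov p hp).elim (fun h => inf_le_left.trans (Finset.inf_le (f := id) h))
        fun h => inf_le_right.trans (Finset.inf_le (f := id) h)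
    show a.radical = (a' ⊓ b').radical
    rw [show a' ⊓ b' = (P.inf id ⊓ Q.inf id).comap σ from rfl, hrad, Ideal.comap_radical,
      ← RingHom.ker_eq_comap_bot, Ideal.mk_ker, Ideal.radical_idem]
  by_cases hbig : (c' : WithBot ℕ∞) < ringKrullDim (R ⧸ a') ∧ (c' : WithBot ℕ∞) < ringKrullDim (R ⧸ b')
  · exact min_connDim_subdim_le_cd a' b' (hproper P hP hP0) (hproper Q hQ hQ0) hδ hbig.1 hbig.2 hcd' hc hs
  · -- a component of small dimension: the spectrum of `R ⧸ a` is irreducible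
    right
    obtain ⟨S, hS, hS0, hSdim⟩ : ∃ S : Finset (Ideal (R ⧸ a)), (∀ p ∈ S, p ∈ minimalPrimes (R ⧸ a)) ∧
        S.Nonempty ∧ ringKrullDim (R ⧸ (S.inf id).comap σ) ≤ (c' : WithBot ℕ∞) := by
      rcases not_and_or.1 hbig with h | h
      · exact ⟨P, hP, hP0, not_lt.1 h⟩
      · exact ⟨Q, hQ, hQ0, not_lt.1 h⟩
    obtain ⟨p, hp⟩ := hS0
    have hpc : ringKrullDim ((R ⧸ a) ⧸ p) ≤ (c' : WithBot ℕ∞) := by
      rw [dim_quot_comap]
      exact (dim_quot_mono (Ideal.comap_mono (Finset.inf_le (f := id) hp))).trans hSdim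
    have heq' : LocCoh.connDim (PrimeSpectrum (R ⧸ a)) = LocCoh.subdim (PrimeSpectrum (R ⧸ a)) :=
      le_antisymm connDim_le_subdim (hc' ▸ (subdim_le_dim (hS p hp)).trans hpc)
    have hall : ∀ Q : Ideal R, Q.IsPrime → a ≤ Q → ringKrullDim (R ⧸ Q) ≤ (c' : WithBot ℕ∞) := by
      intro Q hQ haQ
      have : (Q.map σ).IsPrime := Ideal.map_isPrime_of_surjective Ideal.Quotient.mk_surjective (by rwa [Ideal.mk_ker])
      obtain ⟨q, hq, hqQ⟩ := Ideal.exists_minimalPrimes_le (I := (⊥ : Ideal (R ⧸ a))) (J := Q.map σ) bot_le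
      rw [eq_of_connDim_eq_subdim heq' hq (hS p hp)] at hqQ
      refine le_trans ?_ ((dim_quot_comap a p).symm.trans_le hpc)
      refine dim_quot_mono ((Ideal.comap_mono hqQ).trans ?_)
      rw [Ideal.comap_map_of_surjective' _ Ideal.Quotient.mk_surjective, Ideal.mk_ker]
      exact sup_le le_rfl haQ
    obtain ⟨sd, P₀, hP₀, hP₀d, hsd⟩ := exists_subdim_nat (R := R)
    rw [hs, Nat.cast_inj] at hsd
    subst hsd
    have hne : a ⊔ P₀ ≠ ⊤ := fun h => (maximalIdeal.isMaximal R).ne_top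
      (top_unique (h ▸ sup_le (le_maximalIdeal ha) (le_maximalIdeal hP₀.1.1.ne_top)))
    obtain ⟨e, he⟩ := exists_dim_quot hne
    have hec : e ≤ c' := Nat.cast_le.1 (he ▸ dim_quot_le_of_forall_prime _
      fun Q hQ hle => hall Q hQ (le_sup_left.trans hle))
    have h5 := dim_quot_le_cd_add P₀ hne hcd he
    rw [hP₀d, Nat.cast_le] at h5
    omega

end Groth.Agent.LC
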