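import Groth.Agent.LC.CohDT
import Mathlib.Algebra.Category.ModuleCat.FilteredColimits
import Mathlib.RingTheory.Finiteness.Basic

/-!
# `Ext` out of finite modules, local cohomology and filtered colimits
-/

universe u w

open CategoryTheory Limits

namespace Groth.Agent.LC

variable {R : Type u} [CommRing R]

/-- An element-wise filtered colimit of modules. -/
structure IsElemColim {J : Type w} [Category J] (K : J ⥤ ModuleCat.{u} R) {M : ModuleCat.{u} R}
    (f : ∀ j, K.obj j ⟶ M) : Prop where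
  nat : ∀ {j k : J} (a : j ⟶ k), K.map a ≫ f k = f j
  rep : ∀ m : M, ∃ j x, (f j).hom x = m
  zero : ∀ j x, (f j).hom x = 0 → ∃ (k : J) (a : j ⟶ k), (K.map a).hom x = 0

variable {J : Type w} [Category J] [IsFiltered J] {K : J ⥤ ModuleCat.{u} R} {M : ModuleCat.{u} R}
  {f : ∀ j, K.obj j ⟶ M}

theorem IsElemColim.exists_kill (h : IsElemColim K f) :
    ∀ (l : ℕ) (j : J) (v : Fin l → K.obj j), (∀ i, (f j).hom (v i) = 0) →
      ∃ (k : J) (a : j ⟶ k), ∀ i, (K.map a).hom (v i) = 0 := by
  intro l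
  induction l with
  | zero => intro j v _; exact ⟨j, 𝟙 j, fun i => i.elim0⟩
  | succ l ih =>
    intro j v hv
    obtain ⟨k, a, ha⟩ := h.zero j (v 0) (hv 0)
    obtain ⟨k', b, hb⟩ := ih k (fun i => (K.map a).hom (v i.succ)) fun i => by
      rw [← ModuleCat.comp_apply, h.nat]; exact hv _
    refine ⟨k', a ≫ b, Fin.cases ?_ fun i => ?_⟩
    · rw [K.map_comp, ModuleCat.comp_apply, ha, map_zero]
    · rw [K.map_comp, ModuleCat.comp_apply]; exact hb i

theorem IsElemColim.exists_reps (h : IsElemColim K f) :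
    ∀ (l : ℕ) (v : Fin l → M), ∃ (j : J) (x : Fin l → K.obj j), ∀ i, (f j).hom (x i) = v i := by
  intro l
  induction l with
  | zero =>
    intro v
    obtain ⟨j⟩ := IsFiltered.nonempty (C := J)
    exact ⟨j, fun i => i.elim0, fun i => i.elim0⟩
  | succ l ih =>
    intro v
    obtain ⟨j, x, hx⟩ := ih fun i => v i.succ
    obtain ⟨j', y, hy⟩ := h.rep (v 0)
    refine ⟨IsFiltered.max j j', Fin.cases ((K.map (IsFiltered.rightToMax j j')).hom y)
      (fun i => (K.map (IsFiltered.leftToMax j j')).hom (x i)), Fin.cases ?_ fun i => ?_⟩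
    · simp only [Fin.cases_zero]
      rw [← ModuleCat.comp_apply, h.nat, hy]
    · simp only [Fin.cases_succ]
      rw [← ModuleCat.comp_apply, h.nat, hx]

/-- A map from a finitely presented module factors through a stage. -/
theorem IsElemColim.hom_lift (h : IsElemColim K f) (X : ModuleCat.{u} R) [Module.FinitePresentation R X]
    (g : X ⟶ M) : ∃ (j : J) (g' : X ⟶ K.obj j), g' ≫ f j = g := by
  obtain ⟨n, π, hπ⟩ := Module.Finite.exists_fin' R X
  have hker : (LinearMap.ker π).FG := Module.FinitePresentation.fg_ker π hπ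
  obtain ⟨l, rel, hrel⟩ := Submodule.fg_iff_exists_fin_generating_family.1 hker
  obtain ⟨j, x, hx⟩ := h.exists_reps n fun i => g.hom (π (Pi.single i 1))
  let φ : (Fin n → R) →ₗ[R] K.obj j := Fintype.linearCombination R x
  have hφ : (f j).hom ∘ₗ φ = g.hom ∘ₗ π := by
    refine (Pi.basisFun R (Fin n)).ext fun i => ?_
    rw [Pi.basisFun_apply, LinearMap.comp_apply, LinearMap.comp_apply,
      Fintype.linearCombination_apply_single, one_smul, hx]
  obtain ⟨k, a, ha⟩ := h.exists_kill l j (fun i => φ (rel i)) fun i => by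
    have hi : π (rel i) = 0 := LinearMap.mem_ker.1 (hrel ▸ Submodule.subset_span ⟨i, rfl⟩)
    show ((f j).hom ∘ₗ φ) (rel i) = 0
    rw [hφ, LinearMap.comp_apply, hi, map_zero]
  have hle : LinearMap.ker π ≤ LinearMap.ker ((K.map a).hom ∘ₗ φ) := by
    rw [← hrel, Submodule.span_le]; rintro _ ⟨i, rfl⟩; exact ha i
  refine ⟨k, ModuleCat.ofHom ((Submodule.liftQ _ _ hle) ∘ₗ (π.quotKerEquivOfSurjective hπ).symm.toLinearMap),
    ModuleCat.hom_ext (LinearMap.ext fun z => ?_)⟩
  obtain ⟨v, rfl⟩ := hπ z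
  show (f k).hom (Submodule.liftQ _ _ hle ((π.quotKerEquivOfSurjective hπ).symm (π v))) = g.hom (π v)
  rw [show (π.quotKerEquivOfSurjective hπ).symm (π v) = Submodule.Quotient.mk v from
    (π.quotKerEquivOfSurjective hπ).symm_apply_eq.2 rfl, Submodule.liftQ_apply, LinearMap.comp_apply,
    ← ModuleCat.comp_apply, h.nat]
  exact LinearMap.congr_fun hφ v

/-- A map from a finite module which dies in the colimit dies at a stage. -/
theorem IsElemColim.hom_kill (h : IsElemColim K f) (X : ModuleCat.{u} R) [Module.Finite R X] (j : J)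
    (g : X ⟶ K.obj j) (hg : g ≫ f j = 0) : ∃ (k : J) (a : j ⟶ k), g ≫ K.map a = 0 := by
  obtain ⟨l, v, hv⟩ := Module.Finite.exists_fin (R := R) (M := X)
  obtain ⟨k, a, ha⟩ := h.exists_kill l j (fun i => g.hom (v i)) fun i =>
    ConcreteCategory.congr_hom hg (v i)
  refine ⟨k, a, ModuleCat.hom_ext (LinearMap.ext_on hv ?_)⟩
  rintro _ ⟨i, rfl⟩
  exact ha i

theorem IsElemColim.ext_lift_and_kill [IsNoetherianRing R] (h : IsElemColim K f) (i : ℕ) :
    ∀ (X : ModuleCat.{u} R) [Module.Finite R X],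
      (∀ x : Abelian.Ext X M i, ∃ (j : J) (y : Abelian.Ext X (K.obj j) i),
        y.comp (Abelian.Ext.mk₀ (f j)) (add_zero i) = x) ∧
      ∀ (j : J) (y : Abelian.Ext X (K.obj j) i), y.comp (Abelian.Ext.mk₀ (f j)) (add_zero i) = 0 →
        ∃ (k : J) (a : j ⟶ k), y.comp (Abelian.Ext.mk₀ (K.map a)) (add_zero i) = 0 := by
  induction i with
  | zero =>
    intro X _
    have : Module.FinitePresentation R X := Module.finitePresentation_of_finite R X
    refine ⟨fun x => ?_, fun j y hy => ?_⟩
    · obtain ⟨g, rfl⟩ := Abelian.Ext.addEquiv₀.symm.surjective x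
      obtain ⟨j, g', hg'⟩ := h.hom_lift X g
      refine ⟨j, Abelian.Ext.mk₀ g', ?_⟩
      rw [Abelian.Ext.mk₀_comp_mk₀, hg']
      rfl
    · obtain ⟨g, rfl⟩ := Abelian.Ext.addEquiv₀.symm.surjective y
      change (Abelian.Ext.mk₀ g).comp (Abelian.Ext.mk₀ (f j)) (add_zero 0) = 0 at hy
      rw [Abelian.Ext.mk₀_comp_mk₀] at hy
      obtain ⟨k, a, ha⟩ := h.hom_kill X j g ((Abelian.Ext.mk₀_bijective X M).1 (hy.trans (Abelian.Ext.mk₀_zero X M).symm))
      refine ⟨k, a, ?_⟩
      change (Abelian.Ext.mk₀ g).comp (Abelian.Ext.mk₀ (K.map a)) (add_zero 0) = 0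
      rw [Abelian.Ext.mk₀_comp_mk₀, ha, Abelian.Ext.mk₀_zero]
  | succ i ih =>
    intro X _
    obtain ⟨n, π, hπ⟩ := Module.Finite.exists_fin' R X
    let S : ShortComplex (ModuleCat.{u} R) := ShortComplex.mk
      (X₁ := ModuleCat.of R (LinearMap.ker π)) (X₂ := ModuleCat.of R (Fin n → R)) (X₃ := X)
      (ModuleCat.ofHom (LinearMap.ker π).subtype) (ModuleCat.ofHom π)
      (ModuleCat.hom_ext (LinearMap.ext fun z => z.2))
    have hS : S.ShortExact :=
      { exact := (ShortComplex.ShortExact.moduleCat_exact_iff_function_exact _).2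
          (LinearMap.exact_subtype_ker_map π)
        mono_f := (ModuleCat.mono_iff_injective _).2 Subtype.val_injective
        epi_g := (ModuleCat.epi_iff_surjective _).2 hπ }
    have : Module.Finite R (S.X₁) :=
      (Module.Finite.iff_fg (N := LinearMap.ker π)).2 (IsNoetherian.noetherian _)
    have : Module.Finite R (S.X₂) := inferInstanceAs (Module.Finite R (Fin n → R))
    have : Projective S.X₂ :=
      (IsProjective.iff_projective (R := R) (Fin n → R)).1 inferInstance
    have e : 1 + i = i + 1 := add_comm 1 i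
    refine ⟨fun x => ?_, fun j y hy => ?_⟩
    · obtain ⟨x₁, rfl⟩ := Abelian.Ext.contravariant_sequence_exact₃ hS M x
        (Abelian.Ext.eq_zero_of_projective _) e
      obtain ⟨j, y₁, rfl⟩ := (ih S.X₁).1 x₁
      exact ⟨j, hS.extClass.comp y₁ e,
        Abelian.Ext.comp_assoc _ _ _ e (add_zero i) (by omega)⟩
    · obtain ⟨y₁, rfl⟩ := Abelian.Ext.contravariant_sequence_exact₃ hS (K.obj j) y
        (Abelian.Ext.eq_zero_of_projective _) e
      rw [Abelian.Ext.comp_assoc _ _ _ e (add_zero i) (by omega)] at hy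
      obtain ⟨z, hz⟩ := Abelian.Ext.contravariant_sequence_exact₁ hS M _ e hy
      obtain ⟨j', z', rfl⟩ := (ih S.X₂).1 z
      let p := IsFiltered.leftToMax j j'
      let q := IsFiltered.rightToMax j j'
      let d := y₁.comp (Abelian.Ext.mk₀ (K.map p)) (add_zero i) -
        ((Abelian.Ext.mk₀ S.f).comp z' (zero_add i)).comp (Abelian.Ext.mk₀ (K.map q)) (add_zero i)
      have hd : d.comp (Abelian.Ext.mk₀ (f (IsFiltered.max j j'))) (add_zero i) = 0 := by
        simp only [d, sub_eq_add_neg, Abelian.Ext.add_comp, Abelian.Ext.neg_comp]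
        rw [Abelian.Ext.comp_assoc_of_third_deg_zero, Abelian.Ext.comp_assoc_of_third_deg_zero,
          Abelian.Ext.mk₀_comp_mk₀, Abelian.Ext.mk₀_comp_mk₀, h.nat, h.nat,
          Abelian.Ext.comp_assoc _ _ _ (zero_add i) (add_zero i) (by omega), hz, add_neg_cancel]
      obtain ⟨k, a, ha⟩ := (ih S.X₁).2 _ d hd
      refine ⟨k, p ≫ a, ?_⟩
      simp only [d, sub_eq_add_neg, Abelian.Ext.add_comp, Abelian.Ext.neg_comp, add_neg_eq_zero] at ha
      rw [Abelian.Ext.comp_assoc_of_third_deg_zero, Abelian.Ext.comp_assoc_of_third_deg_zero,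
        Abelian.Ext.mk₀_comp_mk₀, Abelian.Ext.mk₀_comp_mk₀, ← K.map_comp, ← K.map_comp] at ha
      rw [Abelian.Ext.comp_assoc _ _ _ e (add_zero i) (by omega), ha,
        Abelian.Ext.comp_assoc _ _ _ (zero_add i) (add_zero i) (by omega),
        hS.extClass_comp_assoc]

theorem IsElemColim.localCohomology [IsNoetherianRing R] (h : IsElemColim K f) (I : Ideal R) (i : ℕ) :
    IsElemColim (K ⋙ _root_.localCohomology I i) fun j => (_root_.localCohomology I i).map (f j) where
  nat a := by rw [Functor.comp_map, ← Functor.map_comp, h.nat]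
  rep z := by
    obtain ⟨n, x, rfl⟩ := exists_toH I i z
    obtain ⟨j, y, rfl⟩ := (h.ext_lift_and_kill i (qObj I n)).1 x
    exact ⟨j, toH I i _ n y, toH_natural I i (f j) y⟩
  zero j z hz := by
    obtain ⟨n, x, rfl⟩ := exists_toH I i z
    rw [toH_natural, toH_eq_zero_iff] at hz
    obtain ⟨m, hm, hz⟩ := hz
    rw [res_comp] at hz
    obtain ⟨k, a, ha⟩ := (h.ext_lift_and_kill i (qObj I m)).2 j _ hz
    refine ⟨k, a, ?_⟩
    rw [Functor.comp_map, ← toH_res I i hm, toH_natural, ha, map_zero]

theorem IsElemColim.gammaI [IsNoetherianRing R] (h : IsElemColim K f) (I : Ideal R) :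
    IsElemColim (K ⋙ DRing.gammaI I) fun j => (DRing.gammaI I).map (f j) where
  nat a := by rw [Functor.comp_map, ← Functor.map_comp, h.nat]
  rep m := by
    obtain ⟨j, x, hx⟩ := h.rep m.1
    obtain ⟨n, hn⟩ := m.2
    obtain ⟨l, v, hv⟩ := Submodule.fg_iff_exists_fin_generating_family.1 (IsNoetherian.noetherian (I ^ n))
    obtain ⟨k, a, ha⟩ := h.exists_kill l j (fun i => v i • x) fun i => by
      rw [map_smul, hx]; exact hn _ (hv ▸ Submodule.subset_span ⟨i, rfl⟩)
    have hk : ∀ b ∈ I ^ n, b • (K.map a).hom x = 0 := by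
      intro b hb
      rw [← hv] at hb
      induction hb using Submodule.span_induction with
      | mem b hb => obtain ⟨i, rfl⟩ := hb; rw [← map_smul]; exact ha i
      | zero => rw [zero_smul]
      | add b c _ _ hb hc => rw [add_smul, hb, hc, add_zero]
      | smul r b _ hb => rw [smul_assoc, hb, smul_zero]
    refine ⟨k, ⟨(K.map a).hom x, n, hk⟩, Subtype.ext ?_⟩
    show (f k).hom ((K.map a).hom x) = m.1
    rw [← ModuleCat.comp_apply, h.nat, hx]
  zero j x hx := by
    obtain ⟨k, a, ha⟩ := h.zero j x.1 (congrArg Subtype.val hx)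
    exact ⟨k, a, Subtype.ext ha⟩

theorem IsElemColim.idealTransform [IsNoetherianRing R] (h : IsElemColim K f) (I : Ideal R) :
    IsElemColim (K ⋙ LocCoh.idealTransform I) fun j => (LocCoh.idealTransform I).map (f j) where
  nat a := by rw [Functor.comp_map, ← Functor.map_comp, h.nat]
  rep z := by
    obtain ⟨n, g, rfl⟩ := exists_toD I z
    have : Module.FinitePresentation R (pObj I n) := Module.finitePresentation_of_finite R _
    obtain ⟨j, g', rfl⟩ := h.hom_lift (pObj I n) g
    exact ⟨j, toD I _ n g', toD_natural I (f j) g'⟩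
  zero j z hz := by
    obtain ⟨n, g, rfl⟩ := exists_toD I z
    rw [toD_natural, toD_eq_zero_iff] at hz
    obtain ⟨m, hm, hz⟩ := hz
    obtain ⟨k, a, ha⟩ := h.hom_kill (pObj I m) j (pMap I hm ≫ g) (by rw [Category.assoc]; exact hz)
    refine ⟨k, a, ?_⟩
    rw [Functor.comp_map, toD_natural, ← toD_res I hm, ← Category.assoc, ha, map_zero]

theorem isElemColim_of_isColimit {J : Type u} [Category.{u} J] [IsFiltered J] {K : J ⥤ ModuleCat.{u} R}
    {c : Cocone K} (hc : IsColimit c) : IsElemColim K c.ι.app where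
  nat a := c.w a
  rep := Concrete.isColimit_exists_rep K hc
  zero j x hx := by
    obtain ⟨k, a, b, hab⟩ := Concrete.isColimit_exists_of_rep_eq K hc (i := j) (j := j) x 0
      (hx.trans (map_zero _).symm)
    exact ⟨k, a, hab.trans (map_zero _)⟩

/-- A functor turning element-wise filtered colimits into such preserves filtered colimits. -/
theorem preservesColimitsOfShape_of_isElemColim {J : Type u} [Category.{u} J] [IsFiltered J]
    (F : ModuleCat.{u} R ⥤ ModuleCat.{u} R)
    (hF : ∀ {K : J ⥤ ModuleCat.{u} R} {M : ModuleCat.{u} R} {f : ∀ j, K.obj j ⟶ M},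
      IsElemColim K f → IsElemColim (K ⋙ F) fun j => F.map (f j)) :
    PreservesColimitsOfShape J F where
  preservesColimit {K} :=
    { preserves := fun {c} hc => by
        have h1 := isElemColim_of_isColimit (colimit.isColimit (K ⋙ F))
        have h2 := hF (isElemColim_of_isColimit hc)
        let φ := colimit.desc (K ⋙ F) (F.mapCocone c)
        have hφ : ∀ j x, φ.hom ((colimit.ι (K ⋙ F) j).hom x) = (F.map (c.ι.app j)).hom x := fun j x => by
          rw [← ModuleCat.comp_apply, colimit.ι_desc]; rfl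
        have : IsIso φ := by
          rw [ConcreteCategory.isIso_iff_bijective]
          refine ⟨(injective_iff_map_eq_zero φ.hom).2 fun z hz => ?_, fun z => ?_⟩
          · obtain ⟨j, x, rfl⟩ := h1.rep z
            obtain ⟨k, a, ha⟩ := h2.zero j x ((hφ j x).symm.trans hz)
            have := ConcreteCategory.congr_hom (colimit.w (K ⋙ F) a) x
            rw [ModuleCat.comp_apply, ha, map_zero] at this
            exact this.symm
          · obtain ⟨j, x, rfl⟩ := h2.rep z
            exact ⟨_, hφ j x⟩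
        have : IsIso ((colimit.isColimit (K ⋙ F)).desc (F.mapCocone c)) := this
        exact ⟨IsColimit.ofPointIso (t := F.mapCocone c) (colimit.isColimit (K ⋙ F))⟩ }

/-- The finitely generated submodules of `M`. -/
abbrev FGSub (M : ModuleCat.{u} R) : Type u := {N : Submodule R M // N.FG}

instance (M : ModuleCat.{u} R) : IsDirected (FGSub M) (· ≤ ·) :=
  ⟨fun a b => ⟨⟨a.1 ⊔ b.1, a.2.sup b.2⟩, (le_sup_left : a.1 ≤ a.1 ⊔ b.1), (le_sup_right : b.1 ≤ a.1 ⊔ b.1)⟩⟩

instance (M : ModuleCat.{u} R) : Nonempty (FGSub M) := ⟨⟨⊥, Submodule.fg_bot⟩⟩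

/-- The system of finitely generated submodules. -/
def fgSystem (M : ModuleCat.{u} R) : FGSub M ⥤ ModuleCat.{u} R where
  obj N := ModuleCat.of R N.1
  map a := ModuleCat.ofHom (Submodule.inclusion (leOfHom a))

theorem isElemColim_fgSystem (M : ModuleCat.{u} R) :
    IsElemColim (fgSystem M) fun N => ModuleCat.ofHom N.1.subtype where
  nat _ := rfl
  rep m := ⟨⟨Submodule.span R {m}, Submodule.fg_span_singleton m⟩, ⟨m, Submodule.mem_span_singleton_self m⟩, rfl⟩
  zero j x hx := ⟨j, 𝟙 j, by rw [CategoryTheory.Functor.map_id]; exact Subtype.ext hx⟩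

/-- Local cohomology vanishes if it vanishes on all finitely generated submodules. -/
theorem subsingleton_H_of_fg [IsNoetherianRing R] (I : Ideal R) (i : ℕ) (M : ModuleCat.{u} R)
    (h : ∀ N : Submodule R M, N.FG → Subsingleton ((_root_.localCohomology I i).obj (ModuleCat.of R N))) :
    Subsingleton ((_root_.localCohomology I i).obj M) :=
  subsingleton_of_forall_eq 0 fun z => by
    obtain ⟨N, x, rfl⟩ := ((isElemColim_fgSystem M).localCohomology I i).rep z
    have := h N.1 N.2
    rw [show x = 0 from Subsingleton.elim (α := (_root_.localCohomology I i).obj (ModuleCat.of R N.1)) _ _]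
    exact map_zero _

end Groth.Agent.LC
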