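import Groth.Agent.LC.Factor
import Mathlib.Algebra.Module.LocalizedModule.Int
import Mathlib.RingTheory.Localization.FractionRing
import Mathlib.LinearAlgebra.Dual.Lemmas

/-!
# `H^1` and associated primes
-/

universe u

open CategoryTheory Limits

namespace Groth.Agent.LC

variable {R : Type u} [CommRing R] [IsNoetherianRing R]

omit [IsNoetherianRing R] in
/-- A finite torsion-free module over a domain has enough functionals. -/
theorem exists_functional_of_torsionFree {A : Type u} [CommRing A] [IsDomain A] {L : Type u} [AddCommGroup L]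
    [Module A L] [Module.Finite A L] (htf : ∀ a : A, a ≠ 0 → IsSMulRegular L a) {z : L} (hz : z ≠ 0) :
    ∃ g : L →ₗ[A] A, g z ≠ 0 := by
  classical
  let K := Localization (nonZeroDivisors A)
  have : IsFractionRing A K := inferInstance
  let : Field K := IsFractionRing.toField A
  let mk := LocalizedModule.mkLinearMap (nonZeroDivisors A) L
  have hmk : mk z ≠ 0 := fun h => by
    obtain ⟨t, ht⟩ := (IsLocalizedModule.eq_zero_iff (nonZeroDivisors A) mk).1 h
    exact hz (htf t (nonZeroDivisors.coe_ne_zero t) (show (t : A) • z = (t : A) • 0 by rw [smul_zero]; exact ht))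
  obtain ⟨φ, hφ⟩ : ∃ φ : Module.Dual K (LocalizedModule (nonZeroDivisors A) L), φ (mk z) ≠ 0 := by
    by_contra h
    push Not at h
    exact hmk ((Module.forall_dual_apply_eq_zero_iff K (mk z)).1 h)
  let g₀ : L →ₗ[A] K := φ.restrictScalars A ∘ₗ mk
  obtain ⟨n, e, he⟩ := Module.Finite.exists_fin (R := A) (M := L)
  obtain ⟨c, hc⟩ := IsLocalization.exist_integer_multiples_of_finite (nonZeroDivisors A) (fun k => g₀ (e k))
  let ι := Algebra.linearMap A K
  have hι : Function.Injective ι := IsFractionRing.injective A K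
  have hrange : ∀ m, ((c : A) • g₀) m ∈ LinearMap.range ι := by
    intro m
    have hm : m ∈ (⊤ : Submodule A L) := trivial
    rw [← he] at hm
    induction hm using Submodule.span_induction with
    | mem x hx =>
      obtain ⟨k, rfl⟩ := hx
      obtain ⟨a, ha⟩ := hc k
      exact ⟨a, ha⟩
    | zero => simp
    | add x y _ _ hx hy => rw [map_add]; exact add_mem hx hy
    | smul a x _ hx => rw [map_smul]; exact Submodule.smul_mem _ a hx
  refine ⟨(LinearEquiv.ofInjective ι hι).symm.toLinearMap ∘ₗ ((c : A) • g₀).codRestrict _ hrange, fun h => hφ ?_⟩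
  have hm := congrArg (LinearEquiv.ofInjective ι hι) h
  simp only [LinearMap.comp_apply, LinearEquiv.coe_coe, LinearEquiv.apply_symm_apply, map_zero] at hm
  have hm' : (c : A) • g₀ z = 0 := congrArg Subtype.val hm
  rw [Algebra.smul_def, mul_eq_zero] at hm'
  refine hm'.resolve_left fun hc0 => nonZeroDivisors.coe_ne_zero c ?_
  exact hι (hc0.trans (map_zero _).symm)

variable (I : Ideal R) (p : Ideal R) [p.IsPrime]

omit [p.IsPrime] in
theorem finite_H1_pi (hp : Module.Finite R ((localCohomology I 1).obj (ModuleCat.of R (R ⧸ p)))) :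
    ∀ r : ℕ, Module.Finite R ((localCohomology I 1).obj (ModuleCat.of R (Fin r → R ⧸ p))) := by
  intro r
  induction r with
  | zero =>
    have := subsingleton_H_of_subsingleton I (ModuleCat.of R (Fin 0 → R ⧸ p)) 1
    infer_instance
  | succ r ih =>
    have hf := finite_H1_of_exact I (LinearMap.inl R (R ⧸ p) (Fin r → R ⧸ p))
      (LinearMap.snd R (R ⧸ p) (Fin r → R ⧸ p)) LinearMap.inl_injective LinearMap.snd_surjective
      Function.Exact.inl_snd hp ih
    exact Module.Finite.equiv ((localCohomology I 1).mapIso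
      (Fin.consLinearEquiv R fun _ : Fin (r + 1) => R ⧸ p).toModuleIso).toLinearEquiv

/-- Torsion-free `R/p`-modules embed into finite free ones, so their `H^1` is finite. -/
theorem finite_H1_of_torsionFree (hp : Module.Finite R ((localCohomology I 1).obj (ModuleCat.of R (R ⧸ p))))
    (L : Type u) [AddCommGroup L] [Module R L] [Module.Finite R L] (hkill : ∀ a ∈ p, ∀ z : L, a • z = 0)
    (hreg : ∀ a ∉ p, IsSMulRegular L a) :
    Module.Finite R ((localCohomology I 1).obj (ModuleCat.of R L)) := by
  have hJ : Module.IsTorsionBySet R L (p : Set R) := fun z ⟨a, ha⟩ => hkill a ha z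
  let : Module (R ⧸ p) L := hJ.module
  have : IsScalarTower R (R ⧸ p) L := hJ.isScalarTower
  have : Module.Finite (R ⧸ p) L := Module.Finite.of_restrictScalars_finite R _ _
  have htf : ∀ a : R ⧸ p, a ≠ 0 → IsSMulRegular L a := fun a ha => by
    obtain ⟨a, rfl⟩ := Ideal.Quotient.mk_surjective a
    have h1 := hreg a fun h => ha (Ideal.Quotient.eq_zero_iff_mem.2 h)
    intro x y hxy
    refine h1 ?_
    show a • x = a • y
    rw [← algebraMap_smul (R ⧸ p) a x, ← algebraMap_smul (R ⧸ p) a y]
    exact hxy
  obtain ⟨r, g, hg⟩ := Module.Finite.exists_fin (R := R ⧸ p) (M := L →ₗ[R ⧸ p] R ⧸ p)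
  let Φ : L →ₗ[R] (Fin r → R ⧸ p) := LinearMap.pi fun k => (g k).restrictScalars R
  have hΦ : Function.Injective Φ := by
    rw [injective_iff_map_eq_zero]
    intro z hz
    by_contra hne
    obtain ⟨f, hf⟩ := exists_functional_of_torsionFree htf hne
    refine hf ?_
    clear hf
    have hm : f ∈ (⊤ : Submodule (R ⧸ p) (L →ₗ[R ⧸ p] R ⧸ p)) := trivial
    rw [← hg] at hm
    induction hm using Submodule.span_induction with
    | mem x hx => obtain ⟨k, rfl⟩ := hx; exact congrFun hz k
    | zero => rfl
    | add x y _ _ hx hy => exact (congrArg₂ (· + ·) hx hy).trans (add_zero (0 : R ⧸ p))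
    | smul a x _ hx => exact (congrArg (a • ·) hx).trans (smul_zero a)
  exact finite_H1_of_injective I Φ hΦ (finite_H1_pi I p hp r)

/-- Modules on which everything outside `p` is regular and which live above `p`. -/
theorem finite_H1_of_primary (hp : Module.Finite R ((localCohomology I 1).obj (ModuleCat.of R (R ⧸ p))))
    (G : Type u) [AddCommGroup G] [Module R G] [Module.Finite R G]
    (hreg : ∀ a ∉ p, IsSMulRegular G a)
    (hass : ∀ q : Ideal R, q.IsPrime → q ≤ p → (Module.annihilator R G) ≤ q → q = p) :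
    Module.Finite R ((localCohomology I 1).obj (ModuleCat.of R G)) := by
  suffices ∀ N : Submodule R G, (∀ a ∉ p, IsSMulRegular (G ⧸ N) a) →
      Module.Finite R ((localCohomology I 1).obj (ModuleCat.of R (G ⧸ N))) by
    have h := this ⊥ fun a ha => (Submodule.quotEquivOfEqBot (⊥ : Submodule R G) rfl).isSMulRegular_congr a |>.2 (hreg a ha)
    exact Module.Finite.equiv
      ((localCohomology I 1).mapIso (Submodule.quotEquivOfEqBot (⊥ : Submodule R G) rfl).toModuleIso).toLinearEquiv
  intro N
  induction N using WellFoundedGT.induction with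
  | ind N ih =>
  intro hN
  rcases subsingleton_or_nontrivial (G ⧸ N) with hs | hn
  · have := subsingleton_H_of_subsingleton I (ModuleCat.of R (G ⧸ N)) 1
    infer_instance
  let Q := G ⧸ N
  let L : Submodule R Q := Submodule.torsionBySet R Q (p : Set R)
  have hLmem : ∀ z : Q, z ∈ L ↔ ∀ a ∈ p, a • z = 0 := fun z =>
    (Submodule.mem_torsionBySet_iff _ _).trans ⟨fun h a ha => h ⟨a, ha⟩, fun h a => h a.1 a.2⟩
  have hL : L ≠ ⊥ := by
    intro hbot
    obtain ⟨q, hq⟩ := associatedPrimes.nonempty R Q
    obtain ⟨hqp, z, hz⟩ := Groth.Agent.Alg6.mem_ass_iff.1 hq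
    have hz0 : z ≠ 0 := fun h => hqp.ne_top ((Ideal.eq_top_iff_one q).2 ((hz 1).2 (by rw [h, smul_zero])))
    have hle : q ≤ p := fun a ha => by
      by_contra hap
      exact hz0 (hN a hap (show a • z = a • 0 by rw [smul_zero]; exact (hz a).1 ha))
    have hann : Module.annihilator R G ≤ q := fun a ha => (hz a).2 (by
      obtain ⟨x, rfl⟩ := Submodule.Quotient.mk_surjective N z
      rw [← Submodule.Quotient.mk_smul, Module.mem_annihilator.1 ha x, Submodule.Quotient.mk_zero])
    obtain rfl := hass q hqp hle hann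
    exact hz0 ((Submodule.eq_bot_iff _).1 hbot z ((hLmem z).2 fun a ha => (hz a).1 ha))
  let N' := L.comap N.mkQ
  have hlt : N < N' := by
    refine lt_of_le_of_ne (fun x hx => by
      show N.mkQ x ∈ L
      rw [show N.mkQ x = 0 from (Submodule.Quotient.mk_eq_zero N).2 hx]
      exact zero_mem _) fun h => hL ?_
    rw [Submodule.eq_bot_iff]
    intro z hz
    obtain ⟨x, rfl⟩ := Submodule.Quotient.mk_surjective N z
    exact (Submodule.Quotient.mk_eq_zero N).2 (h.ge hz)
  let π : Q →ₗ[R] G ⧸ N' := N.mapQ N' LinearMap.id hlt.le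
  have hπ : Function.Surjective π := fun z => by
    obtain ⟨x, rfl⟩ := Submodule.Quotient.mk_surjective N' z
    exact ⟨Submodule.Quotient.mk x, rfl⟩
  have hker : Function.Exact L.subtype π := fun z => by
    obtain ⟨x, rfl⟩ := Submodule.Quotient.mk_surjective N z
    show Submodule.Quotient.mk x = (0 : G ⧸ N') ↔ _
    rw [Submodule.Quotient.mk_eq_zero]
    exact ⟨fun h => ⟨⟨_, h⟩, rfl⟩, fun ⟨y, hy⟩ => show Submodule.Quotient.mk x ∈ L from hy ▸ y.2⟩
  have hregL : ∀ a ∉ p, IsSMulRegular L a := fun a ha x y hxy => Subtype.ext (hN a ha (congrArg Subtype.val hxy))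
  have hN' : ∀ a ∉ p, IsSMulRegular (G ⧸ N') a := by
    intro a ha
    rw [isSMulRegular_iff_right_eq_zero_of_smul]
    intro w hw
    obtain ⟨z, rfl⟩ := hπ w
    rw [← map_smul] at hw
    obtain ⟨y, hy⟩ := (hker _).1 hw
    refine (hker z).2 ⟨⟨z, (hLmem z).2 fun b hb => hN a ha ?_⟩, rfl⟩
    show a • b • z = a • (0 : Q)
    rw [smul_zero, smul_comm, show a • z = y.1 from hy.symm, (hLmem _).1 y.2 b hb]
  exact finite_H1_of_exact I L.subtype π Subtype.val_injective hπ hker
    (finite_H1_of_torsionFree I p hp L (fun a ha z => Subtype.ext ((hLmem z.1).1 z.2 a ha)) hregL)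
    (ih N' hlt hN')

omit p in
/-- `H^1_I(M)` is finite once it is finite for the `R/p`, `p ∈ Ass M`, `I ⊄ p`. -/
theorem finite_H1_of_ass (M : Type u) [AddCommGroup M] [Module R M] [Module.Finite R M]
    (h : ∀ p ∈ associatedPrimes R M, ¬ I ≤ p → Module.Finite R ((localCohomology I 1).obj (ModuleCat.of R (R ⧸ p)))) :
    Module.Finite R ((localCohomology I 1).obj (ModuleCat.of R M)) := by
  suffices ∀ (T : Finset (Ideal R)) (M : Type u) [AddCommGroup M] [Module R M] [Module.Finite R M],
      associatedPrimes R M ⊆ T →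
      (∀ p ∈ associatedPrimes R M, ¬ I ≤ p → Module.Finite R ((localCohomology I 1).obj (ModuleCat.of R (R ⧸ p)))) →
      Module.Finite R ((localCohomology I 1).obj (ModuleCat.of R M)) from
    this (associatedPrimes.finite R M).toFinset M (by simp) h
  intro T
  induction T using Finset.strongInduction with
  | _ T ih =>
  intro M _ _ _ hT h
  rcases subsingleton_or_nontrivial M with hs | hn
  · have := subsingleton_H_of_subsingleton I (ModuleCat.of R M) 1
    infer_instance
  obtain ⟨P, hP, hmin⟩ := (associatedPrimes.finite R M).exists_minimal (associatedPrimes.nonempty R M) |>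
    fun ⟨P, hP⟩ => (⟨P, hP.1, fun Q hQ hle => le_antisymm hle (hP.2 hQ hle)⟩ :
      ∃ P ∈ associatedPrimes R M, ∀ Q ∈ associatedPrimes R M, Q ≤ P → Q = P)
  have hPp : P.IsPrime := hP.isPrime
  have hP1 : Module.Finite R ((localCohomology I 1).obj (ModuleCat.of R (R ⧸ P))) := by
    by_cases hIP : I ≤ P
    · have := subsingleton_of_torsion I 0 (ModuleCat.of R (R ⧸ P)) fun m => ⟨1, fun a ha => by
        rw [pow_one] at ha
        obtain ⟨m, rfl⟩ := Ideal.Quotient.mk_surjective m
        rw [Algebra.smul_def, Ideal.Quotient.algebraMap_eq, ← map_mul,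
          Ideal.Quotient.eq_zero_iff_mem.2 (Ideal.mul_mem_right m _ (hIP ha))]⟩
      infer_instance
    · exact h P hP hIP
  let ι := LocalizedModule.mkLinearMap P.primeCompl M
  let K := LinearMap.ker ι
  have hAssK : associatedPrimes R K ⊆ associatedPrimes R M :=
    associatedPrimes.subset_of_injective (f := K.subtype) Subtype.val_injective
  have hPK : P ∉ associatedPrimes R K := fun hcon => by
    obtain ⟨-, z, hz⟩ := Groth.Agent.Alg6.mem_ass_iff.1 hcon
    obtain ⟨t, ht⟩ := (IsLocalizedModule.eq_zero_iff P.primeCompl ι).1 z.2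
    exact t.2 ((hz t).2 (Subtype.ext ht))
  have hfinK : Module.Finite R ((localCohomology I 1).obj (ModuleCat.of R K)) :=
    ih (T.erase P) (Finset.erase_ssubset (hT hP)) K
      (fun q hq => Finset.mem_erase.2 ⟨fun e => hPK (e ▸ hq), hT (hAssK hq)⟩) (fun q hq => h q (hAssK hq))
  let G := LinearMap.range ι
  have hregG : ∀ a ∉ P, IsSMulRegular G a := fun a ha x y hxy => by
    have := (Module.End.isUnit_iff _).1 (IsLocalizedModule.map_units ι (⟨a, ha⟩ : P.primeCompl))
    exact Subtype.ext (this.1 (congrArg Subtype.val hxy))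
  have hassG : ∀ q : Ideal R, q.IsPrime → q ≤ P → Module.annihilator R G ≤ q → q = P := by
    intro q hq hle hann
    have hMq : Module.annihilator R M ≤ q := fun a ha => hann (Module.mem_annihilator.2 fun ⟨_, m, rfl⟩ =>
      Subtype.ext (by
        show a • ι m = 0
        rw [← map_smul, Module.mem_annihilator.1 ha, map_zero]))
    obtain ⟨q', hq', hq'le⟩ := Ideal.exists_minimalPrimes_le hMq
    have := hmin q' (Module.associatedPrimes.minimalPrimes_annihilator_subset_associatedPrimes R M hq') (hq'le.trans hle)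
    exact le_antisymm hle (this ▸ hq'le)
  exact finite_H1_of_exact I K.subtype ι.rangeRestrict Subtype.val_injective ι.surjective_rangeRestrict
    (fun z => ⟨fun hz => ⟨⟨z, congrArg Subtype.val hz⟩, rfl⟩, fun ⟨w, hw⟩ => Subtype.ext (hw ▸ w.2)⟩)
    hfinK (finite_H1_of_primary I P hP1 G hregG hassG)

end Groth.Agent.LC
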