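import Groth.Agent.LC.DepthExt
import Groth.Agent.Alg6.AssDepth
import Mathlib.Topology.Connected.Basic

/-!
# Connectedness of the punctured spectrum in depth two
-/

set_option autoImplicit false

universe u

open IsLocalRing
open scoped Pointwise

namespace Groth.Agent.LC

variable {R : Type u} [CommRing R] [IsLocalRing R] [IsNoetherianRing R]

theorem exists_regular_of_depth {M : Type u} [AddCommGroup M] [Module R M] [Module.Finite R M] [Nontrivial M] {k : ℕ}
    (hk : 0 < k) (h : (k : ℕ∞) ≤ LocCoh.depth R M) : ∃ x ∈ maximalIdeal R, IsSMulRegular M x := by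
  obtain ⟨rs, hrs, hmem, hlen⟩ := Alg6.exists_length_ge_of_le_idealDepth
    (smul_top_ne_top_of_le_maximal (R := R) (M := M) (J := maximalIdeal R) le_rfl) h
  rcases rs with _ | ⟨x, rs⟩
  · simp at hlen; omega
  · exact ⟨x, hmem x List.mem_cons_self, ((RingTheory.Sequence.isWeaklyRegular_cons_iff _ _ _).1 hrs).1⟩

theorem eq_bot_or_eq_bot_of_mul_eq_bot (h : (2 : ℕ∞) ≤ LocCoh.depth R R) {I J : Ideal R} (hI : I ≠ ⊤) (hJ : J ≠ ⊤)
    (hmul : I * J = ⊥) (hrad : maximalIdeal R ≤ (I ⊔ J).radical) : I = ⊥ ∨ J = ⊥ := by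
  obtain ⟨z0, hz0, hz0r⟩ := exists_regular_of_depth (M := R) (k := 2) two_pos h
  obtain ⟨N, hN⟩ := hrad hz0
  have hzm : z0 ^ N ∈ maximalIdeal R := sup_le (le_maximalIdeal hI) (le_maximalIdeal hJ) hN
  have hzreg : IsSMulRegular R (z0 ^ N) := hz0r.pow N
  obtain ⟨a, ha, b, hb, hab⟩ := Submodule.mem_sup.1 hN
  let Q := QuotSMulTop (z0 ^ N) R
  haveI : Nontrivial Q := Submodule.Quotient.nontrivial_iff.2 (by
    rw [← Submodule.ideal_span_singleton_smul]
    exact smul_top_ne_top_of_le_maximal (R := R) (M := R) (J := Ideal.span {z0 ^ N})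
      ((Ideal.span_singleton_le_iff_mem _).2 hzm))
  obtain ⟨w, hw, hwreg⟩ := exists_regular_of_depth (M := Q) (k := 1) one_pos
    ((le_idealDepth_quotSMulTop_iff (maximalIdeal R) hzm hzreg 1).2 h)
  have hzero : ∀ i ∈ I, ∀ j ∈ J, i * j = 0 := fun i hi j hj => by
    have := Ideal.mul_mem_mul hi hj
    rwa [hmul, Ideal.mem_bot] at this
  have haz : ∃ r, a = r * (a + b) := by
    obtain ⟨M', hM'⟩ := hrad hw
    obtain ⟨i, hi, j, hj, hij⟩ := Submodule.mem_sup.1 hM'
    have h1 : w ^ M' • (Submodule.Quotient.mk a : Q) = 0 := by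
      rw [← Submodule.Quotient.mk_smul, Groth.Agent.Alg6.mem_pointwise_smul_top_iff]
      refine ⟨i, ?_⟩
      show z0 ^ N • i = w ^ M' • a
      rw [smul_eq_mul, smul_eq_mul, ← hab, ← hij, add_mul, add_mul, mul_comm b i, hzero i hi b hb, mul_comm j a,
        hzero a ha j hj, mul_comm a i]
    have h2 : (Submodule.Quotient.mk a : Q) = 0 := (hwreg.pow M') (show w ^ M' • _ = w ^ M' • (0 : Q) by rw [h1, smul_zero])
    rw [Groth.Agent.Alg6.mem_pointwise_smul_top_iff] at h2
    obtain ⟨r, hr⟩ := h2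
    refine ⟨r, ?_⟩
    rw [hab, ← hr, smul_eq_mul, mul_comm]
  obtain ⟨r, hr⟩ := haz
  have kill : ∀ x ∈ I, x ∈ J → x = 0 := fun x hxI hxJ => hzreg.right_eq_zero_of_smul (by
    rw [smul_eq_mul, ← hab, add_mul, hzero a ha x hxJ, mul_comm, hzero x hxI b hb, add_zero])
  rcases IsLocalRing.isUnit_or_isUnit_one_sub_self r with hu | hu
  · obtain ⟨u, rfl⟩ := hu
    have hbI : b ∈ I := by
      have : b = (↑u⁻¹ : R) * a - a := by
        rw [eq_sub_iff_add_eq, add_comm]
        conv_rhs => rw [hr, ← mul_assoc, Units.inv_mul, one_mul]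
      rw [this]
      exact sub_mem (I.mul_mem_left _ ha) ha
    have hb0 := kill b hbI hb
    right
    refine (Submodule.eq_bot_iff _).2 fun x hx => hzreg.right_eq_zero_of_smul ?_
    rw [smul_eq_mul, ← hab, hb0, add_zero, hzero a ha x hx]
  · obtain ⟨u, hu⟩ := hu
    have haJ : a ∈ J := by
      have : a = (↑u⁻¹ : R) * (r * b) := by
        rw [eq_comm, Units.inv_mul_eq_iff_eq_mul, hu]
        linear_combination (norm := ring_nf) -hr
      rw [this]
      exact J.mul_mem_left _ (J.mul_mem_left _ hb)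
    have ha0 := kill a ha haJ
    left
    refine (Submodule.eq_bot_iff _).2 fun x hx => hzreg.right_eq_zero_of_smul ?_
    rw [smul_eq_mul, ← hab, ha0, zero_add, mul_comm, hzero x hx b hb]

theorem isConnected_punctured (h : (2 : ℕ∞) ≤ LocCoh.depth R R) :
    IsConnected {x : PrimeSpectrum R | x.asIdeal ≠ maximalIdeal R} := by
  constructor
  · by_contra hne
    rw [Set.not_nonempty_iff_eq_empty] at hne
    obtain ⟨x, hx, hreg⟩ := exists_regular_of_depth (M := R) (k := 2) two_pos h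
    have hnil : x ∈ nilradical R := by
      rw [nilradical_eq_sInf, Submodule.mem_sInf]
      intro p hp
      have : p = maximalIdeal R := not_not.1 fun hc =>
        (Set.eq_empty_iff_forall_notMem.1 hne) ⟨p, hp⟩ hc
      rwa [this]
    obtain ⟨k, hk⟩ := hnil
    exact one_ne_zero ((hreg.pow k).right_eq_zero_of_smul (show x ^ k • (1 : R) = 0 by rw [smul_eq_mul, mul_one, hk]))
  rw [isPreconnected_iff_subset_of_disjoint_closed]
  intro u v hu hv huv hd
  obtain ⟨I, rfl⟩ := (PrimeSpectrum.isClosed_iff_zeroLocus_ideal u).1 hu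
  obtain ⟨J, rfl⟩ := (PrimeSpectrum.isClosed_iff_zeroLocus_ideal v).1 hv
  by_cases hI : I = ⊤
  · right
    intro x hx
    exact (huv hx).resolve_left fun hxI => x.isPrime.ne_top (top_unique (hI ▸ hxI))
  by_cases hJ : J = ⊤
  · left
    intro x hx
    exact (huv hx).resolve_right fun hxJ => x.isPrime.ne_top (top_unique (hJ ▸ hxJ))
  have hnil : I * J ≤ (⊥ : Ideal R).radical := by
    rw [Ideal.radical_eq_sInf]
    refine le_sInf fun p hp => ?_
    haveI := hp.2
    by_cases hpm : p = maximalIdeal R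
    · exact hpm ▸ Ideal.mul_le_left.trans (le_maximalIdeal hI)
    · rcases huv (show (⟨p, hp.2⟩ : PrimeSpectrum R) ∈ _ from hpm) with h1 | h1
      · exact Ideal.mul_le_left.trans h1
      · exact Ideal.mul_le_right.trans h1
  obtain ⟨k, hk⟩ := Ideal.exists_pow_le_of_le_radical_of_fg hnil (IsNoetherian.noetherian _)
  have hk1 : I ^ (k + 1) * J ^ (k + 1) = ⊥ := by
    rw [← mul_pow]
    exact le_bot_iff.1 ((Ideal.pow_le_pow_right (Nat.le_succ k)).trans hk)
  have hrad : maximalIdeal R ≤ (I ^ (k + 1) ⊔ J ^ (k + 1)).radical := by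
    rw [Ideal.radical_eq_sInf]
    refine le_sInf fun p hp => ?_
    haveI := hp.2
    by_contra hm
    have hpm : p ≠ maximalIdeal R := fun e => hm e.ge
    have hxI : (⟨p, hp.2⟩ : PrimeSpectrum R) ∈ PrimeSpectrum.zeroLocus (I : Set R) :=
      fun a ha => hp.2.mem_of_pow_mem _ (hp.1 (Submodule.mem_sup_left (Ideal.pow_mem_pow ha _)))
    have hxJ : (⟨p, hp.2⟩ : PrimeSpectrum R) ∈ PrimeSpectrum.zeroLocus (J : Set R) :=
      fun a ha => hp.2.mem_of_pow_mem _ (hp.1 (Submodule.mem_sup_right (Ideal.pow_mem_pow ha _)))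
    exact Set.eq_empty_iff_forall_notMem.1 hd _ ⟨hpm, hxI, hxJ⟩
  rcases eq_bot_or_eq_bot_of_mul_eq_bot h (fun e => hI (top_unique (e.ge.trans (Ideal.pow_le_self k.succ_ne_zero))))
    (fun e => hJ (top_unique (e.ge.trans (Ideal.pow_le_self k.succ_ne_zero)))) hk1 hrad with h0 | h0
  · left
    intro x _ a ha
    refine x.isPrime.mem_of_pow_mem (k + 1) ?_
    have := Ideal.pow_mem_pow ha (k + 1)
    rw [h0, Ideal.mem_bot] at this
    rw [this]; exact zero_mem _
  · right
    intro x _ a ha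
    refine x.isPrime.mem_of_pow_mem (k + 1) ?_
    have := Ideal.pow_mem_pow ha (k + 1)
    rw [h0, Ideal.mem_bot] at this
    rw [this]; exact zero_mem _

end Groth.Agent.LC
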