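import Groth.Agent.LC.CohLoc
import Groth.Agent.LC.HTensor

/-!
# Annihilation of local cohomology is a local condition

If for every prime `p ⊉ b` some element outside `p` kills `H^l_{a+p}(M)` for `l ≤ i`, then a power of
`b` kills `H^l_a(M)` for `l ≤ i`.
-/

universe u

open CategoryTheory Limits

namespace Groth.Agent.LC

variable {R : Type u} [CommRing R] [IsNoetherianRing R]

omit [IsNoetherianRing R] in
theorem smul_loc_injective (x : R) (a : Ideal R) (l : ℕ) (M : ModuleCat.{u} R) :
    Function.Injective fun v : (localCohomology a l).obj ((locF x).obj M) => x • v := by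
  let φ : (locF x).obj M ⟶ (locF x).obj M := x • 𝟙 _
  let inv : (locF x).obj M ⟶ (locF x).obj M := ModuleCat.ofHom
    (((IsLocalizedModule.map_units (LocalizedModule.mkLinearMap (Submonoid.powers x) M)
      ⟨x, Submonoid.mem_powers x⟩).unit⁻¹ : (Module.End R (LocalizedModule (Submonoid.powers x) M))ˣ) :
        Module.End R (LocalizedModule (Submonoid.powers x) M))
  have hcomp : φ ≫ inv = 𝟙 _ := by
    refine ModuleCat.hom_ext (LinearMap.ext fun v => ?_)
    exact LinearMap.congr_fun ((IsLocalizedModule.map_units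
      (LocalizedModule.mkLinearMap (Submonoid.powers x) M) ⟨x, Submonoid.mem_powers x⟩).val_inv_mul) v
  have h : ∀ v, ((localCohomology a l).map φ).hom v = x • v := fun v => by
    rw [map_smul_apply, CategoryTheory.Functor.map_id]
    rfl
  intro u v huv
  have h2 := congrArg ((localCohomology a l).map inv).hom ((h u).trans (huv.trans (h v).symm))
  rw [← ModuleCat.comp_apply, ← ModuleCat.comp_apply, ← Functor.map_comp, hcomp,
    CategoryTheory.Functor.map_id] at h2
  exact h2

omit [IsNoetherianRing R] in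
theorem eq_zero_of_pow_smul_loc (x : R) (a : Ideal R) (l : ℕ) (M : ModuleCat.{u} R) (k : ℕ)
    {v : (localCohomology a l).obj ((locF x).obj M)} (h : x ^ k • v = 0) : v = 0 := by
  induction k with
  | zero => rwa [pow_zero, one_smul] at h
  | succ k ih =>
    refine ih (smul_loc_injective x a l M ?_)
    show x • x ^ k • v = x • 0
    rw [smul_zero, ← mul_smul, ← pow_succ', h]

/-- The step: adjoining `x` to `a`. -/
theorem kill_step (a : Ideal R) (x s : R) (i N : ℕ) (M : ModuleCat.{u} R)
    (hx : ∀ l ≤ i, ∀ z : (localCohomology a l).obj M, (x * s) ^ N • z = 0) :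
    (∀ l ≤ i, ∀ z : (localCohomology a l).obj M, ∃ w, supH x a l M w = s ^ N • z) ∧
      ∀ y : R, (∀ l ≤ i, ∀ z : (localCohomology a l).obj M, (y * s) ^ N • z = 0) →
        ∀ l ≤ i, ∀ w : (localCohomology (a ⊔ Ideal.span {x}) l).obj M, (y * s) ^ (N + N) • w = 0 := by
  constructor
  · intro l hl z
    refine (exact_supH_locH x a l M (s ^ N • z)).1 (eq_zero_of_pow_smul_loc x a l M N ?_)
    rw [← map_smul, ← mul_smul, ← mul_pow, hx l hl z, map_zero]
  · intro y hy l hl w
    rcases l with _ | l
    · have h0 : supH x a 0 M ((y * s) ^ (N + N) • w) = 0 := by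
        rw [map_smul]
        exact (congrArg (fun c : R => c • supH x a 0 M w) (pow_add (y * s) N N)).trans
          ((mul_smul _ _ _).trans (hy 0 hl _))
      exact supH_zero_injective x a M (h0.trans (map_zero _).symm)
    · obtain ⟨δ, hδ1, hδ2⟩ := exists_δloc x a l M
      have h0 : supH x a (l + 1) M ((y * s) ^ N • w) = 0 := by rw [map_smul]; exact hy (l + 1) hl _
      obtain ⟨v, hv⟩ := (hδ2 _).1 h0
      obtain ⟨k, hk⟩ := isPowerTorsion_obj (a ⊔ Ideal.span {x}) (l + 1) M (δ v)
      have h1 : δ (x ^ k • v) = 0 := by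
        rw [map_smul]
        exact hk _ (Ideal.pow_mem_pow (Ideal.mem_sup_right (Ideal.mem_span_singleton_self x)) k)
      obtain ⟨u, hu⟩ := (hδ1 _).1 h1
      have h2 : s ^ N • v = 0 := by
        refine eq_zero_of_pow_smul_loc x a l M (N + k) ?_
        rw [← mul_smul, show x ^ (N + k) * s ^ N = (x * s) ^ N * x ^ k by rw [pow_add, mul_pow]; ring,
          mul_smul, ← hu, ← map_smul, hx l (by omega) u, map_zero]
      rw [pow_add, mul_smul, ← hv, ← map_smul, mul_pow, mul_smul, h2, smul_zero, map_zero]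

theorem kill_of_list (s s₁ : R) (i : ℕ) (M : ModuleCat.{u} R) (xs : List R) :
    ∀ (a : Ideal R) (N : ℕ),
      (∀ x ∈ xs, ∀ l ≤ i, ∀ z : (localCohomology a l).obj M, (x * s) ^ N • z = 0) →
      (∀ l ≤ i, ∀ z : (localCohomology (a ⊔ Ideal.ofList xs) l).obj M, s₁ • z = 0) →
      ∃ k : ℕ, ∀ l ≤ i, ∀ z : (localCohomology a l).obj M, (s₁ * s ^ k) • z = 0 := by
  induction xs with
  | nil =>
    intro a N _ h
    refine ⟨0, fun l hl => ?_⟩
    rw [Ideal.ofList_nil, sup_bot_eq] at h
    intro z
    rw [pow_zero, mul_one]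
    exact h l hl z
  | cons x xs ih =>
    intro a N hx h
    obtain ⟨hsurj, hnext⟩ := kill_step a x s i N M (hx x List.mem_cons_self)
    have h' : ∀ l ≤ i, ∀ z : (localCohomology ((a ⊔ Ideal.span {x}) ⊔ Ideal.ofList xs) l).obj M,
        s₁ • z = 0 := by
      rw [sup_assoc, ← Ideal.ofList_cons]
      exact h
    obtain ⟨k, hk⟩ := ih (a ⊔ Ideal.span {x}) (N + N)
      (fun y hy => hnext y (hx y (List.mem_cons_of_mem _ hy))) h'
    refine ⟨k + N, fun l hl z => ?_⟩
    obtain ⟨w, hw⟩ := hsurj l hl z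
    rw [pow_add, ← mul_assoc, mul_smul, ← hw, ← map_smul, hk l hl w, map_zero]

/-- The local criterion for annihilation. -/
theorem exists_pow_kill_of_local (a b : Ideal R) (i : ℕ) (M : ModuleCat.{u} R)
    (h : ∀ p : Ideal R, p.IsPrime → ¬ b ≤ p →
      ∃ s ∉ p, ∀ l ≤ i, ∀ z : (localCohomology (a ⊔ p) l).obj M, s • z = 0) :
    ∀ l ≤ i, b ≤ (Module.annihilator R ((localCohomology a l).obj M)).radical := by
  classical
  let K : Ideal R := ((Finset.range (i + 1)).inf fun l => Module.annihilator R ((localCohomology a l).obj M)).radical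
  have hK : ∀ y, y ∈ K ↔ ∃ N, ∀ l ≤ i, ∀ z : (localCohomology a l).obj M, y ^ N • z = 0 := by
    intro y
    simp only [K, Ideal.mem_radical_iff, Submodule.mem_finsetInf, Finset.mem_range, Module.mem_annihilator]
    exact exists_congr fun N => forall_congr' fun l =>
      ⟨fun h hl => h (Nat.lt_succ_of_le hl), fun h hl => h (Nat.le_of_lt_succ hl)⟩
  suffices hbK : b ≤ K by
    intro l hl y hy
    obtain ⟨N, hN⟩ := (hK y).1 (hbK hy)
    exact ⟨N, Module.mem_annihilator.2 (hN l hl)⟩
  by_contra hbK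
  obtain ⟨p, hp, hbp⟩ : ∃ p ∈ K.minimalPrimes, ¬ b ≤ p := by
    by_contra hcon
    push Not at hcon
    apply hbK
    refine le_trans ?_ (Ideal.radical_idem ((Finset.range (i + 1)).inf fun l =>
      Module.annihilator R ((localCohomology a l).obj M))).le
    rw [← Ideal.sInf_minimalPrimes]
    exact le_sInf fun P hP => hcon P hP
  have hpp : p.IsPrime := hp.1.1
  let others := (Ideal.finite_minimalPrimes_of_isNoetherianRing R K).toFinset.erase p
  have hnot : ∀ P ∈ others, ∃ c ∈ P, c ∉ p := by
    intro P hP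
    obtain ⟨hne, hP'⟩ := Finset.mem_erase.1 hP
    have hPm : P ∈ K.minimalPrimes := (Ideal.finite_minimalPrimes_of_isNoetherianRing R K).mem_toFinset.1 hP'
    exact SetLike.not_le_iff_exists.1 fun hle => hne (le_antisymm hle (hp.2 hPm.1 hle))
  choose! c hc hcp using hnot
  let s := ∏ P ∈ others, c P
  have hs : s ∉ p := Submonoid.prod_mem p.primeCompl fun P hP => hcp P hP
  have hxs : ∀ x ∈ p, x * s ∈ K := by
    intro x hx
    refine (Ideal.radical_idem ((Finset.range (i + 1)).inf fun l =>
      Module.annihilator R ((localCohomology a l).obj M))).le ?_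
    rw [← Ideal.sInf_minimalPrimes]
    refine Ideal.mem_sInf.2 fun P hP => ?_
    rcases eq_or_ne P p with rfl | hne
    · exact Ideal.mul_mem_right _ _ hx
    · have hPo : P ∈ others := Finset.mem_erase.2
        ⟨hne, (Ideal.finite_minimalPrimes_of_isNoetherianRing R K).mem_toFinset.2 hP⟩
      exact Ideal.mul_mem_left _ _ (P.mem_of_dvd (Finset.dvd_prod_of_mem c hPo) (hc P hPo))
  obtain ⟨g, hg⟩ := IsNoetherian.noetherian p
  choose! Nx hNx using fun x (hx : x ∈ g) =>
    (hK (x * s)).1 (hxs x (by rw [← hg]; exact Submodule.subset_span hx))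
  let N := g.sup Nx
  obtain ⟨s₁, hs₁, hk₁⟩ := h p hpp hbp
  obtain ⟨k, hk⟩ := kill_of_list s s₁ i M g.toList a N
    (fun x hx l hl z => by
      have hle : Nx x ≤ N := Finset.le_sup (Finset.mem_toList.1 hx)
      rw [← Nat.sub_add_cancel hle, pow_add, mul_smul, hNx x (Finset.mem_toList.1 hx) l hl, smul_zero])
    (by
      rw [show Ideal.ofList g.toList = p by
        rw [← hg]; exact congrArg Ideal.span (Set.ext fun z => Finset.mem_toList)]
      exact hk₁)
  have : s₁ * s ^ k ∈ K := (hK _).2 ⟨1, fun l hl z => by rw [pow_one]; exact hk l hl z⟩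
  exact (p.primeCompl.mul_mem hs₁ (p.primeCompl.pow_mem hs k)) (hp.1.2 this)

end Groth.Agent.LC
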