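import Groth.Prelude.Def_Koszul
import Mathlib

/-!
# The Koszul complex of a multiple of a sequence
-/

set_option autoImplicit false

universe u

open CategoryTheory CategoryTheory.Limits CochainComplex

namespace Groth.Agent.LC.KScale

variable {A : Type u} [CommRing A]

/-- The Koszul complex of `x • l` is that of `l` with differentials multiplied by `x`. -/
theorem exists_scale_iso (x : A) : ∀ l : List A,
    ∃ e : ∀ n, (Koszul.koszul A (l.map fun f => x * f)).X n ≅ (Koszul.koszul A l).X n,
      ∀ i j, i + 1 = j → (Koszul.koszul A (l.map fun f => x * f)).d i j ≫ (e j).hom =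
        x • ((e i).hom ≫ (Koszul.koszul A l).d i j)
  | [] => by
    refine ⟨fun n => Iso.refl _, fun i j _ => ?_⟩
    have h : ((CochainComplex.singleFunctor (ModuleCat.{u} A) 0).obj (ModuleCat.of A A)).d i j = 0 :=
      HomologicalComplex.single_obj_d (ComplexShape.up ℤ) 0 (ModuleCat.of A A) i j
    show ((CochainComplex.singleFunctor (ModuleCat.{u} A) 0).obj (ModuleCat.of A A)).d i j ≫ 𝟙 _ =
      x • (𝟙 _ ≫ ((CochainComplex.singleFunctor (ModuleCat.{u} A) 0).obj (ModuleCat.of A A)).d i j)
    rw [h, zero_comp, comp_zero, smul_zero]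
  | f :: l => by
    obtain ⟨e, he⟩ := exists_scale_iso x l
    let φ := f • 𝟙 (Koszul.koszul A l)
    let φ' := (x * f) • 𝟙 (Koszul.koszul A (l.map fun f => x * f))
    let a : ∀ n, (mappingCone φ').X n ⟶ (mappingCone φ).X n := fun n =>
      (mappingCone.fst φ').1.v n (n + 1) rfl ≫ (e (n + 1)).hom ≫ (mappingCone.inl φ).v (n + 1) n (by omega) +
        (mappingCone.snd φ').v n n (add_zero n) ≫ (e n).hom ≫ (mappingCone.inr φ).f n
    let b : ∀ n, (mappingCone φ).X n ⟶ (mappingCone φ').X n := fun n =>
      (mappingCone.fst φ).1.v n (n + 1) rfl ≫ (e (n + 1)).inv ≫ (mappingCone.inl φ').v (n + 1) n (by omega) +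
        (mappingCone.snd φ).v n n (add_zero n) ≫ (e n).inv ≫ (mappingCone.inr φ').f n
    let E : ∀ n, (mappingCone φ').X n ≅ (mappingCone φ).X n := fun n =>
      { hom := a n
        inv := b n
        hom_inv_id := by
          refine (mappingCone.ext_from_iff φ' (n + 1) n rfl _ _).2 ⟨?_, ?_⟩ <;> simp [a, b]
        inv_hom_id := by
          refine (mappingCone.ext_from_iff φ (n + 1) n rfl _ _).2 ⟨?_, ?_⟩ <;> simp [a, b] }
    refine ⟨E, fun i j hij => ?_⟩
    obtain rfl : j = i + 1 := hij.symm
    show (mappingCone φ').d i (i + 1) ≫ a (i + 1) = x • (a i ≫ (mappingCone φ).d i (i + 1))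
    refine (mappingCone.ext_to_iff φ (i + 1) (i + 1 + 1) rfl _ _).2 ⟨?_, ?_⟩
    · have h1 := he (i + 1) (i + 1 + 1) rfl
      simp only [a, Category.assoc, Preadditive.add_comp, mappingCone.inl_v_fst_v,
        mappingCone.inr_f_fst_v, Category.comp_id, comp_zero, add_zero, Preadditive.comp_add, Linear.smul_comp,
        mappingCone.d_fst_v φ i (i + 1) (i + 1 + 1) rfl rfl,
        mappingCone.d_fst_v_assoc φ' i (i + 1) (i + 1 + 1) rfl rfl, Preadditive.comp_neg,
        mappingCone.inl_v_fst_v_assoc, mappingCone.inr_f_fst_v_assoc, zero_comp, neg_zero]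
      simp only [Preadditive.neg_comp, Category.assoc, h1, Linear.comp_smul, smul_neg]
    · have h0 := he i (i + 1) rfl
      simp only [a, Category.assoc, Preadditive.add_comp, mappingCone.inl_v_snd_v,
        mappingCone.inr_f_snd_v, Category.comp_id, comp_zero, zero_add, Preadditive.comp_add, Linear.smul_comp,
        mappingCone.d_snd_v φ i (i + 1) rfl, mappingCone.d_snd_v_assoc φ' i (i + 1) rfl,
        mappingCone.inl_v_fst_v_assoc, mappingCone.inr_f_fst_v_assoc, mappingCone.inl_v_snd_v_assoc,
        mappingCone.inr_f_snd_v_assoc, zero_comp, add_zero, smul_add]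
      rw [h0]
      simp [φ, φ', mul_smul, Linear.comp_smul, Linear.smul_comp]

/-- Non-zero-divisors are regular on the terms of the Koszul complex. -/
theorem isSMulRegular_X {x : A} (hx : x ∈ nonZeroDivisors A) : ∀ (l : List A) (n : ℤ),
    IsSMulRegular ((Koszul.koszul A l).X n) x
  | [], n => by
    refine isSMulRegular_iff_right_eq_zero_of_smul.2 fun z hz => ?_
    by_cases hn : n = 0
    · subst hn
      let e : ((CochainComplex.singleFunctor (ModuleCat.{u} A) 0).obj (ModuleCat.of A A)).X 0 ≅ ModuleCat.of A A :=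
        HomologicalComplex.singleObjXSelf (ComplexShape.up ℤ) 0 (ModuleCat.of A A)
      have h1 : x * (e.toLinearEquiv z : A) = 0 := by
        rw [← smul_eq_mul]
        exact ((map_smul e.toLinearEquiv x z).symm.trans ((congrArg e.toLinearEquiv hz).trans (map_zero _)))
      have h2 := (mem_nonZeroDivisors_iff.1 hx).1 _ h1
      exact e.toLinearEquiv.injective (h2.trans (map_zero _).symm)
    · have : Subsingleton (((CochainComplex.singleFunctor (ModuleCat.{u} A) 0).obj (ModuleCat.of A A)).X n) :=
        ModuleCat.isZero_iff_subsingleton.1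
          (HomologicalComplex.isZero_single_obj_X (ComplexShape.up ℤ) 0 _ n hn)
      exact @Subsingleton.elim _ this _ _
  | f :: l, n => by
    refine isSMulRegular_iff_right_eq_zero_of_smul.2 fun z hz => ?_
    let φ := f • 𝟙 (Koszul.koszul A l)
    have h : ((mappingCone.fst φ).1.v n (n + 1) rfl).hom z = 0 := by
      refine isSMulRegular_iff_right_eq_zero_of_smul.1 (isSMulRegular_X hx l (n + 1)) _ ?_
      rw [← map_smul]
      exact (congrArg _ hz).trans (map_zero _)
    have h' : ((mappingCone.snd φ).v n n (add_zero n)).hom z = 0 := by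
      refine isSMulRegular_iff_right_eq_zero_of_smul.1 (isSMulRegular_X hx l n) _ ?_
      rw [← map_smul]
      exact (congrArg _ hz).trans (map_zero _)
    have := ConcreteCategory.congr_hom (mappingCone.id_X φ n (n + 1) rfl) z
    refine this.symm.trans ?_
    simp only [ModuleCat.hom_add, ModuleCat.hom_comp, LinearMap.add_apply, LinearMap.comp_apply]
    erw [h, h', map_zero, map_zero, add_zero]
    rfl

end Groth.Agent.LC.KScale
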