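import Groth.Agent.LC.ConnMain
import Groth.Agent.LC.CompleteCatenary
import Groth.Prelude.Def_LefX
import Groth.Prelude.Def_FEt
import Mathlib.RingTheory.Ideal.KrullsHeightTheorem

/-!
# Dimension and connectedness of punctured spectra
-/

universe u

open IsLocalRing Topology TopologicalSpace

namespace Groth.Agent.LC

variable {A : Type u} [CommRing A] [IsLocalRing A]

/-- The punctured spectrum as a set. -/
abbrev punct (A : Type u) [CommRing A] [IsLocalRing A] : Set (PrimeSpectrum A) := {closedPoint A}ᶜ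

theorem dim_subset (T : Set (PrimeSpectrum A)) [QuasiSober ↥T] :
    topologicalKrullDim ↥T = Order.krullDim ↥T := by
  refine (@Order.krullDim_eq_of_orderIso _ _ _ (specializationOrder ↥T).toPreorder
    (irreducibleSetEquivPoints (α := ↥T))).trans ?_
  refine Eq.trans ?_ Order.krullDim_orderDual
  exact @Order.krullDim_eq_of_orderIso _ _ (specializationOrder ↥T).toPreorder _
    (@RelIso.mk ↥T (↥T)ᵒᵈ (fun a b => (specializationOrder ↥T).le a b) (fun a b => a ≤ b) OrderDual.toDual
      fun {a b} => ((subtype_specializes_iff b a).trans (PrimeSpectrum.le_iff_specializes b.1 a.1).symm).symm)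

theorem isOpen_punct : IsOpen (punct A) := (isClosed_singleton_closedPoint (R := A)).isOpen_compl

theorem quasiSober_punct : QuasiSober ↥(punct A) := isOpen_punct.isOpenEmbedding_subtypeVal.quasiSober

theorem le_closedPoint (x : PrimeSpectrum A) : x ≤ closedPoint A := le_maximalIdeal x.isPrime.ne_top

theorem dim_zeroLocus_punct (I : Ideal A) (hne : (PrimeSpectrum.zeroLocus (I : Set A) ∩ punct A).Nonempty) :
    ringKrullDim (A ⧸ I) = topologicalKrullDim ↥(PrimeSpectrum.zeroLocus (I : Set A) ∩ punct A) + 1 := by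
  classical
  let T := PrimeSpectrum.zeroLocus (I : Set A) ∩ punct A
  have : QuasiSober ↥(PrimeSpectrum.zeroLocus (I : Set A)) :=
    (PrimeSpectrum.isClosed_zeroLocus _).isClosedEmbedding_subtypeVal.quasiSober
  have hemb : IsOpenEmbedding (Set.inclusion (Set.inter_subset_left : T ⊆ PrimeSpectrum.zeroLocus (I : Set A))) := by
    refine ⟨(IsEmbedding.subtypeVal.of_comp_iff).1
      (show IsEmbedding (Subtype.val ∘ Set.inclusion _) from IsEmbedding.subtypeVal), ?_⟩
    rw [Set.range_inclusion]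
    have h : {x : ↥(PrimeSpectrum.zeroLocus (I : Set A)) | x.1 ∈ T} = Subtype.val ⁻¹' punct A :=
      Set.ext fun x => ⟨fun h => h.2, fun h => ⟨x.2, h⟩⟩
    rw [h]
    exact isOpen_punct.preimage continuous_subtype_val
  have : QuasiSober ↥T := hemb.quasiSober
  have : Nonempty ↥T := hne.to_subtype
  have hm : closedPoint A ∈ PrimeSpectrum.zeroLocus (I : Set A) := by
    obtain ⟨x, hx, -⟩ := hne
    exact fun a ha => le_closedPoint x (hx ha)
  let e : ↥(PrimeSpectrum.zeroLocus (I : Set A)) ≃o WithTop ↥T :=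
    { toFun := fun x => if h : x.1 = closedPoint A then ⊤ else ((⟨x.1, x.2, h⟩ : ↥T) : WithTop ↥T)
      invFun := fun y => WithTop.recTopCoe ⟨closedPoint A, hm⟩ (fun t => ⟨t.1, t.2.1⟩) y
      left_inv := fun x => by
        by_cases h : x.1 = closedPoint A
        · simp only [dif_pos h]
          exact Subtype.ext h.symm
        · simp only [dif_neg h]
          rfl
      right_inv := fun y => by
        cases y using WithTop.recTopCoe with
        | top => simp
        | coe t => simp [show t.1 ≠ closedPoint A from t.2.2]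
      map_rel_iff' := fun {a b} => by
        show (if h : a.1 = closedPoint A then (⊤ : WithTop ↥T) else _) ≤ (if h : b.1 = closedPoint A then _ else _) ↔ _
        by_cases hb : b.1 = closedPoint A
        · simp only [dif_pos hb, le_top, true_iff]
          show a.1 ≤ b.1
          rw [hb]
          exact le_closedPoint a.1
        · by_cases ha : a.1 = closedPoint A
          · simp only [dif_pos ha, dif_neg hb, top_le_iff, WithTop.coe_ne_top, false_iff]
            intro hle
            exact hb (le_antisymm (le_closedPoint b.1) (ha ▸ (show a.1 ≤ b.1 from hle)))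
          · simp only [dif_neg ha, dif_neg hb, WithTop.coe_le_coe]
            rfl }
  rw [ringKrullDim_quotient, Order.krullDim_eq_of_orderIso e, Order.krullDim_WithTop, dim_subset T]

omit [IsLocalRing A] in
theorem dim_congr {s t : Set (PrimeSpectrum A)} (h : s = t) : topologicalKrullDim ↥s = topologicalKrullDim ↥t := by
  rw [h]

theorem dim_preimage_val (U Z : Set (PrimeSpectrum A)) :
    topologicalKrullDim ↥(Subtype.val ⁻¹' Z : Set ↥U) = topologicalKrullDim ↥(Z ∩ U) := by
  let f : ↥(Subtype.val ⁻¹' Z : Set ↥U) ≃ₜ ↥(Z ∩ U) :=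
    { toFun := fun x => ⟨x.1.1, x.2, x.1.2⟩
      invFun := fun x => ⟨⟨x.1, x.2.2⟩, x.2.1⟩
      left_inv := fun _ => rfl
      right_inv := fun _ => rfl
      continuous_toFun := (continuous_subtype_val.comp continuous_subtype_val).subtype_mk _
      continuous_invFun := (continuous_subtype_val.subtype_mk _).subtype_mk _ }
  exact f.isHomeomorph.topologicalKrullDim_eq

theorem closure_singleton_punct (x : ↥(punct A)) :
    closure ({x} : Set ↥(punct A)) = Subtype.val ⁻¹' PrimeSpectrum.zeroLocus (x.1.asIdeal : Set A) := by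
  rw [IsInducing.subtypeVal.closure_eq_preimage_closure_image, Set.image_singleton, PrimeSpectrum.closure_singleton]

theorem exists_minimalPrime_of_component {C : Set ↥(punct A)} (hC : C ∈ irreducibleComponents ↥(punct A)) :
    ∃ p : ↥(punct A), p.1.asIdeal ∈ minimalPrimes A ∧ C = closure {p} := by
  have := quasiSober_punct (A := A)
  let η := hC.1.genericPoint
  obtain ⟨p, hp, hpη⟩ := Ideal.exists_minimalPrimes_le (I := (⊥ : Ideal A)) (J := η.1.asIdeal) bot_le
  let P : PrimeSpectrum A := ⟨p, hp.1.1⟩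
  have hPne : P ∈ punct A := fun h => η.2 (le_antisymm (le_closedPoint η.1)
    ((Set.mem_singleton_iff.1 h).symm.le.trans hpη))
  refine ⟨⟨P, hPne⟩, hp, ?_⟩
  have hsub : C ⊆ closure {(⟨P, hPne⟩ : ↥(punct A))} := by
    intro z hz
    have h1 : η ⤳ z := (hC.1.isGenericPoint_genericPoint_closure).specializes (subset_closure hz)
    have h2 : (⟨P, hPne⟩ : ↥(punct A)) ⤳ η :=
      (subtype_specializes_iff _ _).2 ((PrimeSpectrum.le_iff_specializes P η.1).1 hpη)
    exact specializes_iff_mem_closure.1 (h2.trans h1)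
  exact Set.Subset.antisymm hsub (hC.2 isIrreducible_singleton.closure hsub)

theorem closure_mem_components {p : ↥(punct A)} (hp : p.1.asIdeal ∈ minimalPrimes A) :
    closure {p} ∈ irreducibleComponents ↥(punct A) := by
  have := quasiSober_punct (A := A)
  refine ⟨isIrreducible_singleton.closure, fun D hD hle => ?_⟩
  have h1 : hD.genericPoint ⤳ p :=
    hD.isGenericPoint_genericPoint_closure.specializes (subset_closure (hle (subset_closure rfl)))
  have h2 : hD.genericPoint.1 ≤ p.1 :=
    (PrimeSpectrum.le_iff_specializes _ _).2 ((subtype_specializes_iff _ _).1 h1)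
  have h3 : hD.genericPoint = p :=
    Subtype.ext (le_antisymm h2 (hp.2 ⟨hD.genericPoint.1.isPrime, bot_le⟩ h2))
  intro z hz
  rw [← h3]
  exact specializes_iff_mem_closure.1 (hD.isGenericPoint_genericPoint_closure.specializes (subset_closure hz))

theorem dim_closure_punct (p : ↥(punct A)) :
    ringKrullDim (A ⧸ p.1.asIdeal) = topologicalKrullDim ↥(closure ({p} : Set ↥(punct A))) + 1 := by
  rw [closure_singleton_punct, dim_preimage_val, dim_zeroLocus_punct _ ⟨p.1, fun _ h => h, p.2⟩]

theorem preconnected_spec : IsPreconnected (Set.univ : Set (PrimeSpectrum A)) := by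
  intro u v hu hv hcov ⟨x, _, hx⟩ ⟨y, _, hy⟩
  rcases hcov (Set.mem_univ (closedPoint A)) with h | h
  · refine ⟨y, trivial, ?_, hy⟩
    exact ((PrimeSpectrum.le_iff_specializes y (closedPoint A)).1 (le_closedPoint y)).mem_open hu h
  · refine ⟨x, trivial, hx, ?_⟩
    exact ((PrimeSpectrum.le_iff_specializes x (closedPoint A)).1 (le_closedPoint x)).mem_open hv h

theorem closedPoint_mem_of_not_connected {Z : Set (PrimeSpectrum A)} (hZ : IsClosed Z) (h : ¬ IsConnected Zᶜ) :
    closedPoint A ∈ Z := by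
  obtain ⟨x, hx⟩ : Z.Nonempty := by
    by_contra hne
    rw [Set.not_nonempty_iff_eq_empty] at hne
    subst hne
    rw [Set.compl_empty] at h
    exact h ⟨Set.univ_nonempty, preconnected_spec⟩
  exact ((PrimeSpectrum.le_iff_specializes x (closedPoint A)).1 (le_closedPoint x)).mem_closed hZ hx

variable [IsNoetherianRing A]

theorem le_connDim_of_connectedInDim {k : ℕ} (hk : 1 ≤ k) (hb : LefX.ConnectedInDim ↥(punct A) k) :
    ((k + 1 : ℕ) : WithBot ℕ∞) ≤ LocCoh.connDim (PrimeSpectrum A) := by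
  refine le_iInf₂ fun Z ⟨hZc, hZ⟩ => ?_
  have hm := closedPoint_mem_of_not_connected hZc hZ
  obtain ⟨I, rfl⟩ := (PrimeSpectrum.isClosed_iff_zeroLocus_ideal _).1 hZc
  let Z' : Set ↥(punct A) := Subtype.val ⁻¹' PrimeSpectrum.zeroLocus (I : Set A)
  have hge : (k : WithBot ℕ∞) ≤ topologicalKrullDim ↥Z' := by
    by_contra hlt
    have hc := hb Z' ((PrimeSpectrum.isClosed_zeroLocus _).preimage continuous_subtype_val) (not_le.1 hlt)
    refine hZ ?_
    have : (PrimeSpectrum.zeroLocus (I : Set A))ᶜ = Subtype.val '' Z'ᶜ := by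
      ext x
      exact ⟨fun hx => ⟨⟨x, fun h => hx (Set.mem_singleton_iff.1 h ▸ hm)⟩, hx, rfl⟩,
        fun ⟨y, hy, e⟩ => e ▸ hy⟩
    rw [this]
    exact hc.image _ continuous_subtype_val.continuousOn
  rw [dim_preimage_val] at hge
  have hne : (PrimeSpectrum.zeroLocus (I : Set A) ∩ punct A).Nonempty := by
    by_contra hne
    rw [Set.not_nonempty_iff_eq_empty] at hne
    rw [dim_congr hne] at hge
    have : topologicalKrullDim ↥(∅ : Set (PrimeSpectrum A)) = ⊥ :=
      Order.krullDim_eq_bot_iff.2 ⟨fun C => by obtain ⟨x, -⟩ := C.isIrreducible'.nonempty; exact x.2⟩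
    rw [this] at hge
    exact absurd hge (not_le.2 (WithBot.bot_lt_coe _))
  rw [dim_zeroLocus, dim_zeroLocus_punct I hne, Nat.cast_succ]
  exact add_le_add hge le_rfl

theorem connectedInDim_of_le_connDim {k : ℕ} (h : ((k + 1 : ℕ) : WithBot ℕ∞) ≤ LocCoh.connDim (PrimeSpectrum A)) :
    LefX.ConnectedInDim ↥(punct A) k := by
  intro Z hZc hZd
  obtain ⟨Z₀, hZ₀, rfl⟩ := isClosed_induced_iff.1 hZc
  let W := Z₀ ∪ {closedPoint A}
  have hW : IsClosed W := hZ₀.union (isClosed_singleton_closedPoint (R := A))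
  have himg : Wᶜ = Subtype.val '' (Subtype.val ⁻¹' Z₀ : Set ↥(punct A))ᶜ := by
    ext x
    exact ⟨fun hx => ⟨⟨x, fun h => hx (.inr h)⟩, fun h => hx (.inl h), rfl⟩,
      fun ⟨y, hy, e⟩ => e ▸ fun h => h.elim hy y.2⟩
  suffices hWc : IsConnected Wᶜ by
    rw [himg] at hWc
    exact ⟨Set.image_nonempty.1 hWc.1, IsInducing.subtypeVal.isPreconnected_image.1 hWc.2⟩
  by_contra hWn
  have h1 := h.trans (connDim_le hW hWn)
  obtain ⟨I, hI⟩ := (PrimeSpectrum.isClosed_iff_zeroLocus_ideal _).1 hW
  rw [hI, dim_zeroLocus] at h1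
  by_cases hne : (W ∩ punct A).Nonempty
  · rw [hI] at hne
    rw [dim_zeroLocus_punct I hne, ← hI, dim_congr (show W ∩ punct A = Z₀ ∩ punct A by
      ext x; exact ⟨fun hx => ⟨hx.1.resolve_right hx.2, hx.2⟩, fun hx => ⟨.inl hx.1, hx.2⟩⟩),
      ← dim_preimage_val] at h1
    obtain ⟨v, hv⟩ | hbot : (∃ v : ℕ, topologicalKrullDim ↥(Subtype.val ⁻¹' Z₀ : Set ↥(punct A)) = v) ∨
        topologicalKrullDim ↥(Subtype.val ⁻¹' Z₀ : Set ↥(punct A)) = ⊥ := by
      generalize topologicalKrullDim ↥(Subtype.val ⁻¹' Z₀ : Set ↥(punct A)) = t at hZd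
      induction t using WithBot.recBotCoe with
      | bot => exact .inr rfl
      | coe t =>
        obtain ⟨v, rfl⟩ := ENat.ne_top_iff_exists.1 (show t ≠ ⊤ from fun e => by
          rw [e] at hZd; exact not_top_lt (WithBot.coe_lt_coe.1 hZd))
        exact .inl ⟨v, rfl⟩
    · rw [hv, show ((v : WithBot ℕ∞) + 1) = ((v + 1 : ℕ) : WithBot ℕ∞) by push_cast; rfl, Nat.cast_le] at h1
      rw [hv, Nat.cast_lt] at hZd
      omega
    · rw [hbot, WithBot.bot_add, le_bot_iff] at h1
      exact WithBot.natCast_ne_bot (k + 1) h1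
  · have : Subsingleton (PrimeSpectrum.zeroLocus (I : Set A)) := by
      have key : ∀ q : PrimeSpectrum.zeroLocus (I : Set A), q.1 = closedPoint A := fun q => by
        by_contra hq
        exact hne ⟨q.1, hI.symm.subset q.2, hq⟩
      exact ⟨fun q q' => Subtype.ext ((key q).trans (key q').symm)⟩
    rw [ringKrullDim_quotient] at h1
    have h2 := h1.trans Order.krullDim_nonpos_of_subsingleton
    exact Nat.succ_ne_zero k (Nat.le_zero.1 (Nat.cast_le (α := WithBot ℕ∞).1 (h2.trans_eq Nat.cast_zero.symm)))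

theorem exists_minimal_mem_punct (h : (punct A).Nonempty) {p : Ideal A} (hp : p ∈ minimalPrimes A) :
    (⟨p, hp.1.1⟩ : PrimeSpectrum A) ∈ punct A := by
  intro hm
  obtain ⟨x, hx⟩ := h
  have hmax : p = maximalIdeal A := congrArg PrimeSpectrum.asIdeal (Set.mem_singleton_iff.1 hm)
  refine hx (Set.mem_singleton_iff.2 (PrimeSpectrum.ext ?_))
  show x.asIdeal = maximalIdeal A
  exact le_antisymm (le_closedPoint x) (hmax ▸ hp.2 ⟨x.isPrime, bot_le⟩ (hmax ▸ le_closedPoint x))

/-- Linear sections of a complete local ring connected in dimension `k`. -/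
theorem linearSection_connectedInDim [IsAdicComplete (maximalIdeal A) A] {k : ℕ} (hk : 1 ≤ k)
    (ha : ∀ Z ∈ irreducibleComponents ↥(punct A), ((k + 1 : ℕ) : WithBot ℕ∞) ≤ topologicalKrullDim ↥Z)
    (hb : LefX.ConnectedInDim ↥(punct A) k) {m : ℕ} (hm : m ≤ k) (f : Fin m → A)
    (hf : ∀ i, f i ∈ maximalIdeal A) [IsLocalRing (A ⧸ Ideal.span (Set.range f))] :
    (∀ Z ∈ irreducibleComponents ↥(punct (A ⧸ Ideal.span (Set.range f))),
      ((k - m + 1 : ℕ) : WithBot ℕ∞) ≤ topologicalKrullDim ↥Z) ∧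
    LefX.ConnectedInDim ↥(punct (A ⧸ Ideal.span (Set.range f))) (k - m) := by
  classical
  let J := Ideal.span (Set.range f)
  have hJ : J ≠ ⊤ := fun h => (maximalIdeal.isMaximal A).ne_top
    (top_unique (h ▸ Ideal.span_le.2 (Set.range_subset_iff.2 hf)))
  have hU : (punct A).Nonempty := by
    have := (hb ∅ isClosed_empty (by
      rw [topologicalKrullDim, Order.krullDim_eq_bot_iff.2 ⟨fun C => by
        obtain ⟨x, -⟩ := C.isIrreducible'.nonempty; exact x.2⟩]
      exact WithBot.bot_lt_coe _)).1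
    obtain ⟨x, -⟩ := this
    exact ⟨x.1, x.2⟩
  have hminbig : ∀ p ∈ minimalPrimes A, ((k + 2 : ℕ) : WithBot ℕ∞) ≤ ringKrullDim (A ⧸ p) := fun p hp => by
    have := ha _ (closure_mem_components (p := ⟨_, exists_minimal_mem_punct hU hp⟩) hp)
    rw [show ringKrullDim (A ⧸ p) = _ from dim_closure_punct ⟨_, exists_minimal_mem_punct hU hp⟩]
    calc ((k + 2 : ℕ) : WithBot ℕ∞) = ((k + 1 : ℕ) : WithBot ℕ∞) + 1 := by push_cast; ring
      _ ≤ _ := add_le_add this le_rfl
  obtain ⟨c, hc⟩ := exists_connDim_nat (R := A)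
  obtain ⟨s, p₀, hp₀, hp₀d, hs⟩ := exists_subdim_nat (R := A)
  obtain ⟨c', hc'⟩ := exists_connDim_nat (R := A ⧸ J)
  have hck : k + 1 ≤ c := by
    have := le_connDim_of_connectedInDim hk hb
    rw [hc, Nat.cast_le] at this; exact this
  have hsk : k + 2 ≤ s := by
    have := hminbig p₀ hp₀
    rw [hp₀d, Nat.cast_le] at this; exact this
  let T : Finset A := Finset.univ.image f
  have hT : (Ideal.span (T : Set A)).radical = J.radical := by
    simp only [T, J]; rw [Finset.coe_image, Finset.coe_univ, Set.image_univ]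
  have hTc : T.card ≤ m := Finset.card_image_le.trans (by simp)
  have hmain := min_connDim_subdim_le_ara J hJ T hT hc hs hc'
  have hc'k : k - m + 1 ≤ c' := by omega
  refine ⟨fun Z hZ => ?_, connectedInDim_of_le_connDim (hc' ▸ Nat.cast_le.2 hc'k)⟩
  obtain ⟨q, hq, rfl⟩ := exists_minimalPrime_of_component hZ
  -- a component of the section has codimension at most `m`
  let σ := Ideal.Quotient.mk J
  let Q : Ideal A := q.1.asIdeal.comap σ
  have : Q.IsPrime := Ideal.IsPrime.comap σ
  have hJQ : J ≤ Q := fun x hx => by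
    show σ x ∈ q.1.asIdeal
    rw [Ideal.Quotient.eq_zero_iff_mem.2 hx]; exact zero_mem _
  have hQmin : Q ∈ J.minimalPrimes := by
    refine ⟨⟨inferInstance, hJQ⟩, fun R' hR' hle => ?_⟩
    have := hR'.1
    have h1 : (R'.map σ).IsPrime := Ideal.map_isPrime_of_surjective Ideal.Quotient.mk_surjective (by rw [Ideal.mk_ker]; exact hR'.2)
    have h2 : R'.map σ ≤ q.1.asIdeal := Ideal.map_le_iff_le_comap.2 hle
    have h3 := Ideal.comap_mono (f := σ) (hq.2 ⟨h1, bot_le⟩ h2)
    rw [Ideal.comap_map_of_surjective' _ Ideal.Quotient.mk_surjective, Ideal.mk_ker, sup_eq_left.2 hR'.2] at h3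
    exact h3
  obtain ⟨P, hP, hPQ⟩ := Ideal.exists_minimalPrimes_le (I := (⊥ : Ideal A)) (J := Q) bot_le
  have : P.IsPrime := hP.1.1
  have hform := dim_quot_eq_add_height P Q hPQ
  -- Krull's height theorem in `A / P`
  have hPm : P ≠ ⊤ := hP.1.1.ne_top
  let τ := Ideal.Quotient.mk P
  have hQbar : (Q.map τ).IsPrime := Ideal.map_isPrime_of_surjective Ideal.Quotient.mk_surjective (by rwa [Ideal.mk_ker])
  have hmin : Q.map τ ∈ (Ideal.span (Set.range (τ ∘ f))).minimalPrimes := by
    have e : Ideal.span (Set.range (τ ∘ f)) = J.map τ := by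
      rw [Set.range_comp, Ideal.map_span]
    rw [e]
    refine ⟨⟨hQbar, Ideal.map_mono hJQ⟩, fun R' hR' hle => ?_⟩
    have := hR'.1
    have h1 : R'.comap τ ≤ Q := by
      have h := Ideal.comap_mono (f := τ) hle
      rwa [Ideal.comap_map_of_surjective' _ Ideal.Quotient.mk_surjective, Ideal.mk_ker, sup_eq_left.2 hPQ] at h
    have h2 := hQmin.2 ⟨Ideal.IsPrime.comap τ, Ideal.map_le_iff_le_comap.1 hR'.2⟩ h1
    exact (Ideal.map_mono h2).trans (Ideal.map_comap_of_surjective τ Ideal.Quotient.mk_surjective R').le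
  have hht : (Q.map τ).height ≤ (m : ℕ∞) := by
    refine (Ideal.height_le_spanRank_toENat_of_mem_minimalPrimes _ _ hmin).trans ?_
    rw [Submodule.fg_iff_spanRank_eq_spanFinrank.mpr (IsNoetherian.noetherian _), map_natCast]
    refine Nat.cast_le.2 ((Submodule.spanFinrank_span_le_ncard_of_finite (Set.finite_range _)).trans ?_)
    rw [← Set.image_univ]
    exact (Set.ncard_image_le Set.finite_univ).trans (by simp)
  have hZd : ringKrullDim ((A ⧸ J) ⧸ q.1.asIdeal) = ringKrullDim (A ⧸ Q) := dim_quot_comap J q.1.asIdeal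
  rw [dim_closure_punct q] at hZd
  obtain ⟨b, hb'⟩ := exists_dim_quot (I := Q) (Ideal.IsPrime.ne_top inferInstance)
  obtain ⟨a, ha'⟩ := exists_dim_quot (I := P) hPm
  obtain ⟨h, hh⟩ := ENat.ne_top_iff_exists.1 (ne_top_of_le_ne_top (ENat.natCast_ne_top m) hht)
  rw [← hh] at hht hform
  rw [ha', hb'] at hform
  have hbig := hminbig P hP
  rw [ha', Nat.cast_le] at hbig
  have hh' : h ≤ m := by exact_mod_cast hht
  have hf' : a = b + h := by exact_mod_cast hform
  rw [hb'] at hZd
  have hge : k - m + 2 ≤ b := by omega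
  revert hZd
  generalize topologicalKrullDim ↥(closure ({q} : Set ↥(punct (A ⧸ J)))) = t
  intro hZd
  induction t using WithBot.recBotCoe with
  | bot => rw [WithBot.bot_add] at hZd; exact absurd hZd (WithBot.natCast_ne_bot b).symm
  | coe t =>
    induction t using ENat.recTopCoe with
    | top => exact le_of_le_of_eq (WithBot.coe_le_coe.2 le_top) rfl
    | coe t =>
      have : t + 1 = b := by exact_mod_cast hZd
      exact WithBot.coe_le_coe.2 (Nat.cast_le.2 (by omega))

end Groth.Agent.LC
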