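import Groth.Agent.LC.GorHullBC
import Groth.Agent.LC.OCarroll
import Groth.Agent.LC.Sop
import Groth.Agent.EGA41Lib.RegSeqPow

/-!
# The top Čech module of a Gorenstein local ring is an injective hull of the residue field
-/

set_option autoImplicit false

universe u

open IsLocalRing InjHull RingTheory.Sequence

namespace Groth.Agent.LC

variable {R : Type u} [CommRing R] [IsLocalRing R] [IsNoetherianRing R]

theorem isFiniteLength_quot_of_pow_le {I : Ideal R} {N : ℕ} (h : maximalIdeal R ^ N ≤ I) :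
    IsFiniteLength R (R ⧸ I) := by
  rw [← Module.length_ne_top_iff]
  exact ne_top_of_le_ne_top (Module.length_ne_top_iff.2 (isFiniteLength_quot_pow N))
    (Module.length_le_of_surjective (Submodule.factor h) (Submodule.factor_surjective h))

/-- A torsion module with simple socle containing arbitrarily deep cyclic modules of finite length is a hull. -/
theorem exists_hull_of_cyclic {T : Type u} [AddCommGroup T] [Module R T]
    (htors : LocCoh.IsPowerTorsion (maximalIdeal R) T) (w : T) (hw : w ≠ 0)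
    (hwsoc : ∀ b ∈ maximalIdeal R, b • w = 0)
    (hsoc : ∀ z : T, (∀ b ∈ maximalIdeal R, b • z = 0) → ∃ c : R, z = c • w)
    (hdeep : ∀ k : ℕ, ∃ (I : Ideal R) (N : ℕ) (j : (R ⧸ I) →ₗ[R] T),
      I ≤ maximalIdeal R ^ k ∧ maximalIdeal R ^ N ≤ I ∧ Function.Injective j) :
    ∃ g : ResidueField R →ₗ[R] T, IsInjectiveHull g := by
  obtain ⟨E, _, _, f, hf⟩ := exists_injectiveHull R (ResidueField R)
  haveI := hf.isInjective
  let ι : ResidueField R →ₗ[R] T :=
    (maximalIdeal R).liftQ (LinearMap.toSpanSingleton R T w) fun b hb => hwsoc b hb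
  have hι : Function.Injective ι := by
    rw [injective_iff_map_eq_zero]
    intro c hc
    obtain ⟨c, rfl⟩ := residue_surjective c
    rw [residue_eq_zero_iff]
    by_contra hcu
    exact hw ((notMem_maximalIdeal.1 hcu).smul_eq_zero.1 hc)
  obtain ⟨φ, hφ⟩ := exists_extension ι hι f
  have hφw : φ w ≠ 0 := by
    have h1 : φ (ι 1) = f 1 := LinearMap.congr_fun hφ 1
    rw [show ι 1 = (1 : R) • w from rfl, one_smul] at h1
    rw [h1]; exact hull_f_one_ne_zero hf
  have hφi : Function.Injective φ := by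
    rw [injective_iff_map_eq_zero]
    intro z hz
    by_contra hz0
    obtain ⟨r, hr0, hr⟩ := exists_socle_multiple (maximalIdeal R) htors hz0
    rw [Submodule.mem_torsionBySet_iff] at hr
    obtain ⟨c, hc⟩ := hsoc (r • z) fun b hb => hr ⟨b, hb⟩
    have hcu : IsUnit c := by
      by_contra hcu
      exact hr0 (hc.trans (hwsoc c ((mem_maximalIdeal c).2 hcu)))
    refine hφw (hcu.smul_eq_zero.1 ?_)
    rw [← map_smul, ← hc, map_smul, hz, smul_zero]
  have hφs : Function.Surjective φ := by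
    intro x
    obtain ⟨k, hk⟩ := hull_isPowerTorsion hf x
    obtain ⟨I, N, j, hI, hN, hj⟩ := hdeep k
    have hx : x ∈ LocCoh.torsionBy I E := (Submodule.mem_torsionBySet_iff _ _).2 fun b => hk _ (hI b.2)
    have hmem : ∀ r, φ (j r) ∈ LocCoh.torsionBy I E := fun r => (Submodule.mem_torsionBySet_iff _ _).2 fun b => by
      show (b : R) • φ (j r) = 0
      obtain ⟨r, rfl⟩ := Submodule.Quotient.mk_surjective _ r
      rw [← map_smul, ← map_smul, ← Submodule.Quotient.mk_smul,
        (Submodule.Quotient.mk_eq_zero I).2 (show (b : R) • r ∈ I from I.mul_mem_right r b.2), map_zero, map_zero]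
    let ψ : (R ⧸ I) →ₗ[R] LocCoh.torsionBy I E := (φ ∘ₗ j).codRestrict _ hmem
    have hψ : Function.Injective ψ := fun p q h => hj (hφi (congrArg Subtype.val h))
    have hfin := isFiniteLength_quot_of_pow_le hN
    have hlen : Module.length R (LocCoh.torsionBy I E) = Module.length R (R ⧸ I) :=
      (quotHomTorsion I E).length_eq.symm.trans (length_dual hf _ hfin)
    obtain ⟨_, _⟩ := isFiniteLength_iff_isNoetherian_isArtinian.1
      (Module.length_ne_top_iff.1 (hlen ▸ Module.length_ne_top_iff.2 hfin : Module.length R (LocCoh.torsionBy I E) ≠ ⊤))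
    have hψs : LinearMap.range ψ = ⊤ := by
      by_contra hne
      have hlt := Submodule.length_lt hne
      rw [← (LinearEquiv.ofInjective ψ hψ).length_eq, hlen] at hlt
      exact lt_irrefl _ hlt
    obtain ⟨y, hy⟩ := LinearMap.range_eq_top.1 hψs ⟨x, hx⟩
    exact ⟨j y, congrArg Subtype.val hy⟩
  let e := (LinearEquiv.ofBijective φ ⟨hφi, hφs⟩).symm
  exact ⟨_, ⟨isEssentialInj_comp hf.toIsEssentialInj (isEssentialInj_linearEquiv e), injective_of_linearEquiv e⟩⟩

theorem exists_hull_cech [LocCoh.IsGorensteinLocalRing R] (d : ℕ) (hd : ringKrullDim R = d) (x : Fin d → R)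
    (hx : (Ideal.span (Set.range x)).radical = maximalIdeal R) :
    ∃ f : ResidueField R →ₗ[R] (Localization.Away (∏ i, x i) ⧸ Submodule.span R
      {y : Localization.Away (∏ i, x i) | ∃ (i : Fin d) (n : ℕ), y = algebraMap R (Localization.Away (∏ i, x i)) (x i ^ n) *
        IsLocalization.Away.invSelf (∏ i, x i) ^ n}), IsInjectiveHull f := by
  classical
  set u := ∏ i, x i with hu
  let L := Localization.Away u
  let v : L := IsLocalization.Away.invSelf u
  have huv : algebraMap R L u * v = 1 := IsLocalization.Away.mul_invSelf u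
  set K : Submodule R L := Submodule.span R
    {y : L | ∃ (i : Fin d) (n : ℕ), y = algebraMap R L (x i ^ n) * v ^ n} with hKdef
  let J : ℕ → Ideal R := fun t => Ideal.span (Set.range fun i => x i ^ t)
  have hlift : ∀ (a : R) (n e : ℕ), algebraMap R L (a * u ^ e) * v ^ (n + e) = algebraMap R L a * v ^ n := by
    intro a n e
    rw [map_mul, map_pow, pow_add, show algebraMap R L a * algebraMap R L u ^ e * (v ^ n * v ^ e) =
      algebraMap R L a * v ^ n * (algebraMap R L u * v) ^ e by ring, huv, one_pow, mul_one]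
  have hJu : ∀ (n e : ℕ) (a : R), a ∈ J n → a * u ^ e ∈ J (n + e) := by
    intro n e a ha
    obtain ⟨c, rfl⟩ := Ideal.mem_span_range_iff_exists_fun.1 ha
    rw [Finset.sum_mul]
    refine sum_mem fun i _ => ?_
    rw [hu, ← Finset.mul_prod_erase _ _ (Finset.mem_univ i), mul_pow,
      show c i * x i ^ n * (x i ^ e * (∏ j ∈ Finset.univ.erase i, x j) ^ e) =
        c i * (∏ j ∈ Finset.univ.erase i, x j) ^ e * x i ^ (n + e) by rw [pow_add]; ring]
    exact Ideal.mul_mem_left _ _ (Ideal.subset_span ⟨i, rfl⟩)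
  have hK : ∀ (r : R) (t : ℕ), algebraMap R L r * v ^ t ∈ K ↔ ∃ N, r * u ^ N ∈ J (t + N) := by
    intro r t
    constructor
    · intro h
      have key : ∀ z ∈ K, ∃ n, ∃ a ∈ J n, z = algebraMap R L a * v ^ n := by
        intro z hz
        induction hz using Submodule.span_induction with
        | mem z hz =>
          obtain ⟨i, n, rfl⟩ := hz
          exact ⟨n, _, Ideal.subset_span ⟨i, rfl⟩, rfl⟩
        | zero => exact ⟨0, 0, zero_mem _, by simp⟩
        | add p q _ _ hp hq =>
          obtain ⟨n, a, ha, rfl⟩ := hp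
          obtain ⟨m, b, hb, rfl⟩ := hq
          refine ⟨n + m, a * u ^ m + b * u ^ n, add_mem (hJu n m a ha) (add_comm m n ▸ hJu m n b hb), ?_⟩
          rw [map_add, add_mul, hlift, add_comm n m, hlift]
        | smul c p _ hp =>
          obtain ⟨n, a, ha, rfl⟩ := hp
          exact ⟨n, c * a, Ideal.mul_mem_left _ c ha, by rw [map_mul, Algebra.smul_def, mul_assoc]⟩
      obtain ⟨n, a, ha, e⟩ := key _ h
      have h1 : algebraMap R L (r * u ^ n) = algebraMap R L (a * u ^ t) := by
        have e' := congrArg (fun z => z * (algebraMap R L u) ^ (t + n)) e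
        rw [map_mul, map_mul, map_pow, map_pow]
        calc algebraMap R L r * algebraMap R L u ^ n
            = algebraMap R L r * algebraMap R L u ^ n * (algebraMap R L u * v) ^ t := by rw [huv, one_pow, mul_one]
          _ = algebraMap R L r * v ^ t * algebraMap R L u ^ (t + n) := by ring
          _ = algebraMap R L a * v ^ n * algebraMap R L u ^ (t + n) := e'
          _ = algebraMap R L a * algebraMap R L u ^ t * (algebraMap R L u * v) ^ n := by ring
          _ = algebraMap R L a * algebraMap R L u ^ t := by rw [huv, one_pow, mul_one]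
      obtain ⟨⟨_, k, rfl⟩, hk⟩ := (IsLocalization.eq_iff_exists (Submonoid.powers u) L).1 h1
      refine ⟨n + k, ?_⟩
      rw [show r * u ^ (n + k) = a * u ^ (t + k) by
        calc r * u ^ (n + k) = u ^ k * (r * u ^ n) := by ring
          _ = u ^ k * (a * u ^ t) := hk
          _ = a * u ^ (t + k) := by ring,
        show t + (n + k) = n + (t + k) by omega]
      exact hJu n (t + k) a ha
    · rintro ⟨N, hN⟩
      rw [← hlift r t N]
      obtain ⟨c, hc⟩ := Ideal.mem_span_range_iff_exists_fun.1 hN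
      rw [← hc, map_sum, Finset.sum_mul]
      refine sum_mem fun i _ => ?_
      rw [map_mul, mul_assoc, ← Algebra.smul_def]
      exact K.smul_mem _ (Submodule.subset_span ⟨i, t + N, rfl⟩)
  have hCM : LocCoh.IsCohenMacaulayModule R R :=
    (isCohenMacaulayLocalRing_of_gorenstein (R := R)).supportDim_eq_depth
  have hofList : ∀ f : Fin d → R, Ideal.ofList (List.ofFn f) = Ideal.span (Set.range f) := by
    intro f
    rw [Ideal.ofList]
    congr 1
    ext a; simp [List.mem_ofFn]
  have hwr : IsWeaklyRegular R (List.ofFn x) :=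
    isWeaklyRegular_of_sop hCM d hd _ (List.length_ofFn) (by rw [hofList]; exact hx)
  have hcolon : ∀ (t N : ℕ) (r : R), 1 ≤ t → r * u ^ N ∈ J (t + N) → r ∈ J t := by
    intro t N r ht h
    have hpow := EGA41Lib.isWeaklyRegular_pow d x (fun _ => t + N) (fun _ => by omega) hwr
    have hmain := (OCarroll.ocarroll (M := R) d (fun i => x i ^ t) (fun i => x i ^ (t + N))
      (Matrix.diagonal fun i => x i ^ N) (fun i j hij => Matrix.diagonal_apply_ne _ hij.ne)
      (funext fun i => by rw [Matrix.mulVec_diagonal, ← pow_add, add_comm]) hpow).1 r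
    rw [smul_eq_mul, smul_eq_mul, smul_eq_mul, Ideal.mul_top, Ideal.mul_top, Matrix.det_diagonal,
      Finset.prod_pow, ← hu, mul_comm] at hmain
    exact hmain h
  have hmem : ∀ (t : ℕ), 1 ≤ t → ∀ r : R, algebraMap R L r * v ^ t ∈ K ↔ r ∈ J t := fun t ht r =>
    ⟨fun h => by obtain ⟨N, hN⟩ := (hK r t).1 h; exact hcolon t N r ht hN,
      fun h => (hK r t).2 ⟨0, by simpa using h⟩⟩
  have hrep : ∀ z : L, ∃ (r : R) (t : ℕ), 1 ≤ t ∧ z = algebraMap R L r * v ^ t := by
    intro z
    obtain ⟨⟨a, ⟨_, k, rfl⟩⟩, hz⟩ := IsLocalization.surj (Submonoid.powers u) z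
    refine ⟨a * u, k + 1, by omega, ?_⟩
    simp only [map_pow] at hz
    rw [map_mul, ← hz, show z * algebraMap R L u ^ k * algebraMap R L u * v ^ (k + 1) =
      z * (algebraMap R L u * v) ^ (k + 1) by ring, huv, one_pow, mul_one]
  have hxm : ∀ i, x i ∈ maximalIdeal R := fun i => hx ▸ Ideal.le_radical (Ideal.subset_span ⟨i, rfl⟩)
  have hprim : ∀ t : ℕ, ∃ N, maximalIdeal R ^ N ≤ J t := by
    intro t
    refine Ideal.exists_pow_le_of_le_radical_of_fg ?_ (IsNoetherian.noetherian _)
    rw [← hx, Ideal.radical_le_radical_iff, Ideal.span_le]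
    rintro _ ⟨i, rfl⟩
    exact ⟨t, Ideal.subset_span ⟨i, rfl⟩⟩
  -- socle of the artinian Gorenstein quotients
  have hsocJ : ∀ t, 1 ≤ t → ∀ s : R, s ∉ J t → (∀ b ∈ maximalIdeal R, b * s ∈ J t) →
      ∀ r : R, (∀ b ∈ maximalIdeal R, b * r ∈ J t) → ∃ c : R, r - c * s ∈ J t := by
    intro t ht s hs hms r hr
    have hpow := EGA41Lib.isWeaklyRegular_pow d x (fun _ => t) (fun _ => ht) hwr
    haveI hG := gorenstein_quotient_ofList (List.ofFn fun i => x i ^ t) (fun a ha => by
      obtain ⟨i, rfl⟩ := List.mem_ofFn.1 ha; exact Ideal.pow_mem_of_mem _ (hxm i) t ht) hpow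
    have hJ : Ideal.ofList (List.ofFn fun i => x i ^ t) = J t := hofList _
    haveI : IsLocalHom (Ideal.Quotient.mk (Ideal.ofList (List.ofFn fun i => x i ^ t))) :=
      IsLocalHom.of_surjective _ Ideal.Quotient.mk_surjective
    have hsoc' : ∀ a : R, (∀ b ∈ maximalIdeal R, b * a ∈ J t) →
        ∀ q ∈ maximalIdeal (R ⧸ Ideal.ofList (List.ofFn fun i => x i ^ t)),
          q * Ideal.Quotient.mk _ a = 0 := by
      intro a ha q hq
      obtain ⟨b, rfl⟩ := Ideal.Quotient.mk_surjective q
      rw [← map_mul, Ideal.Quotient.eq_zero_iff_mem, hJ]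
      exact ha b (by
        rw [mem_maximalIdeal, mem_nonunits_iff] at hq ⊢
        exact fun hu => hq (hu.map _))
    obtain ⟨-, h⟩ := socle_of_gorenstein (s := Ideal.Quotient.mk (Ideal.ofList (List.ofFn fun i => x i ^ t)) s)
      (by rwa [Ne, Ideal.Quotient.eq_zero_iff_mem, hJ]) (hsoc' s hms)
    obtain ⟨c, hc⟩ := h (Ideal.Quotient.mk _ r) (hsoc' r hr)
    obtain ⟨c, rfl⟩ := Ideal.Quotient.mk_surjective c
    rw [← map_mul, Ideal.Quotient.eq, hJ] at hc
    exact ⟨c, hc⟩
  -- a socle element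
  have hJ1 : J 1 ≤ maximalIdeal R := Ideal.span_le.2 (by rintro _ ⟨i, rfl⟩; simpa using hxm i)
  obtain ⟨s, hs, hms⟩ : ∃ s : R, s ∉ J 1 ∧ ∀ b ∈ maximalIdeal R, b * s ∈ J 1 := by
    have hex : ∃ N, maximalIdeal R ^ N ≤ J 1 := hprim 1
    have hspec := Nat.find_spec hex
    obtain ⟨k, hk⟩ := Nat.exists_eq_succ_of_ne_zero (n := Nat.find hex) fun h0 => by
      rw [h0, pow_zero, Ideal.one_eq_top] at hspec
      exact (maximalIdeal.isMaximal R).ne_top (top_unique (hspec.trans hJ1))
    obtain ⟨s, hs, hs'⟩ := SetLike.not_le_iff_exists.1 (Nat.find_min hex (show k < Nat.find hex by omega))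
    rw [hk, pow_succ'] at hspec
    exact ⟨s, hs', fun b hb => hspec (Ideal.mul_mem_mul hb hs)⟩
  let q : L →ₗ[R] L ⧸ K := K.mkQ
  let ξ : ℕ → R → L ⧸ K := fun t r => q (algebraMap R L r * v ^ t)
  have hξ0 : ∀ t, 1 ≤ t → ∀ r, ξ t r = 0 ↔ r ∈ J t := fun t ht r =>
    (Submodule.Quotient.mk_eq_zero K).trans (hmem t ht r)
  have hξsmul : ∀ t (b r : R), b • ξ t r = ξ t (b * r) := fun t b r => by
    show b • q _ = q _
    rw [← map_smul, Algebra.smul_def, ← mul_assoc, ← map_mul]
  refine exists_hull_of_cyclic ?_ (ξ 1 s) (fun h => hs ((hξ0 1 le_rfl s).1 h))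
    (fun b hb => by rw [hξsmul]; exact (hξ0 1 le_rfl _).2 (hms b hb)) ?_ ?_
  · intro z
    obtain ⟨z, rfl⟩ := Submodule.mkQ_surjective K z
    obtain ⟨r, t, ht, rfl⟩ := hrep z
    obtain ⟨N, hN⟩ := hprim t
    exact ⟨N, fun a ha => (hξsmul t a r).trans ((hξ0 t ht _).2 (Ideal.mul_mem_right r _ (hN ha)))⟩
  · intro z hz
    obtain ⟨z, rfl⟩ := Submodule.mkQ_surjective K z
    obtain ⟨r, t, ht, rfl⟩ := hrep z
    obtain ⟨e, rfl⟩ : ∃ e, t = 1 + e := ⟨t - 1, by omega⟩
    have hr : ∀ b ∈ maximalIdeal R, b * r ∈ J (1 + e) := fun b hb =>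
      (hξ0 _ ht _).1 ((hξsmul _ b r).symm.trans (hz b hb))
    have hs1 : s * u ^ e ∉ J (1 + e) := fun h => hs (hcolon 1 e s le_rfl h)
    have hms1 : ∀ b ∈ maximalIdeal R, b * (s * u ^ e) ∈ J (1 + e) := fun b hb => by
      rw [← mul_assoc]; exact hJu 1 e _ (hms b hb)
    obtain ⟨c, hc⟩ := hsocJ _ ht _ hs1 hms1 r hr
    refine ⟨c, ?_⟩
    rw [hξsmul]
    show q (algebraMap R L r * v ^ (1 + e)) = q (algebraMap R L (c * s) * v ^ 1)
    rw [← hlift (c * s) 1 e, ← sub_eq_zero, ← map_sub, ← sub_mul, ← map_sub, mul_assoc]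
    exact (hξ0 _ ht _).2 hc
  · intro k
    obtain ⟨N, hN⟩ := hprim (k + 1)
    refine ⟨J (k + 1), N, (J (k + 1)).liftQ ((q ∘ₗ LinearMap.toSpanSingleton R L (v ^ (k + 1)))) ?_, ?_, hN, ?_⟩
    · intro r hr
      show q (r • v ^ (k + 1)) = 0
      rw [Algebra.smul_def]
      exact (hξ0 _ (by omega) r).2 hr
    · refine Ideal.span_le.2 ?_
      rintro _ ⟨i, rfl⟩
      exact Ideal.pow_le_pow_right (Nat.le_succ k) (Ideal.pow_mem_pow (hxm i) (k + 1))
    · rw [← LinearMap.ker_eq_bot, Submodule.ker_liftQ_eq_bot']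
      refine le_antisymm ?_ ?_
      · intro r hr
        show q (r • v ^ (k + 1)) = 0
        rw [Algebra.smul_def]
        exact (hξ0 _ (by omega) r).2 hr
      · intro r hr
        have hr' : q (r • v ^ (k + 1)) = 0 := hr
        rw [Algebra.smul_def] at hr'
        exact (hξ0 _ (by omega) r).1 hr'

end Groth.Agent.LC
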