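import Groth.Agent.LC.CanonGor
import Groth.Agent.LC.CanonUnique
import Groth.Agent.LC.CanonBasic

/-!
# Localization of canonical modules
-/

set_option autoImplicit false

universe u

open CategoryTheory Limits IsLocalRing

namespace Groth.Agent.LC.Canon

variable {R : Type u} [CommRing R] [IsNoetherianRing R] [IsLocalRing R] {n : ℕ} (hn : ringKrullDim R = n)
variable {E : Type u} [AddCommGroup E] [Module R E] {f : ResidueField R →ₗ[R] E} (hf : InjHull.IsInjectiveHull f)
variable {K : Type u} [AddCommGroup K] [Module R K] [Module.Finite R K]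
variable (eK : (K →ₗ[R] E) ≃ₗ[R] (localCohomology (maximalIdeal R) n).obj (ModuleCat.of R R))

include hn hf eK

/-- A canonical module over a quotient of a Gorenstein local ring localizes. -/
theorem localization_canon {S : Type u} [CommRing S] [LocCoh.IsGorensteinLocalRing S] [Algebra S R]
    (hπ : Function.Surjective (algebraMap S R)) (p : Ideal R) [p.IsPrime]
    (hp : Nontrivial (LocalizedModule p.primeCompl K)) {h : ℕ} (hh : ringKrullDim (Localization.AtPrime p) = h)
    {E' : Type u} [AddCommGroup E'] [Module (Localization.AtPrime p) E']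
    {f' : ResidueField (Localization.AtPrime p) →ₗ[Localization.AtPrime p] E'}
    (hf' : InjHull.IsInjectiveHull f') :
    Nonempty ((LocalizedModule p.primeCompl K →ₗ[Localization.AtPrime p] E') ≃ₗ[Localization.AtPrime p]
      (localCohomology (maximalIdeal (Localization.AtPrime p)) h).obj
        (ModuleCat.of (Localization.AtPrime p) (Localization.AtPrime p))) := by
  obtain ⟨N, hN, -, -⟩ := gorenstein_basic (R := S)
  haveI : Module.Finite S R := Module.Finite.of_surjective (Algebra.linearMap S R) hπ
  have hnN : n ≤ N := by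
    have := ringKrullDim_le_of_surjective (algebraMap S R) hπ
    rw [hn, hN] at this
    exact_mod_cast this
  obtain ⟨c, hc⟩ : ∃ c, n + c = N := ⟨N - n, by omega⟩
  letI : Module S K := Module.compHom K (algebraMap S R)
  haveI : IsScalarTower S R K := IsScalarTower.of_algebraMap_smul fun _ _ => rfl
  -- `K ≅ Ext^c_S(R, S)`
  obtain ⟨X, _, _, hX, ⟨ι⟩⟩ := exists_extModule (S := S) hπ c
  obtain ⟨eX⟩ := canon_of_ext hf hπ hN hc X ι
  haveI := hX
  obtain ⟨θ⟩ := nonempty_linearEquiv_of_dualEquiv hf (eX.trans eK.symm)
  let ιK : K ≃ₗ[S] Abelian.Ext (ModuleCat.of S R) (ModuleCat.of S S) c := (θ.restrictScalars S).trans ι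
  let P := p.comap (algebraMap S R)
  let A := Localization.AtPrime P
  let B := Localization.AtPrime p
  haveI : IsNoetherianRing A := IsLocalization.isNoetherianRing P.primeCompl A inferInstance
  haveI : IsNoetherianRing B := IsLocalization.isNoetherianRing p.primeCompl B inferInstance
  haveI := isCohenMacaulayLocalRing_of_gorenstein (R := S)
  haveI := gorenstein_localized P
  let σ := Localization.localRingHom P p (algebraMap S R) rfl
  have hσ : Function.Surjective σ := RingHom.surjective_localRingHom_of_surjective (algebraMap S R) hπ p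
  letI : Algebra A B := σ.toAlgebra
  let Kp := LocalizedModule p.primeCompl K
  letI : Module A Kp := Module.compHom _ σ
  haveI : IsScalarTower A B Kp := IsScalarTower.of_algebraMap_smul fun _ _ => rfl
  letI : Module A (LocalizedModule p.primeCompl R) := Module.compHom _ σ
  obtain ⟨eKp, heKp⟩ := exists_semilinear_localized (M := K) hπ p
  let elK : LocalizedModule P.primeCompl K ≃ₗ[A] Kp := { eKp with map_smul' := fun z x => heKp z x }
  obtain ⟨eRp, heRp⟩ := exists_semilinear_localized (M := R) hπ p
  let elR : LocalizedModule P.primeCompl R ≃ₗ[A] B :=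
    { eRp.trans (LC.selfLoc p.primeCompl).toAddEquiv with
      map_smul' := fun z x => by
        show LC.selfLoc p.primeCompl (eRp (z • x)) = σ z * LC.selfLoc p.primeCompl (eRp x)
        rw [heRp, map_smul, smul_eq_mul] }
  obtain ⟨eL⟩ := exists_extLoc_ring P.primeCompl R c
  let ιA : Kp ≃ₗ[A] Abelian.Ext (ModuleCat.of A B) (ModuleCat.of A A) c :=
    elK.symm.trans ((IsLocalizedModule.mapEquiv P.primeCompl (LocalizedModule.mkLinearMap _ _)
      (LocalizedModule.mkLinearMap _ _) A ιK).trans (eL.trans (extCongr elR.toModuleIso (Iso.refl _) c)))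
  obtain ⟨hA, hhA, -, hv⟩ := gorenstein_basic (R := A)
  haveI : Module.Finite A B := Module.Finite.of_surjective (Algebra.linearMap A B) hσ
  haveI : Nontrivial (Abelian.Ext (ModuleCat.of A B) (ModuleCat.of A A) c) := ιA.symm.toEquiv.nontrivial
  have hcA : c ≤ hA := by
    by_contra hlt
    exact not_subsingleton _ (hv B c (by omega))
  -- dimensions
  obtain ⟨E2, _, _, fE2, hE2⟩ := exists_injectiveHull A (ResidueField A)
  obtain ⟨φ⟩ := exists_localDuality_gorenstein (R := A) hA hhA E2 hE2 B c (hA - c) (by omega)
  have hge : hA - c ≤ h := by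
    by_contra hlt
    have h0 := subsingleton_H_of_supportDim_lt (maximalIdeal A) B (hA - c) (by
      refine lt_of_le_of_lt (supportDim_le_quot (J := RingHom.ker σ) fun a ha z => ?_)
        (show ringKrullDim (A ⧸ RingHom.ker σ) < ((hA - c : ℕ) : WithBot ℕ∞) from ?_)
      · show σ a * z = 0
        rw [(RingHom.mem_ker (f := σ)).1 ha, zero_mul]
      · rw [ringKrullDim_eq_of_ringEquiv (RingHom.quotientKerEquivOfSurjective hσ), hh]
        exact_mod_cast (by omega : h < hA - c))
    haveI := φ.symm.injective.subsingleton
    obtain ⟨x, hx⟩ := exists_ne (0 : Abelian.Ext (ModuleCat.of A B) (ModuleCat.of A A) c)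
    obtain ⟨ψ, hψ⟩ := exists_dual_ne_zero hE2 hx
    exact hψ (LinearMap.congr_fun (Subsingleton.elim ψ 0) x)
  obtain ⟨e, he, hedim⟩ := exists_ringKrullDim_quot_eq_nat (R := R) hn.le (Ideal.IsPrime.ne_top ‹p.IsPrime›)
  have hle : h + e ≤ n := by
    have h1' := S5765.result R R p
    rw [Module.supportDim_eq_of_equiv (LC.selfLoc p.primeCompl), Module.supportDim_self_eq_ringKrullDim,
      Module.supportDim_eq_of_equiv (Submodule.quotEquivOfEq _ p (by rw [smul_eq_mul, Ideal.mul_top])),
      Module.supportDim_quotient_eq_ringKrullDim, Module.supportDim_self_eq_ringKrullDim, hh, hedim, hn] at h1'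
    exact_mod_cast h1'
  have hsum : hA + e = N := by
    have h1 := height_add_ringKrullDim_quotient P (Ideal.IsPrime.ne_top inferInstance)
    rw [ringKrullDim_quotient_comap hπ p, hedim, hN,
      ← IsLocalization.AtPrime.ringKrullDim_eq_height P A, hhA] at h1
    have h2 : e + hA = N := by exact_mod_cast h1
    omega
  exact canon_of_ext hf' hσ hhA (by omega : h + c = hA) Kp ιA

end Groth.Agent.LC.Canon
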