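import Groth.Agent.LC.CanonGor
import Groth.Agent.LC.CanonBasic

/-!
# The canonical module and the low dimensional ideal
-/

set_option autoImplicit false

universe u

open CategoryTheory Limits IsLocalRing

namespace Groth.Agent.LC.Canon

variable {R : Type u} [CommRing R] [IsNoetherianRing R] [IsLocalRing R] {n : ℕ}

/-- `H^n(R) ≅ H^n(R/u)` when `dim u < n`. -/
theorem exists_H_quot_equiv {u : Ideal R} (hu : Module.supportDim R u < n) :
    Nonempty ((localCohomology (maximalIdeal R) n).obj (ModuleCat.of R R) ≃ₗ[R]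
      (localCohomology (maximalIdeal R) n).obj (ModuleCat.of R (R ⧸ u))) := by
  let I := maximalIdeal R
  let T : ShortComplex (ModuleCat.{u} R) := ShortComplex.mk (ModuleCat.ofHom u.subtype) (ModuleCat.ofHom u.mkQ)
    (ModuleCat.hom_ext (LinearMap.ext fun z => (Submodule.Quotient.mk_eq_zero _).2 z.2))
  have hT : T.ShortExact :=
    { exact := (ShortComplex.ShortExact.moduleCat_exact_iff_function_exact _).2 (LinearMap.exact_subtype_mkQ u)
      mono_f := (ModuleCat.mono_iff_injective _).2 Subtype.val_injective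
      epi_g := (ModuleCat.epi_iff_surjective _).2 (Submodule.mkQ_surjective _) }
  have h0 := subsingleton_H_of_supportDim_lt I u n hu
  have h1 := subsingleton_H_of_supportDim_lt I u (n + 1) (hu.trans (by exact_mod_cast Nat.lt_succ_self n))
  refine ⟨LinearEquiv.ofBijective ((localCohomology I n).map T.g).hom ⟨?_, fun z => ?_⟩⟩
  · refine (injective_iff_map_eq_zero _).2 fun z hz => ?_
    obtain ⟨w, rfl⟩ := (exact₂ I n hT z).1 hz
    exact (congrArg _ (@Subsingleton.elim _ h0 w 0)).trans (map_zero _)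
  · exact (exact₃ I n hT (n + 1) rfl z).1 (@Subsingleton.elim _ h1 _ _)

/-- Canonical modules over `R` and over `R/u` agree. -/
theorem canon_iff_canon_quot {E : Type u} [AddCommGroup E] [Module R E] {f : ResidueField R →ₗ[R] E}
    (hf : InjHull.IsInjectiveHull f) {u : Ideal R} (hu : Module.supportDim R u < n) [IsLocalRing (R ⧸ u)]
    {E' : Type u} [AddCommGroup E'] [Module (R ⧸ u) E'] {f' : ResidueField (R ⧸ u) →ₗ[R ⧸ u] E'}
    (hf' : InjHull.IsInjectiveHull f') (K : Type u) [AddCommGroup K] [Module R K] [Module (R ⧸ u) K]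
    [IsScalarTower R (R ⧸ u) K] :
    Nonempty ((K →ₗ[R] E) ≃ₗ[R] (localCohomology (maximalIdeal R) n).obj (ModuleCat.of R R)) ↔
      Nonempty ((K →ₗ[R ⧸ u] E') ≃ₗ[R ⧸ u]
        (localCohomology (maximalIdeal (R ⧸ u)) n).obj (ModuleCat.of (R ⧸ u) (R ⧸ u))) := by
  have hπ : Function.Surjective (algebraMap R (R ⧸ u)) := Ideal.Quotient.mk_surjective
  obtain ⟨Φ, hΦ⟩ := exists_homHull_equiv hπ hf hf' K
  obtain ⟨q⟩ := exists_H_quot_equiv hu
  obtain ⟨ψ, hψ⟩ : ∃ ψ : (localCohomology (maximalIdeal (R ⧸ u)) n).obj (ModuleCat.of (R ⧸ u) (R ⧸ u)) ≃+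
      (localCohomology (maximalIdeal R) n).obj (ModuleCat.of R (R ⧸ u)),
      ∀ (a : R) x, ψ (algebraMap R (R ⧸ u) a • x) = a • ψ x := by
    rw [← map_maximalIdeal_of_surjective _ hπ]
    exact exists_indep (R := R) (R' := R ⧸ u) (maximalIdeal R) n (R ⧸ u)
  constructor
  · rintro ⟨e⟩
    refine ⟨AddEquiv.toLinearEquiv (Φ.trans ((e.trans q).toAddEquiv.trans ψ.symm)) fun r x => ?_⟩
    obtain ⟨a, rfl⟩ := hπ r
    apply ψ.injective
    rw [hψ]
    show ψ (ψ.symm (q (e (Φ (algebraMap R (R ⧸ u) a • x))))) = a • ψ (ψ.symm (q (e (Φ x))))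
    rw [ψ.apply_symm_apply, ψ.apply_symm_apply, hΦ, map_smul, map_smul]
  · rintro ⟨e⟩
    let g := (Φ.symm.trans (e.toAddEquiv.trans ψ))
    refine ⟨(AddEquiv.toLinearEquiv g fun a x => ?_).trans q.symm⟩
    obtain ⟨φ, rfl⟩ := Φ.surjective x
    show ψ (e (Φ.symm (a • Φ φ))) = a • ψ (e (Φ.symm (Φ φ)))
    rw [← hΦ, Φ.symm_apply_apply, Φ.symm_apply_apply, map_smul, hψ]

end Groth.Agent.LC.Canon
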