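import Groth.Agent.LC.LiaisonGlobal
import Groth.Agent.LC.LocalDualityCM

/-!
# Linkage preserves the Cohen–Macaulay property
-/

set_option autoImplicit false

universe u

open CategoryTheory Limits IsLocalRing

namespace Groth.Agent.LC.Liaison

section Local

variable {R : Type u} [CommRing R] [IsLocalRing R] [LocCoh.IsGorensteinLocalRing R]

/-- A maximal Cohen–Macaulay module has no higher `Ext` into the ring. -/
theorem ext_zero_of_H_low {d : ℕ} (hd : ringKrullDim R = d) (M : Type u) [AddCommGroup M] [Module R M]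
    [Module.Finite R M]
    (hM : ∀ j < d, Subsingleton ((localCohomology (maximalIdeal R) j).obj (ModuleCat.of R M))) :
    ∀ i, 0 < i → Subsingleton (Abelian.Ext (ModuleCat.of R M) (ModuleCat.of R R) i) := by
  intro i hi
  obtain ⟨d', hd', hδ, hv⟩ := gorenstein_basic (R := R)
  obtain rfl : d = d' := by rw [hd] at hd'; exact_mod_cast hd'
  by_cases hid : d < i
  · exact hv M i hid
  obtain ⟨g, hg⟩ := isInjectiveHull_H_gorenstein (R := R) hd
  haveI := hg.isInjective
  obtain ⟨φ⟩ := exists_localDuality (maximalIdeal R) d R _ (LinearMap.ringLmapEquivSelf R R _)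
    (subsingleton_H_low_of_depth hδ.ge) (fun N _ => subsingleton_H_succ_of_ringKrullDim _ hd.le N) i M (d - i)
    (by omega)
  haveI := hM (d - i) (by omega)
  haveI := φ.symm.injective.subsingleton
  refine subsingleton_of_forall_eq 0 fun x => ?_
  by_contra hx
  obtain ⟨ψ, hψ⟩ := exists_dual_ne_zero hg hx
  exact hψ (LinearMap.congr_fun (Subsingleton.elim ψ 0) x)

/-- The dual of a module without higher `Ext` is maximal Cohen–Macaulay. -/
theorem subsingleton_H_dual {d : ℕ} (hd : ringKrullDim R = d) :
    ∀ (i : ℕ), i < d → ∀ (K : Type u) [AddCommGroup K] [Module R K] [Module.Finite R K],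
      (∀ j, 0 < j → Subsingleton (Abelian.Ext (ModuleCat.of R K) (ModuleCat.of R R) j)) →
      Subsingleton ((localCohomology (maximalIdeal R) i).obj (ModuleCat.of R (K →ₗ[R] R))) := by
  obtain ⟨d', hd', hδ, -⟩ := gorenstein_basic (R := R)
  obtain rfl : d = d' := by rw [hd] at hd'; exact_mod_cast hd'
  intro i
  induction i with
  | zero | succ i ih =>
    intro hi K _ _ _ hK
    obtain ⟨n, π, hπ⟩ := exists_fin_presentation (R := R) K
    let S : ShortComplex (ModuleCat.{u} R) := ShortComplex.mk (X₁ := ModuleCat.of R (LinearMap.ker π))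
      (X₂ := ModuleCat.of R (Fin n → R)) (X₃ := ModuleCat.of R K)
      (ModuleCat.ofHom (LinearMap.ker π).subtype) (ModuleCat.ofHom π)
      (ModuleCat.hom_ext (LinearMap.ext fun z => z.2))
    have hS : S.ShortExact :=
      { exact := (ShortComplex.ShortExact.moduleCat_exact_iff_function_exact _).2
          (LinearMap.exact_subtype_ker_map π)
        mono_f := (ModuleCat.mono_iff_injective _).2 Subtype.val_injective
        epi_g := (ModuleCat.epi_iff_surjective _).2 hπ }
    haveI : Projective S.X₂ := (IsProjective.iff_projective (R := R) (Fin n → R)).1 inferInstance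
    have hK' : ∀ j, 0 < j →
        Subsingleton (Abelian.Ext (ModuleCat.of R (LinearMap.ker π)) (ModuleCat.of R R) j) := by
      intro j hj
      refine subsingleton_of_forall_eq 0 fun x => ?_
      obtain ⟨x₂, rfl⟩ := Abelian.Ext.contravariant_sequence_exact₁ hS (ModuleCat.of R R) x
        (n₁ := j + 1) (add_comm 1 j) (@Subsingleton.elim _ (hK (j + 1) j.succ_pos) _ _)
      obtain ⟨k, rfl⟩ : ∃ k, j = k + 1 := ⟨j - 1, by omega⟩
      rw [Abelian.Ext.eq_zero_of_projective x₂, Abelian.Ext.comp_zero]
    let D : ShortComplex (ModuleCat.{u} R) := ShortComplex.mk (X₁ := ModuleCat.of R (K →ₗ[R] R))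
      (X₂ := ModuleCat.of R ((Fin n → R) →ₗ[R] R)) (X₃ := ModuleCat.of R ((LinearMap.ker π) →ₗ[R] R))
      (ModuleCat.ofHom (LinearMap.lcomp R R π)) (ModuleCat.ofHom (LinearMap.lcomp R R (LinearMap.ker π).subtype))
      (ModuleCat.hom_ext (LinearMap.ext fun g => LinearMap.ext fun z =>
        show g (π z.1) = 0 by rw [show π z.1 = 0 from z.2, map_zero]))
    have hD : D.ShortExact :=
      { exact := (ShortComplex.ShortExact.moduleCat_exact_iff_function_exact _).2 fun g => by
          constructor
          · intro hg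
            have hker : LinearMap.ker π ≤ LinearMap.ker g := fun z hz => LinearMap.congr_fun hg ⟨z, hz⟩
            refine ⟨(LinearMap.ker π).liftQ g hker ∘ₗ (π.quotKerEquivOfSurjective hπ).symm.toLinearMap,
              LinearMap.ext fun z => ?_⟩
            show (LinearMap.ker π).liftQ g hker ((π.quotKerEquivOfSurjective hπ).symm (π z)) = g z
            rw [show (π.quotKerEquivOfSurjective hπ).symm (π z) = Submodule.Quotient.mk z from
              (LinearEquiv.symm_apply_eq _).2 rfl, Submodule.liftQ_apply]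
          · rintro ⟨h, rfl⟩
            exact LinearMap.ext fun z => show h (π z.1) = 0 by rw [show π z.1 = 0 from z.2, map_zero]
        mono_f := (ModuleCat.mono_iff_injective _).2 fun g g' h => LinearMap.ext fun y => by
          obtain ⟨y, rfl⟩ := hπ y
          exact LinearMap.congr_fun h y
        epi_g := (ModuleCat.epi_iff_surjective _).2 fun g => by
          obtain ⟨x₂, hx₂⟩ := Abelian.Ext.contravariant_sequence_exact₁ hS (ModuleCat.of R R)
            (Abelian.Ext.mk₀ (ModuleCat.ofHom g)) (n₁ := 1) (add_comm 1 0) (@Subsingleton.elim _ (hK 1 one_pos) _ _)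
          obtain ⟨f₂, rfl⟩ := (Abelian.Ext.mk₀_bijective _ _).2 x₂
          rw [Abelian.Ext.mk₀_comp_mk₀] at hx₂
          exact ⟨f₂.hom, congrArg ModuleCat.Hom.hom ((Abelian.Ext.mk₀_bijective _ _).1 hx₂)⟩ }
    have hF : ∀ k < d, Subsingleton ((localCohomology (maximalIdeal R) k).obj
        (ModuleCat.of R ((Fin n → R) →ₗ[R] R))) := fun k hk =>
      @Function.Injective.subsingleton _ _ _
        ((localCohomology (maximalIdeal R) k).mapIso (Module.piEquiv (Fin n) R R).symm.toModuleIso).toLinearEquiv.injective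
        (subsingleton_H_pi_low (maximalIdeal R) d (subsingleton_H_low_of_depth hδ.ge) n hk)
    exact @Function.Injective.subsingleton _ _ _
      (injective_H_map (maximalIdeal R) _ hD fun k hk => by
        first
          | omega
          | (obtain rfl : k = i := by omega
             exact ih (by omega) _ hK'))
      (hF _ hi)

/-- Linkage in a Gorenstein local ring. -/
theorem subsingleton_H_linked {d : ℕ} (hd : ringKrullDim R = d) (a b : Ideal R)
    (hab : Submodule.annihilator a = b)
    (ha : ∀ j < d, Subsingleton ((localCohomology (maximalIdeal R) j).obj (ModuleCat.of R (R ⧸ a)))) :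
    ∀ i < d, Subsingleton ((localCohomology (maximalIdeal R) i).obj (ModuleCat.of R (R ⧸ b))) := by
  have hM := ext_zero_of_H_low hd (R ⧸ a) ha
  let T : ShortComplex (ModuleCat.{u} R) := ShortComplex.mk (ModuleCat.ofHom a.subtype) (ModuleCat.ofHom a.mkQ)
    (ModuleCat.hom_ext (LinearMap.ext fun z => (Submodule.Quotient.mk_eq_zero _).2 z.2))
  have hT : T.ShortExact :=
    { exact := (ShortComplex.ShortExact.moduleCat_exact_iff_function_exact _).2 (LinearMap.exact_subtype_mkQ a)
      mono_f := (ModuleCat.mono_iff_injective _).2 Subtype.val_injective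
      epi_g := (ModuleCat.epi_iff_surjective _).2 (Submodule.mkQ_surjective _) }
  have hK : ∀ j, 0 < j → Subsingleton (Abelian.Ext (ModuleCat.of R a) (ModuleCat.of R R) j) := by
    intro j hj
    refine subsingleton_of_forall_eq 0 fun x => ?_
    obtain ⟨x₂, rfl⟩ := Abelian.Ext.contravariant_sequence_exact₁ hT (ModuleCat.of R R) x
      (n₁ := j + 1) (add_comm 1 j) (@Subsingleton.elim _ (hM (j + 1) j.succ_pos) _ _)
    rw [@Subsingleton.elim _ (subsingleton_ext_self (ModuleCat.of R R) hj) x₂ 0, Abelian.Ext.comp_zero]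
  let μ : R →ₗ[R] (a →ₗ[R] R) := LinearMap.toSpanSingleton R _ a.subtype
  have hμ : Function.Surjective μ := by
    intro g
    obtain ⟨x₂, hx₂⟩ := Abelian.Ext.contravariant_sequence_exact₁ hT (ModuleCat.of R R)
      (Abelian.Ext.mk₀ (ModuleCat.ofHom g)) (n₁ := 1) (add_comm 1 0) (@Subsingleton.elim _ (hM 1 one_pos) _ _)
    obtain ⟨f₂, rfl⟩ := (Abelian.Ext.mk₀_bijective _ _).2 x₂
    rw [Abelian.Ext.mk₀_comp_mk₀] at hx₂
    have h := congrArg ModuleCat.Hom.hom ((Abelian.Ext.mk₀_bijective _ _).1 hx₂)
    refine ⟨f₂.hom (1 : R), LinearMap.ext fun z => ?_⟩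
    show f₂.hom (1 : R) • (z : R) = g z
    rw [show g z = f₂.hom (z : R) from (LinearMap.congr_fun h z).symm, smul_eq_mul, mul_comm, ← smul_eq_mul,
      ← map_smul, smul_eq_mul, mul_one]
  have hker : LinearMap.ker μ = b := by
    rw [← hab]
    ext c
    rw [LinearMap.mem_ker, Submodule.mem_annihilator]
    exact ⟨fun h r hr => LinearMap.congr_fun h ⟨r, hr⟩, fun h => LinearMap.ext fun z => h z.1 z.2⟩
  let e : (R ⧸ b) ≃ₗ[R] (a →ₗ[R] R) :=
    (Submodule.quotEquivOfEq _ _ hker.symm).trans (μ.quotKerEquivOfSurjective hμ)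
  exact fun i hi => @Function.Injective.subsingleton _ _ _
    ((localCohomology (maximalIdeal R) i).mapIso e.toModuleIso).toLinearEquiv.injective
    (subsingleton_H_dual hd i hi a hK)

theorem isCMLocal_quot_of_H_low {d : ℕ} (hd : ringKrullDim R = d) (b : Ideal R) [IsLocalRing (R ⧸ b)]
    (hb : ∀ i < d, Subsingleton ((localCohomology (maximalIdeal R) i).obj (ModuleCat.of R (R ⧸ b)))) :
    LocCoh.IsCohenMacaulayLocalRing (R ⧸ b) := by
  have hσ : Function.Surjective (algebraMap R (R ⧸ b)) := Ideal.Quotient.mk_surjective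
  have hdep : (d : ℕ∞) ≤ LocCoh.depth (R ⧸ b) (R ⧸ b) := by
    refine (le_idealDepth_iff_H (maximalIdeal (R ⧸ b)) (R ⧸ b) d).2 fun i hi => ?_
    have h := exists_indep (R := R) (R' := R ⧸ b) (maximalIdeal R) i (R ⧸ b)
    rw [map_maximalIdeal_of_surjective (algebraMap R (R ⧸ b)) hσ] at h
    obtain ⟨φ, -⟩ := h
    exact @Function.Injective.subsingleton _ _ φ φ.injective (hb i hi)
  refine { supportDim_eq_depth := le_antisymm ?_ (depth_le_supportDim (R ⧸ b)) }
  rw [Module.supportDim_self_eq_ringKrullDim]
  exact ((ringKrullDim_quotient_le b).trans hd.le).trans (WithBot.coe_le_coe.2 hdep)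

end Local

section Global

theorem isCMRing_linked {A : Type u} [CommRing A] [LocCoh.IsGorensteinRing A] (a b : Ideal A)
    (hab : Submodule.annihilator a = b) (hba : Submodule.annihilator b = a)
    [LocCoh.IsCohenMacaulayRing (A ⧸ a)] {C : Type u} [CommRing C] (φ : A →+* C) (hφ : Function.Surjective φ)
    (hker : RingHom.ker φ = b) : LocCoh.IsCohenMacaulayRing C := by
  haveI : IsNoetherianRing C := isNoetherianRing_of_surjective A C φ hφ
  refine { isCohenMacaulayLocalRing_localization := fun q _ => ?_ }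
  let q0 := q.comap φ
  let L := Localization.AtPrime q0
  haveI := LocCoh.IsGorensteinRing.isGorensteinLocalRing_localization (A := A) q0
  haveI := isCMRing_atPrime q0
  haveI : IsNoetherianRing (Localization.AtPrime q) := isNoetherianRing_atPrime q
  obtain ⟨e⟩ := exists_quot_localization_equiv φ q q0 rfl hφ
  obtain ⟨d, hd, hδ, -⟩ := gorenstein_basic (R := L)
  have hb := congrArg (Ideal.map (algebraMap A L)) hker
  have hlow : ∀ j < d,
      Subsingleton ((localCohomology (maximalIdeal L) j).obj (ModuleCat.of L (L ⧸ a.map (algebraMap A L)))) := by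
    by_cases haq : a ≤ q0
    · let q' := q0.map (Ideal.Quotient.mk a)
      haveI : q'.IsPrime := Ideal.map_isPrime_of_surjective Ideal.Quotient.mk_surjective (by rwa [Ideal.mk_ker])
      have hq' : q0 = q'.comap (Ideal.Quotient.mk a) := (comap_map_mk' haq).symm
      obtain ⟨e'⟩ := exists_quot_localization_equiv _ q' q0 hq' Ideal.Quotient.mk_surjective
      have hspan := congrArg (Ideal.map (algebraMap A L)) (Ideal.mk_ker (I := a))
      haveI := LocCoh.IsCohenMacaulayRing.isCohenMacaulayLocalRing_localization (R := A ⧸ a) q'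
      haveI : IsLocalRing (L ⧸ a.map (algebraMap A L)) := by
        haveI := ((Ideal.quotEquivOfEq hspan.symm).trans e').toEquiv.nontrivial
        exact .of_surjective' _ Ideal.Quotient.mk_surjective
      haveI := isCMLocal_of_ringEquiv ((Ideal.quotEquivOfEq hspan.symm).trans e').symm
      have hne : b.map (algebraMap A L) ≠ ⊥ := by
        intro h0
        have h1 : (a.map (algebraMap A L)) = ⊤ := by
          rw [← hba, ← annihilator_map, h0, Submodule.annihilator_bot]
        have h2 : a.map (algebraMap A L) ≤ maximalIdeal L := by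
          rw [← Localization.AtPrime.map_eq_maximalIdeal]; exact Ideal.map_mono haq
        exact (maximalIdeal.isMaximal L).ne_top (top_unique (h1 ▸ h2))
      obtain ⟨x, hx, hx0⟩ := (Submodule.ne_bot_iff _).1 hne
      obtain ⟨P, hP, hle⟩ := exists_le_isAssociatedPrime_of_isNoetherianRing L x hx0
      have hmin := minimal_of_ass ((AssociatedPrimes.mem_iff).2 hP)
      haveI := hmin.1.1
      have haP : a.map (algebraMap A L) ≤ P := fun y hy => hle (by
        rw [← hba, ← annihilator_map] at hy
        rw [Submodule.mem_colon_singleton, Submodule.mem_bot]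
        exact Submodule.mem_annihilator.1 hy x hx)
      exact subsingleton_H_of_CM_quot _ ((ringKrullDim_quot_eq P hmin haP).trans hd)
    · intro j _
      have htop : a.map (algebraMap A L) = ⊤ := by
        obtain ⟨x, hx, hxq⟩ := SetLike.not_le_iff_exists.1 haq
        exact Ideal.eq_top_of_isUnit_mem _ (Ideal.mem_map_of_mem _ hx)
          (IsLocalization.map_units L (⟨x, hxq⟩ : q0.primeCompl))
      haveI : Subsingleton (L ⧸ a.map (algebraMap A L)) := Ideal.Quotient.subsingleton_iff.2 htop
      exact subsingleton_H_of_supportDim_lt _ _ j (by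
        rw [Module.supportDim_eq_bot_of_subsingleton]; exact WithBot.bot_lt_coe _)
  have hlow' := subsingleton_H_linked hd (a.map (algebraMap A L)) (b.map (algebraMap A L))
    (by rw [annihilator_map, hab]) hlow
  haveI : IsLocalRing (L ⧸ b.map (algebraMap A L)) := by
    haveI := ((Ideal.quotEquivOfEq hb.symm).trans e).toEquiv.nontrivial
    exact .of_surjective' _ Ideal.Quotient.mk_surjective
  haveI := isCMLocal_quot_of_H_low hd _ hlow'
  exact isCMLocal_of_ringEquiv ((Ideal.quotEquivOfEq hb.symm).trans e)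

theorem isCMRing_iff_of_colon {S : Type u} [CommRing S] {c I J : Ideal S} [LocCoh.IsGorensteinRing (S ⧸ c)]
    (hIJ : c.colon (I : Set S) = J) (hJI : c.colon (J : Set S) = I) :
    LocCoh.IsCohenMacaulayRing (S ⧸ I) → LocCoh.IsCohenMacaulayRing (S ⧸ J) := by
  intro hI
  have hcI : c ≤ I := hJI ▸ fun x hx => Submodule.mem_colon.2 fun s _ => c.mul_mem_right s hx
  have hcJ : c ≤ J := hIJ ▸ fun x hx => Submodule.mem_colon.2 fun s _ => c.mul_mem_right s hx
  have key : ∀ I J : Ideal S, c ≤ J → c.colon (I : Set S) = J →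
      Submodule.annihilator (I.map (Ideal.Quotient.mk c)) = J.map (Ideal.Quotient.mk c) := by
    intro I J hcJ h
    ext x
    obtain ⟨x, rfl⟩ := Ideal.Quotient.mk_surjective x
    rw [← Ideal.mem_comap (f := Ideal.Quotient.mk c), ← Ideal.mem_comap (f := Ideal.Quotient.mk c),
      Ideal.comap_map_of_surjective' _ Ideal.Quotient.mk_surjective, Ideal.mk_ker, sup_eq_left.2 hcJ, ← h,
      Ideal.mem_comap, Submodule.mem_annihilator, Submodule.mem_colon]
    refine ⟨fun hx r hr => ?_, fun hx r hr => ?_⟩
    · have := hx _ (Ideal.mem_map_of_mem _ hr)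
      rwa [smul_eq_mul, ← map_mul, Ideal.Quotient.eq_zero_iff_mem] at this
    · obtain ⟨r, hr', rfl⟩ := (Ideal.mem_map_iff_of_surjective _ Ideal.Quotient.mk_surjective).1 hr
      rw [smul_eq_mul, ← map_mul, Ideal.Quotient.eq_zero_iff_mem]
      exact hx r hr'
  haveI : LocCoh.IsCohenMacaulayRing ((S ⧸ c) ⧸ I.map (Ideal.Quotient.mk c)) :=
    FlatLoc6.isCM_of_ringEquiv (DoubleQuot.quotQuotEquivQuotOfLE hcI).symm hI
  exact isCMRing_linked (I.map (Ideal.Quotient.mk c)) (J.map (Ideal.Quotient.mk c)) (key I J hcJ hIJ)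
    (key J I hcI hJI) (Ideal.Quotient.factor hcJ) (Ideal.Quotient.factor_surjective hcJ)
    (Ideal.Quotient.factor_ker hcJ)

end Global

end Groth.Agent.LC.Liaison
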