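import Groth.Agent.LC.CanonComplete
import Groth.Agent.LC.CanonLoc
import Groth.Agent.LC.CanonLowDim
import Groth.Agent.LC.CanonCM
import Groth.Agent.LC.CompleteCatenary
import Groth.Agent.LC.LiaisonLink
import Groth.Agent.LC.Finiteness
import Mathlib.RingTheory.Ideal.KrullsHeightTheorem
import Mathlib.RingTheory.Flat.Basic

/-!
# Support, annihilator and endomorphisms of canonical modules
-/

set_option autoImplicit false

universe u

open CategoryTheory Limits IsLocalRing TensorProduct

namespace Groth.Agent.LC.Canon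

theorem height_add_dim_quot_le {A : Type u} [CommRing A] [IsNoetherianRing A] (p : Ideal A) [hp : p.IsPrime] :
    (p.height : WithBot ℕ∞) + ringKrullDim (A ⧸ p) ≤ ringKrullDim A := by
  let x : PrimeSpectrum A := ⟨p, hp⟩
  haveI : Nonempty (PrimeSpectrum A) := ⟨x⟩
  rw [show p.height = Order.height x from PrimeSpectrum.height_eq_orderHeight x, ← coheight_eq_ringKrullDim_quotient x, ← WithBot.coe_add,
    ringKrullDim, Order.krullDim_eq_iSup_height_add_coheight_of_nonempty, WithBot.coe_le_coe]
  exact le_iSup (fun a : PrimeSpectrum A => Order.height a + Order.coheight a) x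

theorem comap_map_quot {A : Type u} [CommRing A] {I J : Ideal A} (h : I ≤ J) :
    (J.map (Ideal.Quotient.mk I)).comap (Ideal.Quotient.mk I) = J := by
  rw [Ideal.comap_map_of_surjective' _ Ideal.Quotient.mk_surjective, Ideal.mk_ker, sup_eq_left.2 h]

theorem exists_prime_le_dim {A : Type u} [CommRing A] [IsNoetherianRing A] (p : Ideal A) [hp : p.IsPrime] :
    ∃ q : Ideal A, q.IsPrime ∧ q ≤ p ∧
      (p.height : WithBot ℕ∞) + ringKrullDim (A ⧸ p) ≤ ringKrullDim (A ⧸ q) := by
  let x : PrimeSpectrum A := ⟨p, hp⟩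
  obtain ⟨h, hh⟩ := ENat.ne_top_iff_exists.1 (Ideal.height_ne_top (I := p) hp.ne_top)
  obtain ⟨l, hl, hlen⟩ := Order.exists_series_of_height_eq_coe x
    (show Order.height x = (h : ℕ∞) from ((PrimeSpectrum.height_eq_orderHeight x).symm.trans hh.symm))
  refine ⟨l.head.asIdeal, l.head.isPrime, l.head_le_last.trans hl.le, ?_⟩
  rw [← coheight_eq_ringKrullDim_quotient l.head, ← coheight_eq_ringKrullDim_quotient x, ← hh, ← WithBot.coe_add,
    WithBot.coe_le_coe]
  rcases eq_or_ne (Order.coheight l.head) ⊤ with he | he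
  · rw [he]; exact le_top
  obtain ⟨c, hc⟩ := ENat.ne_top_iff_exists.1 he
  have key : ∀ l' : LTSeries (PrimeSpectrum A), l'.head = x → h + l'.length ≤ c := fun l' hl' => by
    have hls := Order.length_le_coheight_head (p := l.smash l' (hl.trans hl'.symm))
    rw [RelSeries.head_smash, RelSeries.smash_length, hlen, ← hc] at hls
    exact_mod_cast hls
  have h0 := key (RelSeries.singleton _ x) (RelSeries.head_singleton x)
  rw [RelSeries.singleton_length, add_zero] at h0
  have hx : Order.coheight x ≤ ((c - h : ℕ) : ℕ∞) := Order.coheight_le fun l' hl' => by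
    exact_mod_cast (by have := key l' hl'; omega : l'.length ≤ c - h)
  rw [← hc]
  exact (add_le_add le_rfl hx).trans (by exact_mod_cast (by omega : h + (c - h) ≤ c))

theorem mem_support_of_mem_ass {A M : Type u} [CommRing A] [AddCommGroup M] [Module A M] [Module.Finite A M]
    {p : Ideal A} (hp : p ∈ associatedPrimes A M) (q : PrimeSpectrum A) (hq : p ≤ q.asIdeal) :
    q ∈ Module.support A M := by
  rw [Module.support_eq_zeroLocus]
  intro a ha
  refine hq (IsAssociatedPrime.annihilator_le (AssociatedPrimes.mem_iff.1 hp) ?_)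
  rwa [Submodule.annihilator_top]

section

variable {R : Type u} [CommRing R] [IsNoetherianRing R] [IsLocalRing R] {n : ℕ} (hn : ringKrullDim R = n)
variable {E : Type u} [AddCommGroup E] [Module R E] {f : ResidueField R →ₗ[R] E} (hf : InjHull.IsInjectiveHull f)
variable {K : Type u} [AddCommGroup K] [Module R K] [Module.Finite R K]
variable (eK : (K →ₗ[R] E) ≃ₗ[R] (localCohomology (maximalIdeal R) n).obj (ModuleCat.of R R))

include hn hf eK

theorem mem_support_of_height_add_dim (p : Ideal R) [hp : p.IsPrime]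
    (h : (p.height : WithBot ℕ∞) + ringKrullDim (R ⧸ p) = n) : ⟨p, hp⟩ ∈ Module.support R K := by
  rcases Nat.eq_zero_or_pos n with rfl | hn0
  · haveI := nontrivial_dual hn hf eK
    obtain ⟨⟨q, hq⟩, hqK⟩ := (Module.nonempty_support_iff (R := R) (M := K)).2 inferInstance
    haveI := hq
    haveI : Ring.KrullDimLE 0 R := Ring.krullDimLE_iff.2 hn.le
    have e1 : q.IsMaximal := Ideal.IsPrime.isMaximal' hq
    have e2 : p.IsMaximal := Ideal.IsPrime.isMaximal' hp
    have e : q = p := (IsLocalRing.eq_maximalIdeal e1).trans (IsLocalRing.eq_maximalIdeal e2).symm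
    subst e
    exact hqK
  · obtain ⟨q, hq, hqp, hle⟩ := exists_prime_le_dim p
    rw [h] at hle
    have hqn : ringKrullDim (R ⧸ q) = n := le_antisymm ((ringKrullDim_quotient_le q).trans hn.le) hle
    have hass : q ∈ associatedPrimes R K := by rw [associatedPrimes_dual hn hf eK hn0]; exact ⟨hq, hqn⟩
    exact mem_support_of_mem_ass hass _ hqp

omit hn hf eK in
theorem dim_quot_map_completion_le (p : Ideal R) [p.IsPrime] :
    ringKrullDim (AdicCompletion (maximalIdeal R) R ⧸ p.map (algebraMap R (AdicCompletion (maximalIdeal R) R))) ≤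
      ringKrullDim (R ⧸ p) := by
  classical
  haveI := isNoetherianRing_completion (R := R)
  haveI := faithfullyFlat_completion (R := R)
  set B := AdicCompletion (maximalIdeal R) R
  have hp : p ≠ ⊤ := Ideal.IsPrime.ne_top inferInstance
  have := isLocalRing_quot hp
  obtain ⟨e, t, ht, hte, hrad⟩ := CohenLib.exists_fin_sop (R ⧸ p)
  choose s hs using fun i => Ideal.Quotient.mk_surjective (t i)
  let J := p ⊔ Ideal.span (Set.range s)
  have hJm : J ≤ maximalIdeal R := by
    refine sup_le (le_maximalIdeal hp) (Ideal.span_le.2 (Set.range_subset_iff.2 fun i => ?_))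
    have h1 := ht i
    rw [← hs, ← map_maximalIdeal_of_surjective _ (Ideal.Quotient.mk_surjective (I := p)),
      Ideal.mem_map_iff_of_surjective _ Ideal.Quotient.mk_surjective] at h1
    obtain ⟨y, hy, hys⟩ := h1
    have h2 := le_maximalIdeal hp (Ideal.Quotient.eq.1 hys)
    exact (Submodule.sub_mem_iff_right _ hy).1 h2
  obtain ⟨k, hk⟩ : ∃ k, maximalIdeal R ^ k ≤ J := by
    refine Ideal.exists_pow_le_of_le_radical_of_fg (fun a ha => ?_) (IsNoetherian.noetherian _)
    have h1 : Ideal.Quotient.mk p a ∈ (Ideal.span (Set.range t)).radical := by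
      refine hrad ?_
      rw [← map_maximalIdeal_of_surjective _ (Ideal.Quotient.mk_surjective (I := p))]
      exact Ideal.mem_map_of_mem _ ha
    obtain ⟨k, hk⟩ := h1
    refine ⟨k, ?_⟩
    rw [← map_pow, show t = Ideal.Quotient.mk p ∘ s from funext fun i => (hs i).symm, Set.range_comp,
      ← Ideal.map_span, ← Ideal.mem_comap, Ideal.comap_map_of_surjective' _ Ideal.Quotient.mk_surjective,
      Ideal.mk_ker, sup_comm] at hk
    exact hk
  have hne : p.map (algebraMap R B) ≠ ⊤ := ne_top_of_le_ne_top (maximalIdeal.isMaximal B).ne_top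
    ((Ideal.map_mono (le_maximalIdeal hp)).trans (AdicCompletion.maximalIdeal_eq_map (R := R)).ge)
  refine (ringKrullDim_quotient_le_card (p.map (algebraMap R B)) (Finset.univ.image (algebraMap R B ∘ s)) hne
    ?_).trans (hte ▸ by exact_mod_cast (Finset.card_image_le.trans (by simp)))
  rw [Finset.coe_image, Finset.coe_univ, Set.image_univ, Set.range_comp, ← Ideal.map_span, ← Ideal.map_sup]
  refine le_antisymm ((maximalIdeal.isMaximal B).isPrime.radical_le_iff.2
    ((Ideal.map_mono hJm).trans (AdicCompletion.maximalIdeal_eq_map (R := R)).ge)) ?_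
  intro a ha
  refine ⟨k, Ideal.map_mono hk ?_⟩
  rw [Ideal.map_pow, ← AdicCompletion.maximalIdeal_eq_map (R := R)]
  exact Ideal.pow_mem_pow ha k

omit hn hf eK in
theorem exists_minimal_over (p : Ideal R) [p.IsPrime] :
    ∃ P : Ideal (AdicCompletion (maximalIdeal R) R), P.IsPrime ∧ P.under R = p ∧
      p.map (algebraMap R _) ≤ P ∧ P.height = p.height := by
  haveI := isNoetherianRing_completion (R := R)
  haveI := faithfullyFlat_completion (R := R)
  set B := AdicCompletion (maximalIdeal R) R
  obtain ⟨⟨P0, hP0⟩, hx⟩ := PrimeSpectrum.comap_surjective_of_faithfullyFlat (A := R) (B := B) ⟨p, inferInstance⟩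
  have hcomap : P0.comap (algebraMap R B) = p := congrArg PrimeSpectrum.asIdeal hx
  haveI := hP0
  have hle : p.map (algebraMap R B) ≤ P0 := Ideal.map_le_iff_le_comap.2 hcomap.ge
  obtain ⟨P, hP, hPP0⟩ := Ideal.exists_minimalPrimes_le hle
  haveI := hP.1.1
  have hund : P.comap (algebraMap R B) = p :=
    le_antisymm ((Ideal.comap_mono hPP0).trans hcomap.le) (Ideal.map_le_iff_le_comap.1 hP.1.2)
  haveI : P.LiesOver p := ⟨hund.symm⟩
  refine ⟨P, hP.1.1, hund, hP.1.2, ?_⟩
  rw [Ideal.height_eq_height_add_of_liesOver_of_hasGoingDown p P]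
  haveI : (P.map (Ideal.Quotient.mk (p.map (algebraMap R B)))).IsPrime :=
    Ideal.map_isPrime_of_surjective Ideal.Quotient.mk_surjective (by rw [Ideal.mk_ker]; exact hP.1.2)
  rw [(Ideal.height_eq_zero_iff (I := P.map (Ideal.Quotient.mk (p.map (algebraMap R B))))).2 ⟨⟨inferInstance, bot_le⟩, ?_⟩,
    add_zero]
  rintro Q ⟨hQ, -⟩ hQle
  haveI := hQ
  have h1 := hP.2 ⟨Ideal.IsPrime.comap (Ideal.Quotient.mk (p.map (algebraMap R B))),
    (Ideal.mk_ker (I := p.map (algebraMap R B))).ge.trans (Ideal.comap_mono bot_le)⟩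
    ((Ideal.comap_mono hQle).trans_eq (comap_map_quot hP.1.2))
  exact (Ideal.map_mono h1).trans_eq (Ideal.map_comap_of_surjective _ Ideal.Quotient.mk_surjective Q)

/-- A prime over a point of the support lies in the support of the completed module. -/
theorem mem_support_completion (p : Ideal R) [hp : p.IsPrime] (hpK : ⟨p, hp⟩ ∈ Module.support R K)
    (P : Ideal (AdicCompletion (maximalIdeal R) R)) [hP : P.IsPrime] (hle : p.map (algebraMap R _) ≤ P) :
    ⟨P, hP⟩ ∈ Module.support (AdicCompletion (maximalIdeal R) R) (AdicCompletion (maximalIdeal R) R ⊗[R] K) := by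
  haveI := faithfullyFlat_completion (R := R)
  set B := AdicCompletion (maximalIdeal R) R
  obtain ⟨k, hk⟩ := Module.mem_support_iff_exists_annihilator.1 hpK
  let J := LinearMap.ker (LinearMap.toSpanSingleton R K k)
  have hJ : (R ∙ k).annihilator ≤ p := hk
  let ι : (R ⧸ J) →ₗ[R] K := Submodule.liftQ J (LinearMap.toSpanSingleton R K k) le_rfl
  have hι : Function.Injective ι := LinearMap.ker_eq_bot.1 (Submodule.ker_liftQ_eq_bot _ _ _ le_rfl)
  have hinj := Module.Flat.lTensor_preserves_injective_linearMap (M := B) ι hι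
  rw [Module.mem_support_iff_exists_annihilator]
  refine ⟨1 ⊗ₜ k, fun b hb => hle ?_⟩
  rw [Submodule.mem_annihilator_span_singleton] at hb
  have h0 : b ⊗ₜ[R] (Submodule.Quotient.mk 1 : R ⧸ J) = 0 := hinj (by
    rw [map_zero, LinearMap.lTensor_tmul]
    refine Eq.trans ?_ hb
    rw [TensorProduct.smul_tmul', smul_eq_mul, mul_one]
    congr 1
    exact one_smul R k)
  refine Ideal.map_mono (J := p) (fun r hr => hJ ?_) (show b ∈ Ideal.map (algebraMap R B) (J : Ideal R) from ?_)
  · rw [Submodule.mem_annihilator_span_singleton]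
    exact hr
  · have h1 := congrArg (TensorProduct.tensorQuotEquivQuotSMul B J) h0
    rw [map_zero] at h1
    erw [TensorProduct.tensorQuotEquivQuotSMul_tmul_mk, one_smul, Submodule.Quotient.mk_eq_zero,
      Ideal.smul_top_eq_map] at h1
    exact h1

theorem height_add_dim_of_mem_support (hn0 : 0 < n) (p : Ideal R) [hp : p.IsPrime]
    (hpK : ⟨p, hp⟩ ∈ Module.support R K) : (p.height : WithBot ℕ∞) + ringKrullDim (R ⧸ p) = n := by
  refine le_antisymm ((height_add_dim_quot_le p).trans hn.le) ?_
  haveI := isNoetherianRing_completion (R := R)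
  haveI : IsAdicComplete (maximalIdeal (AdicCompletion (maximalIdeal R) R)) (AdicCompletion (maximalIdeal R) R) :=
    inferInstance
  set B := AdicCompletion (maximalIdeal R) R
  obtain ⟨g, hg, ⟨eB⟩⟩ := exists_completion_canon hf eK
  obtain ⟨P, hP, -, hle, hht⟩ := exists_minimal_over p
  haveI := hP
  have hPK := mem_support_completion hn hf eK p hpK P hle
  rw [Module.support_eq_zeroLocus] at hPK
  haveI : Module.Finite B (B ⊗[R] K) := inferInstance
  obtain ⟨Q, hQmin, hQP⟩ := Ideal.exists_minimalPrimes_le (I := Module.annihilator B (B ⊗[R] K)) (J := P) hPK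
  have hQass := Module.associatedPrimes.minimalPrimes_annihilator_subset_associatedPrimes B (B ⊗[R] K) hQmin
  rw [associatedPrimes_dual (ringKrullDim_completion hn) hg eB hn0] at hQass
  obtain ⟨hQ, hQn⟩ := hQass
  haveI := hQ
  rw [← hQn, dim_quot_eq_add_height Q P hQP, add_comm, ← hht]
  refine add_le_add (WithBot.coe_le_coe.2 ?_) ((dim_quot_mono hle).trans (dim_quot_map_completion_le p))
  haveI : (P.map (Ideal.Quotient.mk Q)).IsPrime :=
    Ideal.map_isPrime_of_surjective Ideal.Quotient.mk_surjective (by rwa [Ideal.mk_ker])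
  rw [PrimeSpectrum.height_eq_orderHeight ⟨P.map (Ideal.Quotient.mk Q), inferInstance⟩,
    PrimeSpectrum.height_eq_orderHeight ⟨P, hP⟩]
  refine (Order.height_le_height_apply_of_strictMono (PrimeSpectrum.comap (Ideal.Quotient.mk Q))
    (fun a b hab => lt_of_le_of_ne (Ideal.comap_mono hab.le) fun e => hab.ne
      (PrimeSpectrum.comap_injective_of_surjective _ Ideal.Quotient.mk_surjective e)) _).trans_eq ?_
  exact congrArg Order.height (PrimeSpectrum.ext (comap_map_quot hQP))

end

end Groth.Agent.LC.Canon
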