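import Groth.Agent.LC.ConnDim
import Mathlib.RingTheory.Spectrum.Prime.Topology
import Mathlib.RingTheory.Spectrum.Prime.Noetherian

/-!
# Connectedness dimension of spectra via minimal primes
-/

universe u

open PrimeSpectrum

namespace Groth.Agent.LC

variable {R : Type u} [CommRing R]

theorem dim_zeroLocus (I : Ideal R) :
    topologicalKrullDim ↥(zeroLocus (I : Set R)) = ringKrullDim (R ⧸ I) := by
  have h := isClosedEmbedding_comap_of_surjective (R ⧸ I) (Ideal.Quotient.mk I) Ideal.Quotient.mk_surjective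
  have hr : Set.range (PrimeSpectrum.comap (Ideal.Quotient.mk I)) = zeroLocus (I : Set R) := by
    rw [range_comap_of_surjective _ _ Ideal.Quotient.mk_surjective, Ideal.mk_ker]
  rw [← hr, ← (h.isEmbedding.toHomeomorph).isHomeomorph.topologicalKrullDim_eq,
    PrimeSpectrum.topologicalKrullDim_eq_ringKrullDim]

theorem sUnion_zeroLocus (P : Finset (Ideal R)) :
    ⋃₀ ((fun p : Ideal R => zeroLocus (p : Set R)) '' (P : Set (Ideal R))) = zeroLocus (P.inf id : Ideal R) := by
  classical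
  induction P using Finset.induction with
  | empty =>
    rw [Finset.coe_empty, Set.image_empty, Set.sUnion_empty, Finset.inf_empty]
    exact (zeroLocus_empty_iff_eq_top.2 rfl).symm
  | insert a P _ ih =>
    rw [Finset.coe_insert, Set.image_insert_eq, Set.sUnion_insert, ih, Finset.inf_insert, id_eq, zeroLocus_inf]

theorem components_eq : irreducibleComponents (PrimeSpectrum R) =
    (fun p : Ideal R => zeroLocus (p : Set R)) '' minimalPrimes R :=
  (zeroLocus_minimalPrimes R).symm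

variable [IsNoetherianRing R]

theorem connDim_spec_le [Nontrivial R] {P Q : Finset (Ideal R)} (hP : ∀ p ∈ P, p ∈ minimalPrimes R)
    (hQ : ∀ p ∈ Q, p ∈ minimalPrimes R) (hP0 : P.Nonempty) (hQ0 : Q.Nonempty)
    (hPQ : ∀ p ∈ minimalPrimes R, p ∈ P ∨ p ∈ Q) :
    LocCoh.connDim (PrimeSpectrum R) ≤ ringKrullDim (R ⧸ (P.inf id ⊔ Q.inf id)) := by
  classical
  refine le_of_le_of_eq (connDim_le_split
    (A := (fun p : Ideal R => zeroLocus (p : Set R)) '' (P : Set (Ideal R)))
    (B := (fun p : Ideal R => zeroLocus (p : Set R)) '' (Q : Set (Ideal R)))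
    ((components_eq (R := R)) ▸ Set.image_mono hP) ((components_eq (R := R)) ▸ Set.image_mono hQ)
    ((Finset.coe_nonempty.2 hP0).image _) ((Finset.coe_nonempty.2 hQ0).image _) ?_) ?_
  · rw [← Set.image_union, components_eq]
    exact congrArg _ (Set.Subset.antisymm (fun p hp => hp.elim (hP p) (hQ p)) fun p hp => hPQ p hp)
  · rw [sUnion_zeroLocus, sUnion_zeroLocus, ← zeroLocus_sup, dim_zeroLocus]

theorem exists_connDim_spec [Nontrivial R] :
    ∃ P Q : Finset (Ideal R), (∀ p ∈ P, p ∈ minimalPrimes R) ∧ (∀ p ∈ Q, p ∈ minimalPrimes R) ∧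
      P.Nonempty ∧ Q.Nonempty ∧ (∀ p ∈ minimalPrimes R, p ∈ P ∨ p ∈ Q) ∧
      LocCoh.connDim (PrimeSpectrum R) = ringKrullDim (R ⧸ (P.inf id ⊔ Q.inf id)) := by
  classical
  have hfin := minimalPrimes.finite_of_isNoetherianRing R
  let M := hfin.toFinset
  let Ω := ((M.powerset ×ˢ M.powerset).filter fun PQ : Finset (Ideal R) × Finset (Ideal R) =>
    PQ.1.Nonempty ∧ PQ.2.Nonempty ∧ ∀ p ∈ M, p ∈ PQ.1 ∨ p ∈ PQ.2)
  have hM : M.Nonempty := by
    obtain ⟨p, hp⟩ := Ideal.nonempty_minimalPrimes (I := (⊥ : Ideal R)) bot_ne_top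
    exact ⟨p, hfin.mem_toFinset.2 hp⟩
  have hΩ : Ω.Nonempty := ⟨(M, M), by simp [Ω, hM]⟩
  obtain ⟨⟨P, Q⟩, hPQ, hmin⟩ := Ω.exists_min_image
    (fun PQ => ringKrullDim (R ⧸ (PQ.1.inf id ⊔ PQ.2.inf id))) hΩ
  simp only [Ω, Finset.mem_filter, Finset.mem_product, Finset.mem_powerset] at hPQ
  obtain ⟨⟨hP, hQ⟩, hP0, hQ0, hcov⟩ := hPQ
  refine ⟨P, Q, fun p hp => hfin.mem_toFinset.1 (hP hp), fun p hp => hfin.mem_toFinset.1 (hQ hp), hP0, hQ0,
    fun p hp => hcov p (hfin.mem_toFinset.2 hp), le_antisymm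
      (connDim_spec_le (fun p hp => hfin.mem_toFinset.1 (hP hp)) (fun p hp => hfin.mem_toFinset.1 (hQ hp)) hP0 hQ0
        fun p hp => hcov p (hfin.mem_toFinset.2 hp)) ?_⟩
  rw [connDim_eq]
  refine le_iInf fun A => le_iInf fun B => le_iInf fun ⟨hA, hB, hA0, hB0, hAB⟩ => ?_
  let pre : Set (Set (PrimeSpectrum R)) → Finset (Ideal R) := fun A =>
    M.filter fun p : Ideal R => zeroLocus (p : Set R) ∈ A
  have himg : ∀ A : Set (Set (PrimeSpectrum R)), A ⊆ irreducibleComponents (PrimeSpectrum R) →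
      (fun p : Ideal R => zeroLocus (p : Set R)) '' (pre A : Set (Ideal R)) = A := by
    intro A hA
    refine Set.Subset.antisymm ?_ fun C hC => ?_
    · rintro _ ⟨p, hp, rfl⟩
      exact (Finset.mem_filter.1 hp).2
    · obtain ⟨p, hp, rfl⟩ := components_eq (R := R) ▸ hA hC
      exact ⟨p, Finset.mem_filter.2 ⟨hfin.mem_toFinset.2 hp, hC⟩, rfl⟩
  have hne : ∀ A : Set (Set (PrimeSpectrum R)), A ⊆ irreducibleComponents (PrimeSpectrum R) → A.Nonempty →
      (pre A).Nonempty := fun A hA h => by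
    rw [← himg A hA, Set.image_nonempty, Finset.coe_nonempty] at h
    exact h
  refine le_trans (hmin (pre A, pre B) ?_) (le_of_eq ?_)
  · simp only [Ω, Finset.mem_filter, Finset.mem_product, Finset.mem_powerset]
    refine ⟨⟨Finset.filter_subset _ _, Finset.filter_subset _ _⟩, hne A hA hA0, hne B hB hB0, fun p hp => ?_⟩
    have : zeroLocus (p : Set R) ∈ A ∪ B := by
      rw [hAB, components_eq]; exact ⟨p, hfin.mem_toFinset.1 hp, rfl⟩
    exact this.imp (fun h => Finset.mem_filter.2 ⟨hp, h⟩) fun h => Finset.mem_filter.2 ⟨hp, h⟩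
  · conv_rhs => rw [← himg A hA, ← himg B hB, sUnion_zeroLocus, sUnion_zeroLocus, ← zeroLocus_sup, dim_zeroLocus]

theorem subdim_spec : LocCoh.subdim (PrimeSpectrum R) = ⨅ p ∈ minimalPrimes R, ringKrullDim (R ⧸ p) := by
  rw [LocCoh.subdim, components_eq, iInf_image]
  exact iInf_congr fun p => iInf_congr fun _ => dim_zeroLocus p

end Groth.Agent.LC
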