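import Groth.Agent.LC.CanonLoc
import Groth.Agent.LC.CanonCM
import Groth.Agent.LC.CanonAnnihilator
import Groth.Agent.LC.AdjDepth
import Groth.Agent.RegLoc6.Serre
import Mathlib.RingTheory.UniqueFactorizationDomain.Ideal

/-!
# Canonical modules of domains as ideals; unique factorization
-/

set_option autoImplicit false

universe u

open CategoryTheory Limits IsLocalRing
open scoped Pointwise

namespace Groth.Agent.LC.Canon

variable {R : Type u} [CommRing R] [IsDomain R] [LocCoh.IsCohenMacaulayLocalRing R] {n : ℕ}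
variable (hn : ringKrullDim R = n)
variable {E : Type u} [AddCommGroup E] [Module R E] {f : ResidueField R →ₗ[R] E} (hf : InjHull.IsInjectiveHull f)
variable {K : Type u} [AddCommGroup K] [Module R K] [Module.Finite R K]
variable (eK : (K →ₗ[R] E) ≃ₗ[R] (localCohomology (maximalIdeal R) n).obj (ModuleCat.of R R))

include hn hf eK

theorem isSMulRegular_of_ne_zero {a : R} (ha : a ≠ 0) : IsSMulRegular K a := by
  rcases Nat.eq_zero_or_pos n with rfl | hn0
  · haveI : Ring.KrullDimLE 0 R := Ring.krullDimLE_iff.2 hn.le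
    have hu : IsUnit a := (Ring.KrullDimLE.isField_of_isDomain (R := R)).mul_inv_cancel ha |> fun ⟨b, hb⟩ =>
      IsUnit.of_mul_eq_one b hb
    exact hu.isSMulRegular K
  · refine isSMulRegular_of_dim_lt hn hf eK ?_
    have h := ringKrullDim_quotient_succ_le_of_nonZeroDivisor (mem_nonZeroDivisors_of_ne_zero ha)
    rw [hn] at h
    obtain ⟨k, rfl⟩ : ∃ k, n = k + 1 := ⟨n - 1, by omega⟩
    revert h
    generalize ringKrullDim (R ⧸ Ideal.span {a}) = d
    intro h
    induction d using WithBot.recBotCoe with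
    | bot => exact WithBot.bot_lt_coe _
    | coe d =>
      have h' : d + 1 ≤ ((k + 1 : ℕ) : ℕ∞) := WithBot.coe_le_coe.1 (by exact_mod_cast h)
      push_cast at h'
      exact WithBot.coe_lt_coe.2 ((((ENat.add_le_add_iff_right ENat.one_ne_top).1 h')).trans_lt
        (by exact_mod_cast Nat.lt_succ_self k))

/-- A canonical module of a Cohen–Macaulay domain is isomorphic to a nonzero ideal. -/
theorem exists_ideal_equiv {S : Type u} [CommRing S] [LocCoh.IsGorensteinLocalRing S] [Algebra S R]
    (hπ : Function.Surjective (algebraMap S R)) : ∃ I : Ideal R, I ≠ ⊥ ∧ Nonempty (K ≃ₗ[R] I) := by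
  classical
  let F := Localization.AtPrime (⊥ : Ideal R)
  let Kp := LocalizedModule (⊥ : Ideal R).primeCompl K
  let L := LocalizedModule.mkLinearMap (⊥ : Ideal R).primeCompl K
  haveI : IsNoetherianRing F := IsLocalization.isNoetherianRing (⊥ : Ideal R).primeCompl F inferInstance
  have hL : Function.Injective L := by
    rw [injective_iff_map_eq_zero]
    intro z hz
    obtain ⟨c, hc⟩ := (IsLocalizedModule.eq_zero_iff (⊥ : Ideal R).primeCompl L).1 hz
    exact (isSMulRegular_of_ne_zero hn hf eK c.2).right_eq_zero_of_smul hc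
  haveI := nontrivial_dual hn hf eK
  haveI hnt : Nontrivial Kp := hL.nontrivial
  have hfield : IsField F :=
    { exists_pair_ne := exists_pair_ne F
      mul_comm := mul_comm
      mul_inv_cancel := fun {x} hx => by
        obtain ⟨⟨a, s⟩, has⟩ := IsLocalization.surj (⊥ : Ideal R).primeCompl x
        have ha : a ≠ 0 := fun h => hx ((IsLocalization.map_units F s).mul_left_eq_zero.1 (by
          show x * algebraMap R F (s : R) = 0
          rw [has, h, map_zero]))
        have hu : IsUnit x := isUnit_of_mul_isUnit_left (show IsUnit (x * algebraMap R F (s : R)) by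
          rw [has]; exact IsLocalization.map_units F (⟨a, ha⟩ : (⊥ : Ideal R).primeCompl))
        exact hu.exists_right_inv }
  have hdF : ringKrullDim F = ((0 : ℕ) : WithBot ℕ∞) := ringKrullDim_eq_zero_of_isField hfield
  haveI := isCMLocal_of_dim_zero hdF
  obtain ⟨E', _, _, f', hf'⟩ := exists_injectiveHull F (ResidueField F)
  obtain ⟨eP⟩ := localization_canon hn hf eK hπ (⊥ : Ideal R) hnt hdF hf'
  haveI : Module.Finite F Kp := Module.Finite.of_isLocalizedModule (⊥ : Ideal R).primeCompl L
  obtain ⟨θ⟩ := (gorenstein_iff_free hdF hf' eP).1 (gorenstein_of_isField (IsLocalRing.isField_iff_maximalIdeal_eq.1 hfield))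
  obtain ⟨l, k, hk⟩ := Module.Finite.exists_fin (R := R) (M := K)
  choose c hc using fun i => IsLocalization.surj (⊥ : Ideal R).primeCompl (θ (L (k i)))
  let t : (⊥ : Ideal R).primeCompl := ∏ i, (c i).2
  let ψ : K →ₗ[R] F := (t : R) • ((θ.toLinearMap.restrictScalars R) ∘ₗ L)
  have hψ : Function.Injective ψ := by
    intro x y hxy
    have hu := IsLocalization.map_units F t
    apply hL
    apply θ.injective
    have h2 : algebraMap R F (t : R) * θ (L x) = algebraMap R F (t : R) * θ (L y) := by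
      rw [← Algebra.smul_def, ← Algebra.smul_def]; exact hxy
    exact hu.mul_left_cancel h2
  have hrange : LinearMap.range ψ ≤ LinearMap.range (Algebra.linearMap R F) := by
    rw [LinearMap.range_eq_map, ← hk, Submodule.map_span, Submodule.span_le]
    rintro _ ⟨_, ⟨i, rfl⟩, rfl⟩
    obtain ⟨d, hd⟩ : (c i).2 ∣ t := Finset.dvd_prod_of_mem _ (Finset.mem_univ i)
    refine ⟨d * (c i).1, ?_⟩
    show algebraMap R F ((d : R) * (c i).1) = (t : R) • θ (L (k i))
    rw [hd, Submonoid.coe_mul, Algebra.smul_def, map_mul, map_mul, ← hc i]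
    ring
  have hinj : Function.Injective (Algebra.linearMap R F) :=
    IsLocalization.injective F fun a (ha : a ∈ (⊥ : Ideal R).primeCompl) => mem_nonZeroDivisors_of_ne_zero ha
  let e := LinearEquiv.ofInjective (Algebra.linearMap R F) hinj
  let φ : K →ₗ[R] R := e.symm.toLinearMap ∘ₗ Submodule.inclusion hrange ∘ₗ ψ.rangeRestrict
  have hφ : Function.Injective φ := e.symm.injective.comp
    ((Submodule.inclusion_injective hrange).comp fun x y h => hψ (congrArg Subtype.val h))
  refine ⟨LinearMap.range φ, fun h0 => ?_, ⟨LinearEquiv.ofInjective φ hφ⟩⟩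
  obtain ⟨z, hz⟩ := exists_ne (0 : K)
  exact hz (hφ (by rw [map_zero, ← LinearMap.mem_range.1 (show φ z ∈ LinearMap.range φ from ⟨z, rfl⟩) |> fun _ => (show φ z = 0 from (Submodule.eq_bot_iff _).1 h0 _ ⟨z, rfl⟩)]))

/-- A factorial Cohen–Macaulay quotient of a Gorenstein local ring is Gorenstein. -/
theorem gorenstein_of_ufd [UniqueFactorizationMonoid R] {S : Type u} [CommRing S] [LocCoh.IsGorensteinLocalRing S]
    [Algebra S R] (hπ : Function.Surjective (algebraMap S R)) : LocCoh.IsGorensteinLocalRing R := by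
  classical
  refine (gorenstein_iff_free hn hf eK).2 ?_
  obtain ⟨I, hI, ⟨e⟩⟩ := exists_ideal_equiv hn hf eK hπ
  obtain ⟨J, ⟨g, hg, hgJ⟩, hmax⟩ := set_has_maximal_iff_noetherian.2 (inferInstance : IsNoetherianRing R)
    {J : Ideal R | ∃ g : R, g ≠ 0 ∧ I = Ideal.span {g} * J} ⟨I, 1, one_ne_zero, by rw [Ideal.span_singleton_one, Ideal.top_mul]⟩
  have hJ0 : J ≠ ⊥ := fun h => hI (by rw [hgJ, h, Ideal.mul_bot])
  have hprinc : ∀ π : R, Prime π → ¬ J ≤ Ideal.span {π} := by
    intro π hp hle
    let J' : Ideal R := J.comap (LinearMap.mulLeft R π)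
    have hJJ' : J = Ideal.span {π} * J' := by
      refine le_antisymm (fun x hx => ?_) (Ideal.span_singleton_mul_le_iff.2 fun z hz => hz)
      obtain ⟨y, rfl⟩ := Ideal.mem_span_singleton'.1 (hle hx)
      rw [mul_comm y π]
      exact Ideal.mul_mem_mul (Ideal.mem_span_singleton_self π) (show π * y ∈ J by rwa [mul_comm])
    have hJle : J ≤ J' := fun x hx => Ideal.mul_mem_left J π hx
    have hne : J ≠ J' := fun h => hJ0 (Submodule.eq_bot_of_le_smul_of_le_jacobson_bot (Ideal.span {π}) J
      (IsNoetherian.noetherian J) (by rw [smul_eq_mul]; exact (congrArg (Ideal.span {π} * ·) h).ge.trans' hJJ'.le)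
      ((Ideal.span_singleton_le_iff_mem _).2 ((mem_maximalIdeal π).2 hp.not_isUnit) |>.trans (maximalIdeal_le_jacobson _)))
    exact hmax J' ⟨g * π, mul_ne_zero hg hp.ne_zero, by
      rw [hgJ, hJJ', ← mul_assoc, Ideal.span_singleton_mul_span_singleton]⟩ (lt_of_le_of_ne hJle hne)
  -- `K ≅ J`
  let μ : J →ₗ[R] I := (LinearMap.mulLeft R g).restrict fun x hx => by
    rw [hgJ]; exact Ideal.mul_mem_mul (Ideal.mem_span_singleton_self g) hx
  have hμ : Function.Bijective μ := by
    refine ⟨fun x y h => Subtype.ext (mul_left_cancel₀ hg (congrArg Subtype.val h)), fun ⟨x, hx⟩ => ?_⟩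
    rw [hgJ, Ideal.mem_span_singleton_mul] at hx
    obtain ⟨y, hy, rfl⟩ := hx
    exact ⟨⟨y, hy⟩, rfl⟩
  let θ : K ≃ₗ[R] J := e.trans (LinearEquiv.ofBijective μ hμ).symm
  rcases eq_or_ne J ⊤ with rfl | hJt
  · exact ⟨θ.trans Submodule.topEquiv⟩
  exfalso
  obtain ⟨P, hPm⟩ := Ideal.nonempty_minimalPrimes hJt
  haveI := hPm.1.1
  obtain ⟨π, hπP, hπp⟩ := Ideal.IsPrime.exists_mem_prime_of_ne_bot hPm.1.1 (fun h => hJ0 (le_bot_iff.1 (h ▸ hPm.1.2)))
  haveI : (Ideal.span {π}).IsPrime := (Ideal.span_singleton_prime hπp.ne_zero).2 hπp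
  have hlt : Ideal.span {π} < P := lt_of_le_of_ne ((Ideal.span_singleton_le_iff_mem _).2 hπP)
    fun h => hprinc π hπp (h ▸ hPm.1.2)
  have hht : (2 : ℕ∞) ≤ P.height := by
    have h1 := Ideal.height_strict_mono_of_isPrime (I := Ideal.span {π}) hlt
    have h0 : (⊥ : Ideal R) < Ideal.span {π} := bot_lt_iff_ne_bot.2 (by simpa using hπp.ne_zero)
    have h2 := Ideal.height_strict_mono_of_isPrime (I := (⊥ : Ideal R)) h0
    rw [Ideal.height_bot] at h2
    calc (2 : ℕ∞) ≤ (Ideal.span {π}).height + 1 := by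
          rw [show (2 : ℕ∞) = 1 + 1 from rfl]
          exact add_le_add (ENat.one_le_iff_ne_zero.2 h2.ne') le_rfl
      _ ≤ P.height := ENat.add_one_le_iff (Ideal.height_ne_top (Ideal.IsPrime.ne_top inferInstance)) |>.2 h1
  -- depth of `K` at `P` is at least two
  let A := Localization.AtPrime P
  haveI : IsNoetherianRing A := IsLocalization.isNoetherianRing P.primeCompl A inferInstance
  let KP := LocalizedModule P.primeCompl K
  haveI : Module.Finite A KP := Module.Finite.of_isLocalizedModule P.primeCompl (LocalizedModule.mkLinearMap _ K)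
  obtain ⟨z, hz⟩ := by haveI := nontrivial_dual hn hf eK; exact exists_ne (0 : K)
  have hsd : ringKrullDim A ≤ Module.supportDim A KP := by
    rw [← Module.supportDim_self_eq_ringKrullDim]
    refine Module.supportDim_le_of_injective (LinearMap.toSpanSingleton A KP (LocalizedModule.mkLinearMap _ K z)) ?_
    rw [injective_iff_map_eq_zero]
    intro a ha
    obtain ⟨⟨r, s⟩, hrs⟩ := IsLocalization.surj P.primeCompl a
    have h1 : LocalizedModule.mkLinearMap P.primeCompl K (r • z) = 0 := by
      rw [map_smul, ← algebraMap_smul A r, ← hrs, mul_comm, mul_smul]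
      exact (congrArg _ ha).trans (smul_zero _)
    obtain ⟨c, hc⟩ := (IsLocalizedModule.eq_zero_iff P.primeCompl _).1 h1
    have hc0 : (c : R) ≠ 0 := fun h => c.2 (h ▸ P.zero_mem)
    have hrz : r • z = 0 := (isSMulRegular_of_ne_zero hn hf eK hc0).right_eq_zero_of_smul hc
    have hr : r = 0 := by
      by_contra hr0
      exact hz ((isSMulRegular_of_ne_zero hn hf eK hr0).right_eq_zero_of_smul hrz)
    rw [hr, map_zero] at hrs
    exact (IsLocalization.map_units A s).mul_left_eq_zero.1 hrs
  have hdepth : (2 : ℕ∞) ≤ LocCoh.depth A KP := by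
    have h := hasSk_two hn hf eK P
    rw [min_eq_left ((show ((2 : ℕ) : WithBot ℕ∞) ≤ ringKrullDim A by
      rw [IsLocalization.AtPrime.ringKrullDim_eq_height P A]; exact WithBot.coe_le_coe.2 hht).trans hsd)] at h
    exact WithBot.coe_le_coe.1 h
  -- but `P` is associated to `K/aK`
  obtain ⟨-, w, hw⟩ := Alg6.mem_ass_iff.1 (Module.associatedPrimes.minimalPrimes_annihilator_subset_associatedPrimes R (R ⧸ J)
    (show P ∈ (Module.annihilator R (R ⧸ J)).minimalPrimes by rwa [Ideal.annihilator_quotient]))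
  obtain ⟨w, rfl⟩ := Submodule.Quotient.mk_surjective _ w
  obtain ⟨a, haJ, ha0⟩ := Submodule.exists_mem_ne_zero_of_ne_bot hJ0
  have haP : a ∈ P := hPm.1.2 haJ
  have hreg := isSMulRegular_of_ne_zero hn hf eK ha0
  have h1 := depth_localized_quot_add_one K P haP hreg
  refine (Alg6.one_le_depth_atPrime_iff (M := QuotSMulTop a K) P).1 ?_ ?_
  · refine (ENat.add_le_add_iff_right ENat.one_ne_top).1 ?_
    rw [h1]
    exact hdepth
  have key : ∀ r : R, r * w ∈ J ↔ r ∈ P := fun r => by
    rw [hw r, ← Submodule.Quotient.mk_smul, Submodule.Quotient.mk_eq_zero]; rfl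
  let y : J := ⟨a * w, by rw [key]; exact haP⟩
  refine Alg6.mem_ass_iff.2 ⟨inferInstance, Submodule.Quotient.mk (θ.symm y), fun r => ?_⟩
  rw [← key, ← Submodule.Quotient.mk_smul, Groth.Agent.Alg6.mem_pointwise_smul_top_iff]
  constructor
  · intro hr
    refine ⟨θ.symm ⟨r * w, hr⟩, ?_⟩
    rw [← map_smul, ← map_smul]
    exact congrArg _ (Subtype.ext (show a * (r * w) = r * (a * w) by ring))
  · rintro ⟨v, hv⟩
    have h2 : a * (θ v : R) = r * (a * w) := by
      have h3 := congrArg (fun t => (θ t : R)) hv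
      simpa [y] using h3
    rw [mul_left_comm] at h2
    rw [← mul_left_cancel₀ ha0 h2]
    exact (θ v).2

end Groth.Agent.LC.Canon
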