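import Groth.Agent.LC.CanonBasic
import Groth.Agent.LC.Sop

/-!
# Parameters on the dual of top local cohomology
-/

set_option autoImplicit false

universe u

open CategoryTheory Limits IsLocalRing RingTheory.Sequence

namespace Groth.Agent.LC.Canon

variable {R : Type u} [CommRing R] [IsNoetherianRing R] [IsLocalRing R] {n : ℕ}

theorem dim_quot_sop_le (a : Fin n → R) (ha : ∀ i, a i ∈ maximalIdeal R)
    (hsop : maximalIdeal R ≤ (Ideal.span (Set.range a)).radical) (T : Finset (Fin n)) :
    ringKrullDim (R ⧸ Ideal.span (a '' (T : Set (Fin n)))) ≤ ((n - T.card : ℕ) : WithBot ℕ∞) := by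
  classical
  let P := Ideal.span (a '' (T : Set (Fin n)))
  let s : Finset R := (Finset.univ \ T).image a
  have hle : Ideal.span (Set.range a) ≤ maximalIdeal R := Ideal.span_le.2 (Set.range_subset_iff.2 ha)
  have hP : P ≠ ⊤ := ne_top_of_le_ne_top (maximalIdeal.isMaximal R).ne_top
    ((Ideal.span_mono (Set.image_subset_range _ _)).trans hle)
  have heq : P ⊔ Ideal.span (s : Set R) = Ideal.span (Set.range a) := by
    rw [← Ideal.span_union, Finset.coe_image, ← Set.image_union, Finset.coe_sdiff, Finset.coe_univ,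
      Set.union_diff_cancel (Set.subset_univ _), Set.image_univ]
  have hrad : (P ⊔ Ideal.span (s : Set R)).radical = maximalIdeal R := by
    rw [heq]
    exact le_antisymm ((maximalIdeal.isMaximal R).isPrime.radical_le_iff.2 hle) hsop
  refine (ringKrullDim_quotient_le_card P s hP hrad).trans ?_
  have : s.card ≤ n - T.card := by
    refine Finset.card_image_le.trans ?_
    rw [Finset.card_sdiff_of_subset (Finset.subset_univ _), Finset.card_univ, Fintype.card_fin]
  exact_mod_cast this

variable (hn : ringKrullDim R = n)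
variable {E : Type u} [AddCommGroup E] [Module R E] {f : ResidueField R →ₗ[R] E} (hf : InjHull.IsInjectiveHull f)
variable {K : Type u} [AddCommGroup K] [Module R K]
variable (eK : (K →ₗ[R] E) ≃ₗ[R] (localCohomology (maximalIdeal R) n).obj (ModuleCat.of R R))

include hn hf eK

theorem isRegular_sop [Module.Finite R K] (hn0 : 0 < n) (a : Fin n → R) (ha : ∀ i, a i ∈ maximalIdeal R)
    (hsop : maximalIdeal R ≤ (Ideal.span (Set.range a)).radical) :
    IsSMulRegular K (a ⟨0, hn0⟩) ∧ (∀ h2 : 2 ≤ n, IsRegular K [a ⟨0, hn0⟩, a ⟨1, h2⟩]) := by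
  have h1 := dim_quot_sop_le a ha hsop {⟨0, hn0⟩}
  rw [Finset.coe_singleton, Set.image_singleton, Finset.card_singleton] at h1
  refine ⟨isSMulRegular_of_dim_lt hn hf eK (h1.trans_lt (by exact_mod_cast (by omega : n - 1 < n))), fun h2 => ?_⟩
  have hne : (⟨0, hn0⟩ : Fin n) ∉ ({⟨1, h2⟩} : Finset (Fin n)) := by simp
  have h3 := dim_quot_sop_le a ha hsop (insert ⟨0, hn0⟩ {⟨1, h2⟩})
  rw [Finset.card_insert_of_notMem hne, Finset.card_singleton, Finset.coe_insert, Finset.coe_singleton,
    Set.image_insert_eq, Set.image_singleton, Ideal.span_insert] at h3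
  exact isRegular_pair hn hf eK (m := n - 1) (by omega) (ha _) (ha _) h1
    (h3.trans_lt (by exact_mod_cast (by omega : n - (1 + 1) < n - 1)))

theorem nonempty_topDual (M : Type u) [AddCommGroup M] [Module R M] [Module.Finite R M] :
    Nonempty ((localCohomology (maximalIdeal R) n).obj (ModuleCat.of R M) ≃ₗ[R] ((M →ₗ[R] K) →ₗ[R] E)) := by
  obtain ⟨ψ, -⟩ := exists_topDual hn eK hf
  exact ⟨ψ M⟩

end Groth.Agent.LC.Canon
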