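import Groth.Prelude.Def_DualLC
import Groth.Agent.LC.CohTorsion
import Groth.Agent.LC.InjNoeth

/-!
# The localization sequence `H_{a+(b)} → H_a → H_a(-_b)`
-/

universe u

open CategoryTheory Limits Opposite

namespace Groth.Agent.LC

variable {R : Type u} [CommRing R]

section MapOfLE

variable {I I' : Ideal R} (h : I ≤ I')

/-- The projection `R/I^n → R/I'^n`. -/
noncomputable def qLE (n : ℕ) : qObj I n ⟶ qObj I' n :=
  ModuleCat.ofHom (Submodule.mapQ (I ^ n) (I' ^ n) LinearMap.id
    (by simpa using Ideal.pow_right_mono h n))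

theorem qLE_one (n : ℕ) :
    (qLE h n).hom (Ideal.Quotient.mk (I ^ n) 1) = Ideal.Quotient.mk (I' ^ n) 1 := rfl

theorem HmapOfLE_toH (i : ℕ) (M : ModuleCat.{u} R) {n : ℕ} (x : Abelian.Ext (qObj I' n) M i) :
    ((Dual2.HmapOfLE h i).app M).hom (toH I' i M n x) =
      toH I i M n ((Abelian.Ext.mk₀ (qLE h n)).comp x (zero_add i)) := by
  obtain ⟨w, rfl⟩ := (lvl I' i n M).surjective x
  have h1 := ExtBridge.bridge_natural_left (projectiveResolution (qObj I' n)) M i
    (projectiveResolution (qObj I n)) (qLE h n) w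
  rw [show (Abelian.Ext.mk₀ (qLE h n)).comp (lvl I' i n M w) (zero_add i) = lvl I i n M
    ((((Ext R (ModuleCat.{u} R) i).map (qLE h n).op).app M).hom w) from h1.symm, toH_lvl]
  refine Eq.trans ?_ (toH_lvl I i M n _).symm
  exact ConcreteCategory.congr_hom (congrArg (fun t => t.app M)
    (ι_colimMap (Functor.whiskerRight (NatTrans.op (Dual2.quotMapOfLE h)) (Ext R (ModuleCat.{u} R) i))
      (op (op n)))) w

/-- The inclusion `Γ_{I'} ⊆ Γ_I`. -/
noncomputable def inclLE : DRing.gammaI I' ⟶ DRing.gammaI I where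
  app M := ModuleCat.ofHom (Submodule.inclusion fun m ⟨n, hn⟩ =>
    ⟨n, fun a ha => hn a (Ideal.pow_right_mono h n ha)⟩)
  naturality _ _ _ := rfl

theorem equivG_HmapOfLE {M : ModuleCat.{u} R} (J : InjectiveResolution M) (i : ℕ)
    (z : (localCohomology I' i).obj M) :
    equivG I J i (((Dual2.HmapOfLE h i).app M).hom z) =
      (HomologicalComplex.homologyMap
        ((NatTrans.mapHomologicalComplex (inclLE h) (ComplexShape.up ℕ)).app J.cocomplex) i).hom
        (equivG I' J i z) := by
  obtain ⟨n, x, rfl⟩ := exists_toH I' i z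
  obtain ⟨f, hf, rfl⟩ := J.extMk_surjective x (i + 1) rfl
  rw [HmapOfLE_toH, InjectiveResolution.mk₀_comp_extMk, equivG_toH, equivG_toH]
  have hg : (qLE h n ≫ f) ≫ J.cocomplex.d i (i + 1) = 0 := by rw [Category.assoc, hf, comp_zero]
  exact (classOf_natural (gCx I' J) i
    ((NatTrans.mapHomologicalComplex (inclLE h) (ComplexShape.up ℕ)).app J.cocomplex)
    (cyc I' J i f hf) (cyc I J i (qLE h n ≫ f) hg).2).symm

end MapOfLE

section Loc

variable (b : R)

/-- Localization at the powers of `b`, as an endofunctor. -/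
noncomputable def locF : ModuleCat.{u} R ⥤ ModuleCat.{u} R where
  obj M := ModuleCat.of R (LocalizedModule (Submonoid.powers b) M)
  map {M N} f := ModuleCat.ofHom (IsLocalizedModule.map (Submonoid.powers b)
    (LocalizedModule.mkLinearMap (Submonoid.powers b) M)
    (LocalizedModule.mkLinearMap (Submonoid.powers b) N) f.hom)
  map_id M := ModuleCat.hom_ext (IsLocalizedModule.map_id _ _)
  map_comp {M N P} f g := ModuleCat.hom_ext
    (IsLocalizedModule.map_comp' (Submonoid.powers b) _ (LocalizedModule.mkLinearMap (Submonoid.powers b) N) _ _ _)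

instance : (locF b).Additive where
  map_add {M N f g} := ModuleCat.hom_ext
    ((IsLocalizedModule.map (Submonoid.powers b) (LocalizedModule.mkLinearMap (Submonoid.powers b) M)
      (LocalizedModule.mkLinearMap (Submonoid.powers b) N)).map_add f.hom g.hom)

instance : (locF b).PreservesHomology := by
  have h : ∀ S : ShortComplex (ModuleCat.{u} R), S.Exact → (S.map (locF b)).Exact := by
    intro S hS
    rw [ShortComplex.ShortExact.moduleCat_exact_iff_function_exact] at hS ⊢
    exact IsLocalizedModule.map_exact _ (LocalizedModule.mkLinearMap _ S.X₁)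
      (LocalizedModule.mkLinearMap _ S.X₂) (LocalizedModule.mkLinearMap _ S.X₃) _ _ hS
  exact ((Functor.exact_tfae (locF b)).out 1 2).1 h

/-- The natural map `M → M_b`. -/
noncomputable def locNat : 𝟭 (ModuleCat.{u} R) ⟶ locF b where
  app M := ModuleCat.ofHom (LocalizedModule.mkLinearMap (Submonoid.powers b) M)
  naturality M N f := by
    refine ModuleCat.hom_ext (LinearMap.ext fun x => ?_)
    show LocalizedModule.mkLinearMap (Submonoid.powers b) N (f.hom x) =
      IsLocalizedModule.map (Submonoid.powers b) (LocalizedModule.mkLinearMap (Submonoid.powers b) M)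
        (LocalizedModule.mkLinearMap (Submonoid.powers b) N) f.hom
        (LocalizedModule.mkLinearMap (Submonoid.powers b) M x)
    rw [IsLocalizedModule.map_apply]

theorem injective_locF [IsNoetherianRing R] (M : ModuleCat.{u} R) [Injective M] :
    Injective ((locF b).obj M) := by
  have h1 : Module.Injective R M := Module.injective_module_of_injective_object R M
  have := Module.injective_of_isLocalizedModule (Rₛ := Localization.Away b) (Submonoid.powers b)
    (LocalizedModule.mkLinearMap (Submonoid.powers b) M)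
  have : Module.Injective R (LocalizedModule (Submonoid.powers b) M) :=
    injective_restrict_of_flat (R := R) (S := Localization.Away b) _
  exact Module.injective_object_of_injective_module (R := R)
    (M := LocalizedModule (Submonoid.powers b) M)

variable [IsNoetherianRing R] {M : ModuleCat.{u} R} (J : InjectiveResolution M)

/-- The localized resolution. -/
noncomputable def locRes : InjectiveResolution ((locF b).obj M) where
  cocomplex := ((locF b).mapHomologicalComplex (ComplexShape.up ℕ)).obj J.cocomplex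
  injective n := injective_locF b (J.cocomplex.X n)
  ι := ((HomologicalComplex.singleMapHomologicalComplex (locF b) (ComplexShape.up ℕ) 0).app M).inv ≫
    ((locF b).mapHomologicalComplex (ComplexShape.up ℕ)).map J.ι

/-- `J → J_b`. -/
noncomputable def locHom : InjectiveResolution.Hom J (locRes b J) ((locNat b).app M) where
  hom :=
    { f := fun p => (locNat b).app (J.cocomplex.X p)
      comm' := fun p q _ => ((locNat b).naturality (J.cocomplex.d p q)).symm }
  ι_f_zero_comp_hom_f_zero := by
    refine ((locNat b).naturality (J.ι.f 0)).trans ?_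
    simp [locRes, HomologicalComplex.singleMapHomologicalComplex_inv_app_self]
    rfl

variable (a : Ideal R)

/-- The sequence `Γ_{a+(b)} J → Γ_a J → Γ_a J_b`. -/
noncomputable def locSeq : ShortComplex (CochainComplex (ModuleCat.{u} R) ℕ) :=
  ShortComplex.mk
    ((NatTrans.mapHomologicalComplex (inclLE (le_sup_left : a ≤ a ⊔ Ideal.span {b}))
      (ComplexShape.up ℕ)).app J.cocomplex)
    (((DRing.gammaI a).mapHomologicalComplex (ComplexShape.up ℕ)).map (locHom b J).hom)
    (by
      refine HomologicalComplex.hom_ext _ _ fun p => ModuleCat.hom_ext (LinearMap.ext fun x => ?_)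
      show _ = (0 : DRing.torsionSub a (LocalizedModule (Submonoid.powers b) (J.cocomplex.X p)))
      refine Subtype.ext ?_
      obtain ⟨n, hn⟩ := (x : DRing.torsionSub (a ⊔ Ideal.span {b}) (J.cocomplex.X p)).2
      exact (IsLocalizedModule.eq_zero_iff (Submonoid.powers b)
        (LocalizedModule.mkLinearMap (Submonoid.powers b) (J.cocomplex.X p))).2
        ⟨⟨b ^ n, n, rfl⟩, hn _ (Ideal.pow_mem_pow (Ideal.mem_sup_right (Ideal.mem_span_singleton_self b)) n)⟩)

theorem mem_torsionSub_sup_span {N : Type u} [AddCommGroup N] [Module R N] {x : N}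
    (h1 : x ∈ DRing.torsionSub a N) {k : ℕ} (h2 : b ^ k • x = 0) :
    x ∈ DRing.torsionSub (a ⊔ Ideal.span {b}) N := by
  obtain ⟨n, hn⟩ := h1
  refine ⟨n + k, fun c hc => ?_⟩
  have : c ∈ a ^ n ⊔ Ideal.span {b ^ k} := by
    rw [← Ideal.span_singleton_pow]
    exact Ideal.sup_pow_add_le_pow_sup_pow hc
  obtain ⟨u, hu, v, hv, rfl⟩ := Submodule.mem_sup.1 this
  obtain ⟨t, rfl⟩ := Ideal.mem_span_singleton'.1 hv
  rw [add_smul, hn u hu, mul_smul, h2, smul_zero, add_zero]

theorem exists_lift_torsionSub (N : Type u) [AddCommGroup N] [Module R N] [Module.Injective R N]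
    {z : LocalizedModule (Submonoid.powers b) N}
    (hz : z ∈ DRing.torsionSub a (LocalizedModule (Submonoid.powers b) N)) :
    ∃ w : DRing.torsionSub a N, LocalizedModule.mkLinearMap (Submonoid.powers b) N (w : N) = z := by
  obtain ⟨⟨y, ⟨_, k, rfl⟩⟩, hy⟩ := IsLocalizedModule.surj (Submonoid.powers b)
    (LocalizedModule.mkLinearMap (Submonoid.powers b) N) z
  simp only [Submonoid.smul_def] at hy
  obtain ⟨n, hn⟩ := hz
  obtain ⟨s, hs⟩ := (IsNoetherian.noetherian (a ^ n) : (a ^ n).FG)
  have hkill : ∀ c ∈ a ^ n, ∃ l, b ^ l • c • y = 0 := by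
    intro c hc
    have h0 : LocalizedModule.mkLinearMap (Submonoid.powers b) N (c • y) = 0 := by
      rw [map_smul, ← hy, smul_comm, hn c hc, smul_zero]
    obtain ⟨⟨_, l, rfl⟩, hl⟩ := (IsLocalizedModule.eq_zero_iff (Submonoid.powers b)
      (LocalizedModule.mkLinearMap (Submonoid.powers b) N)).1 h0
    exact ⟨l, hl⟩
  choose l hl using hkill
  let L := s.attach.sup fun c => l c.1 (hs ▸ Submodule.subset_span c.2)
  have hy' : b ^ L • y ∈ DRing.torsionSub a N := by
    refine ⟨n, fun c hc => ?_⟩
    rw [← hs] at hc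
    refine Submodule.span_induction ?_ ?_ ?_ ?_ hc
    · intro c hc
      have hle : l c (hs ▸ Submodule.subset_span hc) ≤ L :=
        Finset.le_sup (f := fun c : s => l c.1 (hs ▸ Submodule.subset_span c.2)) (Finset.mem_attach s ⟨c, hc⟩)
      rw [← Nat.sub_add_cancel hle, pow_add, mul_smul, smul_comm c (b ^ (L - _)), smul_comm c, hl, smul_zero]
    · rw [zero_smul]
    · intro u v _ _ hu hv; rw [add_smul, hu, hv, add_zero]
    · intro r u _ hu; rw [smul_assoc, hu, smul_zero]
  have hinj : Module.Injective R (DRing.torsionSub a N) := by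
    rw [torsionSub_eq_iSup]; exact injective_torsion a
  obtain ⟨w, hw⟩ := surjective_mkLinearMap_of_injective (DRing.torsionSub a N) b
    (LocalizedModule.mk ⟨b ^ L • y, hy'⟩ ⟨b ^ (L + k), _, rfl⟩)
  rw [LocalizedModule.mkLinearMap_apply, LocalizedModule.mk_eq] at hw
  obtain ⟨⟨_, t, rfl⟩, ht⟩ := hw
  simp only [Submonoid.smul_def, one_smul] at ht
  have ht' : b ^ t • b ^ (L + k) • (w : N) = b ^ t • b ^ L • y := congrArg Subtype.val ht
  refine ⟨w, ((Module.End.isUnit_iff _).1 (IsLocalizedModule.map_units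
    (LocalizedModule.mkLinearMap (Submonoid.powers b) N)
    ⟨b ^ (t + L + k), Submonoid.pow_mem _ (Submonoid.mem_powers b) _⟩)).1 ?_⟩
  show b ^ (t + L + k) • LocalizedModule.mkLinearMap (Submonoid.powers b) N (w : N) = b ^ (t + L + k) • z
  rw [← map_smul, add_assoc, pow_add, mul_smul, ht', map_smul, map_smul, ← hy, pow_add, mul_smul, mul_smul]

theorem locSeq_shortExact : (locSeq b J a).ShortExact := by
  refine HomologicalComplex.shortExact_of_degreewise_shortExact _ fun p => ?_
  refine
    { exact := (ShortComplex.ShortExact.moduleCat_exact_iff_function_exact _).2 fun z => ⟨fun hz => ?_, ?_⟩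
      mono_f := (ModuleCat.mono_iff_injective _).2 fun x y hxy => Subtype.ext (congrArg Subtype.val hxy :)
      epi_g := (ModuleCat.epi_iff_surjective _).2 fun z => ?_ }
  · obtain ⟨⟨_, k, rfl⟩, hk⟩ := (IsLocalizedModule.eq_zero_iff (Submonoid.powers b)
      (LocalizedModule.mkLinearMap (Submonoid.powers b) (J.cocomplex.X p))).1 (congrArg Subtype.val hz)
    exact ⟨⟨_, mem_torsionSub_sup_span b a (z : DRing.torsionSub a (J.cocomplex.X p)).2 hk⟩, rfl⟩
  · rintro ⟨y, rfl⟩
    refine Subtype.ext ?_
    obtain ⟨n, hn⟩ := (y : DRing.torsionSub (a ⊔ Ideal.span {b}) (J.cocomplex.X p)).2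
    exact (IsLocalizedModule.eq_zero_iff (Submonoid.powers b)
      (LocalizedModule.mkLinearMap (Submonoid.powers b) (J.cocomplex.X p))).2
      ⟨⟨b ^ n, n, rfl⟩, hn _ (Ideal.pow_mem_pow (Ideal.mem_sup_right (Ideal.mem_span_singleton_self b)) n)⟩
  · have hN : Module.Injective R (J.cocomplex.X p) :=
      haveI : Injective (ModuleCat.of R (J.cocomplex.X p)) := J.injective p
      Module.injective_module_of_injective_object R (J.cocomplex.X p)
    obtain ⟨w, hw⟩ := exists_lift_torsionSub b a (J.cocomplex.X p)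
      (z : DRing.torsionSub a (LocalizedModule (Submonoid.powers b) (J.cocomplex.X p))).2
    exact ⟨w, Subtype.ext hw⟩

/-- The localization map on `H^i_a`. -/
noncomputable def locH (i : ℕ) (M : ModuleCat.{u} R) :
    (localCohomology a i).obj M →ₗ[R] (localCohomology a i).obj ((locF b).obj M) :=
  ((localCohomology a i).map ((locNat b).app M)).hom

/-- The comparison `H^i_{a+(b)} → H^i_a`. -/
noncomputable def supH (i : ℕ) (M : ModuleCat.{u} R) :
    (localCohomology (a ⊔ Ideal.span {b}) i).obj M →ₗ[R] (localCohomology a i).obj M :=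
  ((Dual2.HmapOfLE (le_sup_left : a ≤ a ⊔ Ideal.span {b}) i).app M).hom

theorem exact_supH_locH (i : ℕ) (M : ModuleCat.{u} R) : Function.Exact (supH b a i M) (locH b a i M) := by
  let J := injectiveResolution M
  have h := (ShortComplex.ShortExact.moduleCat_exact_iff_function_exact _).1
    ((locSeq_shortExact b J a).homology_exact₂ i)
  refine (Function.Exact.iff_of_ladder_linearEquiv (e₁ := equivG (a ⊔ Ideal.span {b}) J i)
    (e₂ := equivG a J i) (e₃ := equivG a (locRes b J) i) ?_ ?_).1 h
  · ext z; exact (equivG_HmapOfLE _ J i z).symm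
  · ext z; exact (equivG_natural a J i (locRes b J) _ (locHom b J) z).symm

theorem exists_δloc (i : ℕ) (M : ModuleCat.{u} R) :
    ∃ δ : (localCohomology a i).obj ((locF b).obj M) →ₗ[R]
        (localCohomology (a ⊔ Ideal.span {b}) (i + 1)).obj M,
      Function.Exact (locH b a i M) δ ∧ Function.Exact δ (supH b a (i + 1) M) := by
  let J := injectiveResolution M
  have hS := locSeq_shortExact b J a
  let e1 := equivG (a ⊔ Ideal.span {b}) J (i + 1)
  let e2 := equivG a J i
  let e2' := equivG a J (i + 1)
  let e3 := equivG a (locRes b J) i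
  refine ⟨e1.symm.toLinearMap ∘ₗ (hS.δ i (i + 1) (by simp)).hom ∘ₗ e3.toLinearMap, ?_, ?_⟩
  · refine (Function.Exact.iff_of_ladder_linearEquiv (e₁ := e2) (e₂ := e3) (e₃ := e1) ?_ ?_).1
      ((ShortComplex.ShortExact.moduleCat_exact_iff_function_exact _).1
        (hS.homology_exact₃ i (i + 1) (by simp)))
    · ext z; exact (equivG_natural a J i (locRes b J) _ (locHom b J) z).symm
    · ext z; exact (LinearEquiv.apply_symm_apply e1 _).symm
  · refine (Function.Exact.iff_of_ladder_linearEquiv (e₁ := e3) (e₂ := e1) (e₃ := e2') ?_ ?_).1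
      ((ShortComplex.ShortExact.moduleCat_exact_iff_function_exact _).1
        (hS.homology_exact₁ i (i + 1) (by simp)))
    · ext z; exact (LinearEquiv.apply_symm_apply e1 _).symm
    · ext z; exact (equivG_HmapOfLE _ J (i + 1) z).symm

theorem supH_zero_injective (M : ModuleCat.{u} R) : Function.Injective (supH b a 0 M) := by
  let J := injectiveResolution M
  let T : gCx (a ⊔ Ideal.span {b}) J ⟶ gCx a J :=
    (NatTrans.mapHomologicalComplex (inclLE (le_sup_left : a ≤ a ⊔ Ideal.span {b}))
      (ComplexShape.up ℕ)).app J.cocomplex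
  rw [injective_iff_map_eq_zero]
  intro z hz
  have h0 : (HomologicalComplex.homologyMap T 0).hom (equivG (a ⊔ Ideal.span {b}) J 0 z) = 0 := by
    have := equivG_HmapOfLE (le_sup_left : a ≤ a ⊔ Ideal.span {b}) J 0 z
    rw [show ((Dual2.HmapOfLE (le_sup_left : a ≤ a ⊔ Ideal.span {b}) 0).app M).hom z = 0 from hz, map_zero] at this
    exact this.symm
  obtain ⟨c, hc⟩ := classOf_surjective _ 0 (equivG (a ⊔ Ideal.span {b}) J 0 z)
  rw [← hc] at h0
  have hker : (T.f 0).hom c.1 ∈ LinearMap.ker ((gCx a J).d 0 1).hom :=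
    LinearMap.mem_ker.2 ((ConcreteCategory.congr_hom (T.comm 0 1) c.1).trans
      ((congrArg (T.f 1).hom (LinearMap.mem_ker.1 c.2)).trans (map_zero _)))
  rw [classOf_natural _ 0 T c hker, classOf_eq_zero_iff] at h0
  obtain ⟨y, hy⟩ := h0
  rw [(gCx a J).shape _ _ (by simp)] at hy
  have hc0 : c = 0 := Subtype.ext (Subtype.ext (congrArg Subtype.val hy.symm :))
  rw [hc0, map_zero] at hc
  exact (LinearEquiv.map_eq_zero_iff _).1 hc.symm

end Loc

end Groth.Agent.LC
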