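import Groth.Agent.H23.TopDim
import Groth.Prelude.Def_W4bk5brsh7111920

/-!
# Connectedness dimension via irreducible components
-/

universe u

open TopologicalSpace

namespace Groth.Agent.LC

variable {T : Type u} [TopologicalSpace T]

theorem dim_mono {Z W : Set T} (h : Z ⊆ W) : topologicalKrullDim ↥Z ≤ topologicalKrullDim ↥W :=
  (Topology.IsInducing.subtypeVal.of_comp_iff.1
    (show Topology.IsInducing (Subtype.val ∘ Set.inclusion h) from Topology.IsInducing.subtypeVal)).topologicalKrullDim_le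

/-- A closed set whose complement is not connected gives an upper bound. -/
theorem connDim_le {Z : Set T} (hc : IsClosed Z) (h : ¬ IsConnected Zᶜ) :
    LocCoh.connDim T ≤ topologicalKrullDim ↥Z :=
  iInf₂_le Z ⟨hc, h⟩

theorem connDim_le_univ : LocCoh.connDim T ≤ topologicalKrullDim ↥(Set.univ : Set T) :=
  connDim_le isClosed_univ fun h => by simpa using h.nonempty

variable [NoetherianSpace T]

theorem finite_components : (irreducibleComponents T).Finite := NoetherianSpace.finite_irreducibleComponents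

theorem isClosed_sUnion {A : Set (Set T)} (hA : A ⊆ irreducibleComponents T) : IsClosed (⋃₀ A) := by
  rw [Set.sUnion_eq_biUnion]
  exact (finite_components.subset hA).isClosed_biUnion fun C hC => isClosed_of_mem_irreducibleComponents C (hA hC)

theorem mem_of_subset_sUnion {A : Set (Set T)} (hA : A ⊆ irreducibleComponents T) {C : Set T}
    (hC : C ∈ irreducibleComponents T) (h : C ⊆ ⋃₀ A) : C ∈ A := by
  have hfin := finite_components.subset hA
  obtain ⟨D, hD, hCD⟩ := isIrreducible_iff_sUnion_isClosed.1 hC.1 hfin.toFinset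
    (fun z hz => isClosed_of_mem_irreducibleComponents z (hA (hfin.mem_toFinset.1 hz)))
    (by rwa [hfin.coe_toFinset])
  rw [hfin.mem_toFinset] at hD
  have : D ⊆ C := hC.2 (hA hD).1 hCD
  exact (Set.Subset.antisymm hCD this) ▸ hD

/-- Splitting off one component. -/
theorem connDim_le_component {C : Set T} (hC : C ∈ irreducibleComponents T) :
    LocCoh.connDim T ≤ topologicalKrullDim ↥C := by
  by_cases hone : irreducibleComponents T ⊆ {C}
  · refine connDim_le_univ.trans (dim_mono fun x _ => ?_)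
    obtain ⟨D, hD, hxD⟩ : x ∈ ⋃₀ irreducibleComponents T := by rw [sUnion_irreducibleComponents]; trivial
    rwa [Set.mem_singleton_iff.1 (hone hD)] at hxD
  · let O : Set T := ⋃₀ (irreducibleComponents T \ {C})
    have hOc : IsClosed O := isClosed_sUnion Set.sdiff_subset
    refine (connDim_le (Z := C ∩ O) ((isClosed_of_mem_irreducibleComponents C hC).inter hOc) ?_).trans
      (dim_mono Set.inter_subset_left)
    intro hcon
    obtain ⟨D, hD, hDC⟩ : ∃ D ∈ irreducibleComponents T, D ≠ C := by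
      by_contra hne
      push Not at hne
      exact hone fun D hD => hne D hD
    have hcover : ∀ x, x ∈ C ∨ x ∈ O := fun x => by
      obtain ⟨E, hE, hxE⟩ : x ∈ ⋃₀ irreducibleComponents T := by rw [sUnion_irreducibleComponents]; trivial
      by_cases hEC : E = C
      · exact .inl (hEC ▸ hxE)
      · exact .inr ⟨E, ⟨hE, hEC⟩, hxE⟩
    obtain ⟨x, hxC, hxO⟩ : ∃ x ∈ C, x ∉ O := by
      by_contra hne
      push Not at hne
      exact (mem_of_subset_sUnion (A := irreducibleComponents T \ {C}) Set.sdiff_subset hC hne).2 rfl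
    obtain ⟨y, hyD, hyC⟩ : ∃ y ∈ D, y ∉ C := by
      by_contra hne
      push Not at hne
      exact hDC (Set.Subset.antisymm hne (hD.2 hC.1 hne))
    have hyO : y ∈ O := ⟨D, ⟨hD, hDC⟩, hyD⟩
    have := (isPreconnected_closed_iff.1 hcon.2 C O (isClosed_of_mem_irreducibleComponents C hC) hOc
      (fun z _ => hcover z) ⟨x, fun h => hxO h.2, hxC⟩ ⟨y, fun h => hyC h.1, hyO⟩)
    obtain ⟨z, hz, hz'⟩ := this
    exact hz hz'

theorem connDim_le_split [Nonempty T] {A B : Set (Set T)} (hA : A ⊆ irreducibleComponents T)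
    (hB : B ⊆ irreducibleComponents T) (hA0 : A.Nonempty) (hB0 : B.Nonempty)
    (hAB : A ∪ B = irreducibleComponents T) :
    LocCoh.connDim T ≤ topologicalKrullDim ↥(⋃₀ A ∩ ⋃₀ B) := by
  by_cases hd : (A ∩ B).Nonempty
  · obtain ⟨C, hCA, hCB⟩ := hd
    exact (connDim_le_component (hA hCA)).trans
      (dim_mono fun x hx => ⟨⟨C, hCA, hx⟩, ⟨C, hCB, hx⟩⟩)
  · refine connDim_le ((isClosed_sUnion hA).inter (isClosed_sUnion hB)) fun hcon => ?_
    obtain ⟨C, hC⟩ := hA0
    obtain ⟨D, hD⟩ := hB0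
    have hcover : ∀ x, x ∈ ⋃₀ A ∨ x ∈ ⋃₀ B := fun x => by
      obtain ⟨E, hE, hxE⟩ : x ∈ ⋃₀ irreducibleComponents T := by rw [sUnion_irreducibleComponents]; trivial
      rw [← hAB] at hE
      exact hE.imp (fun h => ⟨E, h, hxE⟩) fun h => ⟨E, h, hxE⟩
    obtain ⟨x, hxC, hx⟩ : ∃ x ∈ C, x ∉ ⋃₀ B := by
      by_contra hne
      push Not at hne
      exact hd ⟨C, hC, mem_of_subset_sUnion hB (hA hC) hne⟩
    obtain ⟨y, hyD, hy⟩ : ∃ y ∈ D, y ∉ ⋃₀ A := by
      by_contra hne
      push Not at hne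
      exact hd ⟨D, mem_of_subset_sUnion hA (hB hD) hne, hD⟩
    obtain ⟨z, hz, hz'⟩ := isPreconnected_closed_iff.1 hcon.2 (⋃₀ A) (⋃₀ B) (isClosed_sUnion hA)
      (isClosed_sUnion hB) (fun z _ => hcover z) ⟨x, fun h => hx h.2, ⟨C, hC, hxC⟩⟩
      ⟨y, fun h => hy h.1, ⟨D, hD, hyD⟩⟩
    exact hz hz'

/-- Every competitor dominates a decomposition into components. -/
theorem exists_split [Nonempty T] {Z : Set T} (hZc : IsClosed Z) (hZ : ¬ IsConnected Zᶜ) :
    ∃ A B : Set (Set T), A ⊆ irreducibleComponents T ∧ B ⊆ irreducibleComponents T ∧ A.Nonempty ∧ B.Nonempty ∧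
      A ∪ B = irreducibleComponents T ∧ ⋃₀ A ∩ ⋃₀ B ⊆ Z := by
  obtain ⟨x₀⟩ := ‹Nonempty T›
  rcases Set.eq_empty_or_nonempty Zᶜ with h | h
  · refine ⟨_, _, subset_rfl, subset_rfl, ⟨_, irreducibleComponent_mem_irreducibleComponents x₀⟩,
      ⟨_, irreducibleComponent_mem_irreducibleComponents x₀⟩, Set.union_self _, ?_⟩
    rw [Set.compl_empty_iff.1 h]; exact Set.subset_univ _
  · have hnp : ¬ IsPreconnected Zᶜ := fun h' => hZ ⟨h, h'⟩
    unfold IsPreconnected at hnp
    push Not at hnp
    obtain ⟨u, v, hu, hv, hcov, ⟨x, hxZ, hxu⟩, ⟨y, hyZ, hyv⟩, hdis⟩ := hnp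
    let U := Zᶜ ∩ u
    let V := Zᶜ ∩ v
    have hUo : IsOpen U := hZc.isOpen_compl.inter hu
    have hVo : IsOpen V := hZc.isOpen_compl.inter hv
    have hUV : ∀ z, z ∈ U → z ∈ V → False := fun z hzu hzv => by
      have : z ∈ Zᶜ ∩ (u ∩ v) := ⟨hzu.1, hzu.2, hzv.2⟩
      rw [hdis] at this
      exact this
    let A : Set (Set T) := {C | C ∈ irreducibleComponents T ∧ C ∩ V = ∅}
    let B : Set (Set T) := {C | C ∈ irreducibleComponents T ∧ C ∩ U = ∅}
    have hboth : ∀ C ∈ irreducibleComponents T, (C ∩ U).Nonempty → C ∩ V = ∅ := fun C hC hCU => by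
      rw [Set.eq_empty_iff_forall_notMem]
      intro z hz
      obtain ⟨w, hwC, hwU, hwV⟩ := hC.1.2 U V hUo hVo hCU ⟨z, hz⟩
      exact hUV w hwU hwV
    have hmemA : ∀ z ∈ U, irreducibleComponent z ∈ A := fun z hz =>
      ⟨irreducibleComponent_mem_irreducibleComponents z,
        hboth _ (irreducibleComponent_mem_irreducibleComponents z) ⟨z, mem_irreducibleComponent, hz⟩⟩
    refine ⟨A, B, fun C h => h.1, fun C h => h.1, ⟨_, hmemA x ⟨hxZ, hxu⟩⟩,
      ⟨irreducibleComponent y, irreducibleComponent_mem_irreducibleComponents y, ?_⟩, ?_, ?_⟩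
    · by_contra hne
      have := hboth _ (irreducibleComponent_mem_irreducibleComponents y) (Set.nonempty_iff_ne_empty.2 hne)
      have hmem : y ∈ irreducibleComponent y ∩ V := ⟨mem_irreducibleComponent, hyZ, hyv⟩
      rw [this] at hmem
      exact hmem
    · refine Set.Subset.antisymm (Set.union_subset (fun C h => h.1) fun C h => h.1) fun C hC => ?_
      rcases Set.eq_empty_or_nonempty (C ∩ U) with h | h
      · exact .inr ⟨hC, h⟩
      · exact .inl ⟨hC, hboth C hC h⟩
    · rintro z ⟨⟨C, hC, hzC⟩, ⟨D, hD, hzD⟩⟩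
      by_contra hzZ
      rcases hcov (show z ∈ Zᶜ from hzZ) with hzu | hzv
      · have : z ∈ D ∩ U := ⟨hzD, hzZ, hzu⟩
        rw [hD.2] at this; exact this
      · have : z ∈ C ∩ V := ⟨hzC, hzZ, hzv⟩
        rw [hC.2] at this; exact this

theorem connDim_eq [Nonempty T] :
    LocCoh.connDim T = ⨅ (A : Set (Set T)) (B : Set (Set T))
      (_ : A ⊆ irreducibleComponents T ∧ B ⊆ irreducibleComponents T ∧ A.Nonempty ∧ B.Nonempty ∧
        A ∪ B = irreducibleComponents T), topologicalKrullDim ↥(⋃₀ A ∩ ⋃₀ B) := by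
  refine le_antisymm (le_iInf fun A => le_iInf fun B => le_iInf fun h =>
    connDim_le_split h.1 h.2.1 h.2.2.1 h.2.2.2.1 h.2.2.2.2) (le_iInf₂ fun Z hZ => ?_)
  obtain ⟨A, B, hA, hB, hA0, hB0, hAB, hle⟩ := exists_split hZ.1 hZ.2
  exact iInf_le_of_le A (iInf_le_of_le B (iInf_le_of_le ⟨hA, hB, hA0, hB0, hAB⟩ (dim_mono hle)))

theorem connDim_le_subdim : LocCoh.connDim T ≤ LocCoh.subdim T :=
  le_iInf₂ fun _ hC => connDim_le_component hC

theorem dim_univ : topologicalKrullDim ↥(Set.univ : Set T) = topologicalKrullDim T :=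
  (Homeomorph.Set.univ T).isHomeomorph.topologicalKrullDim_eq _

theorem connDim_eq_subdim_iff [Nonempty T] (hfin : topologicalKrullDim T < ⊤) :
    LocCoh.connDim T = LocCoh.subdim T ↔ IrreducibleSpace T := by
  constructor
  · intro heq
    by_contra hirr
    obtain ⟨x₀⟩ := ‹Nonempty T›
    obtain ⟨C, hC, hmin⟩ := Set.exists_min_image (irreducibleComponents T)
      (fun C : Set T => topologicalKrullDim ↥C) finite_components
      ⟨_, irreducibleComponent_mem_irreducibleComponents x₀⟩
    have hsub : LocCoh.subdim T = topologicalKrullDim ↥C :=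
      le_antisymm (iInf₂_le C hC) (le_iInf₂ fun D hD => hmin D hD)
    let O : Set T := ⋃₀ (irreducibleComponents T \ {C})
    have hne : (irreducibleComponents T \ {C}).Nonempty := by
      by_contra h
      rw [Set.not_nonempty_iff_eq_empty, Set.sdiff_eq_empty] at h
      have huniv : C = Set.univ := by
        rw [← sUnion_irreducibleComponents]
        exact Set.Subset.antisymm (Set.subset_sUnion_of_mem hC)
          (Set.sUnion_subset fun D hD => (Set.mem_singleton_iff.1 (h hD)).le)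
      have := hC.1
      rw [huniv] at this
      exact hirr { isPreirreducible_univ := this.2, toNonempty := ⟨x₀⟩ }
    have h1 : LocCoh.connDim T ≤ topologicalKrullDim ↥(⋃₀ {C} ∩ O) :=
      connDim_le_split (A := {C}) (Set.singleton_subset_iff.2 hC) Set.sdiff_subset (Set.singleton_nonempty C) hne
        (by rw [Set.union_sdiff_self]; exact Set.union_eq_right.2 (Set.singleton_subset_iff.2 hC))
    rw [Set.sUnion_singleton] at h1
    have : IrreducibleSpace ↥C := Subtype.irreducibleSpace hC.1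
    let Y : Set ↥C := Subtype.val ⁻¹' O
    have hY : IsClosed Y := (isClosed_sUnion Set.sdiff_subset).preimage continuous_subtype_val
    have hYne : Y ≠ Set.univ := fun h =>
      (mem_of_subset_sUnion (A := irreducibleComponents T \ {C}) Set.sdiff_subset hC fun x hx =>
        (Set.eq_univ_iff_forall.1 h ⟨x, hx⟩ : _)).2 rfl
    have hfinC : topologicalKrullDim ↥C ≠ ⊤ :=
      ((topologicalKrullDim_subspace_le T C).trans_lt hfin).ne
    have h2 := H23.TopDim.dim_lt_of_ssubset (X := ↥C) hfinC hY hYne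
    have h3 : topologicalKrullDim ↥(C ∩ O) ≤ topologicalKrullDim ↥Y :=
      ((Topology.IsInducing.subtypeVal.of_comp_iff (f := fun z : ↥(C ∩ O) => (⟨z.1, z.2.1⟩ : ↥C))).1
        Topology.IsInducing.subtypeVal |> fun hi =>
          (Topology.IsInducing.subtypeVal.of_comp_iff
            (f := fun z : ↥(C ∩ O) => (⟨⟨z.1, z.2.1⟩, z.2.2⟩ : ↥Y))).1 hi).topologicalKrullDim_le
    rw [heq, hsub] at h1
    exact absurd ((h1.trans h3).trans_lt h2) (lt_irrefl _)
  · intro h
    refine le_antisymm connDim_le_subdim ?_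
    have huniv : (Set.univ : Set T) ∈ irreducibleComponents T :=
      ⟨IrreducibleSpace.isIrreducible_univ T, fun _ _ _ => Set.subset_univ _⟩
    refine (iInf₂_le _ huniv).trans ?_
    rw [connDim_eq]
    refine le_iInf fun A => le_iInf fun B => le_iInf fun h => ?_
    have hall : ∀ C ∈ irreducibleComponents T, C = Set.univ := fun C hC =>
      Set.eq_univ_of_univ_subset (hC.2 huniv.1 (Set.subset_univ _))
    obtain ⟨C, hC⟩ := h.2.2.1
    obtain ⟨D, hD⟩ := h.2.2.2.1
    exact dim_mono fun x _ => ⟨⟨C, hC, (hall C (h.1 hC)).symm ▸ trivial⟩, ⟨D, hD, (hall D (h.2.1 hD)).symm ▸ trivial⟩⟩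

end Groth.Agent.LC
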