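import Groth.Agent.LC.DualLocal
import Groth.Agent.LC.CanonBasic
import Groth.Agent.LC.CanonComplete

/-!
# Dimension and associated primes of the Matlis duals of local cohomology
-/

set_option autoImplicit false

universe u

open CategoryTheory CategoryTheory.Limits IsLocalRing

namespace Groth.Agent.LC

section Quot

variable {S R : Type u} [CommRing S] [LocCoh.IsGorensteinLocalRing S] [CommRing R] [IsLocalRing R]
  [IsNoetherianRing R] [Algebra S R]
variable (M : Type u) [AddCommGroup M] [Module R M] [Module.Finite R M]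

theorem exists_nontrivial_H_of_annihilator_le (hπ : Function.Surjective (algebraMap S R)) (p : Ideal R) [p.IsPrime]
    (i : ℕ) :
    Module.annihilator R (LocCoh.H (maximalIdeal R) i M) ≤ p ↔
      ∃ j : ℕ, (j : WithBot ℕ∞) + ringKrullDim (R ⧸ p) = i ∧
        Nontrivial (LocCoh.H (maximalIdeal (Localization.AtPrime p)) j (LocalizedModule p.primeCompl M)) := by
  letI : Module S M := Module.compHom M (algebraMap S R)
  have : IsScalarTower S R M := IsScalarTower.of_algebraMap_smul fun _ _ => rfl
  have : Module.Finite S R := Module.Finite.of_surjective (Algebra.linearMap S R) hπ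
  have : Module.Finite S M := Module.Finite.trans R M
  have hmax : (maximalIdeal S).map (algebraMap S R) = maximalIdeal R :=
    map_maximalIdeal_of_surjective _ hπ
  have hann : (Module.annihilator R (LocCoh.H (maximalIdeal R) i M)).comap (algebraMap S R) =
      Module.annihilator S (LocCoh.H (maximalIdeal S) i M) := by
    obtain ⟨ψ, hψ⟩ : ∃ ψ : LocCoh.H (maximalIdeal R) i M ≃+ LocCoh.H (maximalIdeal S) i M,
        ∀ (r : S) x, ψ (algebraMap S R r • x) = r • ψ x := by
      rw [← hmax]
      exact exists_indep (R := S) (R' := R) (maximalIdeal S) i M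
    ext r
    rw [Ideal.mem_comap, Module.mem_annihilator, Module.mem_annihilator]
    constructor
    · intro hr y
      obtain ⟨x, rfl⟩ := ψ.surjective y
      rw [← hψ, hr, map_zero]
    · intro hr x
      exact ψ.injective (by rw [hψ, hr, map_zero])
  rw [← Ideal.comap_le_comap_iff_of_surjective (algebraMap S R) hπ, hann]
  refine not_iff_not.1 ((not_annihilator_H_le_iff M (p.comap (algebraMap S R)) i).trans ?_)
  rw [ringKrullDim_quotient_comap hπ p]
  push Not
  exact forall_congr' fun j => imp_congr_right fun _ => subsingleton_H_localized_comap hπ p j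

/-- `dim R/p ≤ i` for the primes containing the annihilator of `H^i`. -/
theorem ringKrullDim_quot_le_of_annihilator_H_le (hπ : Function.Surjective (algebraMap S R)) (p : Ideal R) [p.IsPrime]
    (i : ℕ) (h : Module.annihilator R (LocCoh.H (maximalIdeal R) i M) ≤ p) :
    ringKrullDim (R ⧸ p) ≤ (i : WithBot ℕ∞) := by
  obtain ⟨j, hj, -⟩ := (exists_nontrivial_H_of_annihilator_le M hπ p i).1 h
  rw [← hj]
  exact le_add_of_nonneg_left (by exact_mod_cast Nat.zero_le j)

end Quot

theorem nontrivial_H0_localized_of_mem_ass {R : Type u} [CommRing R] [IsNoetherianRing R] {M : Type u}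
    [AddCommGroup M] [Module R M] (p : Ideal R) [p.IsPrime] (hp : p ∈ associatedPrimes R M) :
    Nontrivial (LocCoh.H (maximalIdeal (Localization.AtPrime p)) 0 (LocalizedModule p.primeCompl M)) := by
  obtain ⟨hpp, z, hz⟩ := Alg6.mem_ass_iff.1 hp
  let I := maximalIdeal (Localization.AtPrime p)
  let w : LocalizedModule p.primeCompl M := LocalizedModule.mk z 1
  have hw : w ≠ 0 := fun h => by
    obtain ⟨s, hs⟩ := (IsLocalizedModule.eq_zero_iff p.primeCompl (LocalizedModule.mkLinearMap p.primeCompl M)).1 h
    exact s.2 ((hz s).2 hs)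
  have hwt : w ∈ DRing.torsionSub I (LocalizedModule p.primeCompl M) := by
    refine ⟨1, fun a ha => ?_⟩
    rw [pow_one] at ha
    obtain ⟨r, s, rfl⟩ := IsLocalization.exists_mk'_eq p.primeCompl a
    have hr : r ∈ p := (IsLocalization.AtPrime.mk'_mem_maximal_iff (Localization.AtPrime p) p r s).1 ha
    rw [← Localization.mk_eq_mk', LocalizedModule.mk_smul_mk, (hz r).1 hr, LocalizedModule.zero_mk]
  exact (H0Equiv I (ModuleCat.of (Localization.AtPrime p) (LocalizedModule p.primeCompl M))).toEquiv.symm.nontrivial_congr.1
    ⟨⟨⟨w, hwt⟩, 0, fun h => hw (congrArg Subtype.val h)⟩⟩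

end Groth.Agent.LC
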