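import Groth.Agent.LC.Finiteness
import Groth.Agent.LC.DepthExt

/-!
# Factoring through free modules and consequences for local cohomology
-/

universe u

open CategoryTheory Limits

namespace Groth.Agent.LC

variable {R : Type u} [CommRing R] [IsNoetherianRing R]

/-- If `S⁻¹M` is projective, some `s ∈ S` times the identity factors through a free module. -/
theorem exists_factor (S : Submonoid R) (M : Type u) [AddCommGroup M] [Module R M] [Module.Finite R M]
    [Module.Projective (Localization S) (LocalizedModule S M)] :
    ∃ s ∈ S, ∃ (r : ℕ) (g : M →ₗ[R] (Fin r → R)) (h : (Fin r → R) →ₗ[R] M),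
      h ∘ₗ g = s • LinearMap.id := by
  obtain ⟨r, π, hπ⟩ := Module.Finite.exists_fin' R M
  obtain ⟨σ, hσ⟩ := Module.projective_lifting_property (LocalizedModule.map S π)
    (LinearMap.id (R := Localization S) (M := LocalizedModule S M)) (LocalizedModule.map_surjective S π hπ)
  let mF := LocalizedModule.mkLinearMap S (Fin r → R)
  let mM := LocalizedModule.mkLinearMap S M
  have : Module.FinitePresentation R M := Module.finitePresentation_of_finite R M
  obtain ⟨g, s, hg⟩ := Module.FinitePresentation.exists_lift_of_isLocalizedModule S mF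
    (σ.restrictScalars R ∘ₗ mM)
  have hnat : ∀ v, LocalizedModule.map S π (mF v) = mM (π v) := fun v => by
    show LocalizedModule.map S π (LocalizedModule.mk v 1) = LocalizedModule.mk (π v) 1
    rw [LocalizedModule.map_mk]
  have key : ∀ m, mM (π (g m) - (s : R) • m) = 0 := fun m => by
    have h1 : mF (g m) = (s : R) • σ (mM m) := LinearMap.congr_fun hg m
    rw [map_sub, map_smul, ← hnat, h1, ← algebraMap_smul (Localization S) (s : R) (σ (mM m)), map_smul,
      algebraMap_smul, show LocalizedModule.map S π (σ (mM m)) = mM m from LinearMap.congr_fun hσ (mM m),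
      sub_self]
  obtain ⟨k, f, hf⟩ := Module.Finite.exists_fin (R := R) (M := M)
  choose t ht using fun j => (IsLocalizedModule.eq_zero_iff S mM).1 (key (f j))
  let T : S := ∏ j, t j
  refine ⟨(T : R) * s, S.mul_mem T.2 s.2, r, (T : R) • g, π, LinearMap.ext_on hf ?_⟩
  rintro _ ⟨j, rfl⟩
  have hT : (T : R) • (π (g (f j)) - (s : R) • f j) = 0 := by
    have : T = (∏ i ∈ Finset.univ.erase j, t i) * t j := (Finset.prod_erase_mul _ _ (Finset.mem_univ j)).symm
    rw [this, Submonoid.coe_mul, mul_smul]
    exact (congrArg _ (ht j)).trans (smul_zero _)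
  rw [smul_sub, sub_eq_zero] at hT
  show π ((T : R) • g (f j)) = ((T : R) * (s : R)) • f j
  rw [map_smul, mul_smul]
  exact hT

omit [IsNoetherianRing R] in
/-- A scalar killing `H^i(R)` kills `H^i` of a free module of finite rank. -/
theorem smul_H_pi_eq_zero (I : Ideal R) (i : ℕ) (c : R)
    (hc : ∀ z : (localCohomology I i).obj (ModuleCat.of R R), c • z = 0) (r : ℕ)
    (z : (localCohomology I i).obj (ModuleCat.of R (Fin r → R))) : c • z = 0 := by
  let F : ModuleCat.{u} R := ModuleCat.of R (Fin r → R)
  let e : Fin r → (ModuleCat.of R R ⟶ F) := fun k => ModuleCat.ofHom (LinearMap.single R (fun _ => R) k)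
  let pr : Fin r → (F ⟶ ModuleCat.of R R) := fun k => ModuleCat.ofHom (LinearMap.proj k)
  have hid : 𝟙 F = ∑ k, pr k ≫ e k := by
    refine ModuleCat.hom_ext (LinearMap.ext fun v => ?_)
    rw [ModuleCat.hom_sum, LinearMap.sum_apply]
    exact (Finset.univ_sum_single (v : Fin r → R)).symm
  have hsum : ∀ (s : Finset (Fin r)), c • ((localCohomology I i).map (∑ k ∈ s, pr k ≫ e k)).hom z = 0 := by
    intro s
    induction s using Finset.cons_induction with
    | empty => rw [Finset.sum_empty, map_zero_apply', smul_zero]
    | cons a s ha ih =>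
      rw [Finset.sum_cons, map_add_apply', smul_add, ih, add_zero, Functor.map_comp, ModuleCat.comp_apply,
        ← map_smul, hc, map_zero]
  have h := hsum Finset.univ
  rw [← hid, CategoryTheory.Functor.map_id] at h
  exact h
where
  map_add_apply' {M N : ModuleCat.{u} R} (f g : M ⟶ N) (h : (localCohomology I i).obj M) :
      ((localCohomology I i).map (f + g)).hom h =
        ((localCohomology I i).map f).hom h + ((localCohomology I i).map g).hom h := by
    obtain ⟨n, x, rfl⟩ := exists_toH I i h
    rw [toH_natural, toH_natural, toH_natural, ← map_add, Abelian.Ext.mk₀_add, Abelian.Ext.comp_add]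
  map_zero_apply' {M N : ModuleCat.{u} R} (h : (localCohomology I i).obj M) :
      ((localCohomology I i).map (0 : M ⟶ N)).hom h = 0 := by
    obtain ⟨n, x, rfl⟩ := exists_toH I i h
    rw [toH_natural, Abelian.Ext.mk₀_zero, Abelian.Ext.comp_zero, map_zero]

omit [IsNoetherianRing R] in
/-- If `s • id` factors through a free module, `s·c` kills `H^i(M)` when `c` kills `H^i(R)`. -/
theorem smul_H_eq_zero_of_factor (I : Ideal R) (i : ℕ) {M : Type u} [AddCommGroup M] [Module R M] {r : ℕ}
    (g : M →ₗ[R] (Fin r → R)) (h : (Fin r → R) →ₗ[R] M) {s : R} (hgh : h ∘ₗ g = s • LinearMap.id) (c : R)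
    (hc : ∀ z : (localCohomology I i).obj (ModuleCat.of R R), c • z = 0)
    (z : (localCohomology I i).obj (ModuleCat.of R M)) : (c * s) • z = 0 := by
  have h1 : ((localCohomology I i).map (ModuleCat.ofHom h)).hom
      (((localCohomology I i).map (ModuleCat.ofHom g)).hom z) = s • z := by
    rw [← ModuleCat.comp_apply, ← Functor.map_comp]
    obtain ⟨n, x, rfl⟩ := exists_toH I i z
    rw [toH_natural, ← map_smul, Abelian.Ext.smul_eq_comp_mk₀]
    congr 3
    exact ModuleCat.hom_ext hgh
  rw [mul_smul, ← h1, ← map_smul, smul_H_pi_eq_zero I i c hc r _, map_zero]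

/-- `H^1` of a submodule of a finite module is finite if that of the module is. -/
theorem finite_H1_of_injective (I : Ideal R) {N M : Type u} [AddCommGroup N] [Module R N] [Module.Finite R N]
    [AddCommGroup M] [Module R M] [Module.Finite R M] (f : N →ₗ[R] M) (hf : Function.Injective f)
    (hM : Module.Finite R ((localCohomology I 1).obj (ModuleCat.of R M))) :
    Module.Finite R ((localCohomology I 1).obj (ModuleCat.of R N)) := by
  let S : ShortComplex (ModuleCat.{u} R) := ShortComplex.mk (X₁ := ModuleCat.of R N)
    (X₂ := ModuleCat.of R M) (X₃ := ModuleCat.of R (M ⧸ LinearMap.range f)) (ModuleCat.ofHom f)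
    (ModuleCat.ofHom (LinearMap.range f).mkQ)
    (ModuleCat.hom_ext (LinearMap.ext fun z => (Submodule.Quotient.mk_eq_zero _).2 ⟨z, rfl⟩))
  have hS : S.ShortExact :=
    { exact := (ShortComplex.ShortExact.moduleCat_exact_iff_function_exact _).2
        (LinearMap.exact_map_mkQ_range f)
      mono_f := (ModuleCat.mono_iff_injective _).2 hf
      epi_g := (ModuleCat.epi_iff_surjective _).2 (Submodule.mkQ_surjective _) }
  have : Module.Finite R ((localCohomology I 0).obj S.X₃) := finite_H0 I _
  have : IsNoetherian R ((localCohomology I 1).obj S.X₂) := isNoetherian_of_isNoetherianRing_of_finite R _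
  exact finite_of_exact (δH I 0 hS 1 rfl) ((localCohomology I 1).map S.f).hom (exact₁ I 0 hS 1 rfl)
    inferInstance

theorem finite_H1_of_exact (I : Ideal R) {N M Q : Type u} [AddCommGroup N] [Module R N]
    [AddCommGroup M] [Module R M] [AddCommGroup Q] [Module R Q] (f : N →ₗ[R] M) (g : M →ₗ[R] Q)
    (hf : Function.Injective f) (hg : Function.Surjective g) (hfg : Function.Exact f g)
    (hN : Module.Finite R ((localCohomology I 1).obj (ModuleCat.of R N)))
    (hQ : Module.Finite R ((localCohomology I 1).obj (ModuleCat.of R Q))) :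
    Module.Finite R ((localCohomology I 1).obj (ModuleCat.of R M)) := by
  let S : ShortComplex (ModuleCat.{u} R) := ShortComplex.mk (X₁ := ModuleCat.of R N)
    (X₂ := ModuleCat.of R M) (X₃ := ModuleCat.of R Q) (ModuleCat.ofHom f) (ModuleCat.ofHom g)
    (ModuleCat.hom_ext (LinearMap.ext fun z => hfg.apply_apply_eq_zero z))
  have hS : S.ShortExact :=
    { exact := (ShortComplex.ShortExact.moduleCat_exact_iff_function_exact _).2 hfg
      mono_f := (ModuleCat.mono_iff_injective _).2 hf
      epi_g := (ModuleCat.epi_iff_surjective _).2 hg }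
  have : IsNoetherian R ((localCohomology I 1).obj S.X₃) := isNoetherian_of_isNoetherianRing_of_finite R _
  exact finite_of_exact ((localCohomology I 1).map S.f).hom ((localCohomology I 1).map S.g).hom
    (exact₂ I 1 hS) inferInstance

end Groth.Agent.LC
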