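import Groth.Agent.LC.GorLoc

/-!
`A` has finite injective dimension iff it is Gorenstein of finite Krull dimension.
-/

set_option autoImplicit false

universe u

open CategoryTheory IsLocalRing

namespace Groth.Agent.LC

variable (A : Type u) [CommRing A] [IsNoetherianRing A]

theorem ext_residue_localization_vanish {n : ℕ} [HasInjectiveDimensionLT (ModuleCat.of A A) n]
    (p : Ideal A) [p.IsPrime] (i : ℕ) (hi : n ≤ i) :
    Subsingleton (Abelian.Ext
      (ModuleCat.of (Localization.AtPrime p) (Localization.AtPrime p ⧸ maximalIdeal (Localization.AtPrime p)))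
      (ModuleCat.of (Localization.AtPrime p) (Localization.AtPrime p)) i) := by
  haveI : Subsingleton (Abelian.Ext (ModuleCat.of A (A ⧸ p)) (ModuleCat.of A A) i) :=
    subsingleton_of_forall_eq 0 fun e => e.eq_zero_of_hasInjectiveDimensionLT n hi
  obtain ⟨e⟩ := exists_extLoc_ring p.primeCompl (A ⧸ p) i
  obtain ⟨q⟩ := exists_locQuot p.primeCompl p
  let e' := e.trans (extCongr (q.trans
    (Submodule.quotEquivOfEq _ _ Localization.AtPrime.map_eq_maximalIdeal)).toModuleIso (Iso.refl _) i)
  exact e'.symm.toEquiv.subsingleton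

theorem finite_injdim_iff :
    (∃ n : ℕ, HasInjectiveDimensionLT (ModuleCat.of A A) n) ↔
      (LocCoh.IsGorensteinRing A ∧ ringKrullDim A < ⊤) := by
  constructor
  · rintro ⟨n, hn⟩
    have hloc : ∀ (p : Ideal A) [p.IsPrime], IsNoetherianRing (Localization.AtPrime p) := fun p _ =>
      IsLocalization.isNoetherianRing p.primeCompl _ inferInstance
    refine ⟨{ isGorensteinLocalRing_localization := fun p _ => ?_ }, ?_⟩
    · haveI := hloc p
      exact gorenstein_iff_ext_residue.2 ⟨n, fun i hi => ext_residue_localization_vanish A p i hi⟩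
    · have hle : ringKrullDim A ≤ (n : WithBot ℕ∞) := by
        rw [ringKrullDim_le_iff_height_le]
        intro p hp
        haveI := hp
        haveI := hloc p
        have h := ringKrullDim_le_of_ext_vanish (R := Localization.AtPrime p) n
          (fun j hj => ext_residue_localization_vanish A p j hj.le)
        rwa [IsLocalization.AtPrime.ringKrullDim_eq_height p (Localization.AtPrime p)] at h
      exact lt_of_le_of_lt hle (WithBot.coe_lt_coe.2 (ENat.natCast_lt_top n))
  · rintro ⟨hG, hlt⟩
    obtain ⟨D, hD⟩ : ∃ D : ℕ, ringKrullDim A ≤ (D : WithBot ℕ∞) := by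
      revert hlt
      cases ringKrullDim A with
      | bot => exact fun _ => ⟨0, bot_le⟩
      | coe d =>
        intro hlt
        have hd : d < ⊤ := WithBot.coe_lt_coe.1 hlt
        lift d to ℕ using hd.ne
        exact ⟨d, le_rfl⟩
    refine ⟨D + 1, Groth.Agent.CAlgGlobalDim.hasInjectiveDimensionLE_of_ext_cyclic D _ fun J => ?_⟩
    refine Module.subsingleton_of_localization_maximal
      (fun (m : Ideal A) _ => LocalizedModule m.primeCompl
        (Abelian.Ext (ModuleCat.of A (A ⧸ J)) (ModuleCat.of A A) (D + 1)))
      (fun (m : Ideal A) _ => LocalizedModule.mkLinearMap m.primeCompl _) fun m hm => ?_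
    haveI : m.IsPrime := hm.isPrime
    haveI : IsNoetherianRing (Localization.AtPrime m) :=
      IsLocalization.isNoetherianRing m.primeCompl _ inferInstance
    haveI := hG.isGorensteinLocalRing_localization m
    obtain ⟨d, hd, -, hv⟩ := gorenstein_basic (R := Localization.AtPrime m)
    rw [IsLocalization.AtPrime.ringKrullDim_eq_height m (Localization.AtPrime m)] at hd
    have hdD : d ≤ D := by
      have h1 := ((ringKrullDim_le_iff_height_le _).1 hD) hm.isPrime
      rw [hd] at h1
      exact_mod_cast h1
    obtain ⟨e⟩ := exists_extLoc_ring m.primeCompl (A ⧸ J) (D + 1)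
    haveI := hv (LocalizedModule m.primeCompl (A ⧸ J)) (D + 1) (by omega)
    exact e.toEquiv.subsingleton

end Groth.Agent.LC
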