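import Groth.Agent.LC.GorQuot
import Groth.Agent.LC.GorLoc
import Groth.Agent.LC.TopDim3
import Groth.Agent.LC.Pointwise
import Groth.Agent.LC.MatlisExtra
import Groth.Agent.CohenLib.PowerSeries
import Groth.Agent.Adic7.Basic

/-!
# The Hartshorne–Lichtenbaum vanishing theorem for complete local domains
-/

universe u

open CategoryTheory IsLocalRing

namespace Groth.Agent.LC

section Kill

variable {G : Type u} [CommRing G] [LocCoh.IsGorensteinLocalRing G]

/-- Classes killed by an ideal `a ⊇ p^n` with `depth G/a > 0` die in `H^d_p`. -/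
theorem HmapOfLE_eq_zero_of_kill {d : ℕ} (hd : ringKrullDim G = d) {p a : Ideal G} (hp : p ≤ maximalIdeal G)
    {n : ℕ} (hpa : p ^ n ≤ a) {s : G} (hs : s ∈ maximalIdeal G)
    (hreg : IsSMulRegular (G ⧸ a) s) (z : (localCohomology (maximalIdeal G) d).obj (ModuleCat.of G G))
    (hz : ∀ r ∈ a, r • z = 0) : ((Dual2.HmapOfLE hp d).app (ModuleCat.of G G)).hom z = 0 := by
  let m := maximalIdeal G
  let M := ModuleCat.of G G
  obtain ⟨d', hd', hδ, -⟩ := gorenstein_basic (R := G)
  obtain rfl : d = d' := by rw [hd] at hd'; exact_mod_cast hd'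
  have hM : PrevVanish m d M := prevVanish_gorenstein hδ
  obtain ⟨k, hk⟩ := isPowerTorsion_obj m d M z
  let F := G ⧸ (a ⊔ m ^ k)
  have hF : ∀ r ∈ m ^ k, ∀ w : F, r • w = 0 := fun r hr w => by
    obtain ⟨w, rfl⟩ := Ideal.Quotient.mk_surjective w
    exact Ideal.Quotient.eq_zero_iff_mem.2 (Ideal.mul_mem_right w _ (Submodule.mem_sup_right hr))
  have hker : a ⊔ m ^ k ≤ LinearMap.ker (LinearMap.toSpanSingleton G _ z) :=
    sup_le (fun r hr => LinearMap.mem_ker.2 (hz r hr)) (fun r hr => LinearMap.mem_ker.2 (hk r hr))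
  obtain ⟨y, hy⟩ := extToHom_surjective hM k F hF ((a ⊔ m ^ k).liftQ _ hker)
  have hy1 := LinearMap.congr_fun hy (Ideal.Quotient.mk _ 1)
  rw [extToHom_apply, show ((a ⊔ m ^ k).liftQ (LinearMap.toSpanSingleton G _ z) hker)
    (Ideal.Quotient.mk _ 1) = z from one_smul G z] at hy1
  rw [← hy1, HmapOfLE_toH, ← toH_res p d (le_max_left k n), res_apply,
    ← Abelian.Ext.comp_assoc _ _ _ (zero_add 0) (zero_add d) (by omega), Abelian.Ext.mk₀_comp_mk₀,
    ← Abelian.Ext.comp_assoc _ _ _ (zero_add 0) (zero_add d) (by omega), Abelian.Ext.mk₀_comp_mk₀]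
  have hpa' : p ^ max k n ≤ a := (Ideal.pow_le_pow_right (le_max_right k n)).trans hpa
  let β : ModuleCat.of G (G ⧸ a) ⟶ ModuleCat.of G F := ModuleCat.ofHom (Submodule.factor le_sup_left)
  let γ : qObj p (max k n) ⟶ ModuleCat.of G (G ⧸ a) := ModuleCat.ofHom (Submodule.factor hpa')
  have e : (qMap p (le_max_left k n) ≫ qLE hp k) ≫ qLift m k F hF (Ideal.Quotient.mk _ 1) = γ ≫ β := by
    refine qObj_hom_ext' p ?_
    show (1 : G) • (Ideal.Quotient.mk (a ⊔ m ^ k) 1 : F) = Ideal.Quotient.mk (a ⊔ m ^ k) 1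
    rw [one_smul]
  rw [e, ← Abelian.Ext.mk₀_comp_mk₀, Abelian.Ext.comp_assoc _ _ _ (zero_add 0) (zero_add d) (by omega)]
  have : Subsingleton (Abelian.Ext (ModuleCat.of G (G ⧸ a)) M d) := by
    refine (depth_pos_iff_ext_subsingleton d hd (G ⧸ a)).1 ?_
    have h1 := Groth.Agent.Alg6.length_le_idealDepth (M := G ⧸ a) (rs := [s]) (I := m)
      ((RingTheory.Sequence.isWeaklyRegular_singleton_iff _ s).2 hreg)
      (fun r hr => (List.mem_singleton.1 hr) ▸ hs)
    exact lt_of_lt_of_le (by simp) h1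
  rw [show (Abelian.Ext.mk₀ β).comp y (zero_add d) = 0 from Subsingleton.elim _ _, Abelian.Ext.comp_zero,
    map_zero]

/-- In a Gorenstein local ring, an ideal strictly above every... contains a regular element. -/
theorem eq_zero_of_kill_prime {P : Ideal G} [P.IsPrime] {s g : G} (hs : s ∉ P)
    (hP : ∀ r ∈ P, r * g = 0) (hsg : s * g = 0) : g = 0 := by
  by_contra hg
  have := isCohenMacaulayLocalRing_of_gorenstein (R := G)
  let J : Ideal G := (Submodule.span G {g}).annihilator
  have hJ : ∀ r, r ∈ J ↔ r * g = 0 := fun r => Submodule.mem_annihilator_span_singleton g r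
  have htop : J ≠ ⊤ := fun h => hg (by simpa using (hJ 1).1 (h ▸ trivial))
  have hh : (1 : ℕ∞) ≤ J.height := by
    rw [Ideal.height_eq_inf_minimalPrimes]
    refine le_iInf₂ fun Q hQ => ?_
    have hlt : P < Q := lt_of_le_of_ne (fun r hr => hQ.1.2 ((hJ r).2 (hP r hr))) fun h =>
      hs (h ▸ hQ.1.2 ((hJ s).2 hsg))
    have := hQ.1.1
    exact Order.one_le_iff_pos.2 (lt_of_le_of_lt bot_le (Ideal.height_strict_mono_of_isPrime hlt))
  rw [← idealDepth_self_eq_height] at hh
  obtain ⟨rs, hreg, hmem, hlen⟩ := exists_idealDepth_eq_length (M := G) J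
    (smul_top_ne_top_of_le_maximal (R := G) (M := G) (le_maximalIdeal htop))
  rw [hlen] at hh
  match rs, hh with
  | [], hh => simp at hh
  | r :: rs, _ =>
    have h1 := ((RingTheory.Sequence.isWeaklyRegular_cons_iff G r rs).1 hreg).1
    exact hg (h1 (show r * g = r * 0 by rw [(hJ r).1 (hmem r (by simp)), mul_zero]))

/-- Vanishing for a prime quotient of a complete Gorenstein local ring. -/
theorem subsingleton_H_quot_prime_gorenstein [IsAdicComplete (maximalIdeal G) G] {d : ℕ} (hd : ringKrullDim G = d)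
    (P p : Ideal G) [P.IsPrime] [p.IsPrime] (hPp : P ≤ p) (hne : p ≠ maximalIdeal G) :
    Subsingleton ((localCohomology p d).obj (ModuleCat.of G (G ⧸ P))) := by
  let m := maximalIdeal G
  have hp : p ≤ m := le_maximalIdeal (Ideal.IsPrime.ne_top inferInstance)
  let M := ModuleCat.of G G
  let E := (localCohomology m d).obj M
  let q : M ⟶ ModuleCat.of G (G ⧸ P) := ModuleCat.ofHom P.mkQ
  let σ := ((Dual2.HmapOfLE hp d).app M).hom
  have hσ : Function.Surjective σ := by
    refine (HmapOfLE_surjective_injective p m hp G d).1 fun Q hQ hQm => ?_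
    let A := Localization.AtPrime Q.asIdeal
    have hlt : Q.asIdeal < m := lt_of_le_of_ne (le_maximalIdeal Q.isPrime.ne_top) fun h => hQm h.ge
    have hh : Q.asIdeal.height < d := by
      have h1 := Ideal.height_strict_mono_of_isPrime hlt
      have h2 := IsLocalRing.maximalIdeal_height_eq_ringKrullDim (R := G)
      rw [hd] at h2
      rwa [show m.height = d from (by exact_mod_cast h2)] at h1
    refine subsingleton_H_of_supportDim_lt (maximalIdeal A) (ModuleCat.of A (LocalizedModule Q.asIdeal.primeCompl G)) d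
      (((Module.supportDim_le_ringKrullDim A _).trans
        (IsLocalization.AtPrime.ringKrullDim_eq_height Q.asIdeal A).le).trans_lt ?_)
    exact_mod_cast hh
  let π := ((localCohomology p d).map q).hom
  have hπ : Function.Surjective π := by
    let S : ShortComplex (ModuleCat.{u} G) := ShortComplex.mk (X₁ := ModuleCat.of G P) (X₂ := M)
      (ModuleCat.ofHom P.subtype) q
      (ModuleCat.hom_ext (LinearMap.ext fun z => (Submodule.Quotient.mk_eq_zero _).2 z.2))
    have hS : S.ShortExact :=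
      { exact := (ShortComplex.ShortExact.moduleCat_exact_iff_function_exact _).2
          (LinearMap.exact_subtype_mkQ P)
        mono_f := (ModuleCat.mono_iff_injective _).2 Subtype.val_injective
        epi_g := (ModuleCat.epi_iff_surjective _).2 (Submodule.mkQ_surjective _) }
    intro w
    exact (exact₃ p d hS (d + 1) rfl w).1
      (@Subsingleton.elim _ (subsingleton_H_succ_of_ringKrullDim p hd.le _) _ _)
  let χ : E →ₗ[G] (localCohomology p d).obj (ModuleCat.of G (G ⧸ P)) := π ∘ₗ σ
  suffices hker : LinearMap.ker χ = ⊤ by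
    refine subsingleton_of_forall_eq 0 fun w => ?_
    obtain ⟨u, rfl⟩ := hπ w
    obtain ⟨v, rfl⟩ := hσ u
    exact LinearMap.congr_fun (LinearMap.ker_eq_top.1 hker) v
  by_contra hker
  obtain ⟨f, hf⟩ := isInjectiveHull_H_gorenstein (R := G) hd
  have : Nontrivial (E ⧸ LinearMap.ker χ) := Submodule.Quotient.nontrivial_iff.2 hker
  obtain ⟨w, hw⟩ := exists_ne (0 : E ⧸ LinearMap.ker χ)
  obtain ⟨φ₀, hφ₀⟩ := exists_dual_ne_zero hf hw
  let φ : E →ₗ[G] E := φ₀ ∘ₗ (LinearMap.ker χ).mkQ
  have hφker : ∀ v, χ v = 0 → φ v = 0 := fun v hv => by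
    show φ₀ (Submodule.Quotient.mk v) = 0
    rw [(Submodule.Quotient.mk_eq_zero _).2 (LinearMap.mem_ker.2 hv), map_zero]
  obtain ⟨e, he⟩ := endEquiv hf
  obtain ⟨g, hg⟩ := AdicCompletion.of_surjective (maximalIdeal G) G (e φ)
  have hφg : ∀ v, φ v = g • v := fun v => by
    obtain ⟨k, hk⟩ := isPowerTorsion_obj m d M v
    exact he φ k g v (by rw [← hg]; rfl) hk
  have hg0 : g ≠ 0 := by
    rintro rfl
    obtain ⟨v, rfl⟩ := Submodule.mkQ_surjective _ w
    exact hφ₀ ((hφg v).trans (zero_smul G v))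
  -- `g` kills `P`
  have hgP : ∀ r ∈ P, r * g = 0 := by
    intro r hr
    have h1 : r * g ∈ Module.annihilator G E := by
      refine Module.mem_annihilator.2 fun v => ?_
      rw [mul_comm, mul_smul, ← hφg]
      refine hφker _ ?_
      rw [map_smul]
      refine smul_H_eq_zero p d (fun b : G ⧸ P => ?_) _
      obtain ⟨b, rfl⟩ := Ideal.Quotient.mk_surjective b
      exact Ideal.Quotient.eq_zero_iff_mem.2 (Ideal.mul_mem_right b _ hr)
    have h2 : r * g ∈ Module.annihilator G (G →ₗ[G] E) := Module.mem_annihilator.2 fun ψ =>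
      LinearMap.ext fun c => by rw [LinearMap.smul_apply, Module.mem_annihilator.1 h1, LinearMap.zero_apply]
    rw [← annihilator_dual hf, Module.mem_annihilator] at h2
    simpa using h2 1
  -- `g` is in every symbolic power of `p`
  let L := Localization.AtPrime p
  have hgsymb : ∀ n, g ∈ Ideal.comap (algebraMap G L) ((p.map (algebraMap G L)) ^ n) := by
    intro n
    let a := Ideal.comap (algebraMap G L) ((p.map (algebraMap G L)) ^ n)
    have hpa : p ^ n ≤ a := by
      rw [← Ideal.map_le_iff_le_comap, Ideal.map_pow]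
    obtain ⟨s, hsm, hsp⟩ := SetLike.exists_of_lt (lt_of_le_of_ne hp hne)
    have hreg : IsSMulRegular (G ⧸ a) s := by
      refine (injective_iff_map_eq_zero (DistribMulAction.toAddMonoidHom (G ⧸ a) s)).2 fun b hb => ?_
      obtain ⟨b, rfl⟩ := Ideal.Quotient.mk_surjective b
      have hb' : s * b ∈ a := Ideal.Quotient.eq_zero_iff_mem.1 hb
      rw [Ideal.mem_comap, map_mul] at hb'
      exact Ideal.Quotient.eq_zero_iff_mem.2
        ((Ideal.unit_mul_mem_iff_mem _ (IsLocalization.map_units L (⟨s, hsp⟩ : p.primeCompl))).1 hb')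
    have h2 : g ∈ Module.annihilator G ((G ⧸ a) →ₗ[G] E) := Module.mem_annihilator.2 fun ψ =>
      Submodule.linearMap_qext _ (LinearMap.ext_ring (by
        show g • ψ (Ideal.Quotient.mk a 1) = 0
        rw [← hφg]
        refine hφker _ ?_
        show π (σ _) = 0
        rw [HmapOfLE_eq_zero_of_kill hd hp hpa hsm hreg _ fun r hr => ?_, map_zero]
        rw [← map_smul, show r • Ideal.Quotient.mk a (1 : G) = 0 from
          Ideal.Quotient.eq_zero_iff_mem.2 (Ideal.mul_mem_right 1 _ hr), map_zero]))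
    rw [← annihilator_dual hf, Module.mem_annihilator] at h2
    exact Ideal.Quotient.eq_zero_iff_mem.1 (by simpa [Algebra.smul_def] using h2 1)
  -- so `g = 0`
  have hgL : algebraMap G L g = 0 := by
    have h1 := Ideal.iInf_pow_eq_bot_of_isLocalRing (p.map (algebraMap G L))
      (by rw [Localization.AtPrime.map_eq_maximalIdeal]; exact (maximalIdeal.isMaximal L).ne_top)
    rw [← Ideal.mem_bot, ← h1, Ideal.mem_iInf]
    exact hgsymb
  obtain ⟨⟨s, hs⟩, hsg⟩ := (IsLocalization.map_eq_zero_iff p.primeCompl L g).1 hgL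
  exact hg0 (eq_zero_of_kill_prime (fun h => hs (hPp h)) hgP hsg)

end Kill

end Groth.Agent.LC
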