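import Groth.Prelude.Def_DualLC
import Mathlib.RingTheory.Length

/-!
# Independent families and lengths
-/

set_option autoImplicit false

universe u

namespace Groth.Agent.LC.Indep

variable {A : Type u} [CommRing A] {r : ℕ}

theorem span_update_le (f : Fin r → A) (j : Fin r) (g : A) :
    Ideal.span (Set.range (Function.update f j (f j * g))) ≤ Ideal.span (Set.range f) := by
  rw [Ideal.span_le]
  rintro _ ⟨i, rfl⟩
  rcases eq_or_ne i j with rfl | hi
  · rw [Function.update_self]; exact Ideal.mul_mem_right _ _ (Ideal.subset_span ⟨_, rfl⟩)
  · rw [Function.update_of_ne hi]; exact Ideal.subset_span ⟨i, rfl⟩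

theorem sum_update (f : Fin r → A) (j : Fin r) (v : A) (a : Fin r → A) :
    ∑ i, a i * Function.update f j v i = a j * v + ∑ i ∈ Finset.univ.erase j, a i * f i := by
  rw [← Finset.add_sum_erase _ _ (Finset.mem_univ j), Function.update_self]
  congr 1
  exact Finset.sum_congr rfl fun i hi => by rw [Function.update_of_ne (Finset.ne_of_mem_erase hi)]

theorem independent_of_update (f : Fin r → A) (j : Fin r) (g : A)
    (h : Dual2.Independent (Function.update f j (f j * g))) : Dual2.Independent f := by
  intro a ha
  have hle := span_update_le f j g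
  have ha' : a j * f j + ∑ i ∈ Finset.univ.erase j, a i * f i = 0 := by
    rw [Finset.add_sum_erase Finset.univ (fun i => a i * f i) (Finset.mem_univ j)]; exact ha
  have hr : a j ∈ Ideal.span (Set.range (Function.update f j (f j * g))) := by
    have := h (Function.update (fun i => a i * g) j (a j)) (by
      rw [sum_update]
      calc Function.update (fun i => a i * g) j (a j) j * (f j * g) +
            ∑ i ∈ Finset.univ.erase j, Function.update (fun i => a i * g) j (a j) i * f i
          = g * (a j * f j + ∑ i ∈ Finset.univ.erase j, a i * f i) := by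
            rw [Function.update_self, mul_add, Finset.mul_sum]
            congr 1
            · ring
            · exact Finset.sum_congr rfl fun i hi => by
                rw [Function.update_of_ne (Finset.ne_of_mem_erase hi)]; ring
        _ = 0 := by rw [ha', mul_zero]) j
    rwa [Function.update_self] at this
  obtain ⟨c, hc⟩ := (Submodule.mem_span_range_iff_exists_fun A).1 hr
  simp only [smul_eq_mul] at hc
  rw [sum_update] at hc
  intro i
  rcases eq_or_ne i j with rfl | hi
  · exact hle hr
  have := h (Function.update (fun i => a i + c i * f j) j (c j * f j)) (by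
    rw [sum_update, Function.update_self]
    calc c j * f j * (f j * g) +
          ∑ i ∈ Finset.univ.erase j, Function.update (fun i => a i + c i * f j) j (c j * f j) i * f i
        = (c j * (f j * g) + ∑ i ∈ Finset.univ.erase j, c i * f i) * f j +
          ∑ i ∈ Finset.univ.erase j, a i * f i := by
          rw [add_mul, Finset.sum_mul, add_assoc, ← Finset.sum_add_distrib]
          congr 1
          · ring
          · exact Finset.sum_congr rfl fun i hi => by
              rw [Function.update_of_ne (Finset.ne_of_mem_erase hi)]; ring
      _ = 0 := by rw [hc, ha']) i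
  rw [Function.update_of_ne hi] at this
  have hj : c i * f j ∈ Ideal.span (Set.range f) := Ideal.mul_mem_left _ _ (Ideal.subset_span ⟨j, rfl⟩)
  exact (Submodule.add_mem_iff_left _ hj).1 (hle this)

theorem length_update_mul (f : Fin r → A) (j : Fin r) (g : A)
    (h : Dual2.Independent (Function.update f j (f j * g))) :
    Module.length A (A ⧸ Ideal.span (Set.range (Function.update f j (f j * g)))) =
      Module.length A (A ⧸ Ideal.span (Set.range f)) +
        Module.length A (A ⧸ Ideal.span (Set.range (Function.update f j g))) := by
  let J' := Ideal.span (Set.range (Function.update f j (f j * g)))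
  let J := Ideal.span (Set.range f)
  let Jg := Ideal.span (Set.range (Function.update f j g))
  have hle : J' ≤ J := span_update_le f j g
  have hmul : Jg ≤ LinearMap.ker (J'.mkQ ∘ₗ LinearMap.mulLeft A (f j)) := by
    refine Submodule.span_le.2 ?_
    rintro _ ⟨i, rfl⟩
    refine (Submodule.Quotient.mk_eq_zero J').2 ?_
    show f j * _ ∈ J'
    rcases eq_or_ne i j with rfl | hi
    · rw [Function.update_self]
      exact Ideal.subset_span ⟨i, Function.update_self ..⟩
    · rw [Function.update_of_ne hi]
      exact Ideal.mul_mem_left _ _ (Ideal.subset_span ⟨i, Function.update_of_ne hi ..⟩)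
  let α : (A ⧸ Jg) →ₗ[A] A ⧸ J' := Submodule.liftQ Jg (J'.mkQ ∘ₗ LinearMap.mulLeft A (f j)) hmul
  let β : (A ⧸ J') →ₗ[A] A ⧸ J := Submodule.factor hle
  have hle2 : J' ≤ Jg := by
    refine Submodule.span_le.2 ?_
    rintro _ ⟨i, rfl⟩
    rcases eq_or_ne i j with rfl | hi
    · rw [Function.update_self]
      exact Ideal.mul_mem_left _ _ (Ideal.subset_span ⟨i, Function.update_self ..⟩)
    · rw [Function.update_of_ne hi]
      exact Ideal.subset_span ⟨i, Function.update_of_ne hi ..⟩
  have hα : Function.Injective α := by
    refine LinearMap.ker_eq_bot.1 (Submodule.ker_liftQ_eq_bot _ _ _ fun a ha => ?_)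
    have ha' : f j * a ∈ J' := (Submodule.Quotient.mk_eq_zero J').1 ha
    obtain ⟨c, hc⟩ := (Submodule.mem_span_range_iff_exists_fun A).1 ha'
    simp only [smul_eq_mul] at hc
    rw [sum_update] at hc
    have h2 := h (Function.update (fun i => c i * g) j (c j * g - a)) (by
      rw [sum_update, Function.update_self]
      calc (c j * g - a) * (f j * g) +
            ∑ i ∈ Finset.univ.erase j, Function.update (fun i => c i * g) j (c j * g - a) i * f i
          = g * (c j * (f j * g) + ∑ i ∈ Finset.univ.erase j, c i * f i - f j * a) := by
            rw [mul_sub, mul_add, Finset.mul_sum, sub_mul, sub_add_eq_add_sub]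
            congr 1
            · congr 1
              · ring
              · exact Finset.sum_congr rfl fun i hi => by
                  rw [Function.update_of_ne (Finset.ne_of_mem_erase hi)]; ring
            · ring
        _ = 0 := by rw [hc, sub_self, mul_zero]) j
    rw [Function.update_self] at h2
    have hj : c j * g ∈ Jg := Ideal.mul_mem_left _ _ (Ideal.subset_span ⟨j, Function.update_self ..⟩)
    exact (Submodule.sub_mem_iff_right _ hj).1 (hle2 h2)
  have hex : Function.Exact α β := by
    intro z
    obtain ⟨z, rfl⟩ := Submodule.Quotient.mk_surjective _ z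
    constructor
    · intro hz
      obtain ⟨c, hc⟩ := (Submodule.mem_span_range_iff_exists_fun A).1 ((Submodule.Quotient.mk_eq_zero J).1 hz)
      refine ⟨Submodule.Quotient.mk (c j), (Submodule.Quotient.eq J').2 ?_⟩
      show f j * c j - z ∈ J'
      have e : f j * c j - z = -∑ i ∈ Finset.univ.erase j, c i * f i := by
        rw [show z = ∑ i, c i • f i from hc.symm, ← Finset.add_sum_erase _ _ (Finset.mem_univ j)]
        simp only [smul_eq_mul]
        ring
      rw [e]
      exact neg_mem (Ideal.sum_mem _ fun i hi => Ideal.mul_mem_left _ _
        (Ideal.subset_span ⟨i, Function.update_of_ne (Finset.ne_of_mem_erase hi) ..⟩))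
    · rintro ⟨w, hw⟩
      obtain ⟨w, rfl⟩ := Submodule.Quotient.mk_surjective _ w
      rw [← hw]
      exact (Submodule.Quotient.mk_eq_zero J).2 (Ideal.mul_mem_right _ _ (Ideal.subset_span ⟨j, rfl⟩))
  rw [add_comm]
  exact Module.length_eq_add_of_exact α β hα (Submodule.factor_surjective hle) hex

theorem length_powers [IsLocalRing A] (x : Fin r → A) (hx : Ideal.span (Set.range x) = IsLocalRing.maximalIdeal A)
    (e : Fin r → ℕ) (he : ∀ i, 0 < e i) (hind : Dual2.Independent fun i => x i ^ e i) :
    Module.length A (A ⧸ Ideal.span (Set.range fun i => x i ^ e i)) = ∏ i, (e i : ℕ∞) := by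
  induction hs : ∑ i, e i using Nat.strong_induction_on generalizing e with
  | _ s ih =>
  subst hs
  by_cases h1 : ∀ i, e i = 1
  · rw [show (fun i => x i ^ e i) = x from funext fun i => by rw [h1 i, pow_one], hx]
    simp only [h1, Nat.cast_one, Finset.prod_const_one]
    rw [Module.length_eq_one_iff]
    exact isSimpleModule_iff_isCoatom.2 (IsLocalRing.maximalIdeal.isMaximal A).out
  push Not at h1
  obtain ⟨j, hj⟩ := h1
  obtain ⟨a, ha⟩ : ∃ a, e j = a + 2 := ⟨e j - 2, by have := he j; omega⟩
  let e1 := Function.update e j (a + 1)
  let e2 := Function.update e j 1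
  let F := fun i => x i ^ e1 i
  have hF : Function.update F j (F j * x j) = fun i => x i ^ e i := by
    funext i
    rcases eq_or_ne i j with rfl | hi
    · simp only [Function.update_self, F, e1, ha, pow_succ]
    · simp only [Function.update_of_ne hi, F, e1]
  have hF2 : Function.update F j (x j) = fun i => x i ^ e2 i := by
    funext i
    rcases eq_or_ne i j with rfl | hi
    · simp only [Function.update_self, e2, pow_one]
    · simp only [Function.update_of_ne hi, F, e1, e2]
  rw [← hF] at hind ⊢
  have hi1 : Dual2.Independent F := independent_of_update F j (x j) hind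
  have hi2 : Dual2.Independent fun i => x i ^ e2 i := by
    rw [← hF2]
    refine independent_of_update _ j (F j) ?_
    rw [Function.update_self, Function.update_idem, mul_comm]
    exact hind
  have hpos : ∀ v, 0 < v → ∀ i, 0 < Function.update e j v i := fun v hv i => by
    rcases eq_or_ne i j with rfl | hi
    · rwa [Function.update_self]
    · rw [Function.update_of_ne hi]; exact he i
  have hlt : ∀ v, v < e j → ∑ i, Function.update e j v i < ∑ i, e i := fun v hv => by
    rw [Finset.sum_update_of_mem (Finset.mem_univ j), Finset.sdiff_singleton_eq_erase,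
      ← Finset.add_sum_erase Finset.univ e (Finset.mem_univ j)]
    omega
  rw [length_update_mul F j (x j) hind, hF2, ih _ (hlt (a + 1) (by omega)) e1 (hpos _ (by omega)) hi1 rfl,
    ih _ (hlt 1 (by omega)) e2 (hpos _ one_pos) hi2 rfl]
  have hp : ∀ v : ℕ, ∏ i, ((Function.update e j v i : ℕ) : ℕ∞) = (v : ℕ∞) * ∏ i ∈ Finset.univ.erase j, (e i : ℕ∞) := by
    intro v
    rw [← Finset.mul_prod_erase _ _ (Finset.mem_univ j), Function.update_self]
    congr 1
    exact Finset.prod_congr rfl fun i hi => by rw [Function.update_of_ne (Finset.ne_of_mem_erase hi)]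
  rw [hp, hp, ← Finset.mul_prod_erase Finset.univ (fun i => (e i : ℕ∞)) (Finset.mem_univ j), ha]
  push_cast
  ring

end Groth.Agent.LC.Indep
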