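import Groth.Agent.LC.LiaisonLink
import Groth.Agent.LC.DepthLoc
import Groth.Agent.Hensel.DepthFlat

/-!
# Local cohomology of basic double links
-/

set_option autoImplicit false

universe u

open CategoryTheory Limits IsLocalRing MvPolynomial
open scoped Pointwise

namespace Groth.Agent.LC.Liaison

variable {K : Type u} [Field K]

theorem irrel_eq_vertex {m : ℕ} : (GrSyz.irrel (GrSyz.stdGr K (Fin m))).toIdeal =
    RingHom.ker (constantCoeff (σ := Fin m) (R := K)) := by
  refine le_antisymm (Ideal.span_le.2 ?_) fun f hf => ?_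
  · rintro f ⟨k, hk, hf⟩
    rw [SetLike.mem_coe, RingHom.mem_ker]
    by_contra h0
    have := (GrSyz.mem_stdGr_iff K (Fin m) k f).1 hf (show coeff 0 f ≠ 0 from h0)
    rw [map_zero] at this
    omega
  · have hX : Ideal.span ((fun j => X j) '' (Set.univ : Set (Fin m))) ≤
        (GrSyz.irrel (GrSyz.stdGr K (Fin m))).toIdeal := by
      rw [Ideal.span_le]
      rintro _ ⟨j, -, rfl⟩
      refine Ideal.subset_span ⟨1, one_pos, (GrSyz.mem_stdGr_iff K (Fin m) 1 _).2 ?_⟩
      exact isWeightedHomogeneous_X K (fun _ => (1 : ℤ)) j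
    refine hX (mem_ideal_span_X_image.2 fun d hd => ?_)
    have hd0 : d ≠ 0 := fun h => (mem_support_iff.1 hd) (h ▸ hf)
    obtain ⟨j, hj⟩ := Finsupp.ne_iff.1 hd0
    exact ⟨j, trivial, hj⟩

theorem le_height_vertex (m : ℕ) : (m : ℕ∞) ≤ (RingHom.ker (constantCoeff (σ := Fin m) (R := K))).height := by
  let v : ℕ → Fin m → MvPolynomial (Fin m) K := fun k j => if j.val < k then 0 else X j
  let P : ℕ → Ideal (MvPolynomial (Fin m) K) := fun k => RingHom.ker (aeval (v k)).toRingHom
  haveI : ∀ k, (P k).IsPrime := fun k => RingHom.ker_isPrime _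
  have hmono : ∀ k, P k ≤ P (k + 1) := fun k f hf => by
    have e : (aeval (v (k + 1))).comp (aeval (v k)) = aeval (v (k + 1)) := by
      apply MvPolynomial.algHom_ext
      intro j
      rw [AlgHom.comp_apply, aeval_X, aeval_X]
      simp only [v]
      split_ifs with h1 h2
      · rw [map_zero]
      · omega
      · rw [aeval_X]; simp [v, *]
      · rw [aeval_X]; simp [v, *]
    rw [RingHom.mem_ker] at hf ⊢
    change aeval (v k) f = 0 at hf
    change aeval (v (k + 1)) f = 0
    rw [← e, AlgHom.comp_apply, hf, map_zero]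
  have hlt : ∀ k, k < m → P k < P (k + 1) := fun k hk => lt_of_le_of_ne (hmono k) fun h => by
    have hmem : X (⟨k, hk⟩ : Fin m) ∈ P (k + 1) := by
      rw [RingHom.mem_ker]
      show aeval (v (k + 1)) (X _) = 0
      simp [v]
    rw [← h, RingHom.mem_ker] at hmem
    change aeval (v k) (X (⟨k, hk⟩ : Fin m)) = 0 at hmem
    simp [v, X_ne_zero] at hmem
  have hk : ∀ k, k ≤ m → (k : ℕ∞) ≤ (P k).height := by
    intro k
    induction k with
    | zero => exact fun _ => bot_le
    | succ k ih =>
      intro hkm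
      rw [Nat.cast_succ]
      exact (add_le_add (ih (by omega)) le_rfl).trans (Ideal.height_add_one_le_of_lt_of_isPrime (hlt k hkm))
  refine (hk m le_rfl).trans (Ideal.height_mono fun f hf => ?_)
  rw [RingHom.mem_ker] at hf ⊢
  change aeval (v m) f = 0 at hf
  have e : (aeval (fun _ : Fin m => (0 : K))).comp (aeval (v m)) = aeval (fun _ : Fin m => (0 : K)) := by
    apply MvPolynomial.algHom_ext
    intro j
    simp [v, j.isLt]
  have h2 := congrArg (aeval (fun _ : Fin m => (0 : K))) hf
  rw [← AlgHom.comp_apply, e, map_zero] at h2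
  simpa [aeval_eq_bind₁, constantCoeff] using h2

theorem idealDepth_CM_quot {m h : ℕ} (J : Ideal (MvPolynomial (Fin m) K))
    (hJ : J.IsHomogeneous (GrSyz.stdGr K (Fin m))) [LocCoh.IsCohenMacaulayRing (MvPolynomial (Fin m) K ⧸ J)]
    (hJh : J.height = h) :
    ((m - h : ℕ) : ℕ∞) ≤ LocCoh.idealDepth (RingHom.ker (constantCoeff (σ := Fin m) (R := K)))
      (MvPolynomial (Fin m) K ⧸ J) := by
  let S := MvPolynomial (Fin m) K
  let V : Ideal S := RingHom.ker (constantCoeff (σ := Fin m) (R := K))
  let B := S ⧸ J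
  let π := Ideal.Quotient.mk J
  have hJV : J ≤ V := le_vertex hJ (ne_top_of_height_eq hJh)
  haveI hmax : V.IsMaximal := RingHom.ker_isMaximal_of_surjective _ fun a => ⟨C a, constantCoeff_C _ a⟩
  haveI : (V.map π).IsMaximal := Ideal.map_eq_top_or_isMaximal_of_surjective π Ideal.Quotient.mk_surjective hmax
    |>.resolve_left fun htop => hmax.ne_top (by
      have := congrArg (Ideal.comap π) htop
      rwa [comap_map_mk' hJV, Ideal.comap_top] at this)
  have hdep : ((m - h : ℕ) : ℕ∞) ≤ LocCoh.idealDepth (V.map π) B := by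
    rw [idealDepth_eq_iInf_depth]
    refine le_iInf₂ fun p hp => ?_
    have hpV : p.asIdeal = V.map π := (Ideal.IsMaximal.eq_of_le ‹_› p.isPrime.ne_top hp).symm
    haveI := LocCoh.IsCohenMacaulayRing.isCohenMacaulayLocalRing_localization (R := B) p.asIdeal
    rw [Hensel.depth_congr (LC.selfLoc p.asIdeal.primeCompl)]
    have hcm : Module.supportDim (Localization.AtPrime p.asIdeal) (Localization.AtPrime p.asIdeal) =
        ((LocCoh.depth (Localization.AtPrime p.asIdeal) (Localization.AtPrime p.asIdeal) : ℕ∞) : WithBot ℕ∞) :=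
      LocCoh.IsCohenMacaulayLocalRing.supportDim_eq_depth
    rw [Module.supportDim_self_eq_ringKrullDim,
      IsLocalization.AtPrime.ringKrullDim_eq_height p.asIdeal (Localization.AtPrime p.asIdeal)] at hcm
    refine le_trans ?_ (WithBot.coe_le_coe.1 hcm.le)
    rw [hpV]
    obtain ⟨P, hP, hPV⟩ := Ideal.exists_minimalPrimes_le hJV
    haveI := hP.1.1
    haveI : (P.map π).IsPrime :=
      Ideal.map_isPrime_of_surjective Ideal.Quotient.mk_surjective (by rw [Ideal.mk_ker]; exact hP.1.2)
    have h3 := LC.height_map_mk_comap (S := S) (A := B) Ideal.Quotient.mk_surjective (P.map π) (V.map π)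
    rw [show (V.map π).comap (algebraMap S B) = V from comap_map_mk' hJV,
      show (P.map π).comap (algebraMap S B) = P from comap_map_mk' hP.1.2,
      height_quot_minimal (P.map π) (V.map π) (minimal_map_mk hP) (Ideal.map_mono hPV)] at h3
    rw [← h3]
    have h4 := height_add_height_quotient_eq P V hPV
    rw [height_minimalPrimes_eq hJ hJh P hP] at h4
    have h5 : ((m : ℕ) : ℕ∞) ≤ (h : ℕ∞) + (V.map (Ideal.Quotient.mk P)).height := by
      rw [h4]; exact le_height_vertex m
    generalize (V.map (Ideal.Quotient.mk P)).height = x at h5 ⊢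
    induction x using ENat.recTopCoe with
    | top => exact le_top
    | coe x =>
      have h6 : m ≤ h + x := by exact_mod_cast h5
      exact_mod_cast (by omega : m - h ≤ x)
  refine (le_idealDepth_iff_H V B (m - h)).2 fun i hi => ?_
  obtain ⟨φ, -⟩ := exists_indep (R := S) (R' := B) V i B
  exact @Function.Surjective.subsingleton _ _ φ ((le_idealDepth_iff_H (V.map π) B (m - h)).1 hdep i hi) φ.surjective

theorem nonempty_H_basicDoubleLink {n h : ℕ} (J I : Ideal (MvPolynomial (Fin (n + 1)) K))
    (hJ : J.IsHomogeneous (GrSyz.stdGr K (Fin (n + 1)))) (hJI : J ≤ I) (hJh : J.height = h)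
    [LocCoh.IsCohenMacaulayRing (MvPolynomial (Fin (n + 1)) K ⧸ J)] (f : MvPolynomial (Fin (n + 1)) K) (d : ℕ)
    (hf : f ∈ GrSyz.stdGr K (Fin (n + 1)) (d : ℤ)) (hJf : J.colon {f} = J) (i : ℕ) (hi : i + h < n) :
    Nonempty ((localCohomology (GrSyz.irrel (GrSyz.stdGr K (Fin (n + 1)))).toIdeal i).obj
        (ModuleCat.of _ (MvPolynomial (Fin (n + 1)) K ⧸ (J ⊔ Ideal.span {f} * I))) ≃ₗ[MvPolynomial (Fin (n + 1)) K]
      (localCohomology (GrSyz.irrel (GrSyz.stdGr K (Fin (n + 1)))).toIdeal i).obj
        (ModuleCat.of _ (MvPolynomial (Fin (n + 1)) K ⧸ I))) := by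
  rw [irrel_eq_vertex]
  let S := MvPolynomial (Fin (n + 1)) K
  let V : Ideal S := RingHom.ker (constantCoeff (σ := Fin (n + 1)) (R := K))
  let It : Ideal S := J ⊔ Ideal.span {f} * I
  let J1 : Ideal S := J ⊔ Ideal.span {f}
  have hcancel : ∀ r, r * f ∈ J → r ∈ J := fun r hr => by
    rw [← hJf, Submodule.mem_colon_singleton, smul_eq_mul]; exact hr
  have hle : It ≤ J1 := sup_le_sup_left Ideal.mul_le_left _
  have hwd : I ≤ LinearMap.ker (LinearMap.toSpanSingleton S (S ⧸ It) (Submodule.Quotient.mk f)) := fun r hr => by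
    rw [LinearMap.mem_ker, LinearMap.toSpanSingleton_apply, ← Submodule.Quotient.mk_smul,
      Submodule.Quotient.mk_eq_zero]
    refine Submodule.mem_sup_right ?_
    rw [smul_eq_mul, mul_comm r f]
    exact Ideal.mul_mem_mul (Ideal.mem_span_singleton_self f) hr
  let μ : (S ⧸ I) →ₗ[S] (S ⧸ It) := I.liftQ _ hwd
  let T : ShortComplex (ModuleCat.{u} S) := ShortComplex.mk (ModuleCat.ofHom μ)
    (ModuleCat.ofHom (Submodule.factor hle)) (ModuleCat.hom_ext (Submodule.linearMap_qext I (LinearMap.ext fun r =>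
      (Submodule.Quotient.mk_eq_zero J1).2 (Submodule.mem_sup_right
        (Ideal.mem_span_singleton'.2 ⟨r, rfl⟩)))))
  have hT : T.ShortExact :=
    { exact := (ShortComplex.ShortExact.moduleCat_exact_iff_function_exact _).2 fun x => by
        obtain ⟨x, rfl⟩ := Submodule.Quotient.mk_surjective _ x
        constructor
        · intro hx
          obtain ⟨p, hp, q, hq, rfl⟩ := Submodule.mem_sup.1 ((Submodule.Quotient.mk_eq_zero J1).1 hx)
          obtain ⟨r, rfl⟩ := Ideal.mem_span_singleton'.1 hq
          refine ⟨Submodule.Quotient.mk r, ?_⟩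
          show Submodule.Quotient.mk (r • f) = Submodule.Quotient.mk (p + r * f)
          rw [Submodule.Quotient.eq, smul_eq_mul]
          exact Submodule.mem_sup_left (by simpa using J.neg_mem hp)
        · rintro ⟨z, hz⟩
          obtain ⟨r, rfl⟩ := Submodule.Quotient.mk_surjective _ z
          rw [← hz]
          exact (Submodule.Quotient.mk_eq_zero J1).2 (Submodule.mem_sup_right
            (Ideal.mem_span_singleton'.2 ⟨r, rfl⟩))
      mono_f := (ModuleCat.mono_iff_injective _).2 (by
        refine LinearMap.ker_eq_bot.1 (Submodule.ker_liftQ_eq_bot _ _ _ fun r hr => ?_)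
        rw [LinearMap.mem_ker, LinearMap.toSpanSingleton_apply, ← Submodule.Quotient.mk_smul,
          Submodule.Quotient.mk_eq_zero] at hr
        obtain ⟨p, hp, q, hq, hpq⟩ := Submodule.mem_sup.1 hr
        obtain ⟨a, ha, rfl⟩ := Ideal.mem_span_singleton_mul.1 hq
        have h1 : r - a ∈ J := hcancel _ (by
          rw [sub_mul, ← smul_eq_mul r, ← hpq, mul_comm a, add_sub_cancel_right]; exact hp)
        exact (Submodule.sub_mem_iff_left I ha).1 (hJI h1))
      epi_g := (ModuleCat.epi_iff_surjective _).2 (Submodule.factor_surjective hle) }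
  have hdep : ((n - h : ℕ) : ℕ∞) ≤ LocCoh.idealDepth V (S ⧸ J1) := by
    have hne : f ≠ 0 := by
      rintro rfl
      refine ne_top_of_height_eq hJh (hJf ▸ ?_)
      ext a
      simp [Submodule.mem_colon_singleton]
    by_cases hfV : f ∈ V
    · have hreg : IsSMulRegular (S ⧸ J) f := isSMulRegular_iff_right_eq_zero_of_smul.2 fun z hz => by
        obtain ⟨z, rfl⟩ := Submodule.Quotient.mk_surjective _ z
        rw [← Submodule.Quotient.mk_smul, Submodule.Quotient.mk_eq_zero, smul_eq_mul, mul_comm] at hz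
        exact (Submodule.Quotient.mk_eq_zero _).2 (hcancel z hz)
      let ν : S →ₗ[S] QuotSMulTop f (S ⧸ J) :=
        (f • (⊤ : Submodule S (S ⧸ J))).mkQ ∘ₗ J.mkQ
      have hν : LinearMap.ker ν = J1 := by
        ext r
        rw [LinearMap.mem_ker, LinearMap.comp_apply, Submodule.mkQ_apply, Submodule.mkQ_apply,
          Submodule.Quotient.mk_eq_zero, Submodule.mem_smul_pointwise_iff_exists]
        constructor
        · rintro ⟨z, -, hz⟩
          obtain ⟨z, rfl⟩ := Submodule.Quotient.mk_surjective _ z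
          rw [← Submodule.Quotient.mk_smul, Submodule.Quotient.eq] at hz
          refine Submodule.mem_sup.2 ⟨_, J.neg_mem hz, f • z, Ideal.mem_span_singleton'.2 ⟨z, mul_comm _ _⟩, ?_⟩
          simp only [smul_eq_mul]
          ring
        · intro hr
          obtain ⟨p, hp, q, hq, rfl⟩ := Submodule.mem_sup.1 hr
          obtain ⟨z, rfl⟩ := Ideal.mem_span_singleton'.1 hq
          refine ⟨Submodule.Quotient.mk z, trivial, ?_⟩
          rw [← Submodule.Quotient.mk_smul, Submodule.Quotient.eq, smul_eq_mul, mul_comm]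
          simp
          exact J.neg_mem hp
      rw [idealDepth_congr V ((Submodule.quotEquivOfEq _ _ hν.symm).trans
        (ν.quotKerEquivOfSurjective (show Function.Surjective ν from (Submodule.mkQ_surjective (f • (⊤ : Submodule S (S ⧸ J)))).comp (Submodule.mkQ_surjective J))))]
      have h1 := idealDepth_CM_quot J hJ hJh
      rw [show n + 1 - h = (n - h) + 1 by omega, ← idealDepth_quotSMulTop_add_one V hfV hreg, Nat.cast_add,
        Nat.cast_one] at h1
      exact (ENat.add_le_add_iff_right ENat.one_ne_top).1 h1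
    · have htop : Ideal.span {f} = ⊤ := by
        by_contra hne'
        exact hfV (le_vertex (Ideal.homogeneous_span _ _ (by
          rintro x rfl; exact ⟨(d : ℤ), hf⟩)) hne' (Ideal.mem_span_singleton_self f))
      haveI : Subsingleton (S ⧸ J1) := Submodule.Quotient.subsingleton_iff.2 (top_unique (htop ▸ le_sup_right))
      rw [show LocCoh.idealDepth V (S ⧸ J1) = ⊤ by
        rw [LocCoh.idealDepth, if_pos (Subsingleton.elim _ _)]]
      exact le_top
  have hlow := (le_idealDepth_iff_H V (S ⧸ J1) (n - h)).1 hdep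
  have hinj : Function.Injective ((localCohomology V i).map T.f).hom :=
    injective_H_map V i hT fun j hj => hlow j (by omega)
  have hsurj : Function.Surjective ((localCohomology V i).map T.f).hom := fun z =>
    (exact₂ V i hT z).1 (@Subsingleton.elim _ (hlow i (by omega)) _ _)
  exact ⟨(LinearEquiv.ofBijective _ ⟨hinj, hsurj⟩).symm⟩

end Groth.Agent.LC.Liaison
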