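import Groth.Agent.LC.Liaison

/-!
# Linked ideals: heights, unmixedness, double colons
-/

set_option autoImplicit false

universe u

open IsLocalRing MvPolynomial

namespace Groth.Agent.LC.Liaison

section General

variable {S : Type u} [CommRing S] [IsNoetherianRing S]

theorem le_of_ass {c p : Ideal S} (hp : p ∈ associatedPrimes S (S ⧸ c)) : c ≤ p := by
  obtain ⟨-, z, hz⟩ := Alg6.mem_ass_iff.1 hp
  exact fun x hx => (hz x).2 (by
    rw [Algebra.smul_def, show algebraMap S (S ⧸ c) x = 0 from Ideal.Quotient.eq_zero_iff_mem.2 hx, zero_mul])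

theorem mem_ass_iff' {c p : Ideal S} :
    p ∈ associatedPrimes S (S ⧸ c) ↔ p.IsPrime ∧ ∃ z : S, ∀ a, a ∈ p ↔ a * z ∈ c := by
  rw [Alg6.mem_ass_iff]
  refine and_congr_right fun _ => ⟨fun ⟨z, hz⟩ => ?_, fun ⟨z, hz⟩ => ⟨Ideal.Quotient.mk c z, fun a => ?_⟩⟩
  · obtain ⟨z, rfl⟩ := Ideal.Quotient.mk_surjective z
    refine ⟨z, fun a => (hz a).trans ?_⟩
    rw [Algebra.smul_def, Ideal.Quotient.algebraMap_eq, ← map_mul, Ideal.Quotient.eq_zero_iff_mem]
  · rw [hz a, Algebra.smul_def, Ideal.Quotient.algebraMap_eq, ← map_mul, Ideal.Quotient.eq_zero_iff_mem]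

theorem mem_of_forall_ass {c : Ideal S} {x : S}
    (h : ∀ p ∈ associatedPrimes S (S ⧸ c), ∃ u ∉ p, u * x ∈ c) : x ∈ c := by
  by_contra hx
  obtain ⟨p, hp, hle⟩ := exists_le_isAssociatedPrime_of_isNoetherianRing S (Ideal.Quotient.mk c x)
    (by rwa [Ne, Ideal.Quotient.eq_zero_iff_mem])
  obtain ⟨u, hu, hux⟩ := h p ((AssociatedPrimes.mem_iff).2 hp)
  refine hu (hle ?_)
  rw [Submodule.mem_colon_singleton, Submodule.mem_bot, Algebra.smul_def, Ideal.Quotient.algebraMap_eq,
    ← map_mul, Ideal.Quotient.eq_zero_iff_mem]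
  exact hux

theorem ass_of_minimal {c p : Ideal S} (hp : p ∈ c.minimalPrimes) : p ∈ associatedPrimes S (S ⧸ c) :=
  Module.associatedPrimes.minimalPrimes_annihilator_subset_associatedPrimes S (S ⧸ c)
    (by rwa [Ideal.annihilator_quotient])

/-- Associated primes of a colon are associated primes of the ideal. -/
theorem ass_colon {c I : Ideal S} {p : Ideal S}
    (hp : p ∈ associatedPrimes S (S ⧸ c.colon (I : Set S))) : p ∈ associatedPrimes S (S ⧸ c) := by
  classical
  obtain ⟨hpp, z, hz⟩ := mem_ass_iff'.1 hp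
  obtain ⟨s, hs⟩ := IsNoetherian.noetherian I
  haveI := hpp
  have key : ∀ a : S, a ∈ p ↔ ∀ g ∈ s, a * (z * g) ∈ c := by
    intro a
    rw [hz a, Submodule.mem_colon]
    constructor
    · intro h g hg
      rw [← mul_assoc]
      exact h g (hs ▸ Submodule.subset_span hg)
    · intro h g hg
      rw [SetLike.mem_coe, ← hs] at hg
      induction hg using Submodule.span_induction with
      | mem g hg => rw [smul_eq_mul, mul_assoc]; exact h g hg
      | zero => rw [smul_zero]; exact c.zero_mem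
      | add u v _ _ hu hv => rw [smul_add]; exact c.add_mem hu hv
      | smul r u _ hu => rw [smul_comm]; exact c.mul_mem_left r hu
  have hle : s.inf (fun g => c.colon ({z * g} : Set S)) ≤ p := by
    intro a ha
    rw [Submodule.mem_finsetInf] at ha
    exact (key a).2 fun g hg => by simpa [Submodule.mem_colon_singleton] using ha g hg
  obtain ⟨g, hg, hgp⟩ := (Ideal.IsPrime.inf_le' hpp).1 hle
  refine mem_ass_iff'.2 ⟨hpp, z * g, fun a => ⟨fun ha => (key a).1 ha g hg, fun ha => hgp ?_⟩⟩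
  rw [Submodule.mem_colon_singleton]
  exact ha

end General

section OneDim

/-- In a CM ring a prime associated to the quotient by a nonzerodivisor has height one. -/
theorem height_eq_one_of_ass_regular {A : Type u} [CommRing A] [LocCoh.IsCohenMacaulayRing A] {x : A}
    (hx : IsSMulRegular A x) {p : Ideal A} [p.IsPrime] (hxp : x ∈ p) (z : A)
    (hz : ∀ a, a ∈ p ↔ a * z ∈ Ideal.span {x}) : p.height = 1 := by
  haveI := LocCoh.IsCohenMacaulayRing.isCohenMacaulayLocalRing_localization (R := A) p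
  let D := Localization.AtPrime p
  let ι := algebraMap A D
  haveI : Module.Flat A D := IsLocalization.flat D p.primeCompl
  have hxD : IsSMulRegular D (ι x) := hx.of_flat
  have hxm : ι x ∈ maximalIdeal D := (IsLocalization.AtPrime.to_map_mem_maximal_iff D p x).2 hxp
  have hzD : ι z ∉ Ideal.span {ι x} := by
    rw [← Set.image_singleton, ← Ideal.map_span, IsLocalization.algebraMap_mem_map_algebraMap_iff p.primeCompl]
    rintro ⟨v, hv, hv'⟩
    exact hv ((hz v).2 hv')
  have hms : ∀ r ∈ maximalIdeal D, r * ι z ∈ Ideal.span {ι x} := by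
    intro r hr
    rw [← Localization.AtPrime.map_eq_maximalIdeal] at hr
    induction hr using Submodule.span_induction with
    | mem y hy =>
      obtain ⟨a, ha, rfl⟩ := hy
      rw [← map_mul, ← Set.image_singleton, ← Ideal.map_span]
      exact Ideal.mem_map_of_mem _ ((hz a).1 ha)
    | zero => rw [zero_mul]; exact Submodule.zero_mem _
    | add u v _ _ hu hv => rw [add_mul]; exact add_mem hu hv
    | smul c u _ hu => rw [smul_eq_mul, mul_assoc]; exact Ideal.mul_mem_left _ c hu
  haveI : IsLocalRing (D ⧸ Ideal.span {ι x}) := by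
    have : Nontrivial (D ⧸ Ideal.span {ι x}) := Ideal.Quotient.nontrivial_iff.2 fun h =>
      (maximalIdeal.isMaximal D).ne_top (top_unique (h ▸ (Ideal.span_singleton_le_iff_mem _).2 hxm))
    exact .of_surjective' _ Ideal.Quotient.mk_surjective
  have hCM : LocCoh.IsCohenMacaulayModule D D := LocCoh.IsCohenMacaulayLocalRing.supportDim_eq_depth
  have hq := isCM_quot_ofList (R := D) D hCM (rs := [ι x]) (by simpa using hxD) (by simpa using hxm)
  have e : (Ideal.ofList [ι x] • ⊤ : Submodule D D) = Ideal.span {ι x} := by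
    rw [Ideal.ofList_singleton, smul_eq_mul, Ideal.mul_top]
  let eq := Submodule.quotEquivOfEq _ _ e
  haveI := nontrivial_of_isCM _ hq
  have hass : maximalIdeal D ∈ associatedPrimes D (D ⧸ (Ideal.ofList [ι x] • ⊤ : Submodule D D)) := by
    rw [LinearEquiv.AssociatedPrimes.eq eq]
    refine mem_ass_iff'.2 ⟨inferInstance, ι z, fun a => ⟨hms a, fun ha => ?_⟩⟩
    by_contra hau
    obtain ⟨u, rfl⟩ := notMem_maximalIdeal.1 hau
    exact hzD (by simpa using Ideal.mul_mem_left _ (↑u⁻¹ : D) ha)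
  have h0 := coheight_eq_of_ass_of_isCM _ hq (p := ⟨maximalIdeal D, inferInstance⟩) hass
  rw [Order.coheight_eq_zero.2 (fun (x : PrimeSpectrum D) _ => le_maximalIdeal x.isPrime.ne_top),
    Module.supportDim_eq_of_equiv eq, Module.supportDim_quotient_eq_ringKrullDim] at h0
  have h1 := ringKrullDim_quotient_span_singleton_succ_eq_ringKrullDim hxD hxm
  rw [← h0, IsLocalization.AtPrime.ringKrullDim_eq_height p D] at h1
  have h2 : ((p.height : ℕ∞) : WithBot ℕ∞) = ((1 : ℕ∞) : WithBot ℕ∞) := by rw [← h1]; simp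
  exact WithBot.coe_injective h2

end OneDim

section Poly

variable {K : Type u} [Field K] {σ : Type} [Finite σ]


variable {c I J : Ideal (MvPolynomial σ K)}

theorem ne_top_of_height_eq {h : ℕ} (hI : I.height = h) : I ≠ ⊤ := by
  rintro rfl
  rw [Ideal.height_top] at hI
  exact ENat.top_ne_coe h hI

theorem colon_height_unmixed (hc : c.IsHomogeneous (GrSyz.stdGr K σ)) [LocCoh.IsGorensteinRing ((MvPolynomial σ K) ⧸ c)]
    {h : ℕ} (hch : c.height = h) (hI : ¬ I ≤ c) :
    (c.colon (I : Set (MvPolynomial σ K))).height = h ∧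
      ∀ p ∈ associatedPrimes (MvPolynomial σ K) ((MvPolynomial σ K) ⧸ c.colon (I : Set (MvPolynomial σ K))), p.height = h := by
  haveI := isCohenMacaulayRing_of_gorenstein ((MvPolynomial σ K) ⧸ c)
  have hass : ∀ p ∈ associatedPrimes (MvPolynomial σ K) ((MvPolynomial σ K) ⧸ c.colon (I : Set (MvPolynomial σ K))), p.height = h := fun p hp =>
    ((height_ass_eq c hc (ass_colon hp)).2).trans hch
  refine ⟨?_, hass⟩
  have hne : c.colon (I : Set (MvPolynomial σ K)) ≠ ⊤ := fun htop => hI fun x hx => by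
    have h1 := Submodule.mem_colon.1 (htop ▸ (Submodule.mem_top : (1 : (MvPolynomial σ K)) ∈ (⊤ : Ideal (MvPolynomial σ K)))) x hx
    rwa [smul_eq_mul, one_mul] at h1
  obtain ⟨⟨q, hq⟩⟩ := Ideal.nonempty_minimalPrimes hne
  rw [Ideal.height_eq_inf_minimalPrimes]
  refine le_antisymm ((iInf₂_le q hq).trans (hass q (ass_of_minimal hq)).le) (le_iInf₂ fun p hp => ?_)
  exact (hass p (ass_of_minimal hp)).ge

theorem height_basicDoubleLink (hJI : J ≤ I) {h : ℕ} (hJh : J.height = h) (hIh : I.height = (h + 1 : ℕ))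
    {f : (MvPolynomial σ K)} (hJf : J.colon {f} = J) : (J ⊔ Ideal.span {f} * I).height = (h + 1 : ℕ) := by
  refine le_antisymm ((Ideal.height_mono (sup_le hJI Ideal.mul_le_right)).trans hIh.le) ?_
  rw [Ideal.height_eq_inf_minimalPrimes]
  refine le_iInf₂ fun p hp => ?_
  haveI := hp.1.1
  have hJp : J ≤ p := le_sup_left.trans hp.1.2
  rcases (Ideal.IsPrime.mul_le hp.1.1).1 (le_sup_right.trans hp.1.2) with hf | hI
  · have hfp : f ∈ p := hf (Ideal.mem_span_singleton_self f)
    obtain ⟨q, hq, hqp⟩ := Ideal.exists_minimalPrimes_le hJp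
    haveI := hq.1.1
    have hfq : f ∉ q := fun hfq => by
      obtain ⟨-, z, hz⟩ := mem_ass_iff'.1 (ass_of_minimal hq)
      have hzJ : z ∈ J.colon {f} := by
        rw [Submodule.mem_colon_singleton, smul_eq_mul, mul_comm]
        exact (hz f).1 hfq
      rw [hJf] at hzJ
      exact hq.1.1.ne_top ((Ideal.eq_top_iff_one _).2 ((hz 1).2 (by rwa [one_mul])))
    have hlt : q < p := lt_of_le_of_ne hqp fun e => hfq (e ▸ hfp)
    have h1 := Ideal.height_add_one_le_of_lt_of_isPrime hlt
    refine le_trans ?_ h1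
    rw [Nat.cast_add, Nat.cast_one]
    exact add_le_add (hJh.ge.trans (Ideal.height_mono hq.1.2)) le_rfl
  · exact hIh.ge.trans (Ideal.height_mono hI)

theorem inf_eq_of_linked (hc : c.IsHomogeneous (GrSyz.stdGr K σ)) [LocCoh.IsGorensteinRing ((MvPolynomial σ K) ⧸ c)]
    (hIJ : c.colon (I : Set (MvPolynomial σ K)) = J) (hJI : c.colon (J : Set (MvPolynomial σ K)) = I)
    (hdisj : Disjoint (associatedPrimes (MvPolynomial σ K) ((MvPolynomial σ K) ⧸ I)) (associatedPrimes (MvPolynomial σ K) ((MvPolynomial σ K) ⧸ J))) : I ⊓ J = c := by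
  haveI := isCohenMacaulayRing_of_gorenstein ((MvPolynomial σ K) ⧸ c)
  have hcI : c ≤ I := hJI ▸ fun x hx => Submodule.mem_colon.2 fun s _ => c.mul_mem_right s hx
  have hcJ : c ≤ J := hIJ ▸ fun x hx => Submodule.mem_colon.2 fun s _ => c.mul_mem_right s hx
  refine le_antisymm (fun x hx => mem_of_forall_ass fun p hp => ?_) (le_inf hcI hcJ)
  have hmin := (height_ass_eq c hc hp).1
  haveI := hmin.1.1
  obtain ⟨hxI, hxJ⟩ := hx
  have key : ∀ L : Ideal (MvPolynomial σ K), c ≤ L → p ∉ associatedPrimes (MvPolynomial σ K) ((MvPolynomial σ K) ⧸ L) → ¬ L ≤ p := by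
    intro L hL hpL hle
    obtain ⟨q, hq, hqp⟩ := Ideal.exists_minimalPrimes_le hle
    have : q = p := le_antisymm hqp (hmin.2 ⟨hq.1.1, hL.trans hq.1.2⟩ hqp)
    exact hpL (this ▸ ass_of_minimal hq)
  by_cases hpJ : p ∈ associatedPrimes (MvPolynomial σ K) ((MvPolynomial σ K) ⧸ J)
  · obtain ⟨i, hi, hip⟩ := SetLike.not_le_iff_exists.1 (key I hcI (Set.disjoint_right.1 hdisj hpJ))
    have hx2 : x ∈ c.colon (I : Set (MvPolynomial σ K)) := hIJ.symm ▸ hxJ
    exact ⟨i, hip, by simpa [mul_comm] using Submodule.mem_colon.1 hx2 i hi⟩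
  · obtain ⟨j, hj, hjp⟩ := SetLike.not_le_iff_exists.1 (key J hcJ hpJ)
    have hx2 : x ∈ c.colon (J : Set (MvPolynomial σ K)) := hJI.symm ▸ hxI
    exact ⟨j, hjp, by simpa [mul_comm] using Submodule.mem_colon.1 hx2 j hj⟩

/-- In an artinian Gorenstein local ring an element outside `I` is detected by the annihilator of `I`. -/
theorem exists_annihilator_mul_ne_zero {D : Type u} [CommRing D] [IsLocalRing D] [IsNoetherianRing D]
    [LocCoh.IsGorensteinLocalRing D] (hnil : IsNilpotent (maximalIdeal D)) {I : Ideal D} {z : D}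
    (hz : z ∉ I) : ∃ a : D, (∀ i ∈ I, a * i = 0) ∧ a * z ≠ 0 := by
  obtain ⟨N, hN⟩ := hnil
  haveI : IsArtinianRing D := (isArtinianRing_iff_isNilpotent_maximalIdeal D).2 ⟨N, hN⟩
  obtain ⟨d, hd, -, hv⟩ := gorenstein_basic (R := D)
  have hd0 : d = 0 := by
    have := ringKrullDimZero_iff_ringKrullDim_eq_zero.1 (inferInstance : Ring.KrullDimLE 0 D)
    rw [hd] at this
    exact_mod_cast this
  subst hd0
  haveI : Module.Injective D D :=
    (Groth.Agent.CAlgGlobalDim.baer_of_ext_one (ModuleCat.of D D)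
      fun L => hv (D ⧸ L) 1 Nat.one_pos).injective
  have htors : ∀ (T : Type u) [AddCommGroup T] [Module D T], LocCoh.IsPowerTorsion (maximalIdeal D) T :=
    fun T _ _ t => ⟨N, fun a ha => by rw [hN] at ha; rw [show a = 0 from ha, zero_smul]⟩
  obtain ⟨r, hr0, hr⟩ := exists_socle_multiple (maximalIdeal D) (htors (D ⧸ I))
    (x := Ideal.Quotient.mk I z) (by rwa [Ne, Ideal.Quotient.eq_zero_iff_mem])
  rw [Submodule.mem_torsionBySet_iff] at hr
  obtain ⟨r', hr'0, hr'⟩ := exists_socle_multiple (maximalIdeal D) (htors D) (one_ne_zero (α := D))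
  rw [Submodule.mem_torsionBySet_iff] at hr'
  let ι : ResidueField D →ₗ[D] D ⧸ I :=
    (maximalIdeal D).liftQ (LinearMap.toSpanSingleton D _ (r • Ideal.Quotient.mk I z)) fun a ha => hr ⟨a, ha⟩
  let g : ResidueField D →ₗ[D] D :=
    (maximalIdeal D).liftQ (LinearMap.toSpanSingleton D _ (r' • (1 : D))) fun a ha => hr' ⟨a, ha⟩
  have hι : Function.Injective ι := by
    rw [injective_iff_map_eq_zero]
    intro e he
    obtain ⟨e, rfl⟩ := residue_surjective e
    rw [residue_eq_zero_iff]
    by_contra heu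
    exact hr0 ((notMem_maximalIdeal.1 heu).smul_eq_zero.1 he)
  obtain ⟨h, hh⟩ := exists_extension ι hι g
  have hmk : ∀ y : D, h (Ideal.Quotient.mk I y) = y * h (Ideal.Quotient.mk I 1) := by
    intro y
    rw [← smul_eq_mul y, ← map_smul]
    congr 1
    rw [Algebra.smul_def, Ideal.Quotient.algebraMap_eq, ← map_mul, mul_one]
  refine ⟨h (Ideal.Quotient.mk I 1), fun i hi => ?_, fun h0 => hr'0 ?_⟩
  · rw [mul_comm, ← hmk, Ideal.Quotient.eq_zero_iff_mem.2 hi, map_zero]
  · have e : h (r • Ideal.Quotient.mk I z) = r' • (1 : D) := by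
      have := LinearMap.congr_fun hh 1
      rw [LinearMap.comp_apply, show ι 1 = (1 : D) • (r • Ideal.Quotient.mk I z) from rfl,
        show g 1 = (1 : D) • (r' • (1 : D)) from rfl, one_smul, one_smul] at this
      exact this
    rw [← e, map_smul, hmk, mul_comm, h0, smul_zero]

theorem colon_colon_eq_self (hc : c.IsHomogeneous (GrSyz.stdGr K σ)) [LocCoh.IsGorensteinRing ((MvPolynomial σ K) ⧸ c)]
    {h : ℕ} (hch : c.height = h) (hu : ∀ p ∈ associatedPrimes (MvPolynomial σ K) ((MvPolynomial σ K) ⧸ I), p.height = h) (hcI : c ≤ I) :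
    c.colon ((c.colon (I : Set (MvPolynomial σ K)) : Ideal (MvPolynomial σ K)) : Set (MvPolynomial σ K)) = I := by
  refine le_antisymm (fun x hx => mem_of_forall_ass fun p hp => ?_) (fun x hx => ?_)
  · obtain ⟨hpp, -⟩ := mem_ass_iff'.1 hp
    haveI := hpp
    have hph : p.height = h := hu p hp
    have hcp : c ≤ p := hcI.trans (le_of_ass hp)
    have hmin : p ∈ c.minimalPrimes := by
      refine ⟨⟨hpp, hcp⟩, fun q hq hqp => ?_⟩
      haveI := hq.1
      haveI : q.FiniteHeight := (Ideal.finiteHeight_iff q).2 (Or.inr (ne_top_of_le_ne_top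
        (by rw [hph]; exact ENat.coe_ne_top h) (Ideal.height_mono hqp)))
      exact (Ideal.eq_of_le_of_height_le q hqp (by rw [hph, ← hch]; exact Ideal.height_mono hq.2)).ge
    let π := Ideal.Quotient.mk c
    haveI : (p.map π).IsPrime :=
      Ideal.map_isPrime_of_surjective Ideal.Quotient.mk_surjective (by rw [Ideal.mk_ker]; exact hcp)
    have hcomap : (p.map π).comap π = p := by
      rw [Ideal.comap_map_of_surjective' _ Ideal.Quotient.mk_surjective, Ideal.mk_ker, sup_eq_left.2 hcp]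
    let D := Localization.AtPrime (p.map π)
    haveI := LocCoh.IsGorensteinRing.isGorensteinLocalRing_localization (A := (MvPolynomial σ K) ⧸ c) (p.map π)
    have hmin' : p.map π ∈ minimalPrimes ((MvPolynomial σ K) ⧸ c) := by
      refine ⟨⟨inferInstance, bot_le⟩, fun q hq hqp => ?_⟩
      haveI := hq.1
      have h2 := hmin.2 ⟨Ideal.IsPrime.comap π, fun y hy => by
        rw [Ideal.mem_comap, Ideal.Quotient.eq_zero_iff_mem.2 hy]; exact q.zero_mem⟩
        ((Ideal.comap_mono hqp).trans hcomap.le)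
      exact (Ideal.map_mono h2).trans Ideal.map_comap_le
    have hnil : IsNilpotent (maximalIdeal D) := by
      refine (isArtinianRing_iff_isNilpotent_maximalIdeal D).1 ?_
      haveI : Ring.KrullDimLE 0 D := Ring.krullDimLE_iff.2 (by
        rw [IsLocalization.AtPrime.ringKrullDim_eq_height (p.map π) D, Ideal.height_eq_zero_iff.2 hmin']
        rfl)
      exact isArtinianRing_iff_krullDimLE_zero.2 inferInstance
    let φ : (MvPolynomial σ K) →+* D := (algebraMap ((MvPolynomial σ K) ⧸ c) D).comp π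
    have hφ0 : ∀ y, φ y = 0 → ∃ v ∉ p, v * y ∈ c := by
      intro y hy
      obtain ⟨⟨v, hv⟩, hv'⟩ := (IsLocalization.map_eq_zero_iff (p.map π).primeCompl D _).1 hy
      obtain ⟨v, rfl⟩ := Ideal.Quotient.mk_surjective v
      refine ⟨v, fun hvp => hv (Ideal.mem_map_of_mem π hvp), ?_⟩
      change π v * π y = 0 at hv'
      rwa [← map_mul, Ideal.Quotient.eq_zero_iff_mem] at hv'
    by_contra hne
    push Not at hne
    have hzI : φ x ∉ I.map φ := by
      intro hmem
      change algebraMap ((MvPolynomial σ K) ⧸ c) D (π x) ∈ I.map φ at hmem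
      rw [show I.map φ = (I.map π).map (algebraMap ((MvPolynomial σ K) ⧸ c) D) from (Ideal.map_map _ _).symm,
        IsLocalization.algebraMap_mem_map_algebraMap_iff (p.map π).primeCompl] at hmem
      obtain ⟨v, hv, hv'⟩ := hmem
      obtain ⟨v, rfl⟩ := Ideal.Quotient.mk_surjective v
      rw [show (π v) * π x = π (v * x) from (map_mul π v x).symm, ← Ideal.mem_comap,
        Ideal.comap_map_of_surjective' _ Ideal.Quotient.mk_surjective, Ideal.mk_ker, sup_eq_left.2 hcI] at hv'
      exact hne v (fun hvp => hv (Ideal.mem_map_of_mem π hvp)) hv'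
    obtain ⟨a, haI, hax⟩ := exists_annihilator_mul_ne_zero (D := D) hnil (I := I.map φ) (z := φ x) hzI
    obtain ⟨a₀, t, rfl⟩ := IsLocalization.exists_mk'_eq (p.map π).primeCompl a
    obtain ⟨a₀, rfl⟩ := Ideal.Quotient.mk_surjective a₀
    have ht := IsLocalization.map_units D t
    have hzero : ∀ y, IsLocalization.mk' D (π a₀) t * φ y = 0 ↔ φ (a₀ * y) = 0 := by
      intro y
      rw [map_mul, show φ a₀ = IsLocalization.mk' D (π a₀) t * algebraMap ((MvPolynomial σ K) ⧸ c) D t from
        (IsLocalization.mk'_spec D (π a₀) t).symm, mul_right_comm]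
      exact ⟨fun e => by rw [e, zero_mul], fun e => ht.mul_left_eq_zero.1 e⟩
    classical
    obtain ⟨s, hs⟩ := IsNoetherian.noetherian I
    have hv : ∀ i ∈ s, ∃ v ∉ p, v * (a₀ * i) ∈ c := fun i hi =>
      hφ0 _ ((hzero i).1 (haI _ (Ideal.mem_map_of_mem φ (hs ▸ Submodule.subset_span hi))))
    choose! v hv1 hv2 using hv
    let w := ∏ i ∈ s, v i
    have hwp : w ∉ p := fun hw => by
      obtain ⟨i, hi, hvi⟩ := (Ideal.IsPrime.prod_mem_iff (p := p)).1 hw
      exact hv1 i hi hvi
    have hcol : w * a₀ ∈ c.colon (I : Set (MvPolynomial σ K)) := by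
      refine Submodule.mem_colon.2 fun i hi => ?_
      rw [SetLike.mem_coe, ← hs] at hi
      induction hi using Submodule.span_induction with
      | mem i hi =>
        rw [smul_eq_mul, show w = v i * ∏ j ∈ s.erase i, v j from (Finset.mul_prod_erase s v hi).symm,
          show v i * (∏ j ∈ s.erase i, v j) * a₀ * i = (∏ j ∈ s.erase i, v j) * (v i * (a₀ * i)) by ring]
        exact c.mul_mem_left _ (hv2 i hi)
      | zero => rw [smul_zero]; exact c.zero_mem
      | add y z _ _ hy hz => rw [smul_add]; exact c.add_mem hy hz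
      | smul r y _ hy => rw [smul_comm]; exact c.mul_mem_left r hy
    refine hax ((hzero x).2 ?_)
    have h1 : φ (x * (w * a₀)) = 0 := by
      show algebraMap ((MvPolynomial σ K) ⧸ c) D (π (x * (w * a₀))) = 0
      rw [show π (x * (w * a₀)) = 0 from Ideal.Quotient.eq_zero_iff_mem.2 (Submodule.mem_colon.1 hx _ hcol), map_zero]
    rw [show x * (w * a₀) = w * (a₀ * x) by ring, map_mul] at h1
    have hwu : IsUnit (φ w) := IsLocalization.map_units D
      (⟨π w, fun hw => hwp (by rw [← hcomap]; exact hw)⟩ : (p.map π).primeCompl)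
    exact hwu.mul_right_eq_zero.1 h1
  · refine Submodule.mem_colon.2 fun y hy => ?_
    have := Submodule.mem_colon.1 hy x hx
    rwa [smul_eq_mul, mul_comm] at this

theorem unmixed_iff_basicDoubleLink (hJ : J.IsHomogeneous (GrSyz.stdGr K σ))
    [LocCoh.IsCohenMacaulayRing ((MvPolynomial σ K) ⧸ J)] (hJI : J ≤ I) {h : ℕ} (hJh : J.height = h)
    {f : (MvPolynomial σ K)} (hJf : J.colon {f} = J) :
    (∀ p ∈ associatedPrimes (MvPolynomial σ K) ((MvPolynomial σ K) ⧸ I), p.height = (h + 1 : ℕ)) ↔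
      ∀ p ∈ associatedPrimes (MvPolynomial σ K) ((MvPolynomial σ K) ⧸ (J ⊔ Ideal.span {f} * I)), p.height = (h + 1 : ℕ) := by
  set M := J ⊔ Ideal.span {f} * I
  have hreg : ∀ x, f * x ∈ J → x ∈ J := fun x hx => by
    rw [← hJf, Submodule.mem_colon_singleton, smul_eq_mul, mul_comm]; exact hx
  have hmul : ∀ x, f * x ∈ M ↔ x ∈ I := by
    intro x
    constructor
    · intro hx
      obtain ⟨j, hj, v, hv, e⟩ := Submodule.mem_sup.1 hx
      obtain ⟨i, hi, rfl⟩ := Ideal.mem_span_singleton_mul.1 hv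
      have : x - i ∈ J := hreg _ (by rw [mul_sub, ← e, add_sub_cancel_right]; exact hj)
      simpa using I.add_mem (hJI this) hi
    · exact fun hx => Submodule.mem_sup_right (Ideal.mul_mem_mul (Ideal.mem_span_singleton_self f) hx)
  have hsub : ∀ p ∈ associatedPrimes (MvPolynomial σ K) ((MvPolynomial σ K) ⧸ I), p ∈ associatedPrimes (MvPolynomial σ K) ((MvPolynomial σ K) ⧸ M) := by
    intro p hp
    obtain ⟨hpp, z, hz⟩ := mem_ass_iff'.1 hp
    refine mem_ass_iff'.2 ⟨hpp, f * z, fun a => ?_⟩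
    rw [hz a, mul_left_comm, hmul]
  have hCM : ∀ p ∈ associatedPrimes (MvPolynomial σ K) ((MvPolynomial σ K) ⧸ (J ⊔ Ideal.span {f})), p.height = (h + 1 : ℕ) := by
    intro p hp
    obtain ⟨hpp, z, hz⟩ := mem_ass_iff'.1 hp
    haveI := hpp
    have hJp : J ≤ p := le_sup_left.trans (le_of_ass hp)
    have hfp : f ∈ p := le_of_ass hp (Submodule.mem_sup_right (Ideal.mem_span_singleton_self f))
    let π := Ideal.Quotient.mk J
    haveI : (p.map π).IsPrime :=
      Ideal.map_isPrime_of_surjective Ideal.Quotient.mk_surjective (by rw [Ideal.mk_ker]; exact hJp)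
    have hcomap : (p.map π).comap π = p := by
      rw [Ideal.comap_map_of_surjective' _ Ideal.Quotient.mk_surjective, Ideal.mk_ker, sup_eq_left.2 hJp]
    -- the depth of `((MvPolynomial σ K)/J)_p` is one
    haveI := LocCoh.IsCohenMacaulayRing.isCohenMacaulayLocalRing_localization (R := (MvPolynomial σ K) ⧸ J) (p.map π)
    let A := (MvPolynomial σ K) ⧸ J
    have hfreg : IsSMulRegular A (π f) := by
      rw [isSMulRegular_iff_right_eq_zero_of_smul]
      intro y hy
      obtain ⟨y, rfl⟩ := Ideal.Quotient.mk_surjective y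
      rw [smul_eq_mul, ← map_mul, Ideal.Quotient.eq_zero_iff_mem] at hy
      exact Ideal.Quotient.eq_zero_iff_mem.2 (hreg y hy)
    have hht : (p.map π).height = 1 := height_eq_one_of_ass_regular hfreg (Ideal.mem_map_of_mem π hfp)
      (π z) fun a => by
        obtain ⟨a, rfl⟩ := Ideal.Quotient.mk_surjective a
        rw [← Ideal.mem_comap, hcomap, hz a, ← map_mul, ← Set.image_singleton, ← Ideal.map_span,
          Ideal.mem_quotient_iff_mem_sup, sup_comm]
    obtain ⟨q, hq, hqp⟩ := Ideal.exists_minimalPrimes_le hJp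
    haveI := hq.1.1
    have h1 := height_add_height_quotient_eq q p hqp
    haveI : (q.map π).IsPrime :=
      Ideal.map_isPrime_of_surjective Ideal.Quotient.mk_surjective (by rw [Ideal.mk_ker]; exact hq.1.2)
    have hcomapq : (q.map π).comap π = q := by
      rw [Ideal.comap_map_of_surjective' _ Ideal.Quotient.mk_surjective, Ideal.mk_ker, sup_eq_left.2 hq.1.2]
    have hqmin : q.map π ∈ minimalPrimes A := by
      refine ⟨⟨inferInstance, bot_le⟩, fun r hr hrq => ?_⟩
      haveI := hr.1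
      have h2 := hq.2 ⟨Ideal.IsPrime.comap π, fun y hy => by
        rw [Ideal.mem_comap, Ideal.Quotient.eq_zero_iff_mem.2 hy]; exact r.zero_mem⟩
        ((Ideal.comap_mono hrq).trans hcomapq.le)
      exact (Ideal.map_mono h2).trans Ideal.map_comap_le
    have h3 := LC.height_map_mk_comap (S := (MvPolynomial σ K)) (A := A) Ideal.Quotient.mk_surjective (q.map π) (p.map π)
    rw [show (p.map π).comap (algebraMap (MvPolynomial σ K) A) = p from hcomap,
      show (q.map π).comap (algebraMap (MvPolynomial σ K) A) = q from hcomapq,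
      height_quot_minimal (q.map π) (p.map π) hqmin (Ideal.map_mono hqp), hht] at h3
    rw [h3, (height_ass_eq J hJ (ass_of_minimal hq)).2, hJh] at h1
    rw [← h1, Nat.cast_add, Nat.cast_one]
  refine ⟨fun hI p hp => ?_, fun hM p hp => hM p (hsub p hp)⟩
  obtain ⟨hpp, z, hz⟩ := mem_ass_iff'.1 hp
  haveI := hpp
  by_cases hzf : ∃ a ∉ p, a * z ∈ J ⊔ Ideal.span {f}
  · -- the witness lies in the image of `S/I`
    obtain ⟨a, hap, ha⟩ := hzf
    obtain ⟨j, hj, v, hv, e⟩ := Submodule.mem_sup.1 ha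
    obtain ⟨y, rfl⟩ := Ideal.mem_span_singleton'.1 hv
    refine hI p (mem_ass_iff'.2 ⟨hpp, y, fun b => ?_⟩)
    have key : b * (a * z) ∈ M ↔ b * y ∈ I := by
      rw [← e, mul_add, M.add_mem_iff_right (Submodule.mem_sup_left (J.mul_mem_left b hj)),
        show b * (y * f) = f * (b * y) by ring, hmul]
    rw [← key, ← mul_assoc, ← hz]
    exact ⟨fun hb => Ideal.mul_mem_right a p hb, fun hb => (hpp.mem_or_mem hb).resolve_right hap⟩
  · push Not at hzf
    refine hCM p (mem_ass_iff'.2 ⟨hpp, z, fun b => ⟨fun hb => ?_, fun hb => ?_⟩⟩)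
    · have hM : M ≤ J ⊔ Ideal.span {f} := sup_le le_sup_left (Ideal.mul_le_left.trans le_sup_right)
      exact hM ((hz b).1 hb)
    · by_contra hbp
      exact hzf b hbp hb

end Poly

end Groth.Agent.LC.Liaison
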