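import Groth.Agent.LC.HTensor
import Groth.Agent.LC.ExtBridge

/-!
# Local duality, abstract form

If `H^i_I(R) = 0` for `i < d`, `H^{d+1}_I = 0` on finite modules and `H^d_I(R) ≅ Hom(K, E)` with `E`
injective, then `H^{d-i}_I(M) ≅ Hom(Ext^i(M, K), E)` for finite `M`.
-/

universe u

open CategoryTheory Limits TensorProduct

namespace Groth.Agent.LC

variable {R : Type u} [CommRing R] (I : Ideal R) (d : ℕ)
variable (K E : Type u) [AddCommGroup K] [Module R K] [AddCommGroup E] [Module R E]
variable (eK : (K →ₗ[R] E) ≃ₗ[R] (localCohomology I d).obj (ModuleCat.of R R))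

/-- `H^d_I(R) ⊗ M → Hom(Hom(M, K), E)`. -/
noncomputable def dualTensor (M : Type u) [AddCommGroup M] [Module R M] :
    (localCohomology I d).obj (ModuleCat.of R R) ⊗[R] M →ₗ[R] ((M →ₗ[R] K) →ₗ[R] E) :=
  TensorProduct.lift <| LinearMap.mk₂ R (fun h m => (eK.symm h) ∘ₗ LinearMap.applyₗ m)
    (fun a b m => by rw [map_add, LinearMap.add_comp])
    (fun r a m => by rw [map_smul, LinearMap.smul_comp])
    (fun h a b => by ext g; simp)
    (fun r h a => by ext g; simp)

theorem dualTensor_tmul (M : Type u) [AddCommGroup M] [Module R M]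
    (h : (localCohomology I d).obj (ModuleCat.of R R)) (m : M) (g : M →ₗ[R] K) :
    dualTensor I d K E eK M (h ⊗ₜ m) g = eK.symm h (g m) := rfl

theorem dualTensor_natural {M N : Type u} [AddCommGroup M] [Module R M] [AddCommGroup N] [Module R N]
    (f : M →ₗ[R] N) (t : (localCohomology I d).obj (ModuleCat.of R R) ⊗[R] M) :
    dualTensor I d K E eK N (f.lTensor _ t) =
      LinearMap.lcomp R E (LinearMap.lcomp R K f) (dualTensor I d K E eK M t) := by
  induction t with
  | zero => simp
  | add a b ha hb => simp only [map_add, ha, hb]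
  | tmul h m => rfl

theorem dualTensor_bijective_pi (n : ℕ) :
    Function.Bijective (dualTensor I d K E eK (Fin n → R)) := by
  let e : Fin n → (Fin n → R) := fun k => Pi.single k 1
  let c : Fin n → (K →ₗ[R] ((Fin n → R) →ₗ[R] K)) := fun k =>
    LinearMap.smulRightₗ (LinearMap.proj k)
  have hc : ∀ k y v, c k y v = v k • y := fun k y v => rfl
  refine Function.bijective_iff_has_inverse.2 ⟨fun θ => ∑ k, eK (θ ∘ₗ c k) ⊗ₜ[R] e k, fun t => ?_, fun θ => ?_⟩
  · induction t with
    | zero => simp
    | add a b ha hb =>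
      simp only [map_add, LinearMap.add_comp, TensorProduct.add_tmul, Finset.sum_add_distrib]
      exact congrArg₂ (· + ·) ha hb
    | tmul h m =>
      have hk : ∀ k, dualTensor I d K E eK (Fin n → R) (h ⊗ₜ m) ∘ₗ c k = m k • eK.symm h := fun k =>
        LinearMap.ext fun y => (map_smul (eK.symm h) (m k) y : _)
      simp only [hk, map_smul, LinearEquiv.apply_symm_apply, TensorProduct.smul_tmul]
      rw [← TensorProduct.tmul_sum]
      congr 1
      exact funext fun j => by simp [e, Finset.sum_apply, Pi.single_apply]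
  · refine LinearMap.ext fun g => ?_
    simp only [map_sum, LinearMap.sum_apply, dualTensor_tmul, LinearEquiv.symm_apply_apply,
      LinearMap.comp_apply]
    rw [← map_sum]
    congr 1
    refine LinearMap.ext fun v => ?_
    simp only [LinearMap.sum_apply, hc]
    conv_rhs => rw [show v = ∑ k, v k • e k from funext fun j => by
      simp [e, Finset.sum_apply, Pi.single_apply]]
    simp only [map_sum, map_smul]

/-- The two-step presentation used below. -/
theorem exists_fin_presentation (M : Type u) [AddCommGroup M] [Module R M] [Module.Finite R M] :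
    ∃ (n : ℕ) (π : (Fin n → R) →ₗ[R] M), Function.Surjective π :=
  Module.Finite.exists_fin' R M

variable [IsNoetherianRing R] [Module.Injective R E]

theorem dualTensor_surjective (M : Type u) [AddCommGroup M] [Module R M] [Module.Finite R M] :
    Function.Surjective (dualTensor I d K E eK M) := by
  intro θ
  obtain ⟨n, π, hπ⟩ := exists_fin_presentation (R := R) M
  have hinj : Function.Injective (LinearMap.lcomp R K π) := fun a b hab =>
    LinearMap.ext fun m => by obtain ⟨v, rfl⟩ := hπ m; exact LinearMap.congr_fun hab v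
  obtain ⟨θ', hθ'⟩ := Module.Injective.out (LinearMap.lcomp R K π) hinj θ
  obtain ⟨t, ht⟩ := (dualTensor_bijective_pi I d K E eK n).2 θ'
  refine ⟨π.lTensor _ t, ?_⟩
  rw [dualTensor_natural, ht]
  exact LinearMap.ext hθ'

theorem dualTensor_bijective (M : Type u) [AddCommGroup M] [Module R M] [Module.Finite R M] :
    Function.Bijective (dualTensor I d K E eK M) := by
  refine ⟨(injective_iff_map_eq_zero _).2 fun t ht => ?_, dualTensor_surjective I d K E eK M⟩
  obtain ⟨n, π, hπ⟩ := exists_fin_presentation (R := R) M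
  obtain ⟨s, rfl⟩ := LinearMap.lTensor_surjective ((localCohomology I d).obj (ModuleCat.of R R)) hπ t
  let P := LinearMap.ker π
  let θ := dualTensor I d K E eK (Fin n → R) s
  let res : ((Fin n → R) →ₗ[R] K) →ₗ[R] (P →ₗ[R] K) := LinearMap.lcomp R K P.subtype
  have hker : LinearMap.ker res ≤ LinearMap.ker θ := by
    intro g hg
    have hle : LinearMap.ker π ≤ LinearMap.ker g := fun z hz =>
      LinearMap.congr_fun (LinearMap.mem_ker.1 hg) ⟨z, hz⟩
    obtain ⟨g', rfl⟩ : ∃ g' : M →ₗ[R] K, g = g' ∘ₗ π := by
      refine ⟨(LinearMap.ker π).liftQ g hle ∘ₗ (π.quotKerEquivOfSurjective hπ).symm.toLinearMap,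
        LinearMap.ext fun v => ?_⟩
      have : (π.quotKerEquivOfSurjective hπ).symm (π v) = Submodule.Quotient.mk v :=
        (LinearEquiv.symm_apply_eq _).2 rfl
      simp [this]
    have h := LinearMap.congr_fun ((dualTensor_natural I d K E eK π s).symm.trans ht) g'
    exact h
  obtain ⟨θ'', hθ''⟩ := Module.Injective.out ((LinearMap.ker res).liftQ res le_rfl)
    (LinearMap.ker_eq_bot.1 (Submodule.ker_liftQ_eq_bot _ _ _ le_rfl))
    ((LinearMap.ker res).liftQ θ hker)
  have : Module.Finite R P := inferInstance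
  obtain ⟨v, hv⟩ := dualTensor_surjective I d K E eK P θ''
  have heq : P.subtype.lTensor _ v = s := by
    refine (dualTensor_bijective_pi I d K E eK n).1 ?_
    rw [dualTensor_natural, hv]
    exact LinearMap.ext fun g => hθ'' (Submodule.Quotient.mk g)
  rw [← heq, ← LinearMap.comp_apply, ← LinearMap.lTensor_comp]
  rw [show π ∘ₗ P.subtype = 0 from LinearMap.ext fun z => z.2, LinearMap.lTensor_zero, LinearMap.zero_apply]

variable (hlow : ∀ i < d, Subsingleton ((localCohomology I i).obj (ModuleCat.of R R)))
  (hcd : ∀ (N : ModuleCat.{u} R), Module.Finite R N → Subsingleton ((localCohomology I (d + 1)).obj N))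

include eK hcd in
/-- Duality in the top degree. -/
theorem exists_topDuality :
    ∃ ψ : ∀ (M : Type u) [AddCommGroup M] [Module R M] [Module.Finite R M],
        (localCohomology I d).obj (ModuleCat.of R M) ≃ₗ[R] ((M →ₗ[R] K) →ₗ[R] E),
      ∀ (M N : Type u) [AddCommGroup M] [Module R M] [Module.Finite R M] [AddCommGroup N] [Module R N]
        [Module.Finite R N] (f : M →ₗ[R] N) z,
        ψ N (((localCohomology I d).map (ModuleCat.ofHom f)).hom z) =
          LinearMap.lcomp R E (LinearMap.lcomp R K f) (ψ M z) := by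
  refine ⟨fun M _ _ _ => (LinearEquiv.ofBijective _ (htensor_bijective I d hcd (ModuleCat.of R M))).symm.trans
    (LinearEquiv.ofBijective _ (dualTensor_bijective I d K E eK M)), ?_⟩
  intro M N _ _ _ _ _ _ f z
  obtain ⟨t, rfl⟩ := (htensor_bijective I d hcd (ModuleCat.of R M)).2 z
  simp only [LinearEquiv.trans_apply]
  rw [← htensor_natural]
  have h1 : ∀ (X : Type u) [AddCommGroup X] [Module R X] (u : _),
      (LinearEquiv.ofBijective _ (htensor_bijective I d hcd (ModuleCat.of R X))).symm
        (htensor I d (ModuleCat.of R X) u) = u := fun X _ _ u =>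
    (LinearEquiv.symm_apply_eq _).2 rfl
  rw [h1 M, h1 N]
  exact dualTensor_natural I d K E eK f t

include hlow in
theorem subsingleton_H_pi_low (n : ℕ) {i : ℕ} (hi : i < d) :
    Subsingleton ((localCohomology I i).obj (ModuleCat.of R (Fin n → R))) := by
  have := hlow i hi
  have h := (htensor_bijective_pi I i n).2
  refine subsingleton_of_forall_eq 0 fun z => ?_
  obtain ⟨t, rfl⟩ := h z
  rw [Subsingleton.elim t 0, map_zero]

include eK hlow hcd in
/-- Abstract local duality. -/
theorem exists_localDuality (i : ℕ) : ∀ (M : Type u) [AddCommGroup M] [Module R M] [Module.Finite R M]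
    (j : ℕ), j + i = d → Nonempty ((localCohomology I j).obj (ModuleCat.of R M) ≃ₗ[R]
      (Abelian.Ext (ModuleCat.of R M) (ModuleCat.of R K) i →ₗ[R] E)) := by
  obtain ⟨ψ, hψ⟩ := exists_topDuality I d K E eK hcd
  induction i with
  | zero =>
    intro M _ _ _ j hj
    obtain rfl : j = d := by omega
    let e0 : Abelian.Ext (ModuleCat.of R M) (ModuleCat.of R K) 0 ≃ₗ[R] (M →ₗ[R] K) :=
      Abelian.Ext.linearEquiv₀.trans ModuleCat.homLinearEquiv
    exact ⟨(ψ M).trans (LinearEquiv.congrLeft E R e0.symm)⟩
  | succ i ih =>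
    intro M _ _ _ j hj
    obtain ⟨n, π, hπ⟩ := exists_fin_presentation (R := R) M
    let S : ShortComplex (ModuleCat.{u} R) := ShortComplex.mk (X₁ := ModuleCat.of R (LinearMap.ker π))
      (X₂ := ModuleCat.of R (Fin n → R)) (X₃ := ModuleCat.of R M)
      (ModuleCat.ofHom (LinearMap.ker π).subtype) (ModuleCat.ofHom π)
      (ModuleCat.hom_ext (LinearMap.ext fun z => z.2))
    have hS : S.ShortExact :=
      { exact := (ShortComplex.ShortExact.moduleCat_exact_iff_function_exact _).2
          (LinearMap.exact_subtype_ker_map π)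
        mono_f := (ModuleCat.mono_iff_injective _).2 Subtype.val_injective
        epi_g := (ModuleCat.epi_iff_surjective _).2 hπ }
    have : Projective S.X₂ := (IsProjective.iff_projective (R := R) (Fin n → R)).1 inferInstance
    let Y : ModuleCat.{u} R := ModuleCat.of R K
    let δ := δH I j hS (j + 1) rfl
    have hδinj : Function.Injective δ := (injective_iff_map_eq_zero _).2 fun u hu => by
      obtain ⟨w, hw⟩ := (exact₃ I j hS (j + 1) rfl u).1 hu
      have := subsingleton_H_pi_low I d hlow n (i := j) (by omega)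
      rw [← hw, show w = 0 from @Subsingleton.elim _ this _ _, map_zero]
    let δ' : Abelian.Ext S.X₁ Y i →ₗ[R] Abelian.Ext S.X₃ Y (i + 1) :=
      Abelian.Ext.precompOfLinear hS.extClass R Y (add_comm 1 i)
    have hδ'surj : Function.Surjective δ' := fun x =>
      Abelian.Ext.contravariant_sequence_exact₃ hS Y x (Abelian.Ext.eq_zero_of_projective _) (add_comm 1 i)
    rcases i with _ | i
    · have hjd : j + 1 = d := by omega
      subst hjd
      let mapf := ((localCohomology I (j + 1)).map S.f).hom
      let e0 : Abelian.Ext S.X₁ Y 0 ≃ₗ[R] ((LinearMap.ker π) →ₗ[R] K) :=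
        Abelian.Ext.linearEquiv₀.trans ModuleCat.homLinearEquiv
      let res : ((Fin n → R) →ₗ[R] K) →ₗ[R] ((LinearMap.ker π) →ₗ[R] K) :=
        LinearMap.lcomp R K (LinearMap.ker π).subtype
      let q : ((LinearMap.ker π) →ₗ[R] K) →ₗ[R] Abelian.Ext S.X₃ Y 1 := δ' ∘ₗ e0.symm.toLinearMap
      have hq : Function.Surjective q := hδ'surj.comp e0.symm.surjective
      have hqker : ∀ g, q g = 0 ↔ g ∈ LinearMap.range res := by
        intro g
        constructor
        · intro hg
          obtain ⟨x₂, hx₂⟩ := Abelian.Ext.contravariant_sequence_exact₁ hS Y (e0.symm g) (add_comm 1 0) hg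
          obtain ⟨f₂, rfl⟩ := (Abelian.Ext.linearEquiv₀ (R := R)).symm.surjective x₂
          refine ⟨f₂.hom, ?_⟩
          have h2 := congrArg e0 hx₂
          rw [LinearEquiv.apply_symm_apply, Abelian.Ext.linearEquiv₀_symm_apply,
            Abelian.Ext.mk₀_comp_mk₀] at h2
          rw [← h2]
          show _ = ModuleCat.homLinearEquiv (S := R) (Abelian.Ext.linearEquiv₀ (R := R) (Abelian.Ext.mk₀ (S.f ≫ f₂)))
          rw [show Abelian.Ext.linearEquiv₀ (R := R) (Abelian.Ext.mk₀ (S.f ≫ f₂)) = S.f ≫ f₂ from
            (Abelian.Ext.linearEquiv₀ (R := R)).apply_symm_apply _]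
          rfl
        · rintro ⟨f₂, rfl⟩
          show hS.extClass.comp (Abelian.Ext.mk₀ (ModuleCat.ofHom (res f₂))) (add_comm 1 0) = 0
          rw [show ModuleCat.ofHom (res f₂) = S.f ≫ ModuleCat.ofHom f₂ from rfl,
            ← Abelian.Ext.mk₀_comp_mk₀]
          exact hS.extClass_comp_assoc _
      let Ψ := ψ (LinearMap.ker π)
      let L := LinearMap.lcomp R E q
      have hLinj : Function.Injective L := fun a b hab =>
        LinearMap.ext fun x => by obtain ⟨g, rfl⟩ := hq x; exact LinearMap.congr_fun hab g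
      have hrange : LinearMap.range (Ψ.toLinearMap ∘ₗ δ) = LinearMap.range L := by
        apply le_antisymm
        · rintro _ ⟨u, rfl⟩
          have h1 : mapf (δ u) = 0 := (exact₁ I j hS (j + 1) rfl (δ u)).2 ⟨u, rfl⟩
          have h2 : ∀ g, Ψ (δ u) (res g) = 0 := fun g => by
            have h3 := hψ _ _ (LinearMap.ker π).subtype (δ u)
            rw [show ((localCohomology I (j + 1)).map (ModuleCat.ofHom (LinearMap.ker π).subtype)).hom (δ u)
              = 0 from h1, map_zero] at h3
            exact LinearMap.congr_fun h3.symm g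
          have hle : LinearMap.ker q ≤ LinearMap.ker (Ψ (δ u)) := fun g hg => by
            obtain ⟨g', rfl⟩ := (hqker g).1 hg
            exact h2 g'
          refine ⟨(LinearMap.ker q).liftQ (Ψ (δ u)) hle ∘ₗ (q.quotKerEquivOfSurjective hq).symm.toLinearMap,
            LinearMap.ext fun g => ?_⟩
          show (LinearMap.ker q).liftQ (Ψ (δ u)) hle ((q.quotKerEquivOfSurjective hq).symm (q g)) = _
          rw [show (q.quotKerEquivOfSurjective hq).symm (q g) = Submodule.Quotient.mk g from
            (LinearEquiv.symm_apply_eq _).2 rfl]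
          rfl
        · rintro _ ⟨θ, rfl⟩
          obtain ⟨v, hv⟩ := Ψ.surjective (L θ)
          have h1 : mapf v = 0 := by
            refine (ψ (Fin n → R)).injective ?_
            refine (hψ _ _ (LinearMap.ker π).subtype v).trans ?_
            rw [map_zero]
            refine LinearMap.ext fun g => ?_
            show Ψ v (res g) = 0
            rw [hv]
            show θ (q (res g)) = 0
            rw [(hqker _).2 ⟨g, rfl⟩, map_zero]
          obtain ⟨u, rfl⟩ := (exact₁ I j hS (j + 1) rfl v).1 h1
          exact ⟨u, hv⟩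
      exact ⟨(LinearEquiv.ofInjective (Ψ.toLinearMap ∘ₗ δ) (Ψ.injective.comp hδinj)).trans
        ((LinearEquiv.ofEq _ _ hrange).trans (LinearEquiv.ofInjective L hLinj).symm)⟩
    · have hδsurj : Function.Surjective δ := fun v => by
        have := subsingleton_H_pi_low I d hlow n (i := j + 1) (by omega)
        exact (exact₁ I j hS (j + 1) rfl v).1 (@Subsingleton.elim _ this _ _)
      have hδ'inj : Function.Injective δ' := (injective_iff_map_eq_zero _).2 fun x hx => by
        obtain ⟨y, hy⟩ := Abelian.Ext.contravariant_sequence_exact₁ hS Y x (add_comm 1 (i + 1)) hx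
        rw [← hy, Abelian.Ext.eq_zero_of_projective y, Abelian.Ext.comp_zero]
      obtain ⟨e⟩ := ih (LinearMap.ker π) (j + 1) (by omega)
      exact ⟨(LinearEquiv.ofBijective δ ⟨hδinj, hδsurj⟩).trans (e.trans
        (LinearEquiv.congrLeft E R (LinearEquiv.ofBijective δ' ⟨hδ'inj, hδ'surj⟩)))⟩

end Groth.Agent.LC
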