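import Groth.Agent.LC.LiaisonLink
import Groth.Agent.LC.LiaisonGor
import Groth.Agent.FlatLoc6.Miracle
import Mathlib.RingTheory.Regular.Flat

/-!
# Residual ideals of Cohen–Macaulay ideals in a Gorenstein local ring, and flatness
-/

set_option autoImplicit false
set_option linter.style.haveILetI false

universe u

open CategoryTheory Limits IsLocalRing RingTheory.Sequence
open scoped Pointwise TensorProduct

namespace Groth.Agent.LC.Residual

variable {A : Type u} [CommRing A]

theorem ofList_concat (rs : List A) (x : A) :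
    Ideal.ofList (rs ++ [x]) = Ideal.ofList rs ⊔ Ideal.span {x} := by
  rw [Ideal.ofList_append, Ideal.ofList_singleton]

theorem smul_regular_quot (rs : List A) (x : A) (h : IsWeaklyRegular A (rs ++ [x])) :
    IsWeaklyRegular A rs ∧ ∀ c, x * c ∈ Ideal.ofList rs → c ∈ Ideal.ofList rs := by
  obtain ⟨h1, h2⟩ := (LC.isWeaklyRegular_concat_iff rs x).mp h
  refine ⟨h1, fun c hc => ?_⟩
  have e : (Ideal.ofList rs • ⊤ : Submodule A A) = Ideal.ofList rs := by rw [Ideal.smul_eq_mul, Ideal.mul_top]
  rw [← e] at hc ⊢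
  refine (Submodule.Quotient.mk_eq_zero _).mp (h2.right_eq_zero_of_smul ?_)
  rw [← Submodule.Quotient.mk_smul]
  exact (Submodule.Quotient.mk_eq_zero _).mpr hc

/-- `0 → A/rs --x--> A/rs → A/(rs, x) → 0`. -/
theorem exists_sequence (rs : List A) (x : A) (h : IsWeaklyRegular A (rs ++ [x])) :
    ∃ (f : (A ⧸ Ideal.ofList rs) →ₗ[A] (A ⧸ Ideal.ofList rs))
      (g : (A ⧸ Ideal.ofList rs) →ₗ[A] (A ⧸ Ideal.ofList (rs ++ [x]))),
      Function.Injective f ∧ Function.Surjective g ∧ Function.Exact f g ∧
      ∀ a, g (Ideal.Quotient.mk _ a) = Ideal.Quotient.mk _ a := by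
  obtain ⟨-, hx⟩ := smul_regular_quot rs x h
  have hle : Ideal.ofList rs ≤ Ideal.ofList (rs ++ [x]) := by rw [ofList_concat]; exact le_sup_left
  refine ⟨LinearMap.lsmul A _ x, Submodule.factor hle, ?_, Submodule.factor_surjective hle, ?_, fun a => rfl⟩
  · rw [injective_iff_map_eq_zero]
    intro q hq
    obtain ⟨c, rfl⟩ := Submodule.Quotient.mk_surjective _ q
    rw [LinearMap.lsmul_apply, ← Submodule.Quotient.mk_smul, Submodule.Quotient.mk_eq_zero] at hq
    exact (Submodule.Quotient.mk_eq_zero _).2 (hx c hq)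
  · intro q
    obtain ⟨c, rfl⟩ := Submodule.Quotient.mk_surjective _ q
    show (Submodule.Quotient.mk c : A ⧸ Ideal.ofList (rs ++ [x])) = 0 ↔ _
    rw [Submodule.Quotient.mk_eq_zero, ofList_concat]
    constructor
    · intro hc
      obtain ⟨r, hr, y, hy, rfl⟩ := Submodule.mem_sup.1 hc
      obtain ⟨d, rfl⟩ := Ideal.mem_span_singleton'.1 hy
      refine ⟨Submodule.Quotient.mk d, ?_⟩
      rw [LinearMap.lsmul_apply, ← Submodule.Quotient.mk_smul, Submodule.Quotient.eq, smul_eq_mul,
        show x * d - (r + d * x) = -r by ring]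
      exact neg_mem hr
    · rintro ⟨w, hw⟩
      obtain ⟨d, rfl⟩ := Submodule.Quotient.mk_surjective _ w
      rw [LinearMap.lsmul_apply, ← Submodule.Quotient.mk_smul, Submodule.Quotient.eq, smul_eq_mul] at hw
      rw [show c = -(x * d - c) + x * d by ring]
      exact Submodule.add_mem_sup (neg_mem hw) (Ideal.mem_span_singleton'.2 ⟨d, mul_comm _ _⟩)

theorem ext_vanish_quot (F : ModuleCat.{u} A)
    (h0 : ∀ i, 0 < i → Subsingleton (Abelian.Ext F (ModuleCat.of A A) i)) :
    ∀ rs : List A, IsWeaklyRegular A rs →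
      ∀ i, 0 < i → Subsingleton (Abelian.Ext F (ModuleCat.of A (A ⧸ Ideal.ofList rs)) i) := by
  intro rs
  induction rs using List.reverseRecOn with
  | nil =>
    intro _ i hi
    haveI := h0 i hi
    have e : (A ⧸ Ideal.ofList ([] : List A)) ≃ₗ[A] A := Submodule.quotEquivOfEqBot _ Ideal.ofList_nil
    refine subsingleton_of_forall_eq 0 fun z => ?_
    rw [← Abelian.Ext.comp_mk₀_id z, ← e.toModuleIso.hom_inv_id, ← Abelian.Ext.mk₀_comp_mk₀,
      ← Abelian.Ext.comp_assoc _ _ _ (add_zero i) (zero_add 0) (by omega),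
      show z.comp (Abelian.Ext.mk₀ e.toModuleIso.hom) (add_zero i) = 0 from Subsingleton.elim _ _,
      Abelian.Ext.zero_comp]
  | append_singleton rs x ih =>
    intro h i hi
    obtain ⟨f, g, hf, hg, hfg, -⟩ := exists_sequence rs x h
    let S : ShortComplex (ModuleCat.{u} A) := ShortComplex.mk (X₁ := ModuleCat.of A (A ⧸ Ideal.ofList rs))
      (X₂ := ModuleCat.of A (A ⧸ Ideal.ofList rs)) (X₃ := ModuleCat.of A (A ⧸ Ideal.ofList (rs ++ [x])))
      (ModuleCat.ofHom f) (ModuleCat.ofHom g)
      (ModuleCat.hom_ext (LinearMap.ext fun z => hfg.apply_apply_eq_zero z))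
    have hS : S.ShortExact :=
      { exact := (ShortComplex.ShortExact.moduleCat_exact_iff_function_exact _).2 hfg
        mono_f := (ModuleCat.mono_iff_injective _).2 hf
        epi_g := (ModuleCat.epi_iff_surjective _).2 hg }
    have h' := (smul_regular_quot rs x h).1
    refine subsingleton_of_forall_eq 0 fun z => ?_
    obtain ⟨y, rfl⟩ := Abelian.Ext.covariant_sequence_exact₃ F hS (n₁ := i + 1) z rfl
      (@Subsingleton.elim _ (ih h' (i + 1) (by omega)) _ _)
    rw [@Subsingleton.elim _ (ih h' i hi) y 0, Abelian.Ext.zero_comp]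

/-- The residual ideal commutes with cutting by a weakly regular sequence. -/
theorem colon_eq (I : Ideal A)
    (h0 : ∀ i, 0 < i → Subsingleton (Abelian.Ext (ModuleCat.of A (A ⧸ I)) (ModuleCat.of A A) i)) :
    ∀ rs : List A, IsWeaklyRegular A rs →
      Submodule.annihilator I ⊔ Ideal.ofList rs = Submodule.colon (Ideal.ofList rs) (I : Set A) ∧
      Submodule.annihilator I ⊓ Ideal.ofList rs = Ideal.ofList rs * Submodule.annihilator I := by
  have hann : ∀ a, a ∈ Submodule.annihilator I ↔ ∀ i ∈ I, a * i = 0 := fun a => Submodule.mem_annihilator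
  intro rs
  induction rs using List.reverseRecOn with
  | nil =>
    intro _
    rw [Ideal.ofList_nil, sup_bot_eq, inf_bot_eq, Ideal.bot_mul]
    refine ⟨?_, rfl⟩
    ext a
    rw [hann, Submodule.mem_colon]
    simp
  | append_singleton rs x ih =>
    intro h
    obtain ⟨h', hx⟩ := smul_regular_quot rs x h
    obtain ⟨ihs, ihi⟩ := ih h'
    have hle : Submodule.annihilator I ⊔ Ideal.ofList (rs ++ [x]) ≤
        Submodule.colon (Ideal.ofList (rs ++ [x])) (I : Set A) := by
      refine sup_le (fun a ha => Submodule.mem_colon.2 fun i hi => ?_)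
        (fun a ha => Submodule.mem_colon.2 fun i _ => Ideal.mul_mem_right _ _ ha)
      rw [smul_eq_mul, (hann a).1 ha i hi]
      exact zero_mem _
    refine ⟨le_antisymm hle fun a ha => ?_, le_antisymm (fun a ha => ?_)
      (le_inf Ideal.mul_le_right Ideal.mul_le_left)⟩
    · obtain ⟨f, g, hf, hg, hfg, hgmk⟩ := exists_sequence rs x h
      let S : ShortComplex (ModuleCat.{u} A) := ShortComplex.mk (X₁ := ModuleCat.of A (A ⧸ Ideal.ofList rs))
        (X₂ := ModuleCat.of A (A ⧸ Ideal.ofList rs)) (X₃ := ModuleCat.of A (A ⧸ Ideal.ofList (rs ++ [x])))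
        (ModuleCat.ofHom f) (ModuleCat.ofHom g)
        (ModuleCat.hom_ext (LinearMap.ext fun z => hfg.apply_apply_eq_zero z))
      have hS : S.ShortExact :=
        { exact := (ShortComplex.ShortExact.moduleCat_exact_iff_function_exact _).2 hfg
          mono_f := (ModuleCat.mono_iff_injective _).2 hf
          epi_g := (ModuleCat.epi_iff_surjective _).2 hg }
      let φ : (A ⧸ I) →ₗ[A] (A ⧸ Ideal.ofList (rs ++ [x])) :=
        I.liftQ (LinearMap.toSpanSingleton A _ (Ideal.Quotient.mk _ a)) fun i hi => by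
          rw [LinearMap.mem_ker, LinearMap.toSpanSingleton_apply]
          refine (Submodule.Quotient.mk_eq_zero _).2 ?_
          show i * a ∈ Ideal.ofList (rs ++ [x])
          rw [mul_comm]
          exact Submodule.mem_colon.1 ha i hi
      obtain ⟨y, hy⟩ := Abelian.Ext.covariant_sequence_exact₃ (ModuleCat.of A (A ⧸ I)) hS (n₁ := 1)
        (Abelian.Ext.mk₀ (ModuleCat.ofHom φ)) rfl
        (@Subsingleton.elim _ (ext_vanish_quot _ h0 rs h' 1 one_pos) _ _)
      obtain ⟨ψ, rfl⟩ := (Abelian.Ext.mk₀_bijective _ _).2 y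
      rw [Abelian.Ext.mk₀_comp_mk₀] at hy
      have hψ := LinearMap.congr_fun (congrArg ModuleCat.Hom.hom ((Abelian.Ext.mk₀_bijective _ _).1 hy))
        (Ideal.Quotient.mk I 1)
      obtain ⟨b, hb⟩ := Ideal.Quotient.mk_surjective (ψ.hom (Ideal.Quotient.mk I 1))
      change g (ψ.hom (Ideal.Quotient.mk I 1)) = φ (Ideal.Quotient.mk I 1) at hψ
      rw [← hb, hgmk, show φ (Ideal.Quotient.mk I 1) = (1 : A) • Ideal.Quotient.mk (Ideal.ofList (rs ++ [x])) a from rfl,
        one_smul, Ideal.Quotient.eq] at hψ
      have hbc : b ∈ Submodule.colon (Ideal.ofList rs) (I : Set A) := Submodule.mem_colon.2 fun i hi => by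
        have h1 : i • ψ.hom (Ideal.Quotient.mk I 1) = 0 := by
          rw [← map_smul, show i • Ideal.Quotient.mk I 1 = Ideal.Quotient.mk I (i * 1) from rfl, mul_one,
            Ideal.Quotient.eq_zero_iff_mem.2 hi, map_zero]
        rw [← hb] at h1
        rw [smul_eq_mul, mul_comm]
        exact Ideal.Quotient.eq_zero_iff_mem.1 h1
      rw [← ihs] at hbc
      rw [show a = b - (b - a) by ring]
      refine sub_mem ((sup_le_sup_left (?_ : Ideal.ofList rs ≤ _) _) hbc) (Ideal.mem_sup_right hψ)
      rw [ofList_concat]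
      exact le_sup_left
    · obtain ⟨haJ, har⟩ := Submodule.mem_inf.1 ha
      rw [ofList_concat] at har
      obtain ⟨r, hr, y, hy, rfl⟩ := Submodule.mem_sup.1 har
      obtain ⟨c, rfl⟩ := Ideal.mem_span_singleton'.1 hy
      have hc : c ∈ Submodule.colon (Ideal.ofList rs) (I : Set A) := Submodule.mem_colon.2 fun i hi => by
        refine hx _ ?_
        rw [smul_eq_mul, show x * (c * i) = -(r * i) + (r + c * x) * i by ring, (hann _).1 haJ i hi, add_zero]
        exact neg_mem (Ideal.mul_mem_right _ _ hr)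
      rw [← ihs] at hc
      obtain ⟨j, hj, r', hr', rfl⟩ := Submodule.mem_sup.1 hc
      have h1 : r + x * r' ∈ Submodule.annihilator I ⊓ Ideal.ofList rs := by
        refine Submodule.mem_inf.2 ⟨?_, add_mem hr (Ideal.mul_mem_left _ _ hr')⟩
        rw [show r + x * r' = (r + (j + r') * x) - x * j by ring]
        exact sub_mem haJ (Ideal.mul_mem_left _ _ hj)
      rw [ihi] at h1
      rw [ofList_concat, Ideal.sup_mul, show r + (j + r') * x = (r + x * r') + x * j by ring]
      exact Submodule.add_mem_sup h1 (Ideal.mul_mem_mul (Ideal.mem_span_singleton_self x) hj)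

section Gor

variable [LocCoh.IsGorensteinLocalRing A] (I : Ideal A) (hI : ringKrullDim (A ⧸ I) = ringKrullDim A)
  [LocCoh.IsCohenMacaulayLocalRing (A ⧸ I)]

include hI

theorem H_low {d : ℕ} (hd : ringKrullDim A = d) :
    ∀ j < d, Subsingleton ((localCohomology (maximalIdeal A) j).obj (ModuleCat.of A (A ⧸ I))) :=
  fun j hj => Liaison.subsingleton_H_of_CM_quot I (hI.trans hd) j hj

theorem ext_vanish : ∀ i, 0 < i → Subsingleton (Abelian.Ext (ModuleCat.of A (A ⧸ I)) (ModuleCat.of A A) i) := by
  obtain ⟨d, hd, -, -⟩ := gorenstein_basic (R := A)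
  exact Liaison.ext_zero_of_H_low hd (A ⧸ I) (H_low I hI hd)

theorem isCM_quot : LocCoh.IsCohenMacaulayModule A (A ⧸ I) ∧ Module.supportDim A (A ⧸ I) = ringKrullDim A := by
  have h1 : Module.supportDim A (A ⧸ I) = ringKrullDim A := by
    rw [Module.supportDim_quotient_eq_ringKrullDim, hI]
  refine ⟨?_, h1⟩
  obtain ⟨d, hd, -, -⟩ := gorenstein_basic (R := A)
  have h2 : (d : ℕ∞) ≤ LocCoh.depth A (A ⧸ I) := (le_idealDepth_iff_H (maximalIdeal A) (A ⧸ I) d).2 (H_low I hI hd)
  haveI : Nontrivial (A ⧸ I) := inferInstance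
  exact le_antisymm ((h1.trans hd).le.trans (WithBot.coe_le_coe.2 h2)) (depth_le_supportDim _)

end Gor

theorem supportDim_le_quot_add [IsNoetherianRing A] [IsLocalRing A] :
    ∀ (rs : List A), (∀ r ∈ rs, r ∈ maximalIdeal A) →
      ∀ (M : Type u) [AddCommGroup M] [Module A M] [Module.Finite A M],
        Module.supportDim A M ≤ Module.supportDim A (M ⧸ (Ideal.ofList rs • ⊤ : Submodule A M)) + rs.length := by
  intro rs
  induction rs with
  | nil =>
    intro _ M _ _ _
    rw [List.length_nil, Nat.cast_zero, add_zero,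
      Module.supportDim_eq_of_equiv (Submodule.quotEquivOfEqBot (Ideal.ofList ([] : List A) • ⊤ : Submodule A M) (by simp))]
  | cons r rs ih =>
    intro h M _ _ _
    rw [Module.supportDim_eq_of_equiv (Submodule.quotOfListConsSMulTopEquivQuotSMulTopInner M r rs), List.length_cons,
      Nat.cast_succ, ← add_assoc]
    exact (Module.supportDim_le_supportDim_quotSMulTop_succ (h r (List.mem_cons_self ..))).trans
      (add_le_add (ih (fun y hy => h y (List.mem_cons_of_mem _ hy)) _) le_rfl)

section Flat

variable {R : Type u} [CommRing R] [IsRegularLocalRing R] [Algebra R A] [IsLocalHom (algebraMap R A)]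
  [Module.Flat R A] [LocCoh.IsGorensteinLocalRing A] (I : Ideal A) (hI : ringKrullDim (A ⧸ I) = ringKrullDim A)
  [LocCoh.IsCohenMacaulayLocalRing (A ⧸ I)]

include hI

theorem flat_quot : Module.Flat R (A ⧸ I) ∧ Module.Flat R (A ⧸ Submodule.annihilator I) := by
  obtain ⟨rs, hreg, hm⟩ := RegLoc6.exists_regularSequence_maximalIdeal R
  let xs := rs.map (algebraMap R A)
  have hxs : (maximalIdeal R).map (algebraMap R A) = Ideal.ofList xs := by rw [← Ideal.map_ofList, hm]
  have hmemA : ∀ r ∈ xs, r ∈ maximalIdeal A := fun r hr => by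
    obtain ⟨a, ha, rfl⟩ := List.mem_map.mp hr
    exact map_nonunit (algebraMap R A) a (hm ▸ Ideal.subset_span ha)
  have hwA : IsWeaklyRegular A xs := hreg.toIsWeaklyRegular.of_flat
  constructor
  · obtain ⟨hCM, hdim⟩ := isCM_quot I hI
    refine FlatLoc6.flat_of_isCM hCM (le_antisymm ?_ ?_)
    all_goals
      have hlen : ((rs.length : ℕ) : WithBot ℕ∞) = ringKrullDim R := by
        have h := Module.supportDim_add_length_eq_supportDim_of_isRegular rs hreg
        have he := Module.supportDim_eq_of_equiv (Submodule.quotEquivOfEq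
          (Ideal.ofList rs • ⊤ : Submodule R R) (IsLocalRing.maximalIdeal R)
          (by rw [hm, Ideal.smul_eq_mul, Ideal.mul_top]))
        rw [he, Module.supportDim_self_eq_ringKrullDim, Module.supportDim_eq_ringKrullDim_quotient_annihilator,
          Ideal.annihilator_quotient] at h
        letI := Ideal.Quotient.field (IsLocalRing.maximalIdeal R)
        rw [ringKrullDim_eq_zero_of_field, zero_add] at h
        exact h
      rw [← hlen, add_comm]
      have e : FlatLoc6.mN R A (A ⧸ I) = (Ideal.ofList xs • ⊤ : Submodule A (A ⧸ I)) := by rw [← hxs]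
      rw [Module.supportDim_eq_of_equiv (Submodule.quotEquivOfEq _ _ e)]
    · have h := supportDim_le_quot_add xs hmemA (A ⧸ I)
      rwa [List.length_map] at h
    · have h := Module.supportDim_add_length_eq_supportDim_of_isRegular xs
        (IsRegular.of_isWeaklyRegular_of_mem_maximalIdeal A hmemA hwA)
      rw [List.length_map, Module.supportDim_self_eq_ringKrullDim] at h
      rw [hdim, ← h]
      refine add_le_add (Module.supportDim_le_of_surjective
        (Submodule.mapQ _ _ I.mkQ (Submodule.map_le_iff_le_comap.1 ?_)) ?_) le_rfl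
      · rw [Submodule.map_smul'', Submodule.map_top, Submodule.range_mkQ]
      · intro z
        obtain ⟨z, rfl⟩ := Submodule.Quotient.mk_surjective _ z
        obtain ⟨a, rfl⟩ := Submodule.Quotient.mk_surjective _ z
        exact ⟨Submodule.Quotient.mk a, rfl⟩
  · set J := Submodule.annihilator I
    refine LocalCrit.flat_of_le_jacobson (B := A) (maximalIdeal R)
      ((map_maximalIdeal_le (algebraMap R A)).trans (maximalIdeal_le_jacobson ⊥)) ?_
      (LocalCrit.keepsInjective_of_isMaximal _ _)
    let q : A →ₗ[R] (A ⧸ J) := (Submodule.mkQ J).restrictScalars R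
    let ι : J →ₗ[R] A := (Submodule.subtype J).restrictScalars R
    let m := maximalIdeal R
    let ev : m ⊗[R] A →ₗ[R] A := (TensorProduct.lid R A).toLinearMap.comp (m.subtype.rTensor A)
    have hev : Function.Injective ev :=
      (TensorProduct.lid R A).injective.comp (Module.Flat.rTensor_preserves_injective_linearMap _ Subtype.val_injective)
    have hJ : ∀ a ∈ m.map (algebraMap R A) * J, ∃ v : m ⊗[R] J, ev (ι.lTensor m v) = a := by
      intro a ha
      induction ha using Submodule.mul_induction_on' with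
      | mem_mul_mem b hb j hj =>
        clear_value J
        induction hb using Submodule.span_induction generalizing j with
        | mem b hb =>
          obtain ⟨r, hr, rfl⟩ := hb
          exact ⟨(⟨r, hr⟩ : m) ⊗ₜ ⟨j, hj⟩, by simp [ev, ι, Algebra.smul_def]⟩
        | zero => exact ⟨0, by simp⟩
        | add b c _ _ hb hc =>
          obtain ⟨v, hv⟩ := hb j hj; obtain ⟨w, hw⟩ := hc j hj
          exact ⟨v + w, by rw [map_add, map_add, hv, hw, add_mul]⟩
        | smul s b _ hb =>
          obtain ⟨v, hv⟩ := hb (s * j) (J.mul_mem_left s hj)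
          exact ⟨v, by rw [hv, smul_eq_mul]; ring⟩
      | add b _ c _ hb hc =>
        obtain ⟨v, rfl⟩ := hb; obtain ⟨w, rfl⟩ := hc
        exact ⟨v + w, by rw [map_add, map_add]⟩
    rw [injective_iff_map_eq_zero]
    intro z hz
    obtain ⟨w, rfl⟩ := LinearMap.lTensor_surjective m (g := q) (Submodule.mkQ_surjective J) z
    have hwJ : ev w ∈ J := by
      rw [← Submodule.Quotient.mk_eq_zero, ← Submodule.mkQ_apply]
      have h1 : ∀ w, (J.mkQ : A → A ⧸ J) (ev w) = TensorProduct.lid R (A ⧸ J) (m.subtype.rTensor (A ⧸ J) (q.lTensor m w)) := by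
        intro w
        induction w using TensorProduct.induction_on with
        | zero => simp
        | tmul r a =>
          simp only [ev, q, LinearMap.comp_apply, LinearMap.rTensor_tmul, LinearMap.lTensor_tmul]
          simp
        | add p q hp hq => simp only [map_add] at hp hq ⊢; rw [hp, hq]
      rw [h1, hz, map_zero]
    have hwm : ev w ∈ m.map (algebraMap R A) := by
      clear hz hwJ
      induction w using TensorProduct.induction_on with
      | zero => simp
      | tmul r a =>
        simp only [ev, LinearMap.comp_apply, LinearMap.rTensor_tmul]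
        simpa [Algebra.smul_def] using Ideal.mul_mem_right a _ (Ideal.mem_map_of_mem _ r.2)
      | add p q hp hq => rw [map_add]; exact add_mem hp hq
    obtain ⟨v, hv⟩ := hJ (ev w) (by
      have h := (colon_eq I (ext_vanish I hI) xs hwA).2
      rw [← hxs] at h
      rw [← h]
      exact ⟨hwJ, hwm⟩)
    rw [← hev hv, ← LinearMap.lTensor_comp_apply, show q ∘ₗ ι = 0 from LinearMap.ext fun j =>
      (Submodule.Quotient.mk_eq_zero _).2 j.2, LinearMap.lTensor_zero, LinearMap.zero_apply]

end Flat

end Groth.Agent.LC.Residual
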