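import Groth.Agent.ArtFunLib.Hull.Ring
import Groth.Agent.LC.HlvtMain

/-!
# Symbolic powers of a prime of coheight one in a complete local domain
-/

universe u

open IsLocalRing

namespace Groth.Agent.LC

variable {A : Type u} [CommRing A] [IsDomain A] [IsLocalRing A] [IsNoetherianRing A]
  [IsAdicComplete (maximalIdeal A) A]

theorem exists_symbolicPower_le (p : Ideal A) [hpp : p.IsPrime] (hp : ringKrullDim (A ⧸ p) = 1) (n : ℕ) :
    ∃ m : ℕ, n ≤ m ∧ ((Ideal.map (algebraMap A (Localization.AtPrime p)) p) ^ m).comap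
      (algebraMap A (Localization.AtPrime p)) ≤ p ^ n := by
  classical
  let L := Localization.AtPrime p
  let S : ℕ → Ideal A := fun k => ((Ideal.map (algebraMap A L) p) ^ k).comap (algebraMap A L)
  have hanti : ∀ {i j}, i ≤ j → S j ≤ S i := fun hij => Ideal.comap_mono (Ideal.pow_le_pow_right hij)
  let m := maximalIdeal A
  -- `m` is the only prime above `p`
  have hmax : ∀ Q : Ideal A, Q.IsPrime → p < Q → Q = m := by
    intro Q hQ hlt
    by_contra hne
    have hQm : Q < m := lt_of_le_of_ne (le_maximalIdeal hQ.ne_top) hne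
    let ser : LTSeries (PrimeSpectrum.zeroLocus (p : Set A)) :=
      ((RelSeries.singleton _ ⟨⟨p, hpp⟩, le_refl (p : Set A)⟩).snoc ⟨⟨Q, hQ⟩, hlt.le⟩ hlt).snoc
        ⟨⟨m, inferInstance⟩, le_maximalIdeal hpp.ne_top⟩ (by rw [RelSeries.last_snoc]; exact hQm)
    have h2 := Order.LTSeries.length_le_krullDim ser
    rw [← ringKrullDim_quotient, hp] at h2
    simp [ser, RelSeries.snoc, RelSeries.append] at h2
  -- some power of `m` multiplies `S n` into `p ^ n`
  let C : Ideal A := (p ^ n).colon (S n : Set A)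
  have hC : m ≤ C.radical := by
    rw [Ideal.radical_eq_sInf]
    refine le_sInf ?_
    rintro Q ⟨hCQ, hQ⟩
    refine (hmax Q hQ (lt_of_le_of_ne ?_ ?_)).ge
    · intro x hx
      refine hQ.mem_of_pow_mem n (hCQ ?_)
      exact Submodule.mem_colon.2 fun y _ => Ideal.mul_mem_right y _ (Ideal.pow_mem_pow hx n)
    · rintro rfl
      obtain ⟨s, hs⟩ := (IsNoetherian.noetherian (S n) : (S n).FG)
      have hex : ∀ y ∈ S n, ∃ t : p.primeCompl, (t : A) * y ∈ p ^ n := by
        intro y hy
        rw [Ideal.mem_comap, ← Ideal.map_pow, IsLocalization.mem_map_algebraMap_iff p.primeCompl L] at hy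
        obtain ⟨⟨⟨a, ha⟩, u⟩, h⟩ := hy
        rw [← map_mul] at h
        obtain ⟨c, hc⟩ := (IsLocalization.eq_iff_exists p.primeCompl L).1 h
        refine ⟨c * u, ?_⟩
        rw [Submonoid.coe_mul, mul_assoc, mul_comm (u : A) y, hc]
        exact Ideal.mul_mem_left _ _ ha
      choose t ht using hex
      let T : p.primeCompl := ∏ y ∈ s.attach, t y.1 (hs ▸ Submodule.subset_span y.2)
      have hT : (T : A) ∈ C := Submodule.mem_colon.2 fun z hz => by
        have hz' : z ∈ Submodule.span A (s : Set A) := hs.symm ▸ hz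
        induction hz' using Submodule.span_induction with
        | mem z hzs =>
          obtain ⟨c, hc⟩ := Finset.dvd_prod_of_mem (fun y : s => t y.1 (hs ▸ Submodule.subset_span y.2))
            (Finset.mem_attach s ⟨z, hzs⟩)
          show (T : A) * z ∈ p ^ n
          rw [show T = _ from hc, Submonoid.coe_mul, mul_comm (t z _ : A) (c : A), mul_assoc]
          exact Ideal.mul_mem_left _ _ (ht z _)
        | zero => simp
        | add a b ha hb iha ihb =>
          rw [smul_add]
          exact add_mem (iha (hs ▸ ha)) (ihb (hs ▸ hb))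
        | smul r a ha iha =>
          rw [smul_comm]
          exact Submodule.smul_mem _ r (iha (hs ▸ ha))
      exact T.2 (hCQ hT)
  obtain ⟨N, hN⟩ := Ideal.exists_pow_le_of_le_radical_of_fg hC (IsNoetherian.noetherian _)
  obtain ⟨c, hc⟩ := Ideal.exists_pow_inf_eq_pow_smul m (S n : Submodule A A)
  have hinf : S n ⊓ m ^ (N + c) ≤ p ^ n := by
    intro x hx
    have h1 : x ∈ m ^ (N + c) • (⊤ : Submodule A A) ⊓ (S n : Submodule A A) :=
      ⟨by rw [smul_eq_mul, Ideal.mul_top]; exact hx.2, hx.1⟩
    rw [hc (N + c) (Nat.le_add_left c N), Nat.add_sub_cancel] at h1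
    refine Submodule.smul_induction_on (Submodule.smul_mono le_rfl inf_le_right h1) (fun r hr v hv => ?_)
      fun a b ha hb => add_mem ha hb
    exact Submodule.mem_colon.1 (hN hr) v hv
  -- Chevalley
  let K : ℕ → Ideal A := fun q => S q ⊔ m ^ q
  obtain ⟨q, hq⟩ := ArtFunLib.Hull.chevalley m K
    (fun hij => sup_le_sup (hanti hij) (Ideal.pow_le_pow_right hij)) (fun q => ⟨q, le_sup_right⟩) (N + c)
  have hK : (⨅ i, K i) = ⊥ := by
    rw [eq_bot_iff]
    intro x hx
    rw [Submodule.mem_iInf] at hx
    have hxS : ∀ k, x ∈ S k := by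
      intro k
      have h0 : (Ideal.Quotient.mk (S k) x : A ⧸ S k) = 0 := by
        refine IsHausdorff.haus (I := m) (M := A ⧸ S k) inferInstance _ fun j => ?_
        obtain ⟨a, ha, b, hb, hab⟩ := Submodule.mem_sup.1 (hx (max j k))
        rw [SModEq.zero, Ideal.smul_top_eq_map, Submodule.restrictScalars_mem]
        rw [← hab, map_add, Ideal.Quotient.eq_zero_iff_mem.2 (hanti (le_max_right j k) ha), zero_add]
        exact Ideal.mem_map_of_mem _ (Ideal.pow_le_pow_right (le_max_left j k) hb)
      exact Ideal.Quotient.eq_zero_iff_mem.1 h0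
    have h1 : algebraMap A L x = 0 := by
      have h2 := Ideal.iInf_pow_eq_bot_of_isLocalRing (p.map (algebraMap A L))
        (by rw [Localization.AtPrime.map_eq_maximalIdeal]; exact (maximalIdeal.isMaximal L).ne_top)
      rw [← Ideal.mem_bot, ← h2, Ideal.mem_iInf]
      exact hxS
    exact (IsLocalization.injective L (Ideal.primeCompl_le_nonZeroDivisors p))
      (h1.trans (map_zero _).symm)
  rw [hK, bot_sup_eq] at hq
  refine ⟨max q n, le_max_right _ _, fun x hx => hinf ⟨hanti (le_max_right q n) hx, ?_⟩⟩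
  exact hq (Ideal.mem_sup_left (hanti (le_max_left q n) hx))

end Groth.Agent.LC
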