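import Groth.Agent.TorBridge.Basic
import Groth.Agent.CxLib.Homology

/-!
# Maps inducing zero on the first Tor group
-/

set_option autoImplicit false

universe u

open CategoryTheory TensorProduct MonoidalCategory

namespace Groth.Agent.LC

variable {R : Type u} [CommRing R]

/-- A map killing `Tor₁(-, N)` kills the kernel of `M ⊗ ker q → M ⊗ F`. -/
theorem rTensor_eq_zero_of_tor_map_zero {M M' N F : Type u} [AddCommGroup M] [Module R M] [AddCommGroup M']
    [Module R M'] [AddCommGroup N] [Module R N] [AddCommGroup F] [Module R F] [Module.Projective R F]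
    (α : M →ₗ[R] M')
    (h : ((CategoryTheory.Tor (ModuleCat.{u} R) 1).map (ModuleCat.ofHom α)).app (ModuleCat.of R N) = 0)
    (q : F →ₗ[R] N) (hq : Function.Surjective q) (ζ : M ⊗[R] LinearMap.ker q)
    (hζ : (LinearMap.ker q).subtype.lTensor M ζ = 0) :
    α.rTensor (LinearMap.ker q) ζ = 0 := by
  let Q : ProjectiveResolution (ModuleCat.of R N) := ProjectiveResolution.of _
  let p : Q.complex.X 0 →ₗ[R] N := (Q.π.f 0).hom
  have hp : Function.Surjective p := (ModuleCat.epi_iff_surjective (Q.π.f 0)).1 inferInstance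
  haveI : Module.Projective R (Q.complex.X 0) := (IsProjective.iff_projective _).2 (Q.projective 0)
  let a := (Q.complex.d 2 1).hom
  let b := (Q.complex.d 1 0).hom
  have hab : Function.Exact a b :=
    (ShortComplex.ShortExact.moduleCat_exact_iff_function_exact _).1 (Q.exact_succ 0)
  have hbp : Function.Exact b p := (ShortComplex.ShortExact.moduleCat_exact_iff_function_exact _).1 Q.exact₀
  -- comparison maps
  obtain ⟨u, hu⟩ := Module.projective_lifting_property p q hp
  obtain ⟨v, hv⟩ := Module.projective_lifting_property q p hq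
  let u' : LinearMap.ker q →ₗ[R] LinearMap.ker p := u.restrict fun y hy => by
    show p (u y) = 0
    rw [← LinearMap.comp_apply, hu]; exact hy
  let v' : LinearMap.ker p →ₗ[R] LinearMap.ker q := v.restrict fun y hy => by
    show q (v y) = 0
    rw [← LinearMap.comp_apply, hv]; exact hy
  let s : F →ₗ[R] LinearMap.ker q := (v ∘ₗ u - LinearMap.id).codRestrict _ fun y => by
    show q (v (u y) - y) = 0
    rw [map_sub, ← LinearMap.comp_apply q, hv, ← LinearMap.comp_apply p, hu, sub_self]
  have hs : v' ∘ₗ u' = LinearMap.id + s ∘ₗ (LinearMap.ker q).subtype := LinearMap.ext fun y => Subtype.ext (by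
    show v (u (y : F)) = (y : F) + (v (u (y : F)) - (y : F))
    abel)
  have hfix : v'.lTensor M (u'.lTensor M ζ) = ζ := by
    rw [← LinearMap.comp_apply, ← LinearMap.lTensor_comp, hs, LinearMap.lTensor_add, LinearMap.add_apply,
      LinearMap.lTensor_id, LinearMap.id_apply, LinearMap.lTensor_comp, LinearMap.comp_apply, hζ, map_zero,
      add_zero]
  suffices hQ : α.rTensor (LinearMap.ker p) (u'.lTensor M ζ) = 0 by
    rw [← hfix, ← LinearMap.comp_apply, LinearMap.rTensor_comp_lTensor, ← LinearMap.lTensor_comp_rTensor,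
      LinearMap.comp_apply, hQ, map_zero]
  let b' : Q.complex.X 1 →ₗ[R] LinearMap.ker p :=
    b.codRestrict _ fun x => LinearMap.mem_ker.2 (hbp.apply_apply_eq_zero x)
  have hb' : Function.Surjective b' := by
    rintro ⟨y, hy⟩
    obtain ⟨x, rfl⟩ := (hbp y).1 hy
    exact ⟨x, rfl⟩
  obtain ⟨x, hx⟩ := LinearMap.lTensor_surjective M hb' (u'.lTensor M ζ)
  have hbx : b.lTensor M x = 0 := by
    rw [show b = (LinearMap.ker p).subtype ∘ₗ b' from rfl, LinearMap.lTensor_comp, LinearMap.comp_apply, hx,
      ← LinearMap.comp_apply, ← LinearMap.lTensor_comp,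
      show (LinearMap.ker p).subtype ∘ₗ u' = u ∘ₗ (LinearMap.ker q).subtype from rfl,
      LinearMap.lTensor_comp, LinearMap.comp_apply, hζ, map_zero]
  let CM := (((tensoringLeft (ModuleCat.{u} R)).obj (ModuleCat.of R M)).mapHomologicalComplex
    (ComplexShape.down ℕ)).obj Q.complex
  let CM' := (((tensoringLeft (ModuleCat.{u} R)).obj (ModuleCat.of R M')).mapHomologicalComplex
    (ComplexShape.down ℕ)).obj Q.complex
  let f : CM ⟶ CM' := (NatTrans.mapHomologicalComplex
    ((tensoringLeft (ModuleCat.{u} R)).map (ModuleCat.ofHom α)) (ComplexShape.down ℕ)).app Q.complex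
  have hf : HomologicalComplex.homologyMap f 1 = 0 := by
    have h1 := h
    change (NatTrans.leftDerived ((tensoringLeft (ModuleCat.{u} R)).map (ModuleCat.ofHom α)) 1).app _ = 0 at h1
    rw [ProjectiveResolution.leftDerived_app_eq _ Q] at h1
    have h2 := congrArg (fun φ => (Q.isoLeftDerivedObj _ 1).inv ≫ φ ≫ (Q.isoLeftDerivedObj _ 1).hom) h1
    simp only [Category.assoc, Iso.inv_hom_id_assoc, Iso.inv_hom_id, Category.comp_id, Limits.zero_comp,
      Limits.comp_zero] at h2
    exact h2
  obtain ⟨z, hz⟩ := CxLib.exists_iCycles_eq CM 1 0 (by simp) x hbx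
  have h0 : (CM'.homologyπ 1).hom ((HomologicalComplex.cyclesMap f 1).hom z) = 0 := by
    rw [← CxLib.homologyMap_homologyπ, hf]
    rfl
  obtain ⟨w, hw⟩ := (CxLib.homologyπ_eq_zero_iff CM' 1 2 (by simp) _).1 h0
  rw [CxLib.iCycles_cyclesMap, hz] at hw
  change a.lTensor M' w = α.rTensor (Q.complex.X 1) x at hw
  rw [← hx, ← LinearMap.comp_apply, LinearMap.rTensor_comp_lTensor, ← LinearMap.lTensor_comp_rTensor,
    LinearMap.comp_apply, ← hw, ← LinearMap.comp_apply, ← LinearMap.lTensor_comp,
    show b' ∘ₗ a = 0 from LinearMap.ext fun y => Subtype.ext (hab.apply_apply_eq_zero y),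
    LinearMap.lTensor_zero, LinearMap.zero_apply]

end Groth.Agent.LC
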