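import Mathlib

/-!
# Resolutions of power torsion modules by sums of cyclic modules
-/

set_option autoImplicit false

universe u

open CategoryTheory CategoryTheory.Limits

namespace Groth.Agent.LC.TorRes

variable {R : Type u} [CommRing R] (I : Ideal R)

/-- The power torsion elements. -/
def Idx (L : ModuleCat.{u} R) : Type u := {x : L // ∃ n : ℕ, ∀ a ∈ I ^ n, a • x = 0}

/-- A chosen exponent. -/
noncomputable def expo {L : ModuleCat.{u} R} (x : Idx I L) : ℕ := Classical.choose x.2

theorem expo_spec {L : ModuleCat.{u} R} (x : Idx I L) : ∀ a ∈ I ^ expo I x, a • x.1 = 0 := Classical.choose_spec x.2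

/-- The cover of the power torsion part. -/
noncomputable abbrev cover (L : ModuleCat.{u} R) : ModuleCat.{u} R :=
  ModuleCat.of R (DirectSum (Idx I L) fun x => R ⧸ I ^ expo I x)

/-- The covering map. -/
noncomputable def coverπ (L : ModuleCat.{u} R) : cover I L ⟶ L :=
  letI : DecidableEq (Idx I L) := Classical.decEq _
  ModuleCat.ofHom (DirectSum.toModule R _ _ fun x =>
    Submodule.liftQ (I ^ expo I x) (LinearMap.toSpanSingleton R L x.1) fun a ha => expo_spec I x a ha)

/-- Every element of a cover is power torsion. -/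
theorem torsion_cover (L : ModuleCat.{u} R) (z : cover I L) : ∃ n : ℕ, ∀ a ∈ I ^ n, a • z = 0 := by
  classical
  induction z using DirectSum.induction_on with
  | zero => exact ⟨0, fun a _ => smul_zero a⟩
  | of x y =>
    refine ⟨expo I x, fun a ha => ?_⟩
    obtain ⟨r, rfl⟩ := Submodule.Quotient.mk_surjective _ y
    erw [← DirectSum.lof_eq_of R, ← map_smul, ← Submodule.Quotient.mk_smul,
      (Submodule.Quotient.mk_eq_zero (I ^ expo I x)).2 (Ideal.mul_mem_right r _ ha), map_zero]
  | add y z hy hz =>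
    obtain ⟨m, hm⟩ := hy
    obtain ⟨k, hk⟩ := hz
    refine ⟨m + k, fun a ha => ?_⟩
    erw [smul_add, hm a (Ideal.pow_le_pow_right (Nat.le_add_right m k) ha),
      hk a (Ideal.pow_le_pow_right (Nat.le_add_left k m) ha), add_zero]

theorem mem_range_coverπ {L : ModuleCat.{u} R} (x : L) (hx : ∃ n : ℕ, ∀ a ∈ I ^ n, a • x = 0) :
    ∃ z, (coverπ I L).hom z = x := by
  classical
  refine ⟨DirectSum.lof R (Idx I L) (fun x => R ⧸ I ^ expo I x) ⟨x, hx⟩ (Submodule.Quotient.mk 1), ?_⟩
  simp only [coverπ, ModuleCat.hom_ofHom]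
  erw [DirectSum.toModule_lof]
  exact one_smul R x

/-- The next differential. -/
noncomputable def next {X Y : ModuleCat.{u} R} (f : X ⟶ Y) :
    Σ' (Z : ModuleCat.{u} R) (d : Z ⟶ X), d ≫ f = 0 :=
  ⟨cover I (kernel f), coverπ I _ ≫ kernel.ι f, by rw [Category.assoc, kernel.condition, comp_zero]⟩

theorem exact_next {X Y : ModuleCat.{u} R} (f : X ⟶ Y) (hX : ∀ x : X, ∃ n : ℕ, ∀ a ∈ I ^ n, a • x = 0) :
    (ShortComplex.mk (next I f).2.1 f (next I f).2.2).Exact := by
  rw [ShortComplex.moduleCat_exact_iff]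
  intro x hx
  have h := ShortComplex.exact_of_f_is_kernel (ShortComplex.mk (kernel.ι f) f (kernel.condition f)) (kernelIsKernel f)
  rw [ShortComplex.moduleCat_exact_iff] at h
  obtain ⟨y, rfl⟩ := h x hx
  obtain ⟨n, hn⟩ := hX ((kernel.ι f).hom y)
  obtain ⟨z, hz⟩ := mem_range_coverπ I y ⟨n, fun a ha => (ModuleCat.mono_iff_injective (kernel.ι f)).1 inferInstance
    (by rw [map_smul, map_zero]; exact hn a ha)⟩
  exact ⟨z, congrArg (kernel.ι f).hom hz⟩

/-- The resolution. -/
noncomputable def res (M : ModuleCat.{u} R) : ChainComplex (ModuleCat.{u} R) ℕ :=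
  ChainComplex.mk' (cover I M) (next I (coverπ I M)).1 (next I (coverπ I M)).2.1 (fun f => next I f)

theorem res_d_1_0 (M : ModuleCat.{u} R) : (res I M).d 1 0 = (next I (coverπ I M)).2.1 := by
  simp [res]

theorem torsion_res (M : ModuleCat.{u} R) (i : ℕ) :
    ∀ x : (res I M).X i, ∃ n : ℕ, ∀ a ∈ I ^ n, a • x = 0 := by
  obtain (_ | _ | _ | i) := i <;> exact torsion_cover I _

set_option backward.isDefEq.respectTransparency.types false in
theorem res_exactAt_succ (M : ModuleCat.{u} R) (n : ℕ) : (res I M).ExactAt (n + 1) := by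
  rw [HomologicalComplex.exactAt_iff' _ (n + 1 + 1) (n + 1) n (by simp) (by simp)]
  simp only [HomologicalComplex.sc', HomologicalComplex.shortComplexFunctor', res,
    ChainComplex.mk', ChainComplex.mk, ChainComplex.of_d]
  match n with
  | 0 => exact exact_next I _ (torsion_cover I _)
  | n + 1 => exact exact_next I _ (torsion_res I M (n + 1 + 1))

theorem exists_X (M : ModuleCat.{u} R) (i : ℕ) : ∃ L, (res I M).X i = cover I L := by
  obtain (_ | _ | _ | i) := i <;> exact ⟨_, rfl⟩

set_option backward.defeqAttrib.useBackward true in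
set_option backward.isDefEq.respectTransparency false in
theorem exists_res (M : ModuleCat.{u} R) (hM : ∀ x : M, ∃ n : ℕ, ∀ a ∈ I ^ n, a • x = 0) :
    ∃ π : res I M ⟶ (ChainComplex.single₀ (ModuleCat.{u} R)).obj M, QuasiIso π := by
  refine ⟨(ChainComplex.toSingle₀Equiv _ _).symm ⟨coverπ I M, by rw [res_d_1_0]; exact (next I (coverπ I M)).2.2⟩, ⟨fun n => ?_⟩⟩
  cases n
  · rw [ChainComplex.quasiIsoAt₀_iff, ShortComplex.quasiIso_iff_of_zeros']
    · dsimp
      refine (ShortComplex.exact_and_epi_g_iff_of_iso ?_).2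
        ⟨exact_next I (coverπ I M) (torsion_cover I M),
          (ModuleCat.epi_iff_surjective _).2 fun x => mem_range_coverπ I x (hM x)⟩
      exact ShortComplex.isoMk (Iso.refl _) (Iso.refl _) (Iso.refl _) (by simp [res]) (by simp)
    all_goals rfl
  · rw [quasiIsoAt_iff_exactAt']
    · apply res_exactAt_succ
    · apply ChainComplex.exactAt_succ_single_obj

end Groth.Agent.LC.TorRes
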